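import Mathlib

/-! A Noetherian local ring whose maximal ideal is generated by a single nonzerodivisor is a
discrete valuation ring. -/

set_option autoImplicit false
set_option linter.style.haveILetI false
universe u

namespace Groth.Agent.H80.DvrOfPrincipal

open IsLocalRing

variable {A : Type*} [CommRing A] [IsNoetherianRing A] [IsLocalRing A]

/-- every nonzero element is a unit times a power of the generator of the maximal ideal -/
theorem exists_unit_mul_pow (t : A) (ht : maximalIdeal A = Ideal.span {t}) {x : A} (hx : x ≠ 0) :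
    ∃ (n : ℕ) (u : A), IsUnit u ∧ x = u * t ^ n := by
  classical
  have hkrull : (⨅ n : ℕ, maximalIdeal A ^ n) = ⊥ :=
    Ideal.iInf_pow_eq_bot_of_isLocalRing (maximalIdeal A) (maximalIdeal.isMaximal A).ne_top
  have hex : ∃ n : ℕ, x ∉ maximalIdeal A ^ n := by
    by_contra hcon
    push Not at hcon
    have : x ∈ (⨅ n : ℕ, maximalIdeal A ^ n) := (Ideal.mem_iInf).mpr hcon
    rw [hkrull] at this
    exact hx ((Ideal.mem_bot).mp this)
  let n := Nat.find hex
  have hn : x ∉ maximalIdeal A ^ n := Nat.find_spec hex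
  have hn0 : n ≠ 0 := by
    intro h0
    rw [h0, pow_zero, Ideal.one_eq_top] at hn
    exact hn trivial
  obtain ⟨m, hm⟩ := Nat.exists_eq_succ_of_ne_zero hn0
  have hmem : x ∈ maximalIdeal A ^ m := by
    by_contra hcon
    have : n ≤ m := Nat.find_min' hex hcon
    omega
  rw [ht, Ideal.span_singleton_pow, Ideal.mem_span_singleton] at hmem
  obtain ⟨u, hu⟩ := hmem
  refine ⟨m, u, ?_, by rw [hu, mul_comm]⟩
  by_contra hnu
  have hu' : u ∈ maximalIdeal A := (mem_maximalIdeal u).mpr hnu
  rw [ht, Ideal.mem_span_singleton] at hu'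
  obtain ⟨v, hv⟩ := hu'
  apply hn
  rw [hm, ht, Ideal.span_singleton_pow, Ideal.mem_span_singleton]
  exact ⟨v, by rw [hu, hv, pow_succ]; ring⟩

theorem isDomain (t : A) (ht : maximalIdeal A = Ideal.span {t}) (hreg : t ∈ nonZeroDivisors A) :
    IsDomain A := by
  haveI : NoZeroDivisors A := by
    constructor
    intro x y hxy
    by_contra hcon
    push Not at hcon
    obtain ⟨n, u, hu, rfl⟩ := exists_unit_mul_pow t ht hcon.1
    obtain ⟨m, v, hv, rfl⟩ := exists_unit_mul_pow t ht hcon.2
    have h1 : (u * v) * t ^ (n + m) = 0 := by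
      rw [← hxy, pow_add]
      ring
    have h2 : t ^ (n + m) ∈ nonZeroDivisors A := pow_mem hreg _
    have h3 : u * v = 0 := (mul_right_mem_nonZeroDivisors_eq_zero_iff h2).mp h1
    exact (hu.mul hv).ne_zero h3
  exact NoZeroDivisors.to_isDomain A

theorem isDiscreteValuationRing (t : A) (ht : maximalIdeal A = Ideal.span {t})
    (hreg : t ∈ nonZeroDivisors A) (hd : IsDomain A) : IsDiscreteValuationRing A := by
  have ht0 : t ≠ 0 := nonZeroDivisors.ne_zero hreg
  have hnf : ¬ IsField A := by
    intro hf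
    have hmem : t ∈ maximalIdeal A := by
      rw [ht]
      exact Ideal.mem_span_singleton_self t
    exact ((mem_maximalIdeal t).mp hmem) (isUnit_iff_exists_inv.mpr (hf.mul_inv_cancel ht0))
  have hprinc : (maximalIdeal A).IsPrincipal := ⟨⟨t, by rw [ht]⟩⟩
  exact ((IsDiscreteValuationRing.TFAE A hnf).out 4 0).mp hprinc

end Groth.Agent.H80.DvrOfPrincipal
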