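import Mathlib
import Groth.Agent.H27.ResidueExt

/-! Monogenic step for residue field extensions of local rings (EGA 0_III 10.3.1, first step):
given a local ring `B` with a local homomorphism `φ : B → K` to a field and `a : K`, there is a flat
local `B`-algebra `B'` with `m_B B' = m_B'` and a local homomorphism `φ' : B' → K` extending `φ`
whose image contains `a`. -/

set_option autoImplicit false
set_option linter.style.haveILetI false
set_option linter.unusedSectionVars false
universe u

namespace Groth.Agent.H80.ResExt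

open Polynomial IsLocalRing

/-- The class of ring maps used in the tower: flat maps of local rings generating the maximal
ideal. -/
def W {B B' : Type u} [CommRing B] [CommRing B'] (f : B →+* B') : Prop :=
  ∃ (_ : IsLocalRing B) (_ : IsLocalRing B'), f.Flat ∧ (maximalIdeal B).map f = maximalIdeal B'

theorem W.comp {B B' B'' : Type u} [CommRing B] [CommRing B'] [CommRing B'']
    {f : B →+* B'} {g : B' →+* B''} (hf : W f) (hg : W g) : W (g.comp f) := by
  obtain ⟨h1, h2, hfl, hm⟩ := hf
  obtain ⟨h2', h3, hgl, hm'⟩ := hg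
  refine ⟨h1, h3, hfl.comp hgl, ?_⟩
  rw [← Ideal.map_map, hm]
  convert hm'

theorem W.of_bijective {B B' : Type u} [CommRing B] [CommRing B'] [IsLocalRing B]
    {f : B →+* B'} (hf : Function.Bijective f) : W f := by
  let e : B ≃+* B' := RingEquiv.ofBijective f hf
  haveI : IsLocalRing B' := e.isLocalRing
  refine ⟨inferInstance, inferInstance, RingHom.Flat.of_bijective hf, ?_⟩
  apply le_antisymm
  · rw [Ideal.map_le_iff_le_comap]
    intro x hx
    rw [Ideal.mem_comap, mem_maximalIdeal, mem_nonunits_iff]
    rw [mem_maximalIdeal, mem_nonunits_iff] at hx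
    intro hu
    apply hx
    have : IsUnit (e.symm (f x)) := hu.map e.symm
    rwa [show f x = e x from rfl, e.symm_apply_apply] at this
  · intro y hy
    obtain ⟨x, rfl⟩ := hf.2 y
    apply Ideal.mem_map_of_mem
    rw [mem_maximalIdeal, mem_nonunits_iff] at hy ⊢
    intro hu
    exact hy (hu.map f)

theorem W.isLocalRing_left {B B' : Type u} [CommRing B] [CommRing B'] {f : B →+* B'}
    (hf : W f) : IsLocalRing B := hf.1

theorem W.isLocalRing_right {B B' : Type u} [CommRing B] [CommRing B'] {f : B →+* B'}
    (hf : W f) : IsLocalRing B' := hf.2.1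

theorem W.flat {B B' : Type u} [CommRing B] [CommRing B'] {f : B →+* B'}
    (hf : W f) : f.Flat := hf.2.2.1

theorem W.map_maximalIdeal {B B' : Type u} [CommRing B] [CommRing B'] [IsLocalRing B]
    [IsLocalRing B'] {f : B →+* B'} (hf : W f) : (maximalIdeal B).map f = maximalIdeal B' := by
  obtain ⟨h1, h2, -, hm⟩ := hf
  convert hm

theorem W.isLocalHom {B B' : Type u} [CommRing B] [CommRing B'] [IsLocalRing B]
    [IsLocalRing B'] {f : B →+* B'} (hf : W f) : IsLocalHom f := by
  constructor
  intro x hx
  by_contra hnu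
  have hx' : x ∈ maximalIdeal B := (mem_maximalIdeal x).mpr hnu
  have : f x ∈ maximalIdeal B' := by
    rw [← hf.map_maximalIdeal]
    exact Ideal.mem_map_of_mem f hx'
  exact ((mem_maximalIdeal _).mp this) hx

/-- a local hom to a field kills the maximal ideal -/
theorem map_eq_zero_of_mem {B K : Type*} [CommRing B] [IsLocalRing B] [Field K] (φ : B →+* K)
    [IsLocalHom φ] {x : B} (hx : x ∈ maximalIdeal B) : φ x = 0 := by
  by_contra h
  have : IsUnit (φ x) := isUnit_iff_ne_zero.mpr h
  exact ((mem_maximalIdeal x).mp hx) (isUnit_of_map_unit φ x this)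

/-- Localization step. -/
theorem loc_step {B : Type u} [CommRing B] [IsLocalRing B] {K : Type u} [Field K] (φ : B →+* K)
    (C : Type u) [CommRing C] [Algebra B C] [Module.Flat B C] (ψ : C →+* K)
    (hψ : ψ.comp (algebraMap B C) = φ)
    (hker : RingHom.ker ψ = (maximalIdeal B).map (algebraMap B C)) :
    ∃ (B' : Type u) (_ : CommRing B') (f : B →+* B') (φ' : B' →+* K), W f ∧
      (∃ _ : IsLocalRing B', IsLocalHom φ') ∧ φ'.comp f = φ ∧ ψ.range ≤ φ'.range ∧
      (IsNoetherianRing C → IsNoetherianRing B') := by
  set q := RingHom.ker ψ with hq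
  haveI : q.IsPrime := RingHom.ker_isPrime ψ
  let B' := Localization.AtPrime q
  have hunit : ∀ y : q.primeCompl, IsUnit (ψ y) := by
    intro y
    rw [isUnit_iff_ne_zero]
    intro h0
    exact y.2 ((RingHom.mem_ker).mpr h0)
  let φ' : B' →+* K := IsLocalization.lift (M := q.primeCompl) (g := ψ) hunit
  let f : B →+* B' := (algebraMap C B').comp (algebraMap B C)
  refine ⟨B', inferInstance, f, φ', ⟨inferInstance, inferInstance, ?_, ?_⟩, ⟨inferInstance, ?_⟩,
    ?_, ?_, ?_⟩
  · have h1 : (algebraMap B C).Flat := RingHom.flat_algebraMap_iff.mpr inferInstance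
    have h2 : (algebraMap C B').Flat :=
      RingHom.flat_algebraMap_iff.mpr (IsLocalization.flat B' q.primeCompl)
    exact h1.comp h2
  · rw [← Ideal.map_map, ← hker]
    exact Localization.AtPrime.map_eq_maximalIdeal
  · constructor
    intro x hx
    obtain ⟨c, s, rfl⟩ := IsLocalization.exists_mk'_eq q.primeCompl x
    rw [IsLocalization.AtPrime.isUnit_mk'_iff (S := B') (I := q)]
    intro hc
    have h0 : ψ c = 0 := (RingHom.mem_ker).mp hc
    have h1 : φ' (IsLocalization.mk' B' c s) = 0 := by
      rw [IsLocalization.lift_mk', h0, zero_mul]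
    rw [h1] at hx
    exact not_isUnit_zero hx
  · ext b
    change φ' (algebraMap C B' (algebraMap B C b)) = φ b
    rw [IsLocalization.lift_eq, ← hψ]
    rfl
  · rintro _ ⟨c, rfl⟩
    exact ⟨algebraMap C B' c, IsLocalization.lift_eq _ _⟩
  · intro h
    exact IsLocalization.isNoetherianRing q.primeCompl B' h

/-- Existence of the flat extension `C` with a map to `K` hitting `a`. -/
theorem exists_ext {B : Type u} [CommRing B] [IsLocalRing B] {K : Type u} [Field K] (φ : B →+* K)
    [IsLocalHom φ] (a : K) :
    ∃ (C : Type u) (_ : CommRing C) (_ : Algebra B C) (ψ : C →+* K), Module.Flat B C ∧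
      ψ.comp (algebraMap B C) = φ ∧
      RingHom.ker ψ = (maximalIdeal B).map (algebraMap B C) ∧ a ∈ ψ.range ∧
      (IsNoetherianRing B → IsNoetherianRing C) := by
  let F := ResidueField B
  let ι : F →+* K := ResidueField.lift φ
  letI : Algebra F K := ι.toAlgebra
  have hι : ι.comp (residue B) = φ := ResidueField.lift_comp_residue φ
  have hπ : Function.Surjective (residue B) := residue_surjective
  by_cases ha : IsIntegral F a
  · have hirr : Irreducible (minpoly F a) := minpoly.irreducible ha
    have hmonic : (minpoly F a).Monic := minpoly.monic ha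
    obtain ⟨P, hPmap, -, hPmonic⟩ := Polynomial.lifts_and_natDegree_eq_and_monic
      ((Polynomial.mem_lifts _).mpr (Polynomial.map_surjective (residue B) hπ (minpoly F a)))
      hmonic
    haveI : Fact (Irreducible (minpoly F a)) := ⟨hirr⟩
    have hev : P.eval₂ φ a = 0 := by
      rw [← hι, ← Polynomial.eval₂_map, hPmap]
      exact minpoly.aeval F a
    have hev' : (minpoly F a).eval₂ ι a = 0 := minpoly.aeval F a
    let ψ : AdjoinRoot P →+* K := AdjoinRoot.lift φ a hev
    let ι' : AdjoinRoot (minpoly F a) →+* K := AdjoinRoot.lift ι a hev'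
    let μ : AdjoinRoot P →+* AdjoinRoot (minpoly F a) :=
      AdjoinRoot.map (residue B) P (minpoly F a) (by rw [hPmap])
    have hfac : ψ = ι'.comp μ := by
      apply AdjoinRoot.ringHom_ext
      · ext b
        simp only [ψ, ι', μ, RingHom.comp_apply, AdjoinRoot.lift_of, AdjoinRoot.map_of]
        rw [← hι]
        rfl
      · simp only [ψ, ι', μ, RingHom.comp_apply, AdjoinRoot.lift_root, AdjoinRoot.map_root]
    haveI : Module.Free B (AdjoinRoot P) := hPmonic.free_adjoinRoot
    refine ⟨AdjoinRoot P, inferInstance, inferInstance, ψ, inferInstance, ?_, ?_, ?_, ?_⟩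
    · ext b
      simp only [ψ, RingHom.comp_apply, AdjoinRoot.algebraMap_eq, AdjoinRoot.lift_of]
    · have hinj : Function.Injective ι' := ι'.injective
      have h1 : RingHom.ker ψ = RingHom.ker μ := by
        ext z
        rw [RingHom.mem_ker, RingHom.mem_ker, hfac, RingHom.comp_apply,
          map_eq_zero_iff ι' hinj]
      rw [h1, Groth.Agent.H27.ResidueExt.ker_map (residue B) hπ P (minpoly F a) hPmap,
        ker_residue]
      rfl
    · exact ⟨AdjoinRoot.root P, AdjoinRoot.lift_root hev⟩
    · intro h
      exact inferInstanceAs (IsNoetherianRing (B[X] ⧸ Ideal.span {P}))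
  · have htr : Transcendental F a := by
      intro halg
      exact ha halg.isIntegral
    let ψ : B[X] →+* K := Polynomial.eval₂RingHom φ a
    refine ⟨B[X], inferInstance, inferInstance, ψ, inferInstance, ?_, ?_, ?_, ?_⟩
    · ext b
      simp only [ψ, RingHom.comp_apply, Polynomial.algebraMap_apply, Algebra.algebraMap_self,
        RingHom.id_apply, Polynomial.coe_eval₂RingHom, Polynomial.eval₂_C]
    · apply le_antisymm
      · intro g hg
        rw [RingHom.mem_ker] at hg
        have h1 : Polynomial.aeval a (g.map (residue B)) = 0 := by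
          rw [Polynomial.aeval_def, Polynomial.eval₂_map]
          change g.eval₂ (ι.comp (residue B)) a = 0
          rw [hι]
          exact hg
        have h2 : g.map (residue B) = 0 := (transcendental_iff.mp htr) _ h1
        change g ∈ Ideal.map (C : B →+* B[X]) (maximalIdeal B)
        rw [Ideal.mem_map_C_iff]
        intro n
        have h3 : (g.map (residue B)).coeff n = 0 := by rw [h2, Polynomial.coeff_zero]
        rw [Polynomial.coeff_map] at h3
        exact (residue_eq_zero_iff _).mp h3
      · rw [Ideal.map_le_iff_le_comap]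
        intro b hb
        rw [Ideal.mem_comap, RingHom.mem_ker]
        change Polynomial.eval₂ φ a (C b) = 0
        rw [Polynomial.eval₂_C]
        exact map_eq_zero_of_mem φ hb
    · exact ⟨X, Polynomial.eval₂_X _ _⟩
    · intro h
      exact inferInstance

/-- The monogenic step. -/
theorem exists_step {B : Type u} [CommRing B] [IsLocalRing B] {K : Type u} [Field K]
    (φ : B →+* K) [IsLocalHom φ] (a : K) :
    ∃ (B' : Type u) (_ : CommRing B') (f : B →+* B') (φ' : B' →+* K), W f ∧
      (∃ _ : IsLocalRing B', IsLocalHom φ') ∧ φ'.comp f = φ ∧ a ∈ φ'.range ∧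
      (IsNoetherianRing B → IsNoetherianRing B') := by
  obtain ⟨C, _, _, ψ, hfl, hψ, hker, ha, hN⟩ := exists_ext φ a
  obtain ⟨B', _, f, φ', hW, hloc, hcomp, hrange, hN'⟩ := loc_step φ C ψ hψ hker
  exact ⟨B', inferInstance, f, φ', hW, hloc, hcomp, hrange ha, fun h => hN' (hN h)⟩

end Groth.Agent.H80.ResExt
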