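import Mathlib
import Groth.Agent.H80.ResExtStep
import Groth.Agent.H10.DirLimNoeth

/-! Limit stages of the tower of residue field extensions: if a ring `A` is the "concrete" directed
colimit of local rings along `W`-maps, then `A` is local, the maps to `A` are in `W`, and `A` is
Noetherian if all stages are. -/

set_option autoImplicit false
set_option linter.style.haveILetI false
set_option linter.unusedSectionVars false
universe u

namespace Groth.Agent.H80.ResExt

open IsLocalRing

section

variable {ι : Type u} [Preorder ι] [Nonempty ι] [IsDirected ι (· ≤ ·)]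
  (G : ι → Type u) [∀ i, CommRing (G i)]
  (f : ∀ i j, i ≤ j → G i →+* G j) [DirectedSystem G fun i j h => f i j h]
  (A : Type u) [CommRing A] (g : ∀ i, G i →+* A)

/-- Identify a concrete directed colimit with `Ring.DirectLimit`. -/
theorem exists_directLimit_equiv
    (hg : ∀ i j (h : i ≤ j) x, g j (f i j h x) = g i x)
    (hsurj : ∀ a : A, ∃ i x, g i x = a)
    (hinj : ∀ i (x : G i), g i x = 0 → ∃ j, ∃ h : i ≤ j, f i j h x = 0) :
    ∃ e : Ring.DirectLimit G (fun i j h => f i j h) ≃+* A,
      ∀ i x, e (Ring.DirectLimit.of G (fun i j h => f i j h) i x) = g i x := by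
  let L : Ring.DirectLimit G (fun i j h => f i j h) →+* A :=
    Ring.DirectLimit.lift G (fun i j h => f i j h) A g hg
  have hL : ∀ i x, L (Ring.DirectLimit.of G (fun i j h => f i j h) i x) = g i x := fun i x =>
    Ring.DirectLimit.lift_of (G := G) (f := fun i j h => f i j h) (P := A) g hg i x
  have hbij : Function.Bijective L := by
    constructor
    · rw [injective_iff_map_eq_zero]
      intro z hz
      obtain ⟨i, x, rfl⟩ := Ring.DirectLimit.exists_of z
      rw [hL] at hz
      obtain ⟨j, h, hj⟩ := hinj i x hz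
      rw [← Ring.DirectLimit.of_f (f := fun i j h => f i j h) h x]
      change Ring.DirectLimit.of G (fun i j h => f i j h) j (f i j h x) = 0
      rw [hj, map_zero]
    · intro a
      obtain ⟨i, x, rfl⟩ := hsurj a
      exact ⟨Ring.DirectLimit.of G (fun i j h => f i j h) i x, hL i x⟩
  exact ⟨RingEquiv.ofBijective L hbij, hL⟩

/-- The limit stage. -/
theorem limit_stage
    (hW : ∀ i j (h : i ≤ j), W (f i j h))
    (hg : ∀ i j (h : i ≤ j) x, g j (f i j h x) = g i x)
    (hsurj : ∀ a : A, ∃ i x, g i x = a)
    (hinj : ∀ i (x : G i), g i x = 0 → ∃ j, ∃ h : i ≤ j, f i j h x = 0) :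
    ∃ _ : IsLocalRing A, (∀ i, W (g i)) ∧ ((∀ i, IsNoetherianRing (G i)) → IsNoetherianRing A) := by
  haveI hlocG : ∀ i, IsLocalRing (G i) := fun i => (hW i i le_rfl).isLocalRing_left
  have hloc : ∀ i j (h : i ≤ j), IsLocalHom (f i j h) := fun i j h => (hW i j h).isLocalHom
  have hmax : ∀ i j (h : i ≤ j), (maximalIdeal (G i)).map (f i j h) = maximalIdeal (G j) :=
    fun i j h => (hW i j h).map_maximalIdeal
  have hflat : ∀ i j (h : i ≤ j), (f i j h).Flat := fun i j h => (hW i j h).flat
  obtain ⟨e, he⟩ := exists_directLimit_equiv G f A g hg hsurj hinj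
  obtain ⟨hlocD, -, hmaxD⟩ := Groth.Agent.S2364.result G f hloc
  have hmaxD' := hmaxD hmax
  have hflatD := Groth.Agent.H10.DLN.of_flat G f hflat
  haveI : IsLocalRing A := e.isLocalRing
  refine ⟨inferInstance, fun i => ?_, fun hN => ?_⟩
  · have h1 : W (Ring.DirectLimit.of G (fun i j h => f i j h) i) :=
      ⟨inferInstance, hlocD, hflatD i, hmaxD' i⟩
    have h2 : W (e : Ring.DirectLimit G (fun i j h => f i j h) →+* A) :=
      W.of_bijective e.bijective
    have h3 : g i = (e : Ring.DirectLimit G (fun i j h => f i j h) →+* A).comp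
        (Ring.DirectLimit.of G (fun i j h => f i j h) i) := by
      ext x
      exact (he i x).symm
    rw [h3]
    exact h1.comp h2
  · haveI := hN
    have := (Groth.Agent.H10.DLN.main G f hloc hmax hflat).1
    exact isNoetherianRing_of_ringEquiv _ e

end

/-- locality of the structure map at a limit stage -/
theorem isLocalHom_of_limit {ι : Type u} (G : ι → Type u) [∀ i, CommRing (G i)]
    (A : Type u) [CommRing A] (g : ∀ i, G i →+* A) {K : Type u} [Field K]
    (φ : A →+* K) (hloc : ∀ i, IsLocalHom (φ.comp (g i)))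
    (hsurj : ∀ a : A, ∃ i x, g i x = a) : IsLocalHom φ := by
  constructor
  intro a ha
  obtain ⟨i, x, rfl⟩ := hsurj a
  haveI := hloc i
  have : IsUnit x := isUnit_of_map_unit (φ.comp (g i)) x ha
  exact this.map (g i)

end Groth.Agent.H80.ResExt
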