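import Mathlib
import Groth.Agent.H80.ResExtLimit

/-! Transfinite iteration of the monogenic step: for a local ring `R` with a local homomorphism
`φ₀ : R → K` to a field there is a flat local `R`-algebra `R'` with `m_R R' = m_R'` and a surjective
local homomorphism `R' → K` extending `φ₀` (EGA 0_III 10.3.1). -/

set_option autoImplicit false
set_option linter.style.haveILetI false
set_option linter.unusedSectionVars false
universe u

namespace Groth.Agent.H80.ResExt

open CategoryTheory Limits IsLocalRing

variable {K : Type u} [Field K]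

/-- objects of the tower: local rings with a local hom to `K` -/
def Good (X : Over (CommRingCat.of K)) : Prop :=
  ∃ _ : IsLocalRing X.left, IsLocalHom X.hom.hom

/-- morphisms of the tower -/
def WM {X Y : Over (CommRingCat.of K)} (g : X ⟶ Y) : Prop := W g.left.hom

theorem WM.comp {X Y Z : Over (CommRingCat.of K)} {g : X ⟶ Y} {h : Y ⟶ Z} (hg : WM g)
    (hh : WM h) : WM (g ≫ h) := by
  change W (h.left.hom.comp g.left.hom)
  exact W.comp hg hh

theorem bijective_of_isIso {X Y : Over (CommRingCat.of K)} (g : X ⟶ Y) [IsIso g] :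
    Function.Bijective g.left.hom := by
  have : IsIso g.left := inferInstanceAs (IsIso ((Over.forget _).map g))
  exact ConcreteCategory.bijective_of_isIso g.left

theorem WM.of_isIso {X Y : Over (CommRingCat.of K)} (g : X ⟶ Y) [IsIso g] (hX : Good X) :
    WM g := by
  obtain ⟨hloc, -⟩ := hX
  exact W.of_bijective (bijective_of_isIso g)

theorem Good.of_iso {X Y : Over (CommRingCat.of K)} (e : X ≅ Y) (hX : Good X) : Good Y := by
  obtain ⟨hloc, hlh⟩ := hX
  have hbij := bijective_of_isIso e.hom
  let r : X.left ≃+* Y.left := RingEquiv.ofBijective e.hom.left.hom hbij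
  haveI : IsLocalRing Y.left := r.isLocalRing
  refine ⟨inferInstance, ⟨fun y hy => ?_⟩⟩
  obtain ⟨x, rfl⟩ := hbij.2 y
  have h1 : Y.hom.hom (e.hom.left.hom x) = X.hom.hom x := by
    have := Over.w e.hom
    exact congrArg (fun h => h.hom x) this
  rw [h1] at hy
  exact (isUnit_of_map_unit X.hom.hom x hy).map e.hom.left.hom

theorem range_le_of_hom {X Y : Over (CommRingCat.of K)} (g : X ⟶ Y) :
    X.hom.hom.range ≤ Y.hom.hom.range := by
  rintro _ ⟨x, rfl⟩
  refine ⟨g.left.hom x, ?_⟩
  have := Over.w g
  exact congrArg (fun h => h.hom x) this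

theorem exists_succ (X : Over (CommRingCat.of K)) (hX : Good X) (a : K) :
    ∃ (Y : Over (CommRingCat.of K)) (g : X ⟶ Y), WM g ∧ Good Y ∧ a ∈ Y.hom.hom.range ∧
      (IsNoetherianRing X.left → IsNoetherianRing Y.left) := by
  obtain ⟨hloc, hlh⟩ := hX
  obtain ⟨B', _, f, φ', hW, hG, hcomp, ha, hN⟩ := exists_step (B := X.left) (K := K) X.hom.hom a
  refine ⟨Over.mk (CommRingCat.ofHom φ'), Over.homMk (CommRingCat.ofHom f) ?_, ?_, ?_, ?_, ?_⟩
  · ext x
    exact congrArg (fun h => h x) hcomp
  · exact hW
  · exact hG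
  · exact ha
  · exact hN

open Classical in
/-- an element of `K` not yet in the image, if there is one -/
noncomputable def pick (X : Over (CommRingCat.of K)) : K :=
  if h : ∃ a : K, a ∉ X.hom.hom.range then h.choose else 0

theorem pick_notMem (X : Over (CommRingCat.of K)) (h : X.hom.hom.range ≠ ⊤) :
    pick X ∉ X.hom.hom.range := by
  have h' : ∃ a : K, a ∉ X.hom.hom.range := by
    by_contra hcon
    push Not at hcon
    exact h (eq_top_iff.mpr fun a _ => hcon a)
  rw [pick, dif_pos h']
  exact h'.choose_spec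

open Classical in
/-- the successor step, packaged -/
noncomputable def succData (X : Over (CommRingCat.of K)) :
    Σ' Y : Over (CommRingCat.of K), X ⟶ Y :=
  if h : Good X then
    ⟨(exists_succ X h (pick X)).choose, (exists_succ X h (pick X)).choose_spec.choose⟩
  else ⟨X, 𝟙 X⟩

theorem succData_spec (X : Over (CommRingCat.of K)) (h : Good X) :
    WM (succData X).2 ∧ Good (succData X).1 ∧ pick X ∈ (succData X).1.hom.hom.range ∧
      (IsNoetherianRing X.left → IsNoetherianRing (succData X).1.left) := by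
  have h1 : succData X =
      ⟨(exists_succ X h (pick X)).choose, (exists_succ X h (pick X)).choose_spec.choose⟩ :=
    dif_pos h
  rw [h1]
  exact (exists_succ X h (pick X)).choose_spec.choose_spec

/-- the successor structure -/
noncomputable def succStruct (X₀ : Over (CommRingCat.of K)) :
    SmallObject.SuccStruct (Over (CommRingCat.of K)) where
  X₀ := X₀
  succ X := (succData X).1
  toSucc X := (succData X).2

theorem noeth_of_iso {X Y : Over (CommRingCat.of K)} (e : X ≅ Y)
    (h : IsNoetherianRing X.left) : IsNoetherianRing Y.left := by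
  have hbij := bijective_of_isIso e.hom
  let r : X.left ≃+* Y.left := RingEquiv.ofBijective e.hom.left.hom hbij
  exact isNoetherianRing_of_ringEquiv _ r

/-- concrete description of the colimit at a limit stage -/
theorem colimit_rep {J : Type u} [LinearOrder J] (F : J ⥤ Over (CommRingCat.of K)) (j : J)
    (hj : Order.IsSuccLimit j) (hc : IsColimit ((Set.principalSegIio j).cocone F)) :
    (∀ a : (F.obj j).left, ∃ (i : J) (hi : i < j) (x : (F.obj i).left),
      (F.map (homOfLE hi.le)).left.hom x = a) ∧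
    (∀ (i : J) (hi : i < j) (x : (F.obj i).left), (F.map (homOfLE hi.le)).left.hom x = 0 →
      ∃ (k : J) (hik : i ≤ k) (_ : k < j), (F.map (homOfLE hik)).left.hom x = 0) := by
  haveI : Nonempty (Set.Iio j) := hj.nonempty_Iio.to_subtype
  let D := (Over.forget (CommRingCat.of K)).mapCocone ((Set.principalSegIio j).cocone F)
  have hD : IsColimit D := isColimitOfPreserves (Over.forget (CommRingCat.of K)) hc
  constructor
  · intro a
    obtain ⟨i, x, hx⟩ := Concrete.isColimit_exists_rep _ hD a
    exact ⟨i.1, i.2, x, hx⟩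
  · intro i hi x hx
    have h1 := (Concrete.isColimit_rep_eq_iff_exists _ hD (i := ⟨i, hi⟩) (j := ⟨i, hi⟩) x 0).mp
      (by
        rw [map_zero]
        exact hx)
    obtain ⟨k, f, g, hfg⟩ := h1
    rw [map_zero] at hfg
    exact ⟨k.1, leOfHom f, k.2, hfg⟩

theorem map_comp_apply {J : Type u} [Preorder J] (F : J ⥤ Over (CommRingCat.of K)) {i j k : J}
    (hij : i ≤ j) (hjk : j ≤ k) (x : (F.obj i).left) :
    (F.map (homOfLE hjk)).left.hom ((F.map (homOfLE hij)).left.hom x) =
      (F.map (homOfLE (hij.trans hjk))).left.hom x := by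
  have h : F.map (homOfLE hij) ≫ F.map (homOfLE hjk) = F.map (homOfLE (hij.trans hjk)) := by
    rw [← F.map_comp]
    rfl
  exact congrArg (fun m => m.left.hom x) h

theorem map_self_apply {J : Type u} [Preorder J] (F : J ⥤ Over (CommRingCat.of K)) {i : J}
    (h : i ≤ i) (x : (F.obj i).left) : (F.map (homOfLE h)).left.hom x = x := by
  have h' : F.map (homOfLE h) = 𝟙 _ := by
    rw [← F.map_id]
    rfl
  exact congrArg (fun m => m.left.hom x) h'

theorem hom_apply {X Y : Over (CommRingCat.of K)} (g : X ⟶ Y) (x : X.left) :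
    Y.hom.hom (g.left.hom x) = X.hom.hom x := by
  have := Over.w g
  exact congrArg (fun h => h.hom x) this

theorem WM_map_self {J : Type u} [Preorder J] (F : J ⥤ Over (CommRingCat.of K)) {i : J}
    (h : i ≤ i) (hG : Good (F.obj i)) : WM (F.map (homOfLE h)) := by
  have h' : F.map (homOfLE h) = 𝟙 _ := by
    rw [← F.map_id]
    rfl
  rw [h']
  exact WM.of_isIso _ hG

section Iteration

variable (X₀ : Over (CommRingCat.of K))
variable (J : Type u) [LinearOrder J] [OrderBot J] [SuccOrder J] [WellFoundedLT J]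

/-- the tower -/
noncomputable def tower : J ⥤ Over (CommRingCat.of K) := (succStruct X₀).iterationFunctor J

instance : (tower X₀ J).IsWellOrderContinuous :=
  inferInstanceAs ((succStruct X₀).iterationFunctor J).IsWellOrderContinuous

/-- the invariant of the tower -/
def Inv (j : J) : Prop :=
  Good ((tower X₀ J).obj j) ∧ (∀ i (h : i ≤ j), WM ((tower X₀ J).map (homOfLE h))) ∧
    (IsNoetherianRing X₀.left → IsNoetherianRing ((tower X₀ J).obj j).left)

theorem inv_all (hX₀ : Good X₀) (j : J) : Inv X₀ J j := by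
  induction j using SuccOrder.limitRecOn with
  | isMin j hj =>
    obtain rfl : j = ⊥ := hj.eq_bot
    let e : (tower X₀ J).obj ⊥ ≅ X₀ := (succStruct X₀).iterationFunctorObjBotIso J
    have hG : Good ((tower X₀ J).obj ⊥) := Good.of_iso e.symm hX₀
    refine ⟨hG, ?_, fun h => noeth_of_iso e.symm h⟩
    intro i h
    obtain rfl : i = ⊥ := le_bot_iff.mp h
    exact WM_map_self _ h hG
  | succ j hj ih =>
    obtain ⟨hG, hW, hN⟩ := ih
    let e : (tower X₀ J).obj (Order.succ j) ≅ (succStruct X₀).succ ((tower X₀ J).obj j) :=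
      (succStruct X₀).iterationFunctorObjSuccIso j hj
    have hspec := succData_spec ((tower X₀ J).obj j) hG
    have hGs : Good ((succStruct X₀).succ ((tower X₀ J).obj j)) := hspec.2.1
    have hG' : Good ((tower X₀ J).obj (Order.succ j)) := Good.of_iso e.symm hGs
    have hstep : WM ((tower X₀ J).map (homOfLE (Order.le_succ j))) := by
      have h1 : (tower X₀ J).map (homOfLE (Order.le_succ j)) =
          (succStruct X₀).toSucc _ ≫ e.inv := (succStruct X₀).iterationFunctor_map_succ j hj
      rw [h1]
      exact WM.comp hspec.1 (WM.of_isIso e.inv hGs)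
    refine ⟨hG', ?_, fun h => noeth_of_iso e.symm (hspec.2.2.2 (hN h))⟩
    intro i h
    rcases (Order.le_succ_iff_eq_or_le).mp h with rfl | h'
    · exact WM_map_self _ h hG'
    · have h2 : homOfLE h = homOfLE h' ≫ homOfLE (Order.le_succ j) := Subsingleton.elim _ _
      rw [h2, Functor.map_comp]
      exact WM.comp (hW i h') hstep
  | isSuccLimit j hj ih =>
    have hc := (tower X₀ J).isColimitOfIsWellOrderContinuous j hj
    obtain ⟨hsurj, hinj⟩ := colimit_rep (tower X₀ J) j hj hc
    haveI : Nonempty (Set.Iio j) := hj.nonempty_Iio.to_subtype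
    let G : Set.Iio j → Type u := fun i => ((tower X₀ J).obj i.1).left
    let f : ∀ i i' : Set.Iio j, i ≤ i' → G i →+* G i' := fun i i' h =>
      ((tower X₀ J).map (homOfLE (show i.1 ≤ i'.1 from h))).left.hom
    haveI : DirectedSystem G fun i i' h => f i i' h :=
      ⟨fun i x => map_self_apply (tower X₀ J) (le_refl i.1) x, fun k' j' i' hij hjk x =>
        map_comp_apply (tower X₀ J) (show i'.1 ≤ j'.1 from hij) (show j'.1 ≤ k'.1 from hjk) x⟩
    let g : ∀ i : Set.Iio j, G i →+* ((tower X₀ J).obj j).left := fun i =>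
      ((tower X₀ J).map (homOfLE (le_of_lt i.2))).left.hom
    have hW' : ∀ i i' (h : i ≤ i'), W (f i i' h) := fun i i' h => (ih i'.1 i'.2).2.1 i.1 h
    have hg : ∀ i i' (h : i ≤ i') x, g i' (f i i' h x) = g i x := fun i i' h x =>
      map_comp_apply (tower X₀ J) (show i.1 ≤ i'.1 from h) (le_of_lt i'.2) x
    have hsurj' : ∀ a : ((tower X₀ J).obj j).left, ∃ i x, g i x = a := by
      intro a
      obtain ⟨i, hi, x, hx⟩ := hsurj a
      exact ⟨⟨i, hi⟩, x, hx⟩
    have hinj' : ∀ i (x : G i), g i x = 0 → ∃ i', ∃ h : i ≤ i', f i i' h x = 0 := by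
      intro i x hx
      obtain ⟨k, hik, hk, hx'⟩ := hinj i.1 i.2 x hx
      exact ⟨⟨k, hk⟩, hik, hx'⟩
    obtain ⟨hloc, hWg, hNoeth⟩ := limit_stage G f ((tower X₀ J).obj j).left g hW' hg hsurj' hinj'
    have hlh : IsLocalHom ((tower X₀ J).obj j).hom.hom := by
      apply isLocalHom_of_limit G _ g _ _ hsurj'
      intro i
      have h1 : ((tower X₀ J).obj j).hom.hom.comp (g i) = ((tower X₀ J).obj i.1).hom.hom := by
        ext x
        exact hom_apply _ x
      rw [h1]
      exact (ih i.1 i.2).1.2
    have hG : Good ((tower X₀ J).obj j) := ⟨hloc, hlh⟩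
    refine ⟨hG, ?_, fun h => hNoeth fun i => (ih i.1 i.2).2.2 h⟩
    intro i h
    rcases h.eq_or_lt with rfl | hlt
    · exact WM_map_self _ h hG
    · exact hWg ⟨i, hlt⟩

theorem range_mono {i j : J} (h : i ≤ j) :
    ((tower X₀ J).obj i).hom.hom.range ≤ ((tower X₀ J).obj j).hom.hom.range :=
  range_le_of_hom ((tower X₀ J).map (homOfLE h))

theorem pick_mem_succ (hX₀ : Good X₀) (j : J) (hj : ¬ IsMax j) :
    pick ((tower X₀ J).obj j) ∈ ((tower X₀ J).obj (Order.succ j)).hom.hom.range := by
  let e : (tower X₀ J).obj (Order.succ j) ≅ (succStruct X₀).succ ((tower X₀ J).obj j) :=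
    (succStruct X₀).iterationFunctorObjSuccIso j hj
  have hspec := succData_spec ((tower X₀ J).obj j) (inv_all X₀ J hX₀ j).1
  exact range_le_of_hom e.inv hspec.2.2.1

theorem exists_stage_surjective [NoMaxOrder J] (hX₀ : Good X₀)
    (hcard : Cardinal.mk K < Cardinal.mk J) :
    ∃ j : J, ((tower X₀ J).obj j).hom.hom.range = ⊤ := by
  by_contra hcon
  push Not at hcon
  let a : J → K := fun j => pick ((tower X₀ J).obj j)
  have hlt : ∀ i j : J, i < j → a i ≠ a j := by
    intro i j hij heq
    have h1 : a i ∈ ((tower X₀ J).obj j).hom.hom.range :=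
      range_mono X₀ J (Order.succ_le_of_lt hij) (pick_mem_succ X₀ J hX₀ i (not_isMax i))
    have h2 : a j ∉ ((tower X₀ J).obj j).hom.hom.range := pick_notMem _ (hcon j)
    rw [heq] at h1
    exact h2 h1
  have hinj : Function.Injective a := by
    intro i j hij
    by_contra hne
    rcases lt_or_gt_of_ne hne with h | h
    · exact hlt i j h hij
    · exact hlt j i h hij.symm
  exact absurd (Cardinal.mk_le_of_injective hinj) (not_le.mpr hcard)

end Iteration

/-- **Main theorem**: extension of the residue field of a local ring. -/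
theorem main (R : Type u) [CommRing R] [IsLocalRing R] (φ₀ : R →+* K) [IsLocalHom φ₀] :
    ∃ (R' : Type u) (_ : CommRing R') (f : R →+* R') (φ' : R' →+* K), W f ∧
      (∃ _ : IsLocalRing R', IsLocalHom φ') ∧ φ'.comp f = φ₀ ∧ Function.Surjective φ' ∧
      (IsNoetherianRing R → IsNoetherianRing R') := by
  let c : Cardinal.{u} := Order.succ (max (Cardinal.mk K) Cardinal.aleph0)
  have hc : Cardinal.aleph0 ≤ c := (le_max_right _ _).trans (Order.le_succ _)
  let J : Type u := c.ord.ToType
  have hne : c.ord ≠ 0 := by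
    intro h0
    rw [Cardinal.ord_eq_zero] at h0
    rw [h0] at hc
    exact absurd hc (not_le.mpr Cardinal.aleph0_pos)
  letI : OrderBot J := Ordinal.toTypeOrderBot hne
  haveI : NoMaxOrder J := Cardinal.noMaxOrder hc
  have hcard : Cardinal.mk K < Cardinal.mk J := by
    rw [Cardinal.mk_ord_toType]
    exact (le_max_left _ _).trans_lt (Order.lt_succ _)
  let X₀ : Over (CommRingCat.of K) := Over.mk (CommRingCat.ofHom φ₀)
  have hX₀ : Good X₀ := ⟨inferInstanceAs (IsLocalRing R), inferInstanceAs (IsLocalHom φ₀)⟩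
  obtain ⟨j, hj⟩ := exists_stage_surjective X₀ J hX₀ hcard
  obtain ⟨hG, hW, hN⟩ := inv_all X₀ J hX₀ j
  let e : (tower X₀ J).obj ⊥ ≅ X₀ := (succStruct X₀).iterationFunctorObjBotIso J
  let m : X₀ ⟶ (tower X₀ J).obj j := e.inv ≫ (tower X₀ J).map (homOfLE bot_le)
  have hm : WM m := WM.comp (WM.of_isIso e.inv hX₀) (hW ⊥ bot_le)
  refine ⟨((tower X₀ J).obj j).left, inferInstance, m.left.hom, ((tower X₀ J).obj j).hom.hom,
    hm, hG, ?_, ?_, hN⟩
  · ext x
    exact hom_apply m x
  · intro y
    have : y ∈ ((tower X₀ J).obj j).hom.hom.range := by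
      rw [hj]
      trivial
    exact this

end Groth.Agent.H80.ResExt
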