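import Mathlib

/-!
# Purity, Galois case (helper80), part 1: a determinant lemma

If finitely many functions `χ i : X → F` with values in a field are linearly independent, then
there are points `x j` with `det (χ i (x j)) ≠ 0`.
-/

set_option autoImplicit false

open Module

namespace Groth.Agent.H80.PurGal

/-- The evaluation vectors of a linearly independent finite family of functions span everything. -/
theorem span_range_eval_eq_top {F : Type*} [Field F] {ι : Type*} [Fintype ι] [DecidableEq ι]
    {X : Type*} (χ : ι → X → F) (hχ : LinearIndependent F χ) :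
    Submodule.span F (Set.range fun (x : X) (i : ι) => χ i x) = ⊤ := by
  by_contra hne
  obtain ⟨φ, hφ0, hφ⟩ := Submodule.exists_le_ker_of_lt_top _ (lt_top_iff_ne_top.mpr hne)
  apply hφ0
  have hsum : ∑ i, φ (fun j => if i = j then 1 else 0) • χ i = 0 := by
    funext x
    have h1 : (fun i => χ i x) ∈ LinearMap.ker φ := hφ (Submodule.subset_span ⟨x, rfl⟩)
    rw [LinearMap.mem_ker, LinearMap.pi_apply_eq_sum_univ] at h1
    simp only [Finset.sum_apply, Pi.smul_apply, smul_eq_mul, Pi.zero_apply]
    refine Eq.trans (Finset.sum_congr rfl fun i _ => ?_) h1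
    rw [smul_eq_mul, mul_comm]
  have hc := Fintype.linearIndependent_iff.mp hχ _ hsum
  apply LinearMap.ext
  intro v
  rw [LinearMap.pi_apply_eq_sum_univ]
  simp [hc]

/-- If finitely many functions with values in a field are linearly independent, then some
square matrix of their values has nonzero determinant. -/
theorem exists_det_ne_zero {F : Type*} [Field F] {ι : Type*} [Fintype ι] [DecidableEq ι]
    {X : Type*} (χ : ι → X → F) (hχ : LinearIndependent F χ) :
    ∃ x : ι → X, (Matrix.of fun i j => χ i (x j)).det ≠ 0 := by
  classical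
  have hspan : ⊤ ≤ Submodule.span F (Set.range fun (x : X) (i : ι) => χ i x) :=
    (span_range_eval_eq_top χ hχ).ge
  obtain ⟨ι', b, hb⟩ : ∃ (ι' : Type _) (b : Basis ι' F (ι → F)),
      Set.range b ⊆ Set.range fun (x : X) (i : ι) => χ i x :=
    ⟨_, Basis.ofSpan hspan, Basis.ofSpan_subset hspan⟩
  have : Fintype ι' := FiniteDimensional.fintypeBasisIndex b
  have hcard : Fintype.card ι = Fintype.card ι' := by
    rw [← Module.finrank_eq_card_basis b, Module.finrank_fintype_fun_eq_card]
  let e := Fintype.equivOfCardEq hcard
  let b' : Basis ι F (ι → F) := b.reindex e.symm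
  have hmem : ∀ j : ι, b' j ∈ Set.range fun (x : X) (i : ι) => χ i x := by
    intro j
    apply hb
    exact ⟨e j, by simp [b']⟩
  choose x hx using hmem
  refine ⟨x, ?_⟩
  have hM : (Matrix.of fun i j => χ i (x j)) = (Pi.basisFun F ι).toMatrix b' := by
    ext i j
    rw [Basis.toMatrix_apply, Pi.basisFun_repr, ← hx j]
    rfl
  rw [hM, ← Basis.det_apply]
  exact (Basis.isUnit_det _ _).ne_zero

end Groth.Agent.H80.PurGal
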