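import Mathlib
import Groth.Agent.H80.PurGal1

/-!
# Purity, Galois case (helper80), part 2: the Galois matrix

For a finite group `G` acting on a commutative ring `S` and a family `x : G → S` we consider the
matrix `(g • x_j)` and its determinant `D x`.  Main results:

* `smul_D`: `h • D x = ± D x`; hence `D x * D y` is invariant.
* `D_mul_apply`: for an `A`-linear endomorphism `f` of `S` (`A` the ring of invariants) and `D x ≠ 0`,
  `D x * f t = ∑ g, coef f x g * g • t`.
* `Phi`: the map `(G → S) → End_A(S)`, `s ↦ (t ↦ ∑ g, s g * g • t)`, and its injectivity.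
* `exists_D_notMem`: if the maps `t ↦ g • t mod Q` are pairwise distinct, some `D x ∉ Q`.
-/

set_option autoImplicit false
set_option linter.unusedSectionVars false

open Module

namespace Groth.Agent.H80.PurGal

section basic

variable {S : Type*} [CommRing S] {G : Type*} [Group G] [Fintype G] [DecidableEq G]
  [MulSemiringAction G S]

/-- the matrix `(g • x_j)` -/
def Mx (x : G → S) : Matrix G G S := Matrix.of fun i j => i • x j

/-- its determinant -/
def D (x : G → S) : S := (Mx x).det

theorem Mx_apply (x : G → S) (i j : G) : Mx x i j = i • x j := rfl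

theorem map_Mx (h : G) (x : G → S) :
    (MulSemiringAction.toRingHom G S h).mapMatrix (Mx x) =
      (Mx x).submatrix (Equiv.mulLeft h) id := by
  ext i j
  simp [Mx, mul_smul]

theorem smul_D (h : G) (x : G → S) :
    h • D x = ((Equiv.Perm.sign (Equiv.mulLeft h) : ℤˣ) : ℤ) * D x := by
  unfold D
  rw [← Matrix.det_permute, ← map_Mx, ← RingHom.map_det]
  rfl

theorem smul_D_mul_D (h : G) (x y : G → S) : h • (D x * D y) = D x * D y := by
  rw [smul_mul', smul_D, smul_D]
  have h1 : (((Equiv.Perm.sign (Equiv.mulLeft h) : ℤˣ) : ℤ) : S) *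
      (((Equiv.Perm.sign (Equiv.mulLeft h) : ℤˣ) : ℤ) : S) = 1 := by
    rw [← Int.cast_mul, Int.units_coe_mul_self, Int.cast_one]
  calc _ = ((((Equiv.Perm.sign (Equiv.mulLeft h) : ℤˣ) : ℤ) : S) *
      (((Equiv.Perm.sign (Equiv.mulLeft h) : ℤˣ) : ℤ) : S)) * (D x * D y) := by ring
    _ = D x * D y := by rw [h1, one_mul]

theorem updateCol_Mx (x : G → S) (j : G) (t : S) :
    (Mx x).updateCol j (fun i => i • t) = Mx (Function.update x j t) := by
  ext i k
  by_cases hk : k = j
  · subst hk
    simp [Mx]
  · simp [Mx, Matrix.updateCol_ne hk, Function.update_of_ne hk]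

theorem cramer_Mx (x : G → S) (t : S) (j : G) :
    Matrix.cramer (Mx x) (fun i => i • t) j = D (Function.update x j t) := by
  rw [Matrix.cramer_apply, updateCol_Mx, D]

/-- Cramer's rule, first row. -/
theorem D_mul (x : G → S) (t : S) :
    D x * t = ∑ j, D (Function.update x j t) * x j := by
  have h := congrFun (Matrix.mulVec_cramer (Mx x) (fun i => i • t)) 1
  simp only [Matrix.mulVec, dotProduct, Mx_apply, one_smul, Pi.smul_apply, smul_eq_mul] at h
  rw [D, ← h]
  refine Finset.sum_congr rfl fun j _ => ?_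
  rw [cramer_Mx, mul_comm]

/-- the coefficients of `D x * f` -/
def coef (φ : S → S) (x : G → S) (g : G) : S := ∑ j, φ (x j) * (Mx x).adjugate j g

theorem sum_coef (φ : S → S) (x : G → S) (t : S) :
    ∑ g, coef φ x g * g • t = ∑ j, D (Function.update x j t) * φ (x j) := by
  simp only [coef, Finset.sum_mul]
  rw [Finset.sum_comm]
  refine Finset.sum_congr rfl fun j _ => ?_
  rw [← cramer_Mx, Matrix.cramer_eq_adjugate_mulVec, Matrix.mulVec, dotProduct, Finset.sum_mul]
  refine Finset.sum_congr rfl fun g _ => ?_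
  ring

end basic

section invariant

variable (A : Type*) [CommRing A] {S : Type*} [CommRing S] [Algebra A S]
  {G : Type*} [Group G] [Fintype G] [DecidableEq G]
  [MulSemiringAction G S] [SMulCommClass G A S]

theorem exists_algebraMap_eq_D_mul_D [Algebra.IsInvariant A S G] (x y : G → S) :
    ∃ a : A, algebraMap A S a = D x * D y :=
  Algebra.IsInvariant.isInvariant (A := A) (G := G) _ fun g => smul_D_mul_D g x y

/-- The key identity: `D x * f t = ∑ g, coef f x g * g • t` for an `A`-linear `f`. -/
theorem D_mul_apply [IsDomain S] [Algebra.IsInvariant A S G] (f : S →ₗ[A] S) (x : G → S)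
    (hx : D x ≠ 0) (t : S) :
    D x * f t = ∑ g, coef f x g * g • t := by
  rw [sum_coef]
  obtain ⟨a, ha⟩ := exists_algebraMap_eq_D_mul_D A x x
  have hb : ∀ j, ∃ b : A, algebraMap A S b = D x * D (Function.update x j t) :=
    fun j => exists_algebraMap_eq_D_mul_D A x _
  choose b hb using hb
  have h1 : a • t = ∑ j, b j • x j := by
    simp only [Algebra.smul_def, ha, hb]
    rw [mul_assoc, D_mul x t, Finset.mul_sum]
    refine Finset.sum_congr rfl fun j _ => ?_
    ring
  have h2 := congrArg f h1
  rw [map_smul, map_sum] at h2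
  simp_rw [map_smul] at h2
  simp only [Algebra.smul_def, ha, hb] at h2
  apply mul_left_cancel₀ hx
  rw [← mul_assoc, h2, Finset.mul_sum]
  refine Finset.sum_congr rfl fun j _ => ?_
  ring

variable (S G)

/-- The comparison map `(G → S) → End_A(S)`, `s ↦ (t ↦ ∑ g, s g * g • t)`. -/
noncomputable def Phi : (G → S) →ₗ[A] Module.End A S where
  toFun s := ∑ g, (LinearMap.mulLeft A (s g)).comp (MulSemiringAction.toAlgHom A S g).toLinearMap
  map_add' s s' := by
    rw [← Finset.sum_add_distrib]
    refine Finset.sum_congr rfl fun g _ => ?_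
    ext t
    simp [add_mul]
  map_smul' a s := by
    rw [Finset.smul_sum]
    refine Finset.sum_congr rfl fun g _ => ?_
    ext t
    simp

variable {S G}

@[simp]
theorem Phi_apply (s : G → S) (t : S) : Phi A S G s t = ∑ g, s g * g • t := by
  simp [Phi, LinearMap.sum_apply]

/-- Dedekind independence of the maps `t ↦ φ (g • t)`. -/
theorem linearIndependent_comp {F : Type*} [CommRing F] [IsDomain F] (φ : S →+* F)
    (hφ : ∀ g h : G, (∀ t, φ (g • t) = φ (h • t)) → g = h) :
    LinearIndependent F (fun (g : G) (t : S) => φ (g • t)) := by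
  have h1 := linearIndependent_monoidHom S F
  have hinj : Function.Injective
      (fun g : G => ((φ.comp (MulSemiringAction.toRingHom G S g) : S →+* F) : S →* F)) := by
    intro g h hgh
    apply hφ
    intro t
    exact DFunLike.congr_fun hgh t
  exact h1.comp _ hinj

theorem eq_zero_of_forall_sum_eq_zero {F : Type*} [CommRing F] [IsDomain F] (φ : S →+* F)
    (hφ : ∀ g h : G, (∀ t, φ (g • t) = φ (h • t)) → g = h) (c : G → F)
    (hc : ∀ t, ∑ g, c g * φ (g • t) = 0) : c = 0 := by
  funext g
  refine Fintype.linearIndependent_iff.mp (linearIndependent_comp φ hφ) c ?_ g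
  funext t
  simpa using hc t

theorem Phi_injective [IsDomain S] [FaithfulSMul G S] : Function.Injective (Phi A S G) := by
  rw [injective_iff_map_eq_zero]
  intro s hs
  refine eq_zero_of_forall_sum_eq_zero (RingHom.id S) ?_ s ?_
  · intro g h hgh
    exact FaithfulSMul.eq_of_smul_eq_smul hgh
  · intro t
    have := LinearMap.congr_fun hs t
    simpa using this

/-- If the maps `t ↦ φ (g • t)` into a field are pairwise distinct, some `D x` has nonzero image. -/
theorem exists_map_D_ne_zero {F : Type*} [Field F] (φ : S →+* F)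
    (hφ : ∀ g h : G, (∀ t, φ (g • t) = φ (h • t)) → g = h) :
    ∃ x : G → S, φ (D x) ≠ 0 := by
  obtain ⟨x, hx⟩ := exists_det_ne_zero _ (linearIndependent_comp φ hφ)
  refine ⟨x, ?_⟩
  rw [D, RingHom.map_det]
  exact hx

/-- If the maps `t ↦ g • t mod Q` are pairwise distinct, some `D x` is not in `Q`. -/
theorem exists_D_notMem (Q : Ideal S) [Q.IsPrime]
    (hQ : ∀ g h : G, (∀ t : S, g • t - h • t ∈ Q) → g = h) :
    ∃ x : G → S, D x ∉ Q := by
  let φ : S →+* FractionRing (S ⧸ Q) :=
    (algebraMap (S ⧸ Q) (FractionRing (S ⧸ Q))).comp (Ideal.Quotient.mk Q)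
  have hφ0 : ∀ t, φ t = 0 ↔ t ∈ Q := by
    intro t
    simp only [φ, RingHom.comp_apply]
    rw [map_eq_zero_iff _ (IsFractionRing.injective _ _), Ideal.Quotient.eq_zero_iff_mem]
  obtain ⟨x, hx⟩ := exists_map_D_ne_zero φ (fun g h hgh => hQ g h fun t => by
    rw [← hφ0, map_sub, hgh t, sub_self])
  exact ⟨x, fun hmem => hx ((hφ0 _).mpr hmem)⟩

end invariant

end Groth.Agent.H80.PurGal
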