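import Mathlib
import Groth.Agent.H80.PurGal2
import Groth.Agent.H13.NormalAssDVR

/-!
# Purity, Galois case (helper80), part 3: `End_A(S) ≅ S^G` and `S ≅ Hom_A(S, A)`

`S` a Noetherian integrally closed domain, `G` a finite group acting faithfully on `S` with ring of
invariants `A`, such that for every prime `Q` of `S` of height `≤ 1` the maps `t ↦ g • t mod Q` are
pairwise distinct (trivial inertia in codimension one).  Then
`Phi : (G → S) → End_A(S)` is bijective, and the trace form induces `S ≃ Hom_A(S, A)`.
-/

set_option autoImplicit false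
set_option linter.unusedSectionVars false
set_option linter.style.haveILetI false

open Module

universe u

namespace Groth.Agent.H80.PurGal

/-- In a Noetherian integrally closed domain the associated primes of a nonzero principal ideal
have height at most one. -/
theorem height_le_one_of_mem_associatedPrimes {S : Type u} [CommRing S] [IsDomain S]
    [IsNoetherianRing S] [IsIntegrallyClosed S] (x : S) (hx : x ≠ 0) (p : Ideal S) [p.IsPrime]
    (hp : p ∈ associatedPrimes S (S ⧸ Ideal.span {x})) : p.height ≤ 1 := by
  haveI := Groth.Agent.H13.NormalAssDVR.isDiscreteValuationRing_atPrime S x hx p hp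
  have h1 : ringKrullDim (Localization.AtPrime p) ≤ 1 :=
    Ring.krullDimLE_iff.mp inferInstance
  rw [IsLocalization.AtPrime.ringKrullDim_eq_height p (Localization.AtPrime p)] at h1
  exact_mod_cast h1

variable (A : Type*) [CommRing A] {S : Type u} [CommRing S] [Algebra A S]
  {G : Type*} [Group G] [Fintype G] [DecidableEq G]
  [MulSemiringAction G S] [SMulCommClass G A S]

/-- **Galois case, endomorphisms**: `Phi` is surjective. -/
theorem Phi_surjective [IsDomain S] [IsNoetherianRing S] [IsIntegrallyClosed S] [FaithfulSMul G S]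
    [Algebra.IsInvariant A S G]
    (hin : ∀ Q : Ideal S, Q.IsPrime → Q.height ≤ 1 →
      ∀ g h : G, (∀ t : S, g • t - h • t ∈ Q) → g = h) :
    Function.Surjective (Phi A S G) := by
  intro f
  have hfaith : ∀ g h : G, (∀ t : S, (RingHom.id S) (g • t) = (RingHom.id S) (h • t)) → g = h :=
    fun g h hgh => FaithfulSMul.eq_of_smul_eq_smul hgh
  obtain ⟨x0, hx0⟩ := exists_D_notMem (⊥ : Ideal S) (hin ⊥ Ideal.isPrime_bot (by simp))
  have hD0 : D x0 ≠ 0 := fun h => hx0 (by rw [h]; exact Ideal.zero_mem _)
  have key0 := D_mul_apply A f x0 hD0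
  have hdiv : ∀ g, D x0 ∣ coef f x0 g := by
    intro g
    by_contra hnd
    have hne : (Ideal.Quotient.mk (Ideal.span {D x0}) (coef f x0 g)) ≠ 0 := by
      rw [Ne, Ideal.Quotient.eq_zero_iff_mem, Ideal.mem_span_singleton]
      exact hnd
    obtain ⟨Q, hQ, hle⟩ := exists_le_isAssociatedPrime_of_isNoetherianRing S _ hne
    haveI := hQ.isPrime
    have hht : Q.height ≤ 1 := height_le_one_of_mem_associatedPrimes (D x0) hD0 Q hQ
    obtain ⟨x1, hx1⟩ := exists_D_notMem Q (hin Q inferInstance hht)
    have hD1 : D x1 ≠ 0 := fun h => hx1 (h ▸ Q.zero_mem)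
    have key1 := D_mul_apply A f x1 hD1
    have hcmp : (fun g => D x1 * coef f x0 g - D x0 * coef f x1 g) = 0 := by
      apply eq_zero_of_forall_sum_eq_zero (RingHom.id S) hfaith
      intro t
      simp only [RingHom.id_apply, sub_mul, Finset.sum_sub_distrib, mul_assoc, ← Finset.mul_sum,
        ← key0, ← key1]
      ring
    have h1 : D x1 * coef f x0 g = D x0 * coef f x1 g := sub_eq_zero.mp (congrFun hcmp g)
    apply hx1
    apply hle
    rw [Submodule.mem_colon_singleton, Submodule.mem_bot]
    change Ideal.Quotient.mk (Ideal.span {D x0}) (D x1 * coef f x0 g) = 0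
    rw [h1, Ideal.Quotient.eq_zero_iff_mem]
    exact Ideal.mul_mem_right _ _ (Ideal.mem_span_singleton_self _)
  choose s' hs' using hdiv
  refine ⟨s', ?_⟩
  ext t
  rw [Phi_apply]
  apply mul_left_cancel₀ hD0
  rw [key0, Finset.mul_sum]
  refine Finset.sum_congr rfl fun g _ => ?_
  rw [hs' g, mul_assoc]

end Groth.Agent.H80.PurGal
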