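import Mathlib
import Groth.Agent.H80.PurGal3

/-!
# Purity, Galois case (helper80), part 4: the trace form `S ≃ Hom_A(S, A)`
-/

set_option autoImplicit false
set_option linter.unusedSectionVars false
set_option linter.style.haveILetI false

open Module

universe u

namespace Groth.Agent.H80.PurGal

variable (A : Type*) [CommRing A] {S : Type u} [CommRing S] [Algebra A S]
  {G : Type*} [Group G] [Fintype G] [DecidableEq G]
  [MulSemiringAction G S] [SMulCommClass G A S]

omit [DecidableEq G] in
theorem smul_sum_smul (h : G) (t : S) : h • ∑ g : G, g • t = ∑ g : G, g • t := by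
  rw [Finset.smul_sum]
  simp only [← mul_smul]
  exact Fintype.sum_equiv (Equiv.mulLeft h) _ _ fun g => rfl

variable [Algebra.IsInvariant A S G] [FaithfulSMul A S]

omit [DecidableEq G] in
theorem exists_trace (t : S) : ∃ a : A, algebraMap A S a = ∑ g : G, g • t :=
  Algebra.IsInvariant.isInvariant (A := A) (G := G) _ fun h => smul_sum_smul h t

variable (S G) in
/-- The trace `S → A`, `t ↦ ∑ g, g • t`. -/
noncomputable def trace : S →ₗ[A] A where
  toFun t := (exists_trace A (G := G) t).choose
  map_add' t t' := by
    apply FaithfulSMul.algebraMap_injective A S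
    rw [map_add, (exists_trace A (G := G) t).choose_spec, (exists_trace A (G := G) t').choose_spec,
      (exists_trace A (G := G) (t + t')).choose_spec, ← Finset.sum_add_distrib]
    simp
  map_smul' a t := by
    apply FaithfulSMul.algebraMap_injective A S
    rw [RingHom.id_apply, smul_eq_mul, map_mul, (exists_trace A (G := G) t).choose_spec,
      (exists_trace A (G := G) (a • t)).choose_spec, Finset.mul_sum]
    refine Finset.sum_congr rfl fun g _ => ?_
    rw [smul_comm, Algebra.smul_def]

omit [DecidableEq G] in
theorem algebraMap_trace (t : S) : algebraMap A S (trace A S G t) = ∑ g : G, g • t :=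
  (exists_trace A (G := G) t).choose_spec

variable (S G) in
/-- The trace form `S → Hom_A(S, A)`, `y ↦ (t ↦ Tr (y * t))`. -/
noncomputable def traceForm : S →ₗ[A] (S →ₗ[A] A) where
  toFun y := (trace A S G).comp (LinearMap.mulLeft A y)
  map_add' y y' := by
    ext t
    simp [add_mul]
  map_smul' a y := by
    ext t
    simp

omit [DecidableEq G] in
theorem algebraMap_traceForm (y t : S) :
    algebraMap A S (traceForm A S G y t) = ∑ g : G, g • (y * t) := by
  simp [traceForm, algebraMap_trace]

theorem traceForm_injective [IsDomain S] [FaithfulSMul G S] :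
    Function.Injective (traceForm A S G) := by
  rw [injective_iff_map_eq_zero]
  intro y hy
  have h0 : (fun g : G => g • y) = 0 := by
    refine eq_zero_of_forall_sum_eq_zero (RingHom.id S)
      (fun g h hgh => FaithfulSMul.eq_of_smul_eq_smul hgh) _ ?_
    intro t
    have h1 := algebraMap_traceForm A (G := G) y t
    rw [hy] at h1
    simp only [LinearMap.zero_apply, map_zero, smul_mul'] at h1
    simpa using h1.symm
  simpa using congrFun h0 1

theorem traceForm_surjective [IsDomain S] [IsNoetherianRing S] [IsIntegrallyClosed S]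
    [FaithfulSMul G S]
    (hin : ∀ Q : Ideal S, Q.IsPrime → Q.height ≤ 1 →
      ∀ g h : G, (∀ t : S, g • t - h • t ∈ Q) → g = h) :
    Function.Surjective (traceForm A S G) := by
  intro l
  obtain ⟨s, hs⟩ := Phi_surjective (A := A) (S := S) (G := G) hin ((Algebra.linearMap A S).comp l)
  have hs' : ∀ t, algebraMap A S (l t) = ∑ g, s g * g • t := by
    intro t
    rw [← Phi_apply A, hs]
    rfl
  have hfaith : ∀ g h : G, (∀ t : S, (RingHom.id S) (g • t) = (RingHom.id S) (h • t)) → g = h :=
    fun g h hgh => FaithfulSMul.eq_of_smul_eq_smul hgh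
  have key : ∀ h : G, s h = h • s 1 := by
    intro h
    have h0 : (fun g : G => h • s (h⁻¹ * g) - s g) = 0 := by
      refine eq_zero_of_forall_sum_eq_zero (RingHom.id S) hfaith _ ?_
      intro t
      simp only [RingHom.id_apply, sub_mul, Finset.sum_sub_distrib]
      rw [← hs' t, sub_eq_zero]
      have h1 : h • algebraMap A S (l t) = algebraMap A S (l t) := smul_algebraMap h _
      rw [← h1, hs' t, Finset.smul_sum]
      refine (Fintype.sum_equiv (Equiv.mulLeft h) _ _ fun g => ?_).symm
      simp [smul_mul', mul_smul]
    have := congrFun h0 h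
    simp only [inv_mul_cancel, Pi.zero_apply, sub_eq_zero] at this
    exact this.symm
  refine ⟨s 1, ?_⟩
  ext t
  apply FaithfulSMul.algebraMap_injective A S
  rw [algebraMap_traceForm, hs']
  refine Finset.sum_congr rfl fun g _ => ?_
  rw [key g, smul_mul']

/-- **Galois case, duality**: `S` is isomorphic to its `A`-dual via the trace form. -/
theorem nonempty_linearEquiv_dual [IsDomain S] [IsNoetherianRing S] [IsIntegrallyClosed S]
    [FaithfulSMul G S]
    (hin : ∀ Q : Ideal S, Q.IsPrime → Q.height ≤ 1 →
      ∀ g h : G, (∀ t : S, g • t - h • t ∈ Q) → g = h) :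
    Nonempty (S ≃ₗ[A] (S →ₗ[A] A)) :=
  ⟨LinearEquiv.ofBijective (traceForm A S G)
    ⟨traceForm_injective A, traceForm_surjective A hin⟩⟩

omit [FaithfulSMul A S] in
/-- **Galois case, endomorphisms**: `End_A(S) ≅ S^G` as `A`-modules. -/
theorem nonempty_linearEquiv_end [IsDomain S] [IsNoetherianRing S] [IsIntegrallyClosed S]
    [FaithfulSMul G S]
    (hin : ∀ Q : Ideal S, Q.IsPrime → Q.height ≤ 1 →
      ∀ g h : G, (∀ t : S, g • t - h • t ∈ Q) → g = h) :
    Nonempty ((G → S) ≃ₗ[A] Module.End A S) :=
  ⟨LinearEquiv.ofBijective (Phi A S G) ⟨Phi_injective A, Phi_surjective A hin⟩⟩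

end Groth.Agent.H80.PurGal
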