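import Mathlib

/-!
# Purity, Galois case (helper80), part 5: unramified primes have trivial inertia

If a group `G` acts faithfully by `A`-algebra automorphisms on a Noetherian domain `S`, `Q` is a
prime of `S` at which `S` is unramified over `A`, and `σ ∈ G` acts trivially modulo `Q`, then
`σ = 1`.
-/

set_option autoImplicit false
set_option linter.unusedSectionVars false
set_option linter.style.haveILetI false

open IsLocalRing

namespace Groth.Agent.H80.PurGal

variable {A : Type*} [CommRing A] {S : Type*} [CommRing S] [Algebra A S]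
  {G : Type*} [Group G] [MulSemiringAction G S] [SMulCommClass G A S]

theorem eq_one_of_isUnramifiedAt [IsDomain S] [IsNoetherianRing S] [FaithfulSMul G S]
    (Q : Ideal S) [Q.IsPrime] [Algebra.IsUnramifiedAt A Q] (σ : G)
    (hσ : ∀ u : S, σ • u - u ∈ Q) : σ = 1 := by
  let f : S →+* S := MulSemiringAction.toRingHom G S σ
  have hf : ∀ u, f u = σ • u := fun u => rfl
  have hQ : Q = Q.comap f := by
    ext u
    rw [Ideal.mem_comap, hf]
    constructor
    · intro hu
      have := Q.add_mem (hσ u) hu
      simpa using this
    · intro hu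
      have := Q.sub_mem hu (hσ u)
      simpa using this
  let SQ := Localization.AtPrime Q
  let g0 : SQ →+* SQ := Localization.localRingHom Q Q f hQ
  let g' : SQ →ₐ[A] SQ :=
    { g0 with
      commutes' := fun a => by
        change g0 (algebraMap A SQ a) = algebraMap A SQ a
        rw [IsScalarTower.algebraMap_apply A S SQ, Localization.localRingHom_to_map, hf,
          smul_algebraMap] }
  have hg' : ∀ x, g' x = g0 x := fun x => rfl
  have key : g' = AlgHom.id A SQ := by
    apply Algebra.FormallyUnramified.ext_of_iInf (I := maximalIdeal SQ)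
      (Ideal.iInf_pow_eq_bot_of_isLocalRing _ (Ideal.IsPrime.ne_top inferInstance))
    intro x
    rw [Ideal.Quotient.eq, AlgHom.id_apply, hg']
    obtain ⟨u, s, rfl⟩ := IsLocalization.exists_mk'_eq Q.primeCompl x
    have hs' : f s ∈ Q.primeCompl := by
      intro hmem
      apply s.2
      have h2 : (s : S) ∈ Q.comap f := hmem
      rwa [← hQ] at h2
    have hunit : IsUnit (algebraMap S SQ (s * f s)) :=
      IsLocalization.map_units SQ (⟨s * f s, mul_mem s.2 hs'⟩ : Q.primeCompl)
    rw [← Ideal.unit_mul_mem_iff_mem _ hunit]
    have hcalc : algebraMap S SQ (s * f s) * (g0 (IsLocalization.mk' SQ u s) -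
        IsLocalization.mk' SQ u s) = algebraMap S SQ (s * (σ • u - u) - u * (σ • (s : S) - s)) := by
      rw [Localization.localRingHom_mk', mul_sub, map_mul]
      have e1 : algebraMap S SQ s * algebraMap S SQ (f s) *
          IsLocalization.mk' SQ (f u) (⟨f s, hs'⟩ : Q.primeCompl) =
          algebraMap S SQ s * algebraMap S SQ (f u) := by
        rw [mul_assoc, IsLocalization.mk'_spec'_mk]
      have e2 : algebraMap S SQ s * algebraMap S SQ (f s) * IsLocalization.mk' SQ u s =
          algebraMap S SQ (f s) * algebraMap S SQ u := by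
        rw [mul_comm (algebraMap S SQ s), mul_assoc, IsLocalization.mk'_spec']
      rw [e1, e2, hf, hf]
      simp only [map_sub, map_mul]
      ring
    rw [hcalc, IsLocalization.AtPrime.to_map_mem_maximal_iff SQ Q]
    exact Q.sub_mem (Q.mul_mem_left _ (hσ u)) (Q.mul_mem_left _ (hσ s))
  apply FaithfulSMul.eq_of_smul_eq_smul (α := S)
  intro u
  rw [one_smul]
  apply IsLocalization.injective SQ Q.primeCompl_le_nonZeroDivisors
  have h1 : g' (algebraMap S SQ u) = algebraMap S SQ u := by rw [key]; rfl
  rw [hg', Localization.localRingHom_to_map, hf] at h1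
  exact h1

end Groth.Agent.H80.PurGal
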