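import Mathlib
import Groth.Agent.H80.PurGal4
import Groth.Agent.H80.PurGal5

/-!
# Purity, Galois case (helper80), part 6: assembly

`A` a Noetherian integrally closed local domain of dimension `≥ 2`, `S` an integrally closed domain,
finite over `A`, with a faithful action of a finite group `G` by `A`-algebra automorphisms whose
ring of invariants is `A`.  If `S` is unramified over `A` at all primes not lying over the maximal
ideal of `A`, then `End_A(S) ≃ S^G` (as `A`-modules) and `S ≃ Hom_A(S, A)`.
-/

set_option autoImplicit false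
set_option linter.unusedSectionVars false
set_option linter.style.haveILetI false

open Module IsLocalRing

universe u

namespace Groth.Agent.H80.PurGal

variable (A : Type*) [CommRing A] {S : Type u} [CommRing S] [Algebra A S]
  {G : Type*} [Group G] [MulSemiringAction G S] [SMulCommClass G A S]

/-- Unramified in codimension one implies the hypothesis `hin` of `Phi_surjective`. -/
theorem inertia_trivial_of_unramified [IsDomain S] [IsNoetherianRing S] [FaithfulSMul G S]
    (Q : Ideal S) [Q.IsPrime] [Algebra.IsUnramifiedAt A Q] (g h : G)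
    (hgh : ∀ t : S, g • t - h • t ∈ Q) : g = h := by
  have h1 : g * h⁻¹ = 1 := by
    apply eq_one_of_isUnramifiedAt (A := A) Q
    intro u
    have := hgh (h⁻¹ • u)
    rwa [← mul_smul, ← mul_smul, mul_inv_cancel, one_smul] at this
  exact mul_inv_eq_one.mp h1

/-- Over a normal local base of dimension `≥ 2`, primes of height `≤ 1` of a finite domain
extension do not lie over the maximal ideal. -/
theorem comap_ne_maximalIdeal_of_height_le_one [IsLocalRing A] [IsNoetherianRing A] [IsDomain A]
    [IsIntegrallyClosed A] (hA : (2 : WithBot ℕ∞) ≤ ringKrullDim A)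
    [IsDomain S] [IsNoetherianRing S] [FaithfulSMul A S] [Algebra.IsIntegral A S]
    (Q : Ideal S) [Q.IsPrime] (hQ : Q.height ≤ 1) :
    Q.comap (algebraMap A S) ≠ maximalIdeal A := by
  intro heq
  haveI : Q.LiesOver (maximalIdeal A) := ⟨heq.symm⟩
  have h1 := Ideal.height_eq_height_add_of_liesOver_of_hasGoingDown (maximalIdeal A) Q
  have h2 : (maximalIdeal A).height ≤ Q.height := by
    rw [h1]
    exact le_self_add
  have h3 : ((maximalIdeal A).height : WithBot ℕ∞) = ringKrullDim A :=
    IsLocalRing.maximalIdeal_height_eq_ringKrullDim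
  have h4 : (2 : WithBot ℕ∞) ≤ ((maximalIdeal A).height : WithBot ℕ∞) := h3 ▸ hA
  have h5 : (2 : ℕ∞) ≤ (maximalIdeal A).height := by
    have : ((2 : ℕ∞) : WithBot ℕ∞) ≤ ((maximalIdeal A).height : WithBot ℕ∞) := h4
    exact WithBot.coe_le_coe.mp this
  have h6 : (2 : ℕ∞) ≤ 1 := (h5.trans h2).trans hQ
  exact absurd h6 (by decide)

/-- **The Galois case of purity, module-theoretic form.** -/
theorem galois_case_equivs [IsLocalRing A] [IsNoetherianRing A] [IsDomain A]
    [IsIntegrallyClosed A] (hA : (2 : WithBot ℕ∞) ≤ ringKrullDim A)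
    [IsDomain S] [IsIntegrallyClosed S] [Module.Finite A S] [FaithfulSMul A S]
    [Finite G] [FaithfulSMul G S] [Algebra.IsInvariant A S G]
    (h : ∀ (q : Ideal S) (_ : q.IsPrime), q.comap (algebraMap A S) ≠ maximalIdeal A →
      Algebra.IsUnramifiedAt A q) :
    Nonempty ((G → S) ≃ₗ[A] Module.End A S) ∧ Nonempty (S ≃ₗ[A] (S →ₗ[A] A)) := by
  classical
  cases nonempty_fintype G
  haveI : IsNoetherianRing S := IsNoetherianRing.of_finite A S
  have hin : ∀ Q : Ideal S, Q.IsPrime → Q.height ≤ 1 →
      ∀ g h : G, (∀ t : S, g • t - h • t ∈ Q) → g = h := by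
    intro Q hQp hQ g h' hgh
    haveI := hQp
    haveI : Algebra.IsUnramifiedAt A Q :=
      h Q hQp (comap_ne_maximalIdeal_of_height_le_one A hA Q hQ)
    exact inertia_trivial_of_unramified A Q g h' hgh
  exact ⟨nonempty_linearEquiv_end A hin, nonempty_linearEquiv_dual A hin⟩

end Groth.Agent.H80.PurGal
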