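import Groth.Agent.H80.MLProj
import Groth.Agent.H32.ML2
import Groth.Agent.S0583

/-!
# Projective ⇔ flat + Mittag-Leffler + direct sum of countably generated submodules
-/

set_option autoImplicit false
universe u
open scoped Classical
open TensorProduct

namespace Groth.Agent.H80.ProjIffML

open Groth.Agent.H32 Groth.Agent.H80.MLCountEndo Groth.Agent.H80.MLProj

variable (R : Type u) [CommRing R]

/-- free modules `M →₀ R` are Mittag-Leffler -/
theorem isMittagLeffler_finsupp (X : Type u) : CAlg.IsMittagLeffler R (X →₀ R) := by
  classical
  have h : CAlg.IsMittagLeffler R (DirectSum X fun _ => R) :=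
    (isMittagLeffler_directSum R (fun _ : X => R)).2 (fun _ => isMittagLeffler_self R)
  exact isMittagLeffler_of_equiv R (finsuppLEquivDirectSum R R X).symm h

/-- projective modules are Mittag-Leffler -/
theorem isMittagLeffler_of_projective (M : Type u) [AddCommGroup M] [Module R M]
    [Module.Projective R M] : CAlg.IsMittagLeffler R M := by
  obtain ⟨s, hs⟩ := (Module.projective_def' (R := R) (P := M)).1 inferInstance
  exact isMittagLeffler_of_universallyInjective R s
    (universallyInjective_of_leftInverse R s _ hs) (isMittagLeffler_finsupp R M)

/-- the coordinate lines of a free module form an internal direct sum -/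
theorem isInternal_span_single (X : Type u) :
    DirectSum.IsInternal fun x : X => Submodule.span R {(Finsupp.single x (1 : R) : X →₀ R)} := by
  classical
  rw [DirectSum.isInternal_submodule_iff_iSupIndep_and_iSup_eq_top]
  let b : Module.Basis X R (X →₀ R) := Finsupp.basisSingleOne
  have hb : ∀ x, b x = Finsupp.single x (1 : R) := fun x => by simp [b]
  constructor
  · have := b.linearIndependent.iSupIndep_span_singleton
    simpa only [hb] using this
  · have h1 := b.span_eq
    rw [Submodule.span_range_eq_iSup] at h1
    simpa only [hb] using h1

/-- singly generated submodules are countably generated -/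
theorem isCountablyGenerated_span_singleton {F : Type u} [AddCommGroup F] [Module R F] (x : F) :
    CAlg.IsCountablyGenerated R (Submodule.span R {x}) := by
  refine ⟨{⟨x, Submodule.mem_span_singleton_self x⟩}, Set.countable_singleton _, ?_⟩
  rw [eq_top_iff]
  rintro ⟨y, hy⟩ -
  obtain ⟨a, rfl⟩ := Submodule.mem_span_singleton.1 hy
  exact Submodule.mem_span_singleton.2 ⟨a, rfl⟩

/-- transport of internal direct sums of countably generated submodules along an equivalence -/
theorem exists_internal_of_equiv {M P : Type u} [AddCommGroup M] [Module R M] [AddCommGroup P]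
    [Module R P] (e : P ≃ₗ[R] M)
    (h : ∃ (κ : Type u) (L : κ → Submodule R P), DirectSum.IsInternal L ∧
      ∀ k, CAlg.IsCountablyGenerated R (L k)) :
    ∃ (κ : Type u) (L : κ → Submodule R M), DirectSum.IsInternal L ∧
      ∀ k, CAlg.IsCountablyGenerated R (L k) := by
  classical
  obtain ⟨κ, L, hL, hc⟩ := h
  rw [DirectSum.isInternal_submodule_iff_iSupIndep_and_iSup_eq_top] at hL
  refine ⟨κ, fun k => (L k).map e.toLinearMap, ?_, fun k => ?_⟩
  · rw [DirectSum.isInternal_submodule_iff_iSupIndep_and_iSup_eq_top]
    constructor
    · exact hL.1.map_orderIso (Submodule.orderIsoMapComap e)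
    · rw [← Submodule.map_iSup, hL.2, Submodule.map_top, LinearMap.range_eq_top]
      exact e.surjective
  · exact isCountablyGenerated_of_surjective (e.submoduleMap (L k)).toLinearMap
      (e.submoduleMap (L k)).surjective (hc k)

/-- **Kaplansky**: a projective module is a direct sum of countably generated submodules. -/
theorem exists_internal_of_projective (M : Type u) [AddCommGroup M] [Module R M]
    [Module.Projective R M] :
    ∃ (κ : Type u) (L : κ → Submodule R M), DirectSum.IsInternal L ∧
      ∀ k, CAlg.IsCountablyGenerated R (L k) := by
  classical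
  obtain ⟨s, hs⟩ := (Module.projective_def' (R := R) (P := M)).1 inferInstance
  let π : (M →₀ R) →ₗ[R] M := Finsupp.linearCombination R id
  have hs' : ∀ m, π (s m) = m := fun m => LinearMap.congr_fun hs m
  have hinj : Function.Injective s := Function.LeftInverse.injective hs'
  let P : Submodule R (M →₀ R) := LinearMap.range s
  let pr : (M →₀ R) →ₗ[R] P := (s ∘ₗ π).codRestrict P (fun x => ⟨π x, rfl⟩)
  have hpr : ∀ x : P, pr x = x := by
    rintro ⟨_, m, rfl⟩
    apply Subtype.ext
    change s (π (s m)) = s m
    rw [hs']
  have hcompl : IsCompl P (LinearMap.ker pr) := LinearMap.isCompl_of_proj hpr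
  have key := Groth.Agent.S0583.result R (M →₀ R) M
    (fun x : M => Submodule.span R {(Finsupp.single x (1 : R) : M →₀ R)})
    (isInternal_span_single R M) (fun x => isCountablyGenerated_span_singleton R _)
    P (LinearMap.ker pr) hcompl
  exact exists_internal_of_equiv R (M := M) (P := ↥P) (LinearEquiv.ofInjective s hinj).symm key

/-- a direct sum of countably generated submodules that is flat and Mittag-Leffler is projective -/
theorem projective_of_internal (M : Type u) [AddCommGroup M] [Module R M] [Module.Flat R M]
    (hML : CAlg.IsMittagLeffler R M) (ι : Type u) (N : ι → Submodule R M)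
    (hN : DirectSum.IsInternal N) (hc : ∀ i, CAlg.IsCountablyGenerated R (N i)) :
    Module.Projective R M := by
  classical
  let e : (DirectSum ι fun i => N i) ≃ₗ[R] M :=
    LinearEquiv.ofBijective (DirectSum.coeLinearMap N) hN
  have he : ∀ (i : ι) (x : N i), e (DirectSum.lof R ι (fun i => N i) i x) = x := fun i x =>
    DirectSum.coeLinearMap_of N i x
  have hproj : ∀ i, Module.Projective R (N i) := by
    intro i
    let pr : M →ₗ[R] N i := DirectSum.component R ι (fun i => N i) i ∘ₗ e.symm.toLinearMap
    have hpr : pr ∘ₗ (N i).subtype = LinearMap.id := by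
      ext x
      have : e.symm (x : M) = DirectSum.lof R ι (fun i => N i) i x := by
        rw [LinearEquiv.symm_apply_eq, he]
      simp only [pr, LinearMap.comp_apply, Submodule.subtype_apply, LinearEquiv.coe_coe, this,
        DirectSum.component.lof_self, LinearMap.id_apply]
    have hflat : Module.Flat R (N i) := Module.Flat.of_retract (N i).subtype pr hpr
    have hML' : CAlg.IsMittagLeffler R (N i) :=
      isMittagLeffler_of_universallyInjective R (N i).subtype
        (universallyInjective_of_leftInverse R _ pr hpr) hML
    exact projective_of_flat_of_isMittagLeffler_of_isCountablyGenerated R (N i) hML' (hc i)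
  exact Module.Projective.of_equiv e

theorem main (M : Type u) [AddCommGroup M] [Module R M] :
    Module.Projective R M ↔ (Module.Flat R M ∧ CAlg.IsMittagLeffler R M ∧
      ∃ (ι : Type u) (N : ι → Submodule R M), DirectSum.IsInternal N ∧
        ∀ i, CAlg.IsCountablyGenerated R (N i)) := by
  constructor
  · intro h
    exact ⟨inferInstance, isMittagLeffler_of_projective R M, exists_internal_of_projective R M⟩
  · rintro ⟨hflat, hML, ι, N, hN, hc⟩
    exact projective_of_internal R M hML ι N hN hc

end Groth.Agent.H80.ProjIffML
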