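import Mathlib

/-!
# Adapted countably generated submodules (for descent of projectivity)
-/

set_option autoImplicit false
universe u
open TensorProduct

namespace Groth.Agent.H80.AdaptedSub

variable (R S : Type u) [CommRing R] [CommRing S] [Algebra R S]
variable (M : Type u) [AddCommGroup M] [Module R M]

/-- every element of `S ⊗ M` lies in the `S`-span of `1 ⊗ F` for a finite `F ⊆ M` -/
theorem exists_finset_mem_span (x : S ⊗[R] M) :
    ∃ F : Finset M, x ∈ Submodule.span S ((TensorProduct.mk R S M 1) '' (F : Set M)) := by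
  classical
  induction x using TensorProduct.induction_on with
  | zero => exact ⟨∅, Submodule.zero_mem _⟩
  | tmul s m =>
    refine ⟨{m}, ?_⟩
    have : s ⊗ₜ[R] m = s • ((TensorProduct.mk R S M 1) m) := by
      rw [TensorProduct.mk_apply, TensorProduct.smul_tmul', smul_eq_mul, mul_one]
    rw [this]
    exact Submodule.smul_mem _ _ (Submodule.subset_span ⟨m, by simp, rfl⟩)
  | add x y hx hy =>
    obtain ⟨F, hF⟩ := hx
    obtain ⟨F', hF'⟩ := hy
    refine ⟨F ∪ F', Submodule.add_mem _ ?_ ?_⟩
    · exact Submodule.span_mono (Set.image_mono (by simp)) hF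
    · exact Submodule.span_mono (Set.image_mono (by simp)) hF'

/-- `S`-span of `1 ⊗ N` for `N` the `R`-span of a set -/
theorem span_image_span (A : Set M) :
    Submodule.span S ((TensorProduct.mk R S M 1) '' (Submodule.span R A : Set M)) =
      Submodule.span S ((TensorProduct.mk R S M 1) '' A) := by
  have h1 := Submodule.baseChange_span (R := R) (A := S) (M := M) A
  rw [Submodule.baseChange_eq_span] at h1
  exact h1

variable {R S M}

theorem main {I : Type u} (Q : I → Submodule S (S ⊗[R] M))
    (hQtop : ⨆ i, Q i = ⊤)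
    (hQc : ∀ i, ∃ t : Set (S ⊗[R] M), t.Countable ∧ Submodule.span S t = Q i)
    (N : Submodule R M) (hN : ∃ s : Set M, s.Countable ∧ Submodule.span R s = N) :
    ∃ (N' : Submodule R M) (I' : Set I), N ≤ N' ∧
      (∃ s : Set M, s.Countable ∧ Submodule.span R s = N') ∧
      Submodule.span S ((TensorProduct.mk R S M 1) '' (N' : Set M)) = ⨆ i ∈ I', Q i := by
  classical
  obtain ⟨s₀, hs₀, rfl⟩ := hN
  choose t ht_count ht_span using hQc
  have hsupp : ∀ x : S ⊗[R] M, ∃ F : Finset I, x ∈ ⨆ i ∈ F, Q i := by
    intro x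
    have hx : x ∈ ⨆ i, Q i := by rw [hQtop]; trivial
    exact Submodule.exists_finset_of_mem_iSup Q hx
  choose supp hsupp using hsupp
  choose elts helts using exists_finset_mem_span R S M
  let B : Set M → Set I := fun A => ⋃ a ∈ A, (supp ((TensorProduct.mk R S M 1) a) : Set I)
  let next : Set M → Set M := fun A => A ∪ ⋃ i ∈ B A, ⋃ x ∈ t i, (elts x : Set M)
  let A : ℕ → Set M := fun n => Nat.rec s₀ (fun _ A => next A) n
  have hA_succ : ∀ n, A (n + 1) = next (A n) := fun n => rfl
  have hBcount : ∀ A' : Set M, A'.Countable → (B A').Countable := fun A' hA' =>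
    hA'.biUnion fun a _ => Finset.countable_toSet _
  have hAcount : ∀ n, (A n).Countable := by
    intro n
    induction n with
    | zero => exact hs₀
    | succ n ih =>
      rw [hA_succ]
      exact ih.union ((hBcount _ ih).biUnion fun i _ =>
        (ht_count i).biUnion fun x _ => Finset.countable_toSet _)
  let Ainf : Set M := ⋃ n, A n
  let I' : Set I := ⋃ n, B (A n)
  have hA0 : s₀ ⊆ Ainf := Set.subset_iUnion A 0
  refine ⟨Submodule.span R Ainf, I', Submodule.span_mono hA0,
    ⟨Ainf, Set.countable_iUnion hAcount, rfl⟩, ?_⟩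
  rw [span_image_span]
  apply le_antisymm
  · rw [Submodule.span_le]
    rintro _ ⟨a, ha, rfl⟩
    obtain ⟨n, hn⟩ := Set.mem_iUnion.1 ha
    refine (biSup_mono ?_ : (⨆ i ∈ (supp ((TensorProduct.mk R S M 1) a) : Set I), Q i) ≤ _)
      (by simpa using hsupp ((TensorProduct.mk R S M 1) a))
    intro i hi
    exact Set.mem_iUnion.2 ⟨n, Set.mem_biUnion hn hi⟩
  · refine iSup₂_le fun i hi => ?_
    obtain ⟨n, hn⟩ := Set.mem_iUnion.1 hi
    rw [← ht_span i, Submodule.span_le]
    intro x hx
    refine Submodule.span_mono (Set.image_mono ?_) (helts x)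
    intro m hm
    refine Set.mem_iUnion.2 ⟨n + 1, ?_⟩
    rw [hA_succ]
    exact Or.inr (Set.mem_biUnion hn (Set.mem_biUnion hx hm))

end Groth.Agent.H80.AdaptedSub
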