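import Groth.Agent.H80.ProjIffML
import Groth.Agent.H80.AdaptedSub
import Groth.Agent.H36.KapDecomp
import Groth.Agent.S0586
import Groth.Agent.S6305
import Groth.Agent.S6269

/-!
# Faithfully flat descent of projectivity (Raynaud–Gruson, Perry)
-/

set_option autoImplicit false
universe u
open scoped Classical
open TensorProduct

namespace Groth.Agent.H80.ProjDescent

open Groth.Agent.H32 Groth.Agent.H36 Groth.Agent.H80.MLCountEndo Groth.Agent.H80.MLProj

section adapted
variable {R S : Type u} [CommRing R] [CommRing S] [Algebra R S]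
variable {M : Type u} [AddCommGroup M] [Module R M]
variable {I : Type u} (Q : I → Submodule S (S ⊗[R] M))

/-- `(C, J)` is adapted: the `S`-span of `1 ⊗ C` is the sum of the `Q i`, `i ∈ J` -/
def Adapted (C : Submodule R M) (J : Set I) : Prop := C.baseChange S = setSup Q J

theorem baseChange_iSup {κ : Sort*} (C : κ → Submodule R M) :
    (⨆ k, C k).baseChange S = ⨆ k, (C k).baseChange S := by
  apply le_antisymm
  · rw [Submodule.baseChange_eq_span, Submodule.span_le]
    rintro _ ⟨x, hx, rfl⟩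
    refine Submodule.iSup_induction C
      (motive := fun x => (TensorProduct.mk R S M 1) x ∈ ⨆ k, (C k).baseChange S) hx ?_ ?_ ?_
    · intro k y hy
      exact (le_iSup (fun k => (C k).baseChange S) k) (Submodule.tmul_mem_baseChange_of_mem 1 hy)
    · simp
    · intro y z hy hz
      rw [map_add]
      exact add_mem hy hz
  · exact iSup_le fun k => Submodule.baseChange_mono S (le_iSup C k)

theorem baseChange_sup (C D : Submodule R M) :
    (C ⊔ D).baseChange S = C.baseChange S ⊔ D.baseChange S := by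
  apply le_antisymm
  · rw [Submodule.baseChange_eq_span, Submodule.span_le]
    rintro _ ⟨x, hx, rfl⟩
    obtain ⟨c, hc, d, hd, rfl⟩ := Submodule.mem_sup.1 hx
    rw [map_add]
    exact Submodule.add_mem_sup (Submodule.tmul_mem_baseChange_of_mem 1 hc)
      (Submodule.tmul_mem_baseChange_of_mem 1 hd)
  · exact sup_le (Submodule.baseChange_mono S le_sup_left) (Submodule.baseChange_mono S le_sup_right)

variable {Q}

theorem Adapted.iSup {κ : Sort*} {C : κ → Submodule R M} {J : κ → Set I}
    (h : ∀ k, Adapted Q (C k) (J k)) : Adapted Q (⨆ k, C k) (⋃ k, J k) := by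
  unfold Adapted
  rw [baseChange_iSup, setSup_iUnion]
  exact iSup_congr h

theorem Adapted.sup {C D : Submodule R M} {J J' : Set I} (h : Adapted Q C J)
    (h' : Adapted Q D J') : Adapted Q (C ⊔ D) (J ∪ J') := by
  unfold Adapted at *
  rw [baseChange_sup, setSup_union, h, h']

variable (Q)
variable [Module.FaithfullyFlat R S] [Module.Projective S (S ⊗[R] M)]

theorem projective_tensor_quotient (hind : iSupIndep Q) (htop : ⨆ i, Q i = ⊤)
    {C : Submodule R M} {J : Set I} (h : Adapted Q C J) :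
    Module.Projective S (S ⊗[R] (M ⧸ C)) := by
  have hcompl : IsCompl (setSup Q J) (setSup Q Jᶜ) := (isCompl_setSup_compl Q hind htop J).symm
  let e₁ : S ⊗[R] (M ⧸ C) ≃ₗ[S] (S ⊗[R] M) ⧸ (C.baseChange S) :=
    TensorProduct.AlgebraTensorModule.tensorQuotientEquiv S R S C
  let e₂ : ((S ⊗[R] M) ⧸ (C.baseChange S)) ≃ₗ[S] ((S ⊗[R] M) ⧸ setSup Q J) :=
    Submodule.quotEquivOfEq _ _ h
  let e₃ : ((S ⊗[R] M) ⧸ setSup Q J) ≃ₗ[S] setSup Q Jᶜ :=
    Submodule.quotientEquivOfIsCompl _ _ hcompl
  have hproj : Module.Projective S (setSup Q Jᶜ) :=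
    Module.Projective.of_split (setSup Q Jᶜ).subtype ((setSup Q Jᶜ).projectionOnto _ hcompl.symm)
      (by ext x; simp [Submodule.projectionOnto_apply_left])
  exact Module.Projective.of_equiv (e₁ ≪≫ₗ e₂ ≪≫ₗ e₃).symm

theorem flat_quotient (hind : iSupIndep Q) (htop : ⨆ i, Q i = ⊤)
    {C : Submodule R M} {J : Set I} (h : Adapted Q C J) : Module.Flat R (M ⧸ C) := by
  have := projective_tensor_quotient Q hind htop h
  exact Module.Flat.of_flat_tensorProduct R (M ⧸ C) S

theorem isMittagLeffler_quotient (hind : iSupIndep Q) (htop : ⨆ i, Q i = ⊤)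
    {C : Submodule R M} {J : Set I} (h : Adapted Q C J) : CAlg.IsMittagLeffler R (M ⧸ C) := by
  have := projective_tensor_quotient Q hind htop h
  exact Groth.Agent.S0586.result R S (M ⧸ C)
    (Groth.Agent.H80.ProjIffML.isMittagLeffler_of_projective S _)

omit [Module.FaithfullyFlat R S] [Module.Projective S (S ⊗[R] M)] in
/-- spans of countable sets are countably generated -/
theorem isCountablyGenerated_span (t : Set M) (ht : t.Countable) :
    CAlg.IsCountablyGenerated R (Submodule.span R t) :=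
  ⟨((↑) : Submodule.span R t → M) ⁻¹' t, ht.preimage Subtype.val_injective,
    Submodule.span_span_coe_preimage⟩

/-- the splitting step -/
theorem exists_complement (hind : iSupIndep Q) (htop : ⨆ i, Q i = ⊤)
    {C₁ C₂ : Submodule R M} {J₁ J₂ : Set I} (h₁ : Adapted Q C₁ J₁) (h₂ : Adapted Q C₂ J₂)
    (hle : C₁ ≤ C₂) (t : Set M) (ht : t.Countable) (hC : C₂ = C₁ ⊔ Submodule.span R t) :
    ∃ L : Submodule R M, Disjoint C₁ L ∧ C₁ ⊔ L = C₂ ∧ CAlg.IsCountablyGenerated R L := by
  have hflat₁ := flat_quotient Q hind htop h₁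
  have hflat₂ := flat_quotient Q hind htop h₂
  have hML₁ := isMittagLeffler_quotient Q hind htop h₁
  let g : (M ⧸ C₁) →ₗ[R] (M ⧸ C₂) := Submodule.factor hle
  have hg : Function.Surjective g := Submodule.factor_surjective hle
  let T' : Submodule R (M ⧸ C₁) := LinearMap.ker g
  have hexact : Function.Exact T'.subtype g := LinearMap.exact_subtype_ker_map g
  have huniv : CAlgX.UniversallyInjective R T'.subtype :=
    (Groth.Agent.S6305.result (M ⧸ C₂)).1 hflat₂ T' (M ⧸ C₁) T'.subtype g
      T'.injective_subtype hexact hg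
  have hflatT : Module.Flat R T' := (Groth.Agent.S6269.result T'.subtype g hexact hg huniv).1
  have hMLT : CAlg.IsMittagLeffler R T' :=
    isMittagLeffler_of_universallyInjective R T'.subtype huniv hML₁
  have hmkmem : ∀ c : C₂, C₁.mkQ (c : M) ∈ T' := by
    intro c
    rw [LinearMap.mem_ker]
    change Submodule.factor hle (C₁.mkQ (c : M)) = 0
    rw [Submodule.factor_mk]
    exact (Submodule.Quotient.mk_eq_zero _).2 c.2
  let ρ : C₂ →ₗ[R] T' := (C₁.mkQ ∘ₗ C₂.subtype).codRestrict T' hmkmem
  have hρ : ∀ c : C₂, ((ρ c : T') : M ⧸ C₁) = C₁.mkQ (c : M) := fun c => rfl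
  have hρsurj : Function.Surjective ρ := by
    rintro ⟨y, hy⟩
    obtain ⟨x, rfl⟩ := C₁.mkQ_surjective y
    have hx : x ∈ C₂ := by
      have h1 : Submodule.factor hle (C₁.mkQ x) = 0 := hy
      rwa [Submodule.factor_mk, Submodule.mkQ_apply, Submodule.Quotient.mk_eq_zero] at h1
    exact ⟨⟨x, hx⟩, rfl⟩
  have hTc : CAlg.IsCountablyGenerated R T' := by
    have htle : Submodule.span R t ≤ C₂ := by rw [hC]; exact le_sup_right
    let φ : Submodule.span R t →ₗ[R] T' := ρ ∘ₗ Submodule.inclusion htle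
    refine isCountablyGenerated_of_surjective φ ?_ (isCountablyGenerated_span t ht)
    intro y
    obtain ⟨⟨c, hc⟩, rfl⟩ := hρsurj y
    have hc' : c ∈ C₁ ⊔ Submodule.span R t := by rw [← hC]; exact hc
    obtain ⟨c₁, hc₁, u, hu, hcu⟩ := Submodule.mem_sup.1 hc'
    refine ⟨⟨u, hu⟩, ?_⟩
    apply Subtype.ext
    change C₁.mkQ u = C₁.mkQ c
    rw [Submodule.mkQ_apply, Submodule.mkQ_apply, Submodule.Quotient.eq, ← hcu]
    simpa using C₁.neg_mem hc₁
  have hTproj : Module.Projective R T' :=
    projective_of_flat_of_isMittagLeffler_of_isCountablyGenerated R T' hMLT hTc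
  obtain ⟨σ, hσ⟩ := Module.projective_lifting_property ρ LinearMap.id hρsurj
  have hσ' : ∀ y, ρ (σ y) = y := fun y => LinearMap.congr_fun hσ y
  let L : Submodule R M := LinearMap.range (C₂.subtype ∘ₗ σ)
  refine ⟨L, ?_, ?_, ?_⟩
  · rw [Submodule.disjoint_def]
    rintro x hx₁ ⟨y, rfl⟩
    have h2 : ρ (σ y) = 0 := by
      apply Subtype.ext
      rw [hρ]
      exact (Submodule.Quotient.mk_eq_zero _).2 hx₁
    have : y = 0 := by rw [← hσ' y, h2]
    rw [this, map_zero]
  · apply le_antisymm
    · refine sup_le hle ?_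
      rintro _ ⟨y, rfl⟩
      exact (σ y).2
    · intro c hc
      have h1 : ρ (⟨c, hc⟩ - σ (ρ ⟨c, hc⟩)) = 0 := by
        rw [map_sub, hσ', sub_self]
      have h2 : (c - ((σ (ρ ⟨c, hc⟩) : C₂) : M)) ∈ C₁ := by
        have h3 := congrArg (fun z : T' => (z : M ⧸ C₁)) h1
        simp only [hρ] at h3
        exact (Submodule.Quotient.mk_eq_zero _).1 h3
      have : c = (c - ((σ (ρ ⟨c, hc⟩) : C₂) : M)) + ((σ (ρ ⟨c, hc⟩) : C₂) : M) := by abel
      rw [this]
      exact Submodule.add_mem_sup h2 ⟨ρ ⟨c, hc⟩, rfl⟩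
  · exact isCountablyGenerated_of_surjective ((C₂.subtype ∘ₗ σ).rangeRestrict)
      (LinearMap.surjective_rangeRestrict _) hTc

/-- the devissage: a decomposition of `M` into countably generated submodules -/
theorem exists_decomposition (hind : iSupIndep Q) (htop : ⨆ i, Q i = ⊤)
    (hQc : ∀ i, ∃ t : Set (S ⊗[R] M), t.Countable ∧ Submodule.span S t = Q i) :
    ∃ L : M → Submodule R M, iSupIndep L ∧ ⨆ m, L m = ⊤ ∧
      ∀ m, CAlg.IsCountablyGenerated R (L m) := by
  have hcl : ∀ m : M, ∃ (C : Submodule R M) (J : Set I) (t : Set M), m ∈ C ∧ t.Countable ∧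
      Submodule.span R t = C ∧ Adapted Q C J := by
    intro m
    obtain ⟨C, J, hle, ⟨t, ht, hspan⟩, had⟩ := Groth.Agent.H80.AdaptedSub.main Q htop hQc
      (Submodule.span R {m}) ⟨{m}, Set.countable_singleton m, rfl⟩
    refine ⟨C, J, t, hle (Submodule.mem_span_singleton_self m), ht, hspan, ?_⟩
    unfold Adapted setSup
    rw [Submodule.baseChange_eq_span]
    exact had
  choose C J t hmem ht hspan had using hcl
  obtain ⟨_, _⟩ := exists_wellFoundedLT (α := M)
  let Mlt : M → Submodule R M := fun m => ⨆ m', ⨆ (_ : m' < m), C m'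
  let Mle : M → Submodule R M := fun m => Mlt m ⊔ C m
  let Jlt : M → Set I := fun m => ⋃ m', ⋃ (_ : m' < m), J m'
  have hadlt : ∀ m, Adapted Q (Mlt m) (Jlt m) := fun m =>
    Adapted.iSup fun m' => Adapted.iSup fun _ => had m'
  have hadle : ∀ m, Adapted Q (Mle m) (Jlt m ∪ J m) := fun m => (hadlt m).sup (had m)
  have hL : ∀ m, ∃ L : Submodule R M, Disjoint (Mlt m) L ∧ Mlt m ⊔ L = Mle m ∧
      CAlg.IsCountablyGenerated R L := fun m =>
    exists_complement Q hind htop (hadlt m) (hadle m) le_sup_left (t m) (ht m)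
      (by rw [hspan m])
  choose L hLdisj hLsup hLc using hL
  have hMlt : ∀ m, Mlt m = ⨆ j, ⨆ (_ : j < m), L j := by
    intro m
    induction m using WellFoundedLT.induction with
    | _ m ih =>
    have hMle : ∀ j, j < m → Mle j = ⨆ k, ⨆ (_ : k ≤ j), L k := by
      intro j hj
      rw [← hLsup j, ih j hj]
      apply le_antisymm
      · exact sup_le (iSup₂_le fun k hk => le_iSup₂_of_le k hk.le le_rfl)
          (le_iSup₂_of_le j le_rfl le_rfl)
      · refine iSup₂_le fun k hk => ?_
        rcases hk.lt_or_eq with h | rfl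
        · exact le_sup_of_le_left (le_iSup₂_of_le k h le_rfl)
        · exact le_sup_right
    apply le_antisymm
    · refine iSup₂_le fun j hj => ?_
      calc C j ≤ Mle j := le_sup_right
        _ = ⨆ k, ⨆ (_ : k ≤ j), L k := hMle j hj
        _ ≤ _ := iSup₂_le fun k hk => le_iSup₂_of_le k (lt_of_le_of_lt hk hj) le_rfl
    · refine iSup₂_le fun j hj => ?_
      calc L j ≤ Mle j := by rw [← hLsup j]; exact le_sup_right
        _ ≤ Mlt m := sup_le (iSup₂_le fun k hk => le_iSup₂_of_le k (hk.trans hj) le_rfl)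
            (le_iSup₂_of_le j hj le_rfl)
  refine ⟨L, ?_, ?_, hLc⟩
  · refine iSupIndep_of_disjoint_biSup_lt L fun m => ?_
    rw [← hMlt m]
    exact (hLdisj m).symm
  · rw [eq_top_iff]
    intro m _
    have h1 : m ∈ Mle m := Submodule.mem_sup_right (hmem m)
    rw [← hLsup m, hMlt m] at h1
    exact (sup_le (iSup₂_le fun j _ => le_iSup L j) (le_iSup L m)) h1

end adapted

/-- **Faithfully flat descent of projectivity.** -/
theorem main (R : Type u) [CommRing R] (S : Type u) [CommRing S] [Algebra R S]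
    [Module.FaithfullyFlat R S] (M : Type u) [AddCommGroup M] [Module R M]
    [Module.Projective S (S ⊗[R] M)] : Module.Projective R M := by
  obtain ⟨I, Q, hQ, hQc⟩ :=
    Groth.Agent.H80.ProjIffML.exists_internal_of_projective S (S ⊗[R] M)
  have hind := hQ.submodule_iSupIndep
  have htop := hQ.submodule_iSup_eq_top
  have hQc' : ∀ i, ∃ t : Set (S ⊗[R] M), t.Countable ∧ Submodule.span S t = Q i := by
    intro i
    obtain ⟨t, ht, hspan⟩ := hQc i
    refine ⟨(Q i).subtype '' t, ht.image _, ?_⟩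
    rw [← Submodule.map_span, hspan, Submodule.map_top, Submodule.range_subtype]
  obtain ⟨L, hLind, hLtop, hLc⟩ := exists_decomposition Q hind htop hQc'
  have hflat : Module.Flat R M := Module.Flat.of_flat_tensorProduct R M S
  have hML : CAlg.IsMittagLeffler R M :=
    Groth.Agent.S0586.result R S M (Groth.Agent.H80.ProjIffML.isMittagLeffler_of_projective S _)
  exact Groth.Agent.H80.ProjIffML.projective_of_internal R M hML M L
    ((DirectSum.isInternal_submodule_iff_iSupIndep_and_iSup_eq_top L).2 ⟨hLind, hLtop⟩) hLc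

end Groth.Agent.H80.ProjDescent
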