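import Mathlib.RingTheory.Polynomial.GaussLemma
import Mathlib.FieldTheory.AlgebraicClosure
import Mathlib.FieldTheory.PrimitiveElement
import Mathlib.FieldTheory.LinearDisjoint
import Mathlib.FieldTheory.Perfect
import Mathlib.LinearAlgebra.TensorProduct.Finiteness
import Mathlib.LinearAlgebra.FiniteDimensional.Lemmas

/-!
# Irreducible polynomials stay irreducible over an extension in which the base is algebraically closed
-/

namespace Groth.Agent.H80

open Polynomial

theorem irreducible_map_of_algebraicClosure_eq_bot {K₀ F₀ : Type*} [Field K₀] [Field F₀]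
    [Algebra K₀ F₀] (h : algebraicClosure K₀ F₀ = ⊥) {f : K₀[X]} (hf : Irreducible f)
    (hm : f.Monic) : Irreducible (f.map (algebraMap K₀ F₀)) := by
  have hinj : Function.Injective (algebraMap K₀ F₀) := (algebraMap K₀ F₀).injective
  have hdeg : 0 < f.natDegree := hf.natDegree_pos
  have hfm : (f.map (algebraMap K₀ F₀)).Monic := hm.map _
  rw [irreducible_iff]
  constructor
  · intro hu
    have h1 := natDegree_eq_zero_of_isUnit hu
    rw [natDegree_map] at h1
    omega
  · intro a b hab
    have ha0 : a ≠ 0 := by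
      rintro rfl
      rw [zero_mul] at hab
      exact hfm.ne_zero hab
    have hb0 : b ≠ 0 := by
      rintro rfl
      rw [mul_zero] at hab
      exact hfm.ne_zero hab
    have hlc : a.leadingCoeff ≠ 0 := leadingCoeff_ne_zero.2 ha0
    set g := a * C a.leadingCoeff⁻¹ with hgdef
    have hg : g.Monic := monic_mul_leadingCoeff_inv ha0
    have hgd : g ∣ f.map (algebraMap K₀ F₀) := by
      refine ⟨b * C a.leadingCoeff, ?_⟩
      rw [hab, hgdef]
      have : C a.leadingCoeff⁻¹ * C a.leadingCoeff = (1 : F₀[X]) := by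
        rw [← C_mul, inv_mul_cancel₀ hlc, C_1]
      calc a * b = a * b * (C a.leadingCoeff⁻¹ * C a.leadingCoeff) := by rw [this, mul_one]
        _ = _ := by ring
    have hgdeg : g.natDegree = a.natDegree := by
      rw [hgdef, natDegree_mul_C (inv_ne_zero hlc)]
    have hlift := integralClosure.mem_lifts_of_monic_of_dvd_map F₀ hm hg hgd
    have hic : integralClosure K₀ F₀ = ⊥ := by
      have := congrArg IntermediateField.toSubalgebra h
      rwa [algebraicClosure_toSubalgebra, IntermediateField.bot_toSubalgebra] at this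
    have hg_lift : g ∈ lifts (algebraMap K₀ F₀) := by
      rw [lifts_iff_coeff_lifts] at hlift ⊢
      intro n
      obtain ⟨c, hc⟩ := hlift n
      have hc' : (c : F₀) ∈ (⊥ : Subalgebra K₀ F₀) := hic ▸ c.2
      obtain ⟨d, hd⟩ := Algebra.mem_bot.1 hc'
      exact ⟨d, by rw [hd, ← hc]; rfl⟩
    obtain ⟨g₀, hg₀, hg₀deg, hg₀m⟩ := lifts_and_natDegree_eq_and_monic hg_lift hg
    have hdvd : g₀ ∣ f := (Polynomial.map_dvd_map _ hinj hg₀m).1 (hg₀ ▸ hgd)
    obtain ⟨c, hc⟩ := hdvd
    have hsum : a.natDegree + b.natDegree = f.natDegree := by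
      have := congrArg natDegree hab
      rw [natDegree_map, natDegree_mul ha0 hb0] at this
      exact this.symm
    rcases hf.isUnit_or_isUnit hc with hu | hu
    · left
      have h1 := natDegree_eq_zero_of_isUnit hu
      rw [hg₀deg, hgdeg] at h1
      rw [isUnit_iff_degree_eq_zero, degree_eq_natDegree ha0, h1]
      rfl
    · right
      have h1 := natDegree_eq_zero_of_isUnit hu
      have hc0 : c ≠ 0 := by
        rintro rfl
        rw [mul_zero] at hc
        exact hm.ne_zero hc
      have h2 : f.natDegree = g₀.natDegree := by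
        rw [hc, natDegree_mul hg₀m.ne_zero hc0, h1, add_zero]
      rw [hg₀deg, hgdeg] at h2
      have h3 : b.natDegree = 0 := by omega
      rw [isUnit_iff_degree_eq_zero, degree_eq_natDegree hb0, h3]
      rfl

end Groth.Agent.H80

namespace Groth.Agent.H80

open Polynomial Module
open scoped TensorProduct IntermediateField

/-- Finite extension of a perfect field, tensored with an extension in which the base field is
algebraically closed, is a field. -/
theorem isField_tensor_of_finite {K₀ F₀ K' : Type*} [Field K₀] [PerfectField K₀] [Field F₀]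
    [Algebra K₀ F₀] [Field K'] [Algebra K₀ K'] [FiniteDimensional K₀ K']
    (h : algebraicClosure K₀ F₀ = ⊥) : IsField (F₀ ⊗[K₀] K') := by
  have : Algebra.IsSeparable K₀ K' := Algebra.IsAlgebraic.isSeparable_of_perfectField
  obtain ⟨α, hα⟩ := Field.exists_primitive_element K₀ K'
  have hαint : IsIntegral K₀ α := Algebra.IsIntegral.isIntegral α
  have hfirr : Irreducible (minpoly K₀ α) := minpoly.irreducible hαint
  have hfm : (minpoly K₀ α).Monic := minpoly.monic hαint
  have hfdeg : (minpoly K₀ α).natDegree = finrank K₀ K' := by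
    rw [← IntermediateField.adjoin.finrank hαint, hα, IntermediateField.finrank_top']
  have hgirr := irreducible_map_of_algebraicClosure_eq_bot h hfirr hfm
  have hTrank : finrank F₀ (F₀ ⊗[K₀] K') = finrank K₀ K' := Module.finrank_baseChange
  have : Nontrivial (F₀ ⊗[K₀] K') :=
    Module.nontrivial_of_finrank_pos (R := F₀) (by rw [hTrank]; exact finrank_pos)
  obtain ⟨M, hM⟩ := Ideal.exists_maximal (F₀ ⊗[K₀] K')
  let : Field ((F₀ ⊗[K₀] K') ⧸ M) := Ideal.Quotient.field M
  let q : (F₀ ⊗[K₀] K') →ₐ[F₀] ((F₀ ⊗[K₀] K') ⧸ M) := Ideal.Quotient.mkₐ F₀ M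
  have hq : Function.Surjective q := Ideal.Quotient.mkₐ_surjective F₀ M
  let a : (F₀ ⊗[K₀] K') ⧸ M := q (1 ⊗ₜ α)
  have ha : aeval a ((minpoly K₀ α).map (algebraMap K₀ F₀)) = 0 := by
    rw [aeval_map_algebraMap]
    have : a = ((q.restrictScalars K₀).comp Algebra.TensorProduct.includeRight) α := rfl
    rw [this, aeval_algHom_apply, minpoly.aeval, map_zero]
  have hmin : (minpoly K₀ α).map (algebraMap K₀ F₀) = minpoly F₀ a :=
    minpoly.eq_of_irreducible_of_monic hgirr ha (hfm.map _)
  have haint : IsIntegral F₀ a := Algebra.IsIntegral.isIntegral a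
  have h1 : finrank F₀ F₀⟮a⟯ = finrank K₀ K' := by
    rw [IntermediateField.adjoin.finrank haint, ← hmin, natDegree_map, hfdeg]
  have h2 : finrank F₀ F₀⟮a⟯ ≤ finrank F₀ ((F₀ ⊗[K₀] K') ⧸ M) :=
    Submodule.finrank_le (F₀⟮a⟯.toSubalgebra.toSubmodule)
  have h3 : finrank F₀ ((F₀ ⊗[K₀] K') ⧸ M) ≤ finrank F₀ (F₀ ⊗[K₀] K') :=
    LinearMap.finrank_le_finrank_of_surjective (f := q.toLinearMap) hq
  have h4 : finrank F₀ (F₀ ⊗[K₀] K') = finrank F₀ ((F₀ ⊗[K₀] K') ⧸ M) := by omega
  have hinj : Function.Injective q :=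
    (LinearMap.injective_iff_surjective_of_finrank_eq_finrank (f := q.toLinearMap) h4).2 hq
  exact (RingEquiv.ofBijective q ⟨hinj, hq⟩).toMulEquiv.isField (Field.toIsField _)

/-- `K₀` perfect and algebraically closed in `F₀`, `K` algebraic over `K₀`: `F₀ ⊗ K` is a field. -/
theorem isField_tensor_of_isAlgebraic {K₀ F₀ K : Type*} [Field K₀] [PerfectField K₀] [Field F₀]
    [Algebra K₀ F₀] [Field K] [Algebra K₀ K] [Algebra.IsAlgebraic K₀ K]
    (h : algebraicClosure K₀ F₀ = ⊥) : IsField (F₀ ⊗[K₀] K) := by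
  classical
  have hnzd : NoZeroDivisors (F₀ ⊗[K₀] K) := by
    refine ⟨fun {x y} hxy => ?_⟩
    obtain ⟨N', hN'fin, hN'⟩ := TensorProduct.exists_finite_submodule_right_of_setFinite
      ({x, y} : Set (F₀ ⊗[K₀] K)) (Set.toFinite _)
    obtain ⟨s, hs⟩ : N'.FG := Module.Finite.iff_fg.1 hN'fin
    let K' : IntermediateField K₀ K := IntermediateField.adjoin K₀ (s : Set K)
    have hfd : FiniteDimensional K₀ K' :=
      IntermediateField.finiteDimensional_adjoin (fun x _ => Algebra.IsIntegral.isIntegral x)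
    have hN'le : ∀ n ∈ N', n ∈ K' := by
      intro n hn
      rw [← hs] at hn
      exact Submodule.span_le (p := K'.toSubalgebra.toSubmodule).2
        (IntermediateField.subset_adjoin K₀ _) hn
    let ι : N' →ₗ[K₀] K' :=
      { toFun := fun n => ⟨n.1, hN'le n.1 n.2⟩
        map_add' := fun _ _ => rfl
        map_smul' := fun _ _ => rfl }
    have hι : K'.val.toLinearMap ∘ₗ ι = N'.subtype := LinearMap.ext fun _ => rfl
    let φ : F₀ ⊗[K₀] K' →ₐ[K₀] F₀ ⊗[K₀] K :=
      Algebra.TensorProduct.map (AlgHom.id K₀ F₀) K'.val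
    have hφ : ∀ t, φ t = (K'.val.toLinearMap.lTensor F₀) t := by
      intro t
      induction t using TensorProduct.induction_on with
      | zero => simp
      | tmul a b => rfl
      | add t t' ht ht' => rw [map_add, map_add, ht, ht']
    have hφinj : Function.Injective φ := by
      have h1 := Module.Flat.lTensor_preserves_injective_linearMap (M := F₀)
        K'.val.toLinearMap K'.val.injective
      intro t t' htt'
      apply h1
      rw [← hφ, ← hφ, htt']
    have hrange : ∀ z ∈ ({x, y} : Set (F₀ ⊗[K₀] K)), ∃ z', φ z' = z := by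
      intro z hz
      obtain ⟨z'', hz''⟩ := hN' hz
      refine ⟨ι.lTensor F₀ z'', ?_⟩
      rw [hφ, ← hz'', ← LinearMap.comp_apply, ← LinearMap.lTensor_comp, hι]
    obtain ⟨x', rfl⟩ := hrange x (by simp)
    obtain ⟨y', rfl⟩ := hrange y (by simp)
    have hfield : IsField (F₀ ⊗[K₀] K') := isField_tensor_of_finite h
    have hdom : IsDomain (F₀ ⊗[K₀] K') := hfield.isDomain
    have hx'y' : x' * y' = 0 := hφinj (by rw [map_mul, hxy, map_zero])
    have hnz := @IsDomain.to_noZeroDivisors _ _ hdom
    rcases hnz.eq_zero_or_eq_zero_of_mul_eq_zero hx'y' with h0 | h0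
    · left; rw [h0, map_zero]
    · right; rw [h0, map_zero]
  have : IsDomain (F₀ ⊗[K₀] K) := NoZeroDivisors.to_isDomain _
  exact Algebra.TensorProduct.isField_of_isAlgebraic K₀ F₀ K (Or.inr inferInstance)

end Groth.Agent.H80
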