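import Mathlib.RingTheory.Etale.Kaehler
import Mathlib.RingTheory.Etale.Field
import Mathlib.RingTheory.Kaehler.Polynomial
import Mathlib.RingTheory.Smooth.Field
import Mathlib.RingTheory.AlgebraicIndependent.TranscendenceBasis
import Mathlib.FieldTheory.SeparablyGenerated

/-!
# Differentials of separably generated field extensions
-/

namespace Groth.Agent.H80

open scoped TensorProduct KaehlerDifferential

open scoped IntermediateField.algebraAdjoinAdjoin in
/-- If `F` is separable over `k(x)` for an algebraically independent family `x`, then the `d(x i)`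
form a basis of `Ω[F/k]`. -/
theorem exists_basis_D_of_isSeparable {k F ι : Type*} [Field k] [Field F] [Algebra k F]
    {x : ι → F} (hb : AlgebraicIndependent k x)
    [Algebra.IsSeparable (IntermediateField.adjoin k (Set.range x)) F] :
    ∃ b : Module.Basis ι F Ω[F⁄k], ∀ i, b i = KaehlerDifferential.D k F (x i) := by
  have h1 : Algebra.FormallyEtale (Algebra.adjoin k (Set.range x))
      (IntermediateField.adjoin k (Set.range x)) :=
    Algebra.FormallyEtale.of_isLocalization (nonZeroDivisors (Algebra.adjoin k (Set.range x)))
  have h2 : Algebra.FormallyEtale (IntermediateField.adjoin k (Set.range x)) F :=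
    Algebra.FormallyEtale.of_isSeparable _ F
  have h3 : Algebra.FormallyEtale (Algebra.adjoin k (Set.range x)) F :=
    Algebra.FormallyEtale.comp _ (IntermediateField.adjoin k (Set.range x)) _
  let algPF : Algebra (MvPolynomial ι k) F := (MvPolynomial.aeval x).toRingHom.toAlgebra
  let algPB : Algebra (MvPolynomial ι k) (Algebra.adjoin k (Set.range x)) :=
    hb.aevalEquiv.toAlgHom.toRingHom.toAlgebra
  have t1 : IsScalarTower k (MvPolynomial ι k) F :=
    IsScalarTower.of_algebraMap_eq (fun c => ((MvPolynomial.aeval x).commutes c).symm)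
  have t2 : IsScalarTower (MvPolynomial ι k) (Algebra.adjoin k (Set.range x)) F :=
    IsScalarTower.of_algebraMap_eq (fun p => rfl)
  have h4 : Algebra.FormallyEtale (MvPolynomial ι k) (Algebra.adjoin k (Set.range x)) :=
    Algebra.FormallyEtale.of_equiv
      (AlgEquiv.ofRingEquiv (f := hb.aevalEquiv.toRingEquiv) (fun p => rfl) :
        MvPolynomial ι k ≃ₐ[MvPolynomial ι k] (Algebra.adjoin k (Set.range x)))
  have h5 : Algebra.FormallyEtale (MvPolynomial ι k) F :=
    Algebra.FormallyEtale.comp _ (Algebra.adjoin k (Set.range x)) _
  let e := KaehlerDifferential.tensorKaehlerEquivOfFormallyEtale k (MvPolynomial ι k) F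
  let b0 : Module.Basis ι F (F ⊗[MvPolynomial ι k] Ω[MvPolynomial ι k⁄k]) :=
    (KaehlerDifferential.mvPolynomialBasis k ι).baseChange F
  refine ⟨b0.map e, fun i => ?_⟩
  rw [Module.Basis.map_apply, Module.Basis.baseChange_apply,
    KaehlerDifferential.mvPolynomialBasis_apply,
    KaehlerDifferential.tensorKaehlerEquivOfFormallyEtale_apply,
    KaehlerDifferential.mapBaseChange_tmul, one_smul, KaehlerDifferential.map_D]
  congr 1
  exact MvPolynomial.aeval_X x i

/-- If the `d(x i)` span `Ω[F/k]` and `F/k` is finitely generated, then `F` is separable over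
`k(x)`. -/
theorem isSeparable_of_span_D {k F ι : Type*} [Field k] [Field F] [Algebra k F]
    [Algebra.EssFiniteType k F] {x : ι → F}
    (hspan : Submodule.span F (Set.range fun i : ι => KaehlerDifferential.D k F (x i)) = ⊤) :
    Algebra.IsSeparable (IntermediateField.adjoin k (Set.range x)) F := by
  have hE : Algebra.EssFiniteType (IntermediateField.adjoin k (Set.range x)) F :=
    Algebra.EssFiniteType.of_comp k _ F
  rw [← Algebra.FormallyUnramified.iff_isSeparable]
  constructor
  -- `Ω[F/E] = 0`
  refine ⟨fun a b => ?_⟩
  suffices h : ∀ ω : Ω[F⁄(IntermediateField.adjoin k (Set.range x))], ω = 0 by rw [h a, h b]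
  intro ω
  obtain ⟨ω', rfl⟩ := KaehlerDifferential.map_surjective k
    (IntermediateField.adjoin k (Set.range x)) F ω
  have hω' : ω' ∈ Submodule.span F (Set.range fun i : ι => KaehlerDifferential.D k F (x i)) := by
    rw [hspan]; trivial
  induction hω' using Submodule.span_induction with
  | mem ω h =>
    obtain ⟨i, rfl⟩ := h
    rw [KaehlerDifferential.map_D]
    have hx : x i ∈ IntermediateField.adjoin k (Set.range x) :=
      IntermediateField.subset_adjoin k _ ⟨i, rfl⟩
    have : (algebraMap F F) (x i) =
        algebraMap (IntermediateField.adjoin k (Set.range x)) F ⟨x i, hx⟩ := rfl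
    rw [this, Derivation.map_algebraMap]
  | zero => rw [map_zero]
  | add a b _ _ ha hb => rw [map_add, ha, hb, add_zero]
  | smul c a _ ha => rw [map_smul, ha, smul_zero]

/-- Over a perfect field, the differentials of a finitely generated field extension have
dimension the transcendence degree. -/
theorem finrank_kaehler_eq_card {k F ι : Type*} [Field k] [PerfectField k] [Field F] [Algebra k F]
    [Algebra.EssFiniteType k F] [Fintype ι] {x : ι → F} (hx : IsTranscendenceBasis k x) :
    Module.finrank F Ω[F⁄k] = Fintype.card ι := by
  obtain ⟨s, hs, H⟩ := exists_isTranscendenceBasis_and_isSeparable_of_perfectField k F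
  have hsep : Algebra.IsSeparable (IntermediateField.adjoin k (Set.range ((↑) : s → F))) F := by
    convert! H <;> simp
  obtain ⟨b, -⟩ := exists_basis_D_of_isSeparable hs.1
  rw [Module.finrank_eq_card_basis b]
  have hcard := IsTranscendenceBasis.lift_cardinalMk_eq hx hs
  simp only [Cardinal.mk_fintype, Cardinal.lift_natCast] at hcard
  exact_mod_cast hcard.symm

end Groth.Agent.H80
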