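import Groth.Prelude.Def_AlphaP
import Groth.Prelude.Def_CartDual
import Mathlib

/-!
# Helper lemmas on the Hopf algebra of α_p and its dual (helper80)
-/

set_option autoImplicit false
universe u v

namespace Groth.Agent.H80.AlphaPLib

open AlphaP TensorProduct

theorem nontrivial_of_charP (p : ℕ) [hp : Fact p.Prime] (R : Type u) [CommRing R] [CharP R p] :
    Nontrivial R :=
  CharP.nontrivial_of_char_ne_one (R := R) (v := p) hp.out.ne_one

section

variable (p : ℕ) [hp : Fact p.Prime] (R : Type u) [CommRing R] [CharP R p]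

theorem comul_x_pow (n : ℕ) :
    Coalgebra.comul (R := R) (x p R ^ n) =
      ∑ m ∈ Finset.range (n + 1), (n.choose m : R) • ((x p R ^ m) ⊗ₜ[R] (x p R ^ (n - m))) := by
  rw [Bialgebra.comul_pow, comul_x, add_pow]
  refine Finset.sum_congr rfl fun m _ => ?_
  rw [Algebra.TensorProduct.tmul_pow, Algebra.TensorProduct.tmul_pow, one_pow, one_pow,
    Algebra.TensorProduct.tmul_mul_tmul, mul_one, one_mul, mul_comm, ← nsmul_eq_mul,
    Nat.cast_smul_eq_nsmul]

theorem counit_x_pow (n : ℕ) :
    Coalgebra.counit (R := R) (x p R ^ n) = if n = 0 then 1 else 0 := by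
  rw [Bialgebra.counit_pow, counit_x]
  split_ifs with h
  · subst h; simp
  · exact zero_pow h

/-- Coordinate functionals with respect to the basis `1, x, …, x^(p-1)` (zero for `k ≥ p`). -/
noncomputable def coord (k : ℕ) : A p R →ₗ[R] R :=
  haveI := nontrivial_of_charP p R
  if h : k < p then (basis p R).coord ⟨k, h⟩ else 0

theorem coord_x_pow (k n : ℕ) (hn : n < p) :
    coord p R k (x p R ^ n) = if n = k then 1 else 0 := by
  have := nontrivial_of_charP p R
  unfold coord
  have hb : x p R ^ n = basis p R ⟨n, hn⟩ := (basis_apply p R ⟨n, hn⟩).symm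
  split_ifs with h1 h2 h2
  · subst h2
    rw [hb, Module.Basis.coord_apply, Module.Basis.repr_self, Finsupp.single_eq_same]
  · rw [hb, Module.Basis.coord_apply, Module.Basis.repr_self, Finsupp.single_apply, if_neg]
    intro h; exact h2 (congrArg Fin.val h)
  · omega
  · rfl

theorem coord_of_le (k : ℕ) (hk : p ≤ k) : coord p R k = 0 := by
  unfold coord
  rw [dif_neg (by omega)]

theorem linearMap_ext {M : Type v} [AddCommMonoid M] [Module R M] {f g : A p R →ₗ[R] M}
    (h : ∀ n < p, f (x p R ^ n) = g (x p R ^ n)) : f = g := by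
  have := nontrivial_of_charP p R
  refine (basis p R).ext fun i => ?_
  rw [basis_apply]
  exact h i i.2

theorem eq_sum (a : A p R) :
    a = ∑ k ∈ Finset.range p, coord p R k a • x p R ^ k := by
  have := nontrivial_of_charP p R
  rw [← Fin.sum_univ_eq_sum_range (fun k => coord p R k a • x p R ^ k) p]
  conv_lhs => rw [← (basis p R).sum_repr a]
  refine Finset.sum_congr rfl fun i _ => ?_
  rw [basis_apply]
  unfold coord
  rw [dif_pos i.2]
  rfl

theorem coord_zero_eq_counit : coord p R 0 = Coalgebra.counit (R := R) (A := A p R) := by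
  apply linearMap_ext
  intro n hn
  rw [coord_x_pow p R 0 n hn, counit_x_pow]

theorem isUnit_natCast_of_lt {k : ℕ} (hk0 : 0 < k) (hk : k < p) : IsUnit (k : R) :=
  (CharP.isUnit_natCast_iff hp.out).mpr (Nat.not_dvd_of_pos_of_lt hk0 hk)

theorem isUnit_factorial_of_lt {k : ℕ} (hk : k < p) : IsUnit ((k.factorial : ℕ) : R) :=
  (CharP.isUnit_natCast_iff hp.out).mpr (by rw [hp.out.dvd_factorial]; omega)

/-! ### The dual -/

/-- The dual basis elements, as elements of the dual Hopf algebra. -/
noncomputable def δ (k : ℕ) : CartDual.D R (A p R) := WithConv.toConv (coord p R k)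

theorem δ_apply (k : ℕ) (a : A p R) : δ p R k a = coord p R k a := rfl

theorem δ_x_pow (k n : ℕ) (hn : n < p) : δ p R k (x p R ^ n) = if n = k then 1 else 0 :=
  coord_x_pow p R k n hn

theorem δ_of_le (k : ℕ) (hk : p ≤ k) : δ p R k = 0 := by
  unfold δ
  rw [coord_of_le p R k hk]
  rfl

theorem D_ext {y y' : CartDual.D R (A p R)} (h : ∀ n < p, y (x p R ^ n) = y' (x p R ^ n)) :
    y = y' := by
  apply WithConv.ext
  exact linearMap_ext p R h

theorem δ_zero : δ p R 0 = 1 := by
  apply D_ext
  intro n hn
  rw [δ_x_pow p R 0 n hn, LinearMap.convOne_apply, counit_x_pow]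
  split_ifs <;> simp

theorem δ_mul_δ (i j : ℕ) :
    δ p R i * δ p R j = (((i + j).choose i : ℕ) : R) • δ p R (i + j) := by
  apply D_ext
  intro n hn
  rw [LinearMap.convMul_apply, comul_x_pow, map_sum, map_sum]
  have hterm : ∀ m ∈ Finset.range (n + 1),
      LinearMap.mul' R R ((TensorProduct.map (δ p R i).ofConv (δ p R j).ofConv)
        ((n.choose m : R) • ((x p R ^ m) ⊗ₜ[R] (x p R ^ (n - m))))) =
      if m = i ∧ n = i + j then ((n.choose m : ℕ) : R) else 0 := by
    intro m hm
    rw [Finset.mem_range] at hm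
    rw [map_smul, map_smul, TensorProduct.map_tmul, LinearMap.mul'_apply]
    change _ • (coord p R i (x p R ^ m) * coord p R j (x p R ^ (n - m))) = _
    rw [coord_x_pow p R i m (by omega), coord_x_pow p R j (n - m) (by omega)]
    by_cases h1 : m = i
    · by_cases h2 : n = i + j
      · rw [if_pos h1, if_pos (by omega), if_pos ⟨h1, h2⟩]; simp
      · rw [if_pos h1, if_neg (by omega), if_neg (by tauto)]; simp
    · have h3 : ¬ (m = i ∧ n = i + j) := fun h => h1 h.1
      rw [if_neg h1, if_neg h3]; simp
  rw [Finset.sum_congr rfl hterm]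
  change _ = (((i + j).choose i : ℕ) : R) • (δ p R (i + j) (x p R ^ n))
  rw [δ_x_pow p R (i + j) n hn]
  by_cases h2 : n = i + j
  · subst h2
    rw [if_pos rfl, Finset.sum_eq_single i]
    · simp
    · intro m _ hm; rw [if_neg (by tauto)]
    · intro h; exact absurd (Finset.mem_range.mpr (by omega)) h
  · rw [if_neg h2, smul_zero]
    exact Finset.sum_eq_zero fun m _ => by rw [if_neg (by tauto)]

theorem δ_one_pow (k : ℕ) : δ p R 1 ^ k = ((k.factorial : ℕ) : R) • δ p R k := by
  induction k with
  | zero => rw [pow_zero, Nat.factorial_zero, Nat.cast_one, one_smul, δ_zero]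
  | succ k ih =>
    rw [pow_succ, ih, smul_mul_assoc, δ_mul_δ, smul_smul, Nat.choose_succ_self_right,
      Nat.factorial_succ, Nat.cast_mul, mul_comm]

theorem δ_one_pow_p : δ p R 1 ^ p = 0 := by
  rw [δ_one_pow, δ_of_le p R p le_rfl, smul_zero]

/-- The algebra map `A → D(A)` sending `x` to the dual basis element `δ 1`. -/
noncomputable def toDualAlg : A p R →ₐ[R] CartDual.D R (A p R) :=
  lift p R (δ p R 1) (δ_one_pow_p p R)

@[simp] theorem toDualAlg_x : toDualAlg p R (x p R) = δ p R 1 := lift_x _ _

theorem toDualAlg_x_pow (k : ℕ) :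
    toDualAlg p R (x p R ^ k) = ((k.factorial : ℕ) : R) • δ p R k := by
  rw [map_pow, toDualAlg_x, δ_one_pow]

/-- `δ 1` is a derivation at the counit. -/
theorem δ_one_mul (a b : A p R) :
    δ p R 1 (a * b) = δ p R 1 a * Coalgebra.counit (R := R) b +
      Coalgebra.counit (R := R) a * δ p R 1 b := by
  have key : (LinearMap.mul R (A p R)).compr₂ (coord p R 1) =
      (LinearMap.mul R R).compl₁₂ (coord p R 1) (Coalgebra.counit (R := R) (A := A p R)) +
      (LinearMap.mul R R).compl₁₂ (Coalgebra.counit (R := R) (A := A p R)) (coord p R 1) := by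
    apply linearMap_ext p R
    intro n hn
    apply linearMap_ext p R
    intro m hm
    simp only [LinearMap.compr₂_apply, LinearMap.mul_apply', LinearMap.add_apply,
      LinearMap.compl₁₂_apply]
    rw [← pow_add, counit_x_pow, counit_x_pow, coord_x_pow p R 1 n hn, coord_x_pow p R 1 m hm]
    by_cases h : n + m < p
    · rw [coord_x_pow p R 1 (n + m) h]
      by_cases h1 : n = 1
      · by_cases h2 : m = 0
        · subst h1 h2; simp
        · have : ¬ (n + m = 1) := by omega
          subst h1; simp [h2]
      · by_cases h2 : n = 0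
        · subst h2; simp
        · have : ¬ (n + m = 1) := by omega
          simp [h1, h2, this]
    · have hp2 : 2 ≤ p := hp.out.two_le
      rw [x_pow_of_le p R (by omega), map_zero]
      have h1 : ¬ (n = 1 ∧ m = 0) := by omega
      have h2 : ¬ (n = 0 ∧ m = 1) := by omega
      by_cases h3 : n = 1
      · have : m ≠ 0 := fun h => h1 ⟨h3, h⟩
        simp [h3, this]
      · by_cases h4 : n = 0
        · have : m ≠ 1 := fun h => h2 ⟨h4, h⟩
          simp [h4, this]
        · simp [h3, h4]
  have := LinearMap.congr_fun (LinearMap.congr_fun key a) b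
  simp only [LinearMap.compr₂_apply, LinearMap.mul_apply', LinearMap.add_apply,
      LinearMap.compl₁₂_apply] at this
  exact this

theorem comul_δ_one :
    Coalgebra.comul (R := R) (δ p R 1) = δ p R 1 ⊗ₜ[R] 1 + 1 ⊗ₜ[R] δ p R 1 := by
  apply (CartDual.ev₂ R (A p R)).injective
  apply TensorProduct.ext'
  intro a b
  rw [CartDual.ev₂_coalgebra_comul_tmul, map_add, LinearMap.add_apply, CartDual.ev₂_tmul,
    CartDual.ev₂_tmul, δ_one_mul, LinearMap.convOne_apply, LinearMap.convOne_apply]
  rfl

/-- The bialgebra map `A → D(A)`. -/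
noncomputable def toDualBialg : A p R →ₐc[R] CartDual.D R (A p R) :=
  BialgHom.ofAlgHom (toDualAlg p R)
    (by
      apply algHom_ext
      rw [AlgHom.comp_apply, toDualAlg_x]
      change δ p R 1 1 = Coalgebra.counit (R := R) (x p R)
      rw [counit_x, ← pow_zero (x p R), δ_x_pow p R 1 0 hp.out.pos, if_neg (by omega)])
    (by
      apply algHom_ext
      rw [AlgHom.comp_apply, AlgHom.comp_apply, toDualAlg_x]
      change Algebra.TensorProduct.map (toDualAlg p R) (toDualAlg p R)
        (Coalgebra.comul (R := R) (x p R)) = Coalgebra.comul (R := R) (δ p R 1)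
      rw [comul_x, comul_δ_one, map_add, Algebra.TensorProduct.map_tmul,
        Algebra.TensorProduct.map_tmul, toDualAlg_x, map_one])

@[simp] theorem toDualBialg_apply (a : A p R) : toDualBialg p R a = toDualAlg p R a := rfl

theorem toDualAlg_apply_x_pow (a : A p R) (n : ℕ) (hn : n < p) :
    toDualAlg p R a (x p R ^ n) = ((n.factorial : ℕ) : R) * coord p R n a := by
  have key : (LinearMap.applyₗ (x p R ^ n) ∘ₗ (CartDual.toDual R (A p R)).toLinearMap) ∘ₗ
      (toDualAlg p R).toLinearMap = ((n.factorial : ℕ) : R) • coord p R n := by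
    apply linearMap_ext p R
    intro k hk
    simp only [LinearMap.coe_comp, Function.comp_apply, AlgHom.toLinearMap_apply,
      LinearEquiv.coe_coe, LinearMap.applyₗ_apply_apply, LinearMap.smul_apply, smul_eq_mul]
    rw [toDualAlg_x_pow, coord_x_pow p R n k hk]
    change ((k.factorial : ℕ) : R) • (δ p R k (x p R ^ n)) = _
    rw [δ_x_pow p R k n hn]
    by_cases h : n = k
    · subst h; simp
    · rw [if_neg h, if_neg (Ne.symm h)]; simp
  exact LinearMap.congr_fun key a

theorem toDualAlg_bijective : Function.Bijective (toDualAlg p R) := by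
  constructor
  · rw [injective_iff_map_eq_zero]
    intro a ha
    rw [eq_sum p R a]
    refine Finset.sum_eq_zero fun k hk => ?_
    rw [Finset.mem_range] at hk
    have h1 := toDualAlg_apply_x_pow p R a k hk
    rw [ha] at h1
    have h2 : ((k.factorial : ℕ) : R) * coord p R k a = 0 := h1.symm
    rw [(isUnit_factorial_of_lt p R hk).mul_right_eq_zero] at h2
    rw [h2, zero_smul]
  · intro y
    choose u hu using fun k : Finset.range p =>
      (isUnit_factorial_of_lt p R (Finset.mem_range.mp k.2))
    refine ⟨∑ k ∈ (Finset.range p).attach, ((↑(u k)⁻¹ : R) * y (x p R ^ (k : ℕ))) • x p R ^ (k : ℕ), ?_⟩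
    apply D_ext
    intro n hn
    rw [toDualAlg_apply_x_pow p R _ n hn, map_sum,
      Finset.sum_eq_single (⟨n, Finset.mem_range.mpr hn⟩ : Finset.range p)]
    · rw [map_smul, coord_x_pow p R n n hn, if_pos rfl, smul_eq_mul, mul_one, ← mul_assoc,
        ← hu ⟨n, Finset.mem_range.mpr hn⟩, Units.mul_inv, one_mul]
    · intro k _ hk
      rw [map_smul, coord_x_pow p R n k (Finset.mem_range.mp k.2), if_neg, smul_zero]
      intro h; exact hk (Subtype.ext h)
    · intro h; exact absurd (Finset.mem_attach _ _) h

/-- The Cartier dual of α_p is α_p. -/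
noncomputable def dualEquiv : CartDual.D R (A p R) ≃ₐc[R] A p R :=
  (BialgEquiv.ofBijective (toDualBialg p R) (toDualAlg_bijective p R)).symm

theorem dualEquiv_symm_x : (dualEquiv p R).symm (x p R) = δ p R 1 := by
  change toDualBialg p R (x p R) = _
  rw [toDualBialg_apply, toDualAlg_x]

end

section Frob

variable (p : ℕ) [hp : Fact p.Prime] (R : Type u) [CommRing R] [CharP R p]

/-- In `R[x]/(x^p)` (char `p`) the `p`-th power of `a` is the `p`-th power of its constant term. -/
theorem pow_p_eq (a : A p R) :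
    a ^ p = algebraMap R (A p R) ((Coalgebra.counit (R := R) a) ^ p) := by
  conv_lhs => rw [eq_sum p R a]
  rw [sum_pow_char p, Finset.sum_eq_single 0]
  · rw [pow_zero, smul_pow, one_pow, coord_zero_eq_counit, Algebra.algebraMap_eq_smul_one]
  · intro k _ hk
    rw [smul_pow, ← pow_mul, x_pow_of_le p R (Nat.le_mul_of_pos_left p (Nat.pos_of_ne_zero hk)),
      smul_zero]
  · intro h; exact absurd (Finset.mem_range.mpr hp.out.pos) h

/-- In the dual of `α_p`, the `p`-th power of `y` is the scalar `(y 1)^p`. -/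
theorem dual_pow_p_eq (y : CartDual.D R (A p R)) :
    y ^ p = algebraMap R (CartDual.D R (A p R)) ((y 1) ^ p) := by
  apply (dualEquiv p R).toEquiv.injective
  change dualEquiv p R (y ^ p) = dualEquiv p R _
  have h1 : dualEquiv p R (y ^ p) = (dualEquiv p R y) ^ p := map_pow (dualEquiv p R) y p
  have h2 : Coalgebra.counit (R := R) (dualEquiv p R y) = y 1 := by
    rw [CoalgHomClass.counit_comp_apply, CartDual.coalgebra_counit_apply]
  have h3 : dualEquiv p R (algebraMap R (CartDual.D R (A p R)) ((y 1) ^ p)) =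
      algebraMap R (A p R) ((y 1) ^ p) :=
    (dualEquiv p R : CartDual.D R (A p R) ≃ₐ[R] A p R).commutes _
  rw [h1, pow_p_eq, h2, h3]

end Frob

end Groth.Agent.H80.AlphaPLib
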