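import Mathlib
import Groth.Agent.H3.IdemLift

/-! Generic lemmas for lifting over a (henselian) local ring: residue-field tensor, a Nakayama
bijectivity criterion, idempotent lifting in finite noncommutative algebras. -/

set_option autoImplicit false
set_option linter.unusedSectionVars false
universe u v

namespace Groth.Agent.H80.AzLift

open IsLocalRing TensorProduct

section Residue

variable {R : Type u} [CommRing R] [IsLocalRing R] (M : Type v) [AddCommGroup M] [Module R M]

lemma one_tmul_eq_zero_iff' (x : M) :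
    (1 : R ⧸ maximalIdeal R) ⊗ₜ[R] x = 0 ↔ x ∈ maximalIdeal R • (⊤ : Submodule R M) := by
  rw [← (TensorProduct.quotTensorEquivQuotSMul M (maximalIdeal R)).map_eq_zero_iff,
    TensorProduct.quotTensorEquivQuotSMul_mk_one_tmul, Submodule.Quotient.mk_eq_zero]

lemma one_tmul_eq_zero_iff (x : M) :
    (1 : ResidueField R) ⊗ₜ[R] x = 0 ↔ x ∈ maximalIdeal R • (⊤ : Submodule R M) :=
  one_tmul_eq_zero_iff' M x

lemma exists_one_tmul_eq' (t : (R ⧸ maximalIdeal R) ⊗[R] M) :
    ∃ x : M, t = (1 : R ⧸ maximalIdeal R) ⊗ₜ[R] x := by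
  obtain ⟨x, hx⟩ := Submodule.Quotient.mk_surjective _
    ((TensorProduct.quotTensorEquivQuotSMul M (maximalIdeal R)) t)
  refine ⟨x, ?_⟩
  apply (TensorProduct.quotTensorEquivQuotSMul M (maximalIdeal R)).injective
  rw [← hx, TensorProduct.quotTensorEquivQuotSMul_mk_one_tmul]

lemma exists_one_tmul_eq (t : ResidueField R ⊗[R] M) :
    ∃ x : M, t = (1 : ResidueField R) ⊗ₜ[R] x :=
  exists_one_tmul_eq' M t

end Residue
section Nak

variable {R : Type u} [CommRing R] [IsLocalRing R] {M N : Type v} [AddCommGroup M] [Module R M]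
  [AddCommGroup N] [Module R N] [Module.Finite R M] [Module.Finite R N] [Module.Projective R N]

/-- a linear map into a finite projective module which is surjective mod `m` and whose kernel
lies in `m M` is bijective. -/
theorem bijective_of_mod_max (f : M →ₗ[R] N)
    (h1 : (⊤ : Submodule R N) ≤ LinearMap.range f ⊔ maximalIdeal R • (⊤ : Submodule R N))
    (h2 : LinearMap.ker f ≤ maximalIdeal R • (⊤ : Submodule R M)) : Function.Bijective f := by
  have hjac : maximalIdeal R ≤ (⊥ : Ideal R).jacobson := by
    rw [IsLocalRing.jacobson_eq_maximalIdeal ⊥ bot_ne_top]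
  have hsurj : Function.Surjective f := by
    rw [← LinearMap.range_eq_top, eq_top_iff]
    exact Submodule.le_of_le_smul_of_le_jacobson_bot Module.Finite.fg_top hjac h1
  refine ⟨?_, hsurj⟩
  obtain ⟨σ, hσ⟩ := Module.projective_lifting_property f LinearMap.id hsurj
  let g : M →ₗ[R] M := LinearMap.id - σ ∘ₗ f
  have hgK : ∀ x ∈ LinearMap.ker f, g x = x := by
    intro x hx
    change x - σ (f x) = x
    rw [LinearMap.mem_ker.1 hx, map_zero, sub_zero]
  have hrange : LinearMap.range g = LinearMap.ker f := by
    apply le_antisymm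
    · rintro _ ⟨y, rfl⟩
      rw [LinearMap.mem_ker]
      change f (y - σ (f y)) = 0
      rw [map_sub]
      have : f (σ (f y)) = f y := congr($hσ (f y))
      rw [this, sub_self]
    · intro x hx
      exact ⟨x, hgK x hx⟩
  have hfg : (LinearMap.ker f).FG := by
    rw [← hrange, LinearMap.range_eq_map]
    exact Module.Finite.fg_top.map g
  have hle : LinearMap.ker f ≤ maximalIdeal R • LinearMap.ker f := by
    intro x hx
    have hx2 : g x ∈ Submodule.map g (maximalIdeal R • (⊤ : Submodule R M)) :=
      Submodule.mem_map_of_mem (h2 hx)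
    rw [Submodule.map_smul'', Submodule.map_top, hrange, hgK x hx] at hx2
    exact hx2
  have hbot := Submodule.eq_bot_of_le_smul_of_le_jacobson_bot (maximalIdeal R) _ hfg hle hjac
  exact LinearMap.ker_eq_bot.1 hbot

end Nak

section Idem

/-- In a finite (not necessarily commutative) algebra over a henselian local ring, every element
`c` is congruent modulo `c² - c` to an idempotent. -/
theorem exists_idempotent_lift_noncomm (R : Type u) [CommRing R] [HenselianLocalRing R]
    (C : Type u) [Ring C] [Algebra R C] [Module.Finite R C] (c₀ : C) :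
    ∃ e : C, IsIdempotentElem e ∧ ∃ c' : C, e - c₀ = c' * (c₀ * c₀ - c₀) := by
  let S₁ : Subalgebra R C := Algebra.adjoin R {c₀}
  letI : CommRing S₁ := Algebra.adjoinCommRingOfComm R (s := {c₀}) (by
    intro a ha b hb
    rw [Set.mem_singleton_iff] at ha hb
    rw [ha, hb])
  haveI : Module.Finite R S₁ := by
    have hfg : (Algebra.adjoin R {c₀}).toSubmodule.FG :=
      (IsIntegral.of_finite R c₀).fg_adjoin_singleton
    exact Module.Finite.iff_fg.2 hfg
  let b : S₁ := ⟨c₀, Algebra.subset_adjoin (Set.mem_singleton c₀)⟩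
  obtain ⟨e, he, c', hc'⟩ := Groth.Agent.H3.exists_idempotent_lift R S₁ b
  refine ⟨(e : C), ?_, (c' : C), ?_⟩
  · have := congr(($(he.eq) : C))
    exact this
  · have := congr(($hc' : C))
    exact this

end Idem

end Groth.Agent.H80.AzLift
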