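import Mathlib
import Groth.Agent.H80.AzLift1
import Groth.Agent.H97.FFDescent

/-! The representation `ρ : A ⊗ Bᵒᵖ → End_k(k ⊗ B)` attached to an isomorphism of special fibres
`e₀ : k ⊗ A ≃ k ⊗ B` of Azumaya algebras over a local ring, its surjectivity and kernel. -/

set_option autoImplicit false
set_option linter.unusedSectionVars false
universe u

namespace Groth.Agent.H80.AzLift

open IsLocalRing TensorProduct

section Mu

/-- the special fibre of an Azumaya algebra satisfies the Azumaya bijectivity. -/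
lemma mu_bijective (R : Type u) [CommRing R] [IsLocalRing R] (B : Type u) [Ring B] [Algebra R B]
    [IsAzumaya R B] :
    Function.Bijective (AlgHom.mulLeftRight (ResidueField R) (ResidueField R ⊗[R] B)) := by
  obtain ⟨E, G, hEG⟩ := Groth.Agent.H97.FFDescent.mulLeftRight_square R (ResidueField R) B
  have hb : Function.Bijective (AlgHom.mulLeftRight R B) := IsAzumaya.bij
  let φ := LinearEquiv.ofBijective (AlgHom.mulLeftRight R B).toLinearMap hb
  have h1 : Function.Bijective
      (LinearMap.lTensor (ResidueField R) (AlgHom.mulLeftRight R B).toLinearMap) :=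
    (φ.lTensor (ResidueField R)).bijective
  have h2 : Function.Bijective
      (fun x => AlgHom.mulLeftRight (ResidueField R) (ResidueField R ⊗[R] B) (E x)) := by
    have h3 : (fun x => AlgHom.mulLeftRight (ResidueField R) (ResidueField R ⊗[R] B) (E x)) =
        G ∘ (LinearMap.lTensor (ResidueField R) (AlgHom.mulLeftRight R B).toLinearMap) :=
      funext hEG
    rw [h3]
    exact G.bijective.comp h1
  have h4 : ⇑(AlgHom.mulLeftRight (ResidueField R) (ResidueField R ⊗[R] B)) =
      (fun x => AlgHom.mulLeftRight (ResidueField R) (ResidueField R ⊗[R] B) (E x)) ∘ E.symm := by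
    funext y
    simp
  rw [h4]
  exact h2.comp E.symm.bijective

end Mu

section Rho

variable {R : Type u} [CommRing R] [IsLocalRing R] {A B : Type u} [Ring A] [Algebra R A] [Ring B]
  [Algebra R B]
  (e₀ : (ResidueField R ⊗[R] A) ≃ₐ[ResidueField R] (ResidueField R ⊗[R] B))

lemma one_tmul_mul (a a' : A) : (1 : ResidueField R) ⊗ₜ[R] (a * a') =
    ((1 : ResidueField R) ⊗ₜ[R] a) * ((1 : ResidueField R) ⊗ₜ[R] a') := by
  rw [Algebra.TensorProduct.tmul_mul_tmul, mul_one]

/-- left multiplication by `e₀ (1 ⊗ a)`. -/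
noncomputable def rhoA : A →ₐ[R] Module.End (ResidueField R) (ResidueField R ⊗[R] B) where
  toFun a := LinearMap.mulLeft (ResidueField R) (e₀ ((1 : ResidueField R) ⊗ₜ[R] a))
  map_one' := by
    apply LinearMap.ext
    intro x
    rw [LinearMap.mulLeft_apply, ← Algebra.TensorProduct.one_def, map_one, one_mul]
    rfl
  map_mul' a a' := by
    apply LinearMap.ext
    intro x
    rw [LinearMap.mulLeft_apply, one_tmul_mul, map_mul, Module.End.mul_apply,
      LinearMap.mulLeft_apply, LinearMap.mulLeft_apply, mul_assoc]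
  map_zero' := by
    apply LinearMap.ext
    intro x
    rw [LinearMap.mulLeft_apply, tmul_zero, map_zero, zero_mul]
    rfl
  map_add' a a' := by
    apply LinearMap.ext
    intro x
    rw [LinearMap.mulLeft_apply, tmul_add, map_add, add_mul]
    rfl
  commutes' r := by
    apply LinearMap.ext
    intro x
    rw [LinearMap.mulLeft_apply, Module.algebraMap_end_apply, Algebra.algebraMap_eq_smul_one,
      tmul_smul, ← Algebra.TensorProduct.one_def, ← algebraMap_smul (ResidueField R) r
        (1 : ResidueField R ⊗[R] A), map_smul, map_one, smul_mul_assoc, one_mul, algebraMap_smul]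

lemma rhoA_apply (a : A) (x : ResidueField R ⊗[R] B) :
    rhoA e₀ a x = e₀ ((1 : ResidueField R) ⊗ₜ[R] a) * x := rfl

/-- right multiplication by `1 ⊗ b`. -/
noncomputable def rhoB : Bᵐᵒᵖ →ₐ[R] Module.End (ResidueField R) (ResidueField R ⊗[R] B) where
  toFun b := LinearMap.mulRight (ResidueField R) ((1 : ResidueField R) ⊗ₜ[R] b.unop)
  map_one' := by
    apply LinearMap.ext
    intro x
    rw [LinearMap.mulRight_apply, MulOpposite.unop_one, ← Algebra.TensorProduct.one_def, mul_one]
    rfl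
  map_mul' b b' := by
    apply LinearMap.ext
    intro x
    rw [LinearMap.mulRight_apply, MulOpposite.unop_mul, one_tmul_mul, Module.End.mul_apply,
      LinearMap.mulRight_apply, LinearMap.mulRight_apply, mul_assoc]
  map_zero' := by
    apply LinearMap.ext
    intro x
    rw [LinearMap.mulRight_apply, MulOpposite.unop_zero, tmul_zero, mul_zero]
    rfl
  map_add' b b' := by
    apply LinearMap.ext
    intro x
    rw [LinearMap.mulRight_apply, MulOpposite.unop_add, tmul_add, mul_add]
    rfl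
  commutes' r := by
    apply LinearMap.ext
    intro x
    rw [LinearMap.mulRight_apply, Module.algebraMap_end_apply, MulOpposite.algebraMap_apply,
      MulOpposite.unop_op, Algebra.algebraMap_eq_smul_one, tmul_smul,
      ← Algebra.TensorProduct.one_def, mul_smul_comm, mul_one]

lemma rhoB_apply (b : Bᵐᵒᵖ) (x : ResidueField R ⊗[R] B) :
    rhoB (R := R) (B := B) b x = x * ((1 : ResidueField R) ⊗ₜ[R] b.unop) := rfl

lemma rho_comm (a : A) (b : Bᵐᵒᵖ) : Commute (rhoA e₀ a) (rhoB (R := R) (B := B) b) := by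
  apply LinearMap.ext
  intro x
  rw [Module.End.mul_apply, Module.End.mul_apply, rhoA_apply, rhoB_apply, rhoA_apply, rhoB_apply,
    mul_assoc]

/-- the representation of `A ⊗ Bᵒᵖ` on `k ⊗ B`. -/
noncomputable def rho : A ⊗[R] Bᵐᵒᵖ →ₐ[R] Module.End (ResidueField R) (ResidueField R ⊗[R] B) :=
  Algebra.TensorProduct.lift (rhoA e₀) rhoB (rho_comm e₀)

lemma rho_tmul_apply (a : A) (b : Bᵐᵒᵖ) (x : ResidueField R ⊗[R] B) :
    rho e₀ (a ⊗ₜ[R] b) x =
      e₀ ((1 : ResidueField R) ⊗ₜ[R] a) * (x * ((1 : ResidueField R) ⊗ₜ[R] b.unop)) := by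
  rw [rho, Algebra.TensorProduct.lift_tmul, Module.End.mul_apply, rhoA_apply, rhoB_apply]

/-- `k ⊗ Bᵒᵖ ≃ (k ⊗ B)ᵒᵖ`. -/
noncomputable def e2 : ResidueField R ⊗[R] Bᵐᵒᵖ ≃ₗ[ResidueField R] (ResidueField R ⊗[R] B)ᵐᵒᵖ :=
  (TensorProduct.AlgebraTensorModule.congr (LinearEquiv.refl (ResidueField R) (ResidueField R))
    (MulOpposite.opLinearEquiv R (M := B)).symm) ≪≫ₗ MulOpposite.opLinearEquiv (ResidueField R)

/-- `k ⊗ (A ⊗ Bᵒᵖ) ≃ (k ⊗ B) ⊗_k (k ⊗ B)ᵒᵖ`. -/
noncomputable def E' : ResidueField R ⊗[R] (A ⊗[R] Bᵐᵒᵖ) ≃ₗ[ResidueField R]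
    (ResidueField R ⊗[R] B) ⊗[ResidueField R] (ResidueField R ⊗[R] B)ᵐᵒᵖ :=
  (TensorProduct.AlgebraTensorModule.distribBaseChange R (ResidueField R) A Bᵐᵒᵖ) ≪≫ₗ
    TensorProduct.congr e₀.toLinearEquiv e2

lemma E'_tmul (a : A) (b : Bᵐᵒᵖ) :
    E' e₀ ((1 : ResidueField R) ⊗ₜ[R] (a ⊗ₜ[R] b)) =
      e₀ ((1 : ResidueField R) ⊗ₜ[R] a) ⊗ₜ[ResidueField R]
        MulOpposite.op ((1 : ResidueField R) ⊗ₜ[R] b.unop) := by
  simp [E', e2]

lemma rho_eq (c : A ⊗[R] Bᵐᵒᵖ) :
    rho e₀ c = AlgHom.mulLeftRight (ResidueField R) (ResidueField R ⊗[R] B)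
      (E' e₀ ((1 : ResidueField R) ⊗ₜ[R] c)) := by
  induction c using TensorProduct.induction_on with
  | zero => rw [map_zero, tmul_zero, map_zero, map_zero]
  | add x y hx hy => rw [map_add, tmul_add, map_add, map_add, hx, hy]
  | tmul a b =>
    apply LinearMap.ext
    intro x
    rw [rho_tmul_apply, E'_tmul, AlgHom.mulLeftRight_apply, MulOpposite.unop_op, mul_assoc]

end Rho

end Groth.Agent.H80.AzLift
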