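import Mathlib
import Groth.Agent.H80.AzLift2

/-! Lifting an isomorphism of special fibres of Azumaya algebras over a henselian local ring. -/

set_option autoImplicit false
set_option linter.unusedSectionVars false
universe u

namespace Groth.Agent.H80.AzLift

open IsLocalRing TensorProduct

section Summand

variable (R : Type u) [CommRing R] {C : Type u} [Ring C] [Algebra R C]

/-- the left ideal `C ε` as an `R`-submodule. -/
def Pe (ε : C) : Submodule R C := LinearMap.range (LinearMap.mulRight R ε)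

variable {R}

lemma mul_mem_Pe (ε x : C) : x * ε ∈ Pe R ε := ⟨x, rfl⟩

lemma mem_Pe_iff {ε : C} (hε : IsIdempotentElem ε) {x : C} : x ∈ Pe R ε ↔ x * ε = x := by
  constructor
  · rintro ⟨y, rfl⟩
    rw [LinearMap.mulRight_apply, mul_assoc, hε.eq]
  · intro h
    have h1 := mul_mem_Pe (R := R) ε x
    rwa [h] at h1

instance finite_Pe [Module.Finite R C] (ε : C) : Module.Finite R (Pe R ε) := by
  unfold Pe
  infer_instance

lemma projective_Pe [Module.Projective R C] {ε : C} (hε : IsIdempotentElem ε) :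
    Module.Projective R (Pe R ε) := by
  refine Module.Projective.of_split (Pe R ε).subtype
    ((LinearMap.mulRight R ε).codRestrict (Pe R ε) (fun x => mul_mem_Pe ε x)) ?_
  apply LinearMap.ext
  intro p
  apply Subtype.ext
  change (p : C) * ε = p
  exact (mem_Pe_iff hε).1 p.2

lemma mem_smul_Pe_of_mem_smul_top {ε : C} (hε : IsIdempotentElem ε) (I : Ideal R) {q : C}
    (hq : q ∈ Pe R ε) (h : q ∈ I • (⊤ : Submodule R C)) : q ∈ I • Pe R ε := by
  have h1 : LinearMap.mulRight R ε q ∈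
      Submodule.map (LinearMap.mulRight R ε) (I • (⊤ : Submodule R C)) :=
    Submodule.mem_map_of_mem h
  rw [Submodule.map_smul'', Submodule.map_top, LinearMap.mulRight_apply,
    (mem_Pe_iff hε).1 hq] at h1
  exact h1

lemma mem_smul_top_subtype {M : Type u} [AddCommGroup M] [Module R M] (I : Ideal R)
    (P : Submodule R M) (q : P) (h : (q : M) ∈ I • P) : q ∈ I • (⊤ : Submodule R P) := by
  have h1 : (q : M) ∈ Submodule.map P.subtype (I • (⊤ : Submodule R P)) := by
    rw [Submodule.map_smul'', Submodule.map_subtype_top]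
    exact h
  obtain ⟨q', hq', hqq'⟩ := h1
  have h2 : q' = q := Subtype.ext hqq'
  rw [← h2]
  exact hq'

lemma finite_op (B : Type u) [Ring B] [Algebra R B] [Module.Finite R B] : Module.Finite R Bᵐᵒᵖ :=
  Module.Finite.equiv (MulOpposite.opLinearEquiv R)

lemma projective_op (B : Type u) [Ring B] [Algebra R B] [Module.Projective R B] :
    Module.Projective R Bᵐᵒᵖ :=
  Module.Projective.of_equiv (MulOpposite.opLinearEquiv R)

end Summand

section Nontriv

lemma one_Bk_ne_zero (R : Type u) [CommRing R] [IsLocalRing R] (B : Type u) [Ring B]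
    [Algebra R B] [IsAzumaya R B] : (1 : ResidueField R ⊗[R] B) ≠ 0 := by
  intro h
  have h0 : (1 : ResidueField R) ⊗ₜ[R] (1 : B) = 0 := by
    rw [← Algebra.TensorProduct.one_def]
    exact h
  have h1 : (1 : B) ∈ maximalIdeal R • (⊤ : Submodule R B) := (one_tmul_eq_zero_iff B 1).1 h0
  have h2 : (⊤ : Submodule R B) ≤ maximalIdeal R • (⊤ : Submodule R B) := by
    intro b _
    have hb : LinearMap.mulLeft R b 1 ∈
        Submodule.map (LinearMap.mulLeft R b) (maximalIdeal R • (⊤ : Submodule R B)) :=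
      Submodule.mem_map_of_mem h1
    rw [Submodule.map_smul'', LinearMap.mulLeft_apply, mul_one] at hb
    exact Submodule.smul_mono le_rfl le_top hb
  have hjac : maximalIdeal R ≤ (⊥ : Ideal R).jacobson := by
    rw [IsLocalRing.jacobson_eq_maximalIdeal ⊥ bot_ne_top]
  have h3 := Submodule.eq_bot_of_le_smul_of_le_jacobson_bot (maximalIdeal R) _
    Module.Finite.fg_top h2 hjac
  have h4 : (1 : B) = 0 := by
    have h5 : (1 : B) ∈ (⊤ : Submodule R B) := Submodule.mem_top
    rw [h3] at h5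
    exact (Submodule.mem_bot R).1 h5
  have h5 : (1 : R) = 0 := by
    apply FaithfulSMul.algebraMap_injective R B
    rw [map_one, map_zero, h4]
  exact one_ne_zero h5

end Nontriv

section Main

variable {R : Type u} [CommRing R] [HenselianLocalRing R] {A : Type u} [Ring A] [Algebra R A]
  [IsAzumaya R A] {B : Type u} [Ring B] [Algebra R B] [IsAzumaya R B]
  (e₀ : (ResidueField R ⊗[R] A) ≃ₐ[ResidueField R] (ResidueField R ⊗[R] B))

attribute [local instance] finite_op projective_op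

lemma rho_surj (f : Module.End (ResidueField R) (ResidueField R ⊗[R] B)) :
    ∃ c : A ⊗[R] Bᵐᵒᵖ, rho e₀ c = f := by
  obtain ⟨t, ht⟩ := (mu_bijective R B).2 f
  obtain ⟨s, hs⟩ := (E' e₀).surjective t
  obtain ⟨c, hc⟩ := exists_one_tmul_eq (A ⊗[R] Bᵐᵒᵖ) s
  refine ⟨c, ?_⟩
  rw [rho_eq, ← hc, hs, ht]

lemma rho_ker (c : A ⊗[R] Bᵐᵒᵖ) (h : rho e₀ c = 0) :
    c ∈ maximalIdeal R • (⊤ : Submodule R (A ⊗[R] Bᵐᵒᵖ)) := by
  rw [rho_eq] at h
  have h1 : E' e₀ ((1 : ResidueField R) ⊗ₜ[R] c) = 0 :=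
    (mu_bijective R B).1 (h.trans (map_zero _).symm)
  have h2 : (1 : ResidueField R) ⊗ₜ[R] c = 0 :=
    (E' e₀).injective (h1.trans (map_zero _).symm)
  exact (one_tmul_eq_zero_iff (A ⊗[R] Bᵐᵒᵖ) c).1 h2

/-- evaluation of the representation at `1`. -/
noncomputable def Psi : A ⊗[R] Bᵐᵒᵖ →ₗ[R] ResidueField R ⊗[R] B where
  toFun c := rho e₀ c 1
  map_add' c c' := by rw [map_add, LinearMap.add_apply]
  map_smul' r c := by rw [map_smul, LinearMap.smul_apply, RingHom.id_apply]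

lemma Psi_apply (c : A ⊗[R] Bᵐᵒᵖ) : Psi e₀ c = rho e₀ c 1 := rfl

lemma Psi_tmul (a : A) (b : Bᵐᵒᵖ) :
    Psi e₀ (a ⊗ₜ[R] b) = e₀ ((1 : ResidueField R) ⊗ₜ[R] a) * ((1 : ResidueField R) ⊗ₜ[R] b.unop) := by
  rw [Psi_apply, rho_tmul_apply, one_mul]

/-- a functional `lam` with `lam 1 = 1` together with an idempotent `ε` of `A ⊗ Bᵒᵖ` acting on
`k ⊗ B` as the projector `x ↦ lam x • 1`. -/
structure Ctx where
  lam : (ResidueField R ⊗[R] B) →ₗ[ResidueField R] ResidueField R
  lam_one : lam 1 = 1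
  ε : A ⊗[R] Bᵐᵒᵖ
  idem : IsIdempotentElem ε
  rho_eps : ∀ x : ResidueField R ⊗[R] B, rho e₀ ε x = lam x • (1 : ResidueField R ⊗[R] B)

theorem nonempty_ctx : Nonempty (Ctx e₀) := by
  have h1 : (1 : ResidueField R ⊗[R] B) ≠ 0 := one_Bk_ne_zero R B
  have hker : LinearMap.ker
      (LinearMap.toSpanSingleton (ResidueField R) (ResidueField R ⊗[R] B) 1) = ⊥ := by
    rw [LinearMap.ker_eq_bot']
    intro r hr
    rw [LinearMap.toSpanSingleton_apply] at hr
    rcases smul_eq_zero.1 hr with h | h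
    · exact h
    · exact absurd h h1
  obtain ⟨lam, hlam⟩ := LinearMap.exists_leftInverse_of_injective _ hker
  have hlam1 : lam 1 = 1 := by
    have h2 := congr($hlam 1)
    rw [LinearMap.comp_apply, LinearMap.toSpanSingleton_apply, one_smul,
      LinearMap.id_apply] at h2
    exact h2
  let π : Module.End (ResidueField R) (ResidueField R ⊗[R] B) := lam.smulRight 1
  have hπ : ∀ x, π x = lam x • (1 : ResidueField R ⊗[R] B) := fun x => rfl
  obtain ⟨c₀, hc₀⟩ := rho_surj e₀ π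
  obtain ⟨ε, hε, c', hc'⟩ := exists_idempotent_lift_noncomm R (A ⊗[R] Bᵐᵒᵖ) c₀
  have hππ : π * π = π := by
    apply LinearMap.ext
    intro x
    simp only [Module.End.mul_apply, hπ, map_smul, hlam1, smul_eq_mul, mul_one]
  have hρε : rho e₀ ε = π := by
    have h2 : ε = c₀ + c' * (c₀ * c₀ - c₀) := by
      rw [← hc']
      abel
    rw [h2, map_add, map_mul, map_sub, map_mul, hc₀, hππ, sub_self, mul_zero, add_zero]
  exact ⟨⟨lam, hlam1, ε, hε, fun x => by rw [hρε, hπ]⟩⟩

variable {e₀} (X : Ctx e₀)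

lemma Psi_mul_eps (c : A ⊗[R] Bᵐᵒᵖ) : Psi e₀ (c * X.ε) = Psi e₀ c := by
  rw [Psi_apply, map_mul, Module.End.mul_apply, X.rho_eps, X.lam_one, one_smul]
  rfl

lemma rho_eq_zero_of_Psi (q : A ⊗[R] Bᵐᵒᵖ) (hq : q * X.ε = q) (h : Psi e₀ q = 0) :
    rho e₀ q = 0 := by
  apply LinearMap.ext
  intro x
  have h1 : rho e₀ q 1 = 0 := h
  rw [← hq, map_mul, Module.End.mul_apply, X.rho_eps, map_smul, h1, smul_zero,
    LinearMap.zero_apply]

lemma ker_Psi (q : Pe R X.ε) (h : Psi e₀ (q : A ⊗[R] Bᵐᵒᵖ) = 0) :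
    q ∈ maximalIdeal R • (⊤ : Submodule R (Pe R X.ε)) := by
  have hq : (q : A ⊗[R] Bᵐᵒᵖ) * X.ε = q := (mem_Pe_iff X.idem).1 q.2
  have h1 : rho e₀ (q : A ⊗[R] Bᵐᵒᵖ) = 0 := rho_eq_zero_of_Psi X _ hq h
  have h2 := rho_ker e₀ _ h1
  exact mem_smul_top_subtype _ _ q (mem_smul_Pe_of_mem_smul_top X.idem _ q.2 h2)

/-- `b ↦ (1 ⊗ bᵒᵖ) ε`. -/
noncomputable def theta0 : B →ₗ[R] A ⊗[R] Bᵐᵒᵖ :=
  LinearMap.mulRight R X.ε ∘ₗ TensorProduct.mk R A Bᵐᵒᵖ 1 ∘ₗ
    (MulOpposite.opLinearEquiv R).toLinearMap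

lemma theta0_apply (b : B) : theta0 X b = ((1 : A) ⊗ₜ[R] MulOpposite.op b) * X.ε := rfl

/-- `a ↦ (a ⊗ 1) ε`. -/
noncomputable def alpha0 : A →ₗ[R] A ⊗[R] Bᵐᵒᵖ :=
  LinearMap.mulRight R X.ε ∘ₗ (TensorProduct.mk R A Bᵐᵒᵖ).flip 1

lemma alpha0_apply (a : A) : alpha0 X a = (a ⊗ₜ[R] (1 : Bᵐᵒᵖ)) * X.ε := rfl

lemma Psi_theta0 (b : B) : Psi e₀ (theta0 X b) = (1 : ResidueField R) ⊗ₜ[R] b := by
  rw [theta0_apply, Psi_mul_eps, Psi_tmul, ← Algebra.TensorProduct.one_def, map_one, one_mul,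
    MulOpposite.unop_op]

lemma Psi_alpha0 (a : A) : Psi e₀ (alpha0 X a) = e₀ ((1 : ResidueField R) ⊗ₜ[R] a) := by
  rw [alpha0_apply, Psi_mul_eps, Psi_tmul, MulOpposite.unop_one,
    ← Algebra.TensorProduct.one_def, mul_one]

/-- `theta0` with values in `C ε`. -/
noncomputable def theta : B →ₗ[R] Pe R X.ε :=
  (theta0 X).codRestrict (Pe R X.ε) (fun _ => mul_mem_Pe _ _)

lemma theta_coe (b : B) : (theta X b : A ⊗[R] Bᵐᵒᵖ) = theta0 X b := rfl

theorem theta_bijective : Function.Bijective (theta X) := by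
  haveI : Module.Projective R (Pe R X.ε) := projective_Pe X.idem
  refine bijective_of_mod_max (R := R) (M := B) (N := Pe R X.ε) (theta X) ?_ ?_
  · intro p _
    obtain ⟨b, hb⟩ := exists_one_tmul_eq B (Psi e₀ (p : A ⊗[R] Bᵐᵒᵖ))
    have hq : Psi e₀ ((p - theta X b : Pe R X.ε) : A ⊗[R] Bᵐᵒᵖ) = 0 := by
      rw [Submodule.coe_sub, theta_coe, map_sub, Psi_theta0, hb, sub_self]
    have hq2 : (p - theta X b : Pe R X.ε) ∈ maximalIdeal R • (⊤ : Submodule R (Pe R X.ε)) :=
      ker_Psi X _ hq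
    have h3 : p = theta X b + (p - theta X b) := by abel
    rw [h3]
    exact Submodule.add_mem_sup ⟨b, rfl⟩ hq2
  · intro b hb
    rw [LinearMap.mem_ker] at hb
    have h1 : theta0 X b = 0 := by
      rw [← theta_coe, hb]
      rfl
    have h2 : (1 : ResidueField R) ⊗ₜ[R] b = 0 := by
      rw [← Psi_theta0 X b, h1, map_zero]
    exact (one_tmul_eq_zero_iff B b).1 h2

/-- `B ≃ C ε`. -/
noncomputable def thetaE : B ≃ₗ[R] Pe R X.ε := LinearEquiv.ofBijective (theta X) (theta_bijective X)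

/-- `alpha0` with values in `C ε`. -/
noncomputable def alpha : A →ₗ[R] Pe R X.ε :=
  (alpha0 X).codRestrict (Pe R X.ε) (fun _ => mul_mem_Pe _ _)

/-- the lift, as a linear map. -/
noncomputable def betaLin : A →ₗ[R] B := (thetaE X).symm.toLinearMap ∘ₗ alpha X

lemma theta0_beta (a : A) : theta0 X (betaLin X a) = alpha0 X a := by
  have h : theta X (betaLin X a) = alpha X a := (thetaE X).apply_symm_apply (alpha X a)
  exact congrArg Subtype.val h

lemma theta0_injective : Function.Injective (theta0 X) := by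
  intro b b' h
  apply (theta_bijective X).1
  apply Subtype.ext
  exact h

lemma key (a : A) (b : B) :
    (a ⊗ₜ[R] (1 : Bᵐᵒᵖ)) * theta0 X b = theta0 X (betaLin X a * b) := by
  have h1 : theta0 X (betaLin X a * b) =
      ((1 : A) ⊗ₜ[R] MulOpposite.op b) * theta0 X (betaLin X a) := by
    rw [theta0_apply, theta0_apply, MulOpposite.op_mul, ← mul_assoc,
      Algebra.TensorProduct.tmul_mul_tmul, one_mul]
  rw [h1, theta0_beta, alpha0_apply, theta0_apply, ← mul_assoc, ← mul_assoc]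
  simp only [Algebra.TensorProduct.tmul_mul_tmul, mul_one, one_mul]

lemma beta_one : betaLin X 1 = 1 := by
  apply theta0_injective X
  rw [theta0_beta, alpha0_apply, theta0_apply, MulOpposite.op_one]

lemma beta_mul (a a' : A) : betaLin X (a * a') = betaLin X a * betaLin X a' := by
  apply theta0_injective X
  rw [← key, theta0_beta, theta0_beta, alpha0_apply, alpha0_apply, ← mul_assoc,
    Algebra.TensorProduct.tmul_mul_tmul, mul_one]

lemma one_tmul_beta (a : A) :
    (1 : ResidueField R) ⊗ₜ[R] betaLin X a = e₀ ((1 : ResidueField R) ⊗ₜ[R] a) := by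
  rw [← Psi_theta0 X, theta0_beta, Psi_alpha0]

theorem beta_bijective : Function.Bijective (betaLin X) := by
  refine bijective_of_mod_max (betaLin X) ?_ ?_
  · intro b _
    obtain ⟨a, ha⟩ := exists_one_tmul_eq A (e₀.symm ((1 : ResidueField R) ⊗ₜ[R] b))
    have h1 : (1 : ResidueField R) ⊗ₜ[R] (b - betaLin X a) = 0 := by
      rw [tmul_sub, one_tmul_beta, ← ha, AlgEquiv.apply_symm_apply, sub_self]
    have h2 := (one_tmul_eq_zero_iff B _).1 h1
    have h3 : b = betaLin X a + (b - betaLin X a) := by abel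
    rw [h3]
    exact Submodule.add_mem_sup ⟨a, rfl⟩ h2
  · intro a ha
    rw [LinearMap.mem_ker] at ha
    have h1 : e₀ ((1 : ResidueField R) ⊗ₜ[R] a) = 0 := by
      rw [← one_tmul_beta X, ha, tmul_zero]
    have h2 : (1 : ResidueField R) ⊗ₜ[R] a = 0 := by
      apply e₀.injective
      rw [h1, map_zero]
    exact (one_tmul_eq_zero_iff A a).1 h2

end Main

/-- Over a henselian local ring, an isomorphism of the special fibres of two Azumaya algebras
lifts to an isomorphism of the algebras. -/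
theorem exists_lift (R : Type u) [CommRing R] [HenselianLocalRing R] (A : Type u) [Ring A]
    [Algebra R A] [IsAzumaya R A] (B : Type u) [Ring B] [Algebra R B] [IsAzumaya R B]
    (e₀ : (ResidueField R ⊗[R] A) ≃ₐ[ResidueField R] (ResidueField R ⊗[R] B)) :
    ∃ e : A ≃ₐ[R] B, ∀ a : A, e₀ ((1 : ResidueField R) ⊗ₜ[R] a) =
      (1 : ResidueField R) ⊗ₜ[R] (e a) := by
  obtain ⟨X⟩ := nonempty_ctx e₀
  refine ⟨AlgEquiv.ofBijective (AlgHom.ofLinearMap (betaLin X) (beta_one X) (beta_mul X))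
    (beta_bijective X), fun a => ?_⟩
  exact (one_tmul_beta X a).symm

end Groth.Agent.H80.AzLift
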