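import Groth.Prelude.Def_W4c3ghconstell
import Groth.Agent.H41.Subcoalg
import Mathlib

/-!
# Comodules over a field: contraction criteria, the action of the dual, isotypic components (helper80)
-/

set_option autoImplicit false
universe u v w x

namespace Groth.Agent.H80.Comod

open TensorProduct HopfRep

section Criterion

variable {k : Type u} [Field k] {A : Type v} [AddCommGroup A] [Module k A]
variable {V : Type w} [AddCommGroup V] [Module k V]

/-- right contraction `V ⊗ A → V` by a functional on `A` -/
noncomputable def contrR (g : A →ₗ[k] k) : V ⊗[k] A →ₗ[k] V :=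
  (TensorProduct.rid k V).toLinearMap ∘ₗ g.lTensor V

@[simp] theorem contrR_tmul (g : A →ₗ[k] k) (v : V) (a : A) :
    contrR g (v ⊗ₜ[k] a) = g a • v := by
  simp [contrR]

/-- left contraction `V ⊗ A → A` by a functional on `V` -/
noncomputable def contrL (ψ : V →ₗ[k] k) : V ⊗[k] A →ₗ[k] A :=
  (TensorProduct.lid k A).toLinearMap ∘ₗ ψ.rTensor A

@[simp] theorem contrL_tmul (ψ : V →ₗ[k] k) (v : V) (a : A) :
    contrL ψ (v ⊗ₜ[k] a) = ψ v • a := by
  simp [contrL]

theorem mem_range_rTensor_of_contrR (W : Submodule k V) (u : V ⊗[k] A)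
    (h : ∀ g : A →ₗ[k] k, contrR g u ∈ W) : u ∈ LinearMap.range (W.subtype.rTensor A) := by
  rw [← rTensor_mkQ, LinearMap.mem_ker]
  apply Groth.Agent.H41.eq_zero_of_forall_lTensor
  intro g
  have hcomm : (TensorProduct.rid k (V ⧸ W)).toLinearMap ∘ₗ g.lTensor (V ⧸ W) ∘ₗ W.mkQ.rTensor A =
      W.mkQ ∘ₗ contrR g := by
    ext x y
    simp
  have := LinearMap.congr_fun hcomm u
  simp only [LinearMap.coe_comp, Function.comp_apply, LinearEquiv.coe_coe] at this
  rw [this]
  simpa using h g

theorem contrR_mem_of_mem_range_rTensor (W : Submodule k V) (u : V ⊗[k] A)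
    (hu : u ∈ LinearMap.range (W.subtype.rTensor A)) (g : A →ₗ[k] k) : contrR g u ∈ W := by
  obtain ⟨z, rfl⟩ := hu
  induction z using TensorProduct.induction_on with
  | zero => simp
  | tmul w a =>
    rw [LinearMap.rTensor_tmul, contrR_tmul]
    exact W.smul_mem _ w.2
  | add x y hx hy =>
    rw [map_add, map_add]
    exact W.add_mem hx hy

theorem mem_range_lTensor_of_contrL (D : Submodule k A) (u : V ⊗[k] A)
    (h : ∀ ψ : V →ₗ[k] k, contrL ψ u ∈ D) : u ∈ LinearMap.range (D.subtype.lTensor V) := by
  rw [← lTensor_mkQ, LinearMap.mem_ker]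
  apply Groth.Agent.H41.eq_zero_of_forall_rTensor
  intro ψ
  have hcomm : (TensorProduct.lid k (A ⧸ D)).toLinearMap ∘ₗ ψ.rTensor (A ⧸ D) ∘ₗ D.mkQ.lTensor V =
      D.mkQ ∘ₗ contrL ψ := by
    ext x y
    simp
  have := LinearMap.congr_fun hcomm u
  simp only [LinearMap.coe_comp, Function.comp_apply, LinearEquiv.coe_coe] at this
  rw [this]
  simpa using h ψ

theorem contrL_mem_of_mem_range_lTensor (D : Submodule k A) (u : V ⊗[k] A)
    (hu : u ∈ LinearMap.range (D.subtype.lTensor V)) (ψ : V →ₗ[k] k) : contrL ψ u ∈ D := by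
  obtain ⟨z, rfl⟩ := hu
  induction z using TensorProduct.induction_on with
  | zero => simp
  | tmul v d =>
    rw [LinearMap.lTensor_tmul, contrL_tmul]
    exact D.smul_mem _ d.2
  | add x y hx hy =>
    rw [map_add, map_add]
    exact D.add_mem hx hy

end Criterion

section Action

variable {k : Type u} [Field k] {A : Type v} [AddCommGroup A] [Module k A] [Coalgebra k A]
variable {M : Type w} [AddCommGroup M] [Module k M] [Comod k A M]

local notation "ρ" => (Comod.coact (k := k) (A := A) (V := M))

/-- the action of a functional `g ∈ A*` on a comodule: `m ↦ Σ g(m₁) m₀` -/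
noncomputable def act (g : A →ₗ[k] k) : M →ₗ[k] M := contrR g ∘ₗ ρ

theorem act_apply (g : A →ₗ[k] k) (m : M) : act (A := A) g m = contrR g (ρ m) := rfl

theorem act_counit (m : M) : act (CoalgebraStruct.counit (R := k) (A := A)) m = m := by
  have h := LinearMap.congr_fun (Comod.counit_comp (k := k) (A := A) (V := M)) m
  simp only [LinearMap.coe_comp, Function.comp_apply, LinearMap.flip_apply, TensorProduct.mk_apply] at h
  rw [act_apply, contrR, LinearMap.comp_apply, h]
  simp

theorem isSubcomod_iff (W : Submodule k M) :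
    IsSubcomod (k := k) (A := A) W ↔ ∀ (g : A →ₗ[k] k), ∀ w ∈ W, act g w ∈ W := by
  constructor
  · intro h g w hw
    exact contrR_mem_of_mem_range_rTensor W _ (h w hw) g
  · intro h w hw
    exact mem_range_rTensor_of_contrR W _ (fun g => h g w hw)

theorem coact_act (g : A →ₗ[k] k) (m : M) :
    ρ (act g m) = (Groth.Agent.H41.Rg g).lTensor M (ρ m) := by
  let Φ : (M ⊗[k] A) ⊗[k] A →ₗ[k] M ⊗[k] A := contrR g
  have h1 : ρ ∘ₗ contrR g = Φ ∘ₗ (ρ).rTensor A := by
    apply TensorProduct.ext'
    intro m' a
    simp [Φ]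
  have h2 : Φ ∘ₗ (TensorProduct.assoc k M A A).symm.toLinearMap =
      ((TensorProduct.rid k A).toLinearMap ∘ₗ g.lTensor A).lTensor M := by
    apply TensorProduct.ext'
    intro m' t
    induction t using TensorProduct.induction_on with
    | zero => simp
    | tmul a b => simp [Φ, TensorProduct.smul_tmul']
    | add x y hx hy => simp only [TensorProduct.tmul_add, map_add, hx, hy]
  have hco := LinearMap.congr_fun (Comod.coassoc (k := k) (A := A) (V := M)) m
  simp only [LinearMap.coe_comp, Function.comp_apply, LinearEquiv.coe_coe] at hco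
  have e1 : ρ (act g m) = Φ ((ρ).rTensor A (ρ m)) := LinearMap.congr_fun h1 (ρ m)
  have e2 : (ρ).rTensor A (ρ m) = (TensorProduct.assoc k M A A).symm
      ((CoalgebraStruct.comul (R := k) (A := A)).lTensor M (ρ m)) := by
    rw [← hco, LinearEquiv.symm_apply_apply]
  rw [e1, e2]
  have e3 := LinearMap.congr_fun h2 ((CoalgebraStruct.comul (R := k) (A := A)).lTensor M (ρ m))
  simp only [LinearMap.coe_comp, Function.comp_apply, LinearEquiv.coe_coe] at e3
  rw [e3, ← LinearMap.comp_apply, ← LinearMap.lTensor_comp]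
  rfl

end Action

section Iso

variable {k : Type u} [Field k] {A : Type v} [AddCommGroup A] [Module k A] [Coalgebra k A]
variable {M : Type w} [AddCommGroup M] [Module k M] [Comod k A M]

local notation "ρ" => (Comod.coact (k := k) (A := A) (V := M))

open W4c3ghconstell

theorem Rg_mem_of_isSubcoalg {D : Submodule k A} (hD : IsSubcoalg k A D) (g : A →ₗ[k] k)
    {d : A} (hd : d ∈ D) : Groth.Agent.H41.Rg g d ∈ D := by
  obtain ⟨t, ht⟩ := hD d hd
  change (TensorProduct.rid k A) (g.lTensor A (CoalgebraStruct.comul (R := k) d)) ∈ D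
  rw [← ht]
  clear ht
  induction t using TensorProduct.induction_on with
  | zero => simp
  | tmul x y =>
    simp only [TensorProduct.map_tmul, Submodule.subtype_apply, LinearMap.lTensor_tmul,
      TensorProduct.rid_tmul]
    exact D.smul_mem _ x.2
  | add x y hx hy =>
    simp only [map_add]
    exact D.add_mem hx hy

theorem mem_isoComp_iff (D : Submodule k A) (m : M) :
    m ∈ isoComp M D ↔ ρ m ∈ LinearMap.range (D.subtype.lTensor M) := Iff.rfl

theorem act_mem_isoComp {D : Submodule k A} (hD : IsSubcoalg k A D) (g : A →ₗ[k] k) {m : M}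
    (hm : m ∈ isoComp M D) : act g m ∈ isoComp M D := by
  rw [mem_isoComp_iff] at hm ⊢
  rw [coact_act]
  obtain ⟨z, hz⟩ := hm
  rw [← hz]
  let r : D →ₗ[k] D := (Groth.Agent.H41.Rg g).restrict (fun d hd => Rg_mem_of_isSubcoalg hD g hd)
  have hr : (Groth.Agent.H41.Rg g) ∘ₗ D.subtype = D.subtype ∘ₗ r := by
    ext d
    rfl
  refine ⟨r.lTensor M z, ?_⟩
  rw [← LinearMap.comp_apply, ← LinearMap.lTensor_comp, ← hr, LinearMap.lTensor_comp]
  rfl

theorem isSubcomod_isoComp {D : Submodule k A} (hD : IsSubcoalg k A D) :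
    IsSubcomod (k := k) (A := A) (isoComp M D) :=
  (isSubcomod_iff _).mpr fun g _ hm => act_mem_isoComp hD g hm

theorem isSubcomod_inf {W₁ W₂ : Submodule k M} (h₁ : IsSubcomod (k := k) (A := A) W₁)
    (h₂ : IsSubcomod (k := k) (A := A) W₂) : IsSubcomod (k := k) (A := A) (W₁ ⊓ W₂) := by
  rw [isSubcomod_iff] at h₁ h₂ ⊢
  intro g w hw
  exact ⟨h₁ g w hw.1, h₂ g w hw.2⟩

/-- a functional vanishing on `D` kills the `D`-isotypic component -/
theorem act_eq_zero_of_mem_isoComp {D : Submodule k A} (g : A →ₗ[k] k) (hg : ∀ d ∈ D, g d = 0)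
    {m : M} (hm : m ∈ isoComp M D) : act g m = 0 := by
  rw [mem_isoComp_iff] at hm
  obtain ⟨z, hz⟩ := hm
  rw [act_apply, ← hz]
  clear hz
  induction z using TensorProduct.induction_on with
  | zero => simp
  | tmul x d =>
    rw [LinearMap.lTensor_tmul, contrR_tmul, Submodule.subtype_apply, hg d d.2, zero_smul]
  | add x y hx hy => rw [map_add, map_add, hx, hy, add_zero]

/-- functionals agreeing on `D` act in the same way on the `D`-isotypic component -/
theorem act_congr_of_mem_isoComp {D : Submodule k A} (g g' : A →ₗ[k] k) (hg : ∀ d ∈ D, g d = g' d)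
    {m : M} (hm : m ∈ isoComp M D) : act g m = act g' m := by
  have h := act_eq_zero_of_mem_isoComp (g - g') (fun d hd => by
    rw [LinearMap.sub_apply, hg d hd, sub_self]) hm
  have h2 : act (g - g') m = act g m - act g' m := by
    simp only [act_apply, contrR, LinearMap.comp_apply, LinearMap.lTensor_sub, LinearMap.sub_apply,
      map_sub]
  rw [h2, sub_eq_zero] at h
  exact h

end Iso

section HopfMod

variable {k : Type u} [Field k] {A : Type v} [CommRing A] [Bialgebra k A]
variable {R : Type w} [CommRing R] [Algebra k R] [Comod k A R]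
variable {M : Type x} [AddCommGroup M] [Module k M] [Module R M] [IsScalarTower k R M]
  [Comod k A M] [TameAct.IsHopfMod k A R M]

theorem hmSMul_mem_range (P : Submodule R M) (t : R ⊗[k] A) (y : M ⊗[k] A)
    (hy : y ∈ LinearMap.range ((P.restrictScalars k).subtype.rTensor A)) :
    TameAct.hmSMul k A R M t y ∈ LinearMap.range ((P.restrictScalars k).subtype.rTensor A) := by
  obtain ⟨z, rfl⟩ := hy
  induction t using TensorProduct.induction_on with
  | zero => simp
  | add t t' ht ht' =>
    rw [map_add, LinearMap.add_apply]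
    exact Submodule.add_mem _ ht ht'
  | tmul r a =>
    induction z using TensorProduct.induction_on with
    | zero => simp
    | add z z' hz hz' =>
      rw [map_add, map_add]
      exact Submodule.add_mem _ hz hz'
    | tmul w a' =>
      rw [LinearMap.rTensor_tmul, Submodule.subtype_apply, TameAct.hmSMul_tmul]
      exact ⟨(⟨r • (w : M), P.smul_mem r w.2⟩ : P.restrictScalars k) ⊗ₜ[k] (a * a'), rfl⟩

/-- The `R`-span of a set whose elements have coaction in `P ⊗ A` (with `P` the span) is a
subcomodule. -/
theorem isSubcomod_span (S : Set M)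
    (hS : ∀ m ∈ S, Comod.coact (k := k) (A := A) m ∈
      LinearMap.range (((Submodule.span R S).restrictScalars k).subtype.rTensor A)) :
    IsSubcomod (k := k) (A := A) ((Submodule.span R S).restrictScalars k) := by
  intro w hw
  rw [Submodule.restrictScalars_mem] at hw
  induction hw using Submodule.span_induction with
  | mem m hm => exact hS m hm
  | zero => rw [map_zero]; exact Submodule.zero_mem _
  | add a b _ _ ha hb => rw [map_add]; exact Submodule.add_mem _ ha hb
  | smul r a _ ha =>
    rw [TameAct.IsHopfMod.coact_smul]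
    exact hmSMul_mem_range _ _ _ ha

end HopfMod

section Constell

open W4c3ghconstell

variable {k : Type u} [Field k] {A : Type v} [CommRing A] [Bialgebra k A]
variable {R : Type w} [CommRing R] [Algebra k R]
variable {M : Type x} [AddCommGroup M] [Module k M] [Module R M] [IsScalarTower k R M]
  [Comod k A M]

theorem genIn_le (S : Set (SimpSub k A)) (N : Submodule R M) : genIn k A R M S N ≤ N := by
  unfold genIn
  rw [Submodule.span_le]
  intro m hm
  simp only [Set.mem_iUnion] at hm
  obtain ⟨D, _, hmD⟩ := hm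
  exact hmD.1

theorem inf_isoComp_le_genIn {S : Set (SimpSub k A)} (N : Submodule R M) {D : SimpSub k A}
    (hD : D ∈ S) :
    N.restrictScalars k ⊓ isoComp M D.1 ≤ (genIn k A R M S N).restrictScalars k := by
  intro m hm
  rw [Submodule.restrictScalars_mem]
  apply Submodule.subset_span
  simp only [Set.mem_iUnion]
  exact ⟨D, hD, hm⟩

theorem genIn_inf_isoComp {S : Set (SimpSub k A)} (N : Submodule R M) {D : SimpSub k A}
    (hD : D ∈ S) :
    (genIn k A R M S N).restrictScalars k ⊓ isoComp M D.1 = N.restrictScalars k ⊓ isoComp M D.1 := by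
  apply le_antisymm
  · exact inf_le_inf_right _ (fun m hm => genIn_le S N hm)
  · exact le_inf (inf_isoComp_le_genIn N hD) inf_le_right

theorem range_rTensor_mono {W W' : Submodule k M} (h : W ≤ W') :
    LinearMap.range (W.subtype.rTensor A) ≤ LinearMap.range (W'.subtype.rTensor A) := by
  intro u hu
  apply mem_range_rTensor_of_contrR
  intro g
  exact h (contrR_mem_of_mem_range_rTensor W u hu g)

variable [Comod k A R] [TameAct.IsHopfMod k A R M]

theorem isSubcomod_genIn (S : Set (SimpSub k A)) (N : Submodule R M)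
    (hN : IsSubcomod (k := k) (A := A) (N.restrictScalars k)) :
    IsSubcomod (k := k) (A := A) ((genIn k A R M S N).restrictScalars k) := by
  unfold genIn
  apply isSubcomod_span
  intro m hm
  simp only [Set.mem_iUnion] at hm
  obtain ⟨D, hD, hmD⟩ := hm
  have hsub : IsSubcomod (k := k) (A := A) (N.restrictScalars k ⊓ isoComp M D.1) :=
    isSubcomod_inf hN (isSubcomod_isoComp D.2.2.1)
  exact range_rTensor_mono (inf_isoComp_le_genIn (S := S) N hD) (hsub m hmD)

end Constell

section Theta

open W4c3ghconstell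

variable {k : Type u} [Field k] {A : Type v} [AddCommGroup A] [Module k A] [Coalgebra k A]
variable {M : Type x} [AddCommGroup M] [Module k M] [Comod k A M]

theorem hilbAt_mono {N N' : Submodule k M} (hNN' : N ≤ N') (D : SimpSub k A)
    [Module.Finite k ↥(isoComp M D.1)] : hilbAt M N D ≤ hilbAt M N' D := by
  unfold hilbAt
  exact Submodule.finrank_mono (inf_le_inf_right _ hNN')

theorem hilbAt_top (D : SimpSub k A) : hilbAt M ⊤ D = Module.finrank k ↥(isoComp M D.1) := by
  unfold hilbAt
  rw [top_inf_eq]

theorem hilbAt_bot (D : SimpSub k A) : hilbAt M ⊥ D = 0 := by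
  unfold hilbAt
  rw [bot_inf_eq]
  exact finrank_bot k M

theorem hilbAt_le_top (N : Submodule k M) (D : SimpSub k A) [Module.Finite k ↥(isoComp M D.1)] :
    hilbAt M N D ≤ Module.finrank k ↥(isoComp M D.1) := by
  rw [← hilbAt_top]
  exact hilbAt_mono le_top D

theorem hilbAt_eq_of_le {N : Submodule k M} (D : SimpSub k A) (h : isoComp M D.1 ≤ N) :
    hilbAt M N D = Module.finrank k ↥(isoComp M D.1) := by
  unfold hilbAt
  rw [inf_eq_right.mpr h]

theorem le_of_hilbAt_eq {N : Submodule k M} (D : SimpSub k A) [Module.Finite k ↥(isoComp M D.1)]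
    (h : hilbAt M N D = Module.finrank k ↥(isoComp M D.1)) : isoComp M D.1 ≤ N := by
  unfold hilbAt at h
  have := Submodule.eq_of_le_of_finrank_eq (inf_le_right : N ⊓ isoComp M D.1 ≤ isoComp M D.1) h
  rw [← this]
  exact inf_le_left

theorem hilbAt_congr {N N' : Submodule k M} (D : SimpSub k A)
    (h : N ⊓ isoComp M D.1 = N' ⊓ isoComp M D.1) : hilbAt M N D = hilbAt M N' D := by
  unfold hilbAt
  rw [h]

variable (hfin : ∀ D : SimpSub k A, Module.Finite k ↥(isoComp M D.1))
  (h : SimpSub k A → ℕ) (hh : ∀ D : SimpSub k A, Module.finrank k ↥(isoComp M D.1) = h D)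
  (θ : SimpSub k A → ℚ) (hsum : Summable (fun D => (θ D : ℝ) * (h D : ℝ)))

include hfin hh hsum in
theorem summable_theta (N : Submodule k M) :
    Summable (fun D => (θ D : ℝ) * (hilbAt M N D : ℝ)) := by
  refine Summable.of_norm_bounded (g := fun D => |(θ D : ℝ) * (h D : ℝ)|) hsum.abs ?_
  intro D
  have := hfin D
  rw [Real.norm_eq_abs, abs_mul, abs_mul]
  apply mul_le_mul_of_nonneg_left _ (abs_nonneg _)
  rw [abs_of_nonneg (Nat.cast_nonneg _), abs_of_nonneg (Nat.cast_nonneg _)]
  exact_mod_cast (hh D) ▸ hilbAt_le_top N D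

include hh in
theorem theta_top_eq : theta M θ ⊤ = ∑' D, (θ D : ℝ) * (h D : ℝ) := by
  unfold theta
  congr 1
  funext D
  rw [hilbAt_top, hh]

include hfin hh hsum in
theorem theta_le_theta {N N' : Submodule k M}
    (hle : ∀ D, (θ D : ℝ) * (hilbAt M N D : ℝ) ≤ (θ D : ℝ) * (hilbAt M N' D : ℝ)) :
    theta M θ N ≤ theta M θ N' := by
  unfold theta
  exact Summable.tsum_le_tsum hle (summable_theta hfin h hh θ hsum N)
    (summable_theta hfin h hh θ hsum N')

theorem theta_bot : theta M θ (⊥ : Submodule k M) = 0 := by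
  unfold theta
  simp [hilbAt_bot]

end Theta

section Aux

open W4c3ghconstell

variable {k : Type u} [Field k] {A : Type v} [CommRing A] [Bialgebra k A]
variable {R : Type w} [CommRing R] [Algebra k R]
variable {M : Type x} [AddCommGroup M] [Module k M] [Module R M] [IsScalarTower k R M]
  [Comod k A M]

theorem isSubcomod_top :
    IsSubcomod (k := k) (A := A) ((⊤ : Submodule R M).restrictScalars k) := by
  rw [isSubcomod_iff]
  intro g w _
  rw [Submodule.restrictScalars_mem]
  exact Submodule.mem_top

/-- if `Σ θ h = 0` and some term is nonzero, some term is negative -/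
theorem exists_neg_of_hasSum_zero {ι : Type*} (θ : ι → ℚ) (h : ι → ℕ)
    (hsum : HasSum (fun D => (θ D : ℝ) * (h D : ℝ)) 0) (hne : ∃ D, θ D ≠ 0 ∧ h D ≠ 0) :
    ∃ D, θ D < 0 ∧ h D ≠ 0 := by
  by_contra hcon
  push Not at hcon
  have hnonneg : ∀ D, 0 ≤ (θ D : ℝ) * (h D : ℝ) := by
    intro D
    by_cases hD : θ D < 0
    · rw [hcon D hD]; simp
    · push Not at hD
      exact mul_nonneg (by exact_mod_cast hD) (Nat.cast_nonneg _)
  have hzero := (hasSum_zero_iff_of_nonneg hnonneg).mp hsum
  obtain ⟨D, hθ, hh⟩ := hne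
  have := congrFun hzero D
  simp only [Pi.zero_apply, mul_eq_zero, Rat.cast_eq_zero, Nat.cast_eq_zero] at this
  tauto

end Aux

section Aux2

open W4c3ghconstell

variable {k : Type u} [Field k] {A : Type v} [CommRing A] [Bialgebra k A]
variable {R : Type w} [CommRing R] [Algebra k R]
variable {M : Type x} [AddCommGroup M] [Module k M] [Module R M] [IsScalarTower k R M]
  [Comod k A M]

theorem genIn_genIn (S : Set (SimpSub k A)) (N : Submodule R M) :
    genIn k A R M S (genIn k A R M S N) = genIn k A R M S N := by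
  conv_rhs => unfold genIn
  conv_lhs => unfold genIn
  congr 1
  apply Set.iUnion_congr
  intro D
  apply Set.iUnion_congr
  intro hD
  have := genIn_inf_isoComp (S := S) N hD
  unfold genIn at this
  rw [this]

variable (hfin : ∀ D : SimpSub k A, Module.Finite k ↥(isoComp M D.1))
  (h : SimpSub k A → ℕ) (hh : ∀ D : SimpSub k A, Module.finrank k ↥(isoComp M D.1) = h D)
  (θ : SimpSub k A → ℚ) (hsum : Summable (fun D => (θ D : ℝ) * (h D : ℝ)))

include hfin hh hsum in
/-- passing to the part generated in negative degrees does not increase the weight -/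
theorem theta_genIn_le (N : Submodule R M) :
    theta M θ ((genIn k A R M {D | θ D < 0} N).restrictScalars k) ≤
      theta M θ (N.restrictScalars k) := by
  apply theta_le_theta hfin h hh θ hsum
  intro D
  by_cases hD : θ D < 0
  · have : hilbAt M ((genIn k A R M {D | θ D < 0} N).restrictScalars k) D =
        hilbAt M (N.restrictScalars k) D := by
      apply hilbAt_congr
      exact genIn_inf_isoComp N (show D ∈ {D | θ D < 0} from hD)
    rw [this]
  · push Not at hD
    have := hfin D
    apply mul_le_mul_of_nonneg_left _ (by exact_mod_cast hD)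
    have hle : (genIn k A R M {D | θ D < 0} N).restrictScalars k ≤ N.restrictScalars k :=
      fun m hm => genIn_le _ N hm
    exact_mod_cast hilbAt_mono hle D

end Aux2

end Groth.Agent.H80.Comod
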