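import Mathlib.RingTheory.AdicCompletion.Noetherian
import Mathlib.RingTheory.Henselian
import Mathlib.RingTheory.DedekindDomain.Ideal.Lemmas
import Mathlib.RingTheory.DiscreteValuationRing.Basic
import Mathlib.LinearAlgebra.FreeModule.PID
import Mathlib.RingTheory.Ideal.GoingUp

/-!
# Finite extensions of complete discrete valuation rings
-/

namespace Groth.Agent.H80

open IsLocalRing

/-- A module with a finite basis over a precomplete ring is precomplete. -/
theorem isPrecomplete_of_basis {R M ι : Type*} [CommRing R] [AddCommGroup M] [Module R M]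
    [Fintype ι] (I : Ideal R) [hR : IsPrecomplete I R] (b : Module.Basis ι R M) :
    IsPrecomplete I M := by
  classical
  refine ⟨fun {f} hf => ?_⟩
  have hcoord : ∀ (J : Ideal R) (x : M), x ∈ (J • ⊤ : Submodule R M) → ∀ j, b.repr x j ∈ J := by
    intro J x hx j
    refine Submodule.smul_induction_on hx ?_ ?_
    · intro r hr y _
      rw [map_smul, Finsupp.smul_apply, smul_eq_mul]
      exact J.mul_mem_right _ hr
    · intro x y hx hy
      rw [map_add, Finsupp.add_apply]
      exact J.add_mem hx hy
  have hconv : ∀ (J : Ideal R) (x : M), (∀ j, b.repr x j ∈ J) → x ∈ (J • ⊤ : Submodule R M) := by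
    intro J x hx
    rw [← b.sum_repr x]
    exact Submodule.sum_mem _ fun j _ => Submodule.smul_mem_smul (hx j) trivial
  have hC : ∀ j, ∃ L : R, ∀ n, b.repr (f n) j ≡ L [SMOD (I ^ n • ⊤ : Submodule R R)] := by
    intro j
    apply hR.prec
    intro m n hmn
    have h1 := hf hmn
    rw [SModEq.sub_mem] at h1 ⊢
    have h2 := hcoord (I ^ m) _ h1 j
    rw [map_sub, Finsupp.sub_apply] at h2
    rw [smul_eq_mul, Ideal.mul_top]
    exact h2
  choose L hL using hC
  refine ⟨∑ j, L j • b j, fun n => ?_⟩
  rw [SModEq.sub_mem]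
  apply hconv
  intro j
  have h1 := hL j n
  rw [SModEq.sub_mem, smul_eq_mul, Ideal.mul_top] at h1
  rw [map_sub, Finsupp.sub_apply, b.repr_sum_self]
  exact h1

variable {A B : Type*} [CommRing A] [IsDomain A] [IsDiscreteValuationRing A]
  [IsAdicComplete (maximalIdeal A) A]
  [CommRing B] [IsDomain B] [Algebra A B] [Module.Finite A B] [Module.IsTorsionFree A B]

omit [IsDomain B] in
/-- A finite torsion-free algebra over a complete DVR is complete for the extended ideal. -/
theorem isAdicComplete_map_maximalIdeal :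
    IsAdicComplete ((maximalIdeal A).map (algebraMap A B)) B := by
  rw [IsAdicComplete.map_algebraMap_iff]
  have hfree : Module.Free A B := Module.free_of_finite_type_torsion_free'
  have hpre : IsPrecomplete (maximalIdeal A) B :=
    isPrecomplete_of_basis (maximalIdeal A) (Module.Free.chooseBasis A B)
  have hhaus : IsHausdorff (maximalIdeal A) B := inferInstance
  exact { toIsHausdorff := hhaus, toIsPrecomplete := hpre }

end Groth.Agent.H80

namespace Groth.Agent.H80

open IsLocalRing

open Polynomial in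
/-- A Dedekind domain finite and torsion-free over a complete DVR has only one maximal ideal. -/
theorem eq_of_isMaximal_of_complete (A : Type*) {B : Type*} [CommRing A] [IsDomain A]
    [IsDiscreteValuationRing A] [IsAdicComplete (maximalIdeal A) A]
    [CommRing B] [IsDedekindDomain B] [Algebra A B] [Module.Finite A B] [Module.IsTorsionFree A B]
    (M1 M2 : Ideal B) [hM1 : M1.IsMaximal] [hM2 : M2.IsMaximal] :
    M1 = M2 := by
  classical
  by_contra hne
  have hint : Algebra.IsIntegral A B := Algebra.IsIntegral.of_finite A B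
  have hinj : Function.Injective (algebraMap A B) := FaithfulSMul.algebraMap_injective A B
  have hle : ∀ (M : Ideal B), M.IsMaximal → (maximalIdeal A).map (algebraMap A B) ≤ M := by
    intro M hM
    rw [Ideal.map_le_iff_le_comap]
    have : (M.comap (algebraMap A B)).IsMaximal :=
      Ideal.isMaximal_comap_of_isIntegral_of_isMaximal M
    exact (IsLocalRing.eq_maximalIdeal this).ge
  have hI0 : (maximalIdeal A).map (algebraMap A B) ≠ ⊥ := by
    rw [Ne, Ideal.map_eq_bot_iff_of_injective hinj]
    exact IsDiscreteValuationRing.not_a_field A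
  obtain ⟨Q, hPQ, hIQ⟩ := Ideal.eq_prime_pow_mul_coprime hI0 M1
  generalize Multiset.count M1
    (UniqueFactorizationMonoid.normalizedFactors ((maximalIdeal A).map (algebraMap A B))) = k
    at hIQ
  have hcop : M1 ^ k ⊔ Q = ⊤ := Ideal.pow_sup_eq_top hPQ
  have hQ2 : Q ≤ M2 := by
    have h1 : M1 ^ k * Q ≤ M2 := hIQ ▸ hle M2 hM2
    rcases (Ideal.IsPrime.mul_le hM2.isPrime).1 h1 with h | h
    · exfalso
      have h2 : M1 ≤ M2 := Ideal.IsPrime.le_of_pow_le h
      exact hne (hM1.eq_of_le hM2.ne_top h2)
    · exact h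
  obtain ⟨u, hu, v, hv, huv⟩ := Submodule.mem_sup.1
    (hcop ▸ (Submodule.mem_top : (1 : B) ∈ (⊤ : Ideal B)))
  have hcomp := isAdicComplete_map_maximalIdeal (A := A) (B := B)
  have hHens : HenselianRing B ((maximalIdeal A).map (algebraMap A B)) := inferInstance
  have hfm : (X ^ (1 + 1) - X : B[X]).Monic :=
    monic_X_pow_sub (p := (X : B[X])) (n := 1 + 1) (by rw [degree_X]; norm_num)
  have huvI : u * v ∈ (maximalIdeal A).map (algebraMap A B) := by
    rw [hIQ]; exact Ideal.mul_mem_mul hu hv
  have hv' : v = 1 - u := by rw [← huv]; ring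
  have h1 : (X ^ (1 + 1) - X : B[X]).eval u ∈ (maximalIdeal A).map (algebraMap A B) := by
    have : (X ^ (1 + 1) - X : B[X]).eval u = -(u * v) := by
      simp only [eval_sub, eval_pow, eval_X, hv']; ring
    rw [this]
    exact neg_mem huvI
  have h2 : IsUnit (Ideal.Quotient.mk ((maximalIdeal A).map (algebraMap A B))
      ((X ^ (1 + 1) - X : B[X]).derivative.eval u)) := by
    have hd : (X ^ (1 + 1) - X : B[X]).derivative.eval u = 2 * u - 1 := by
      rw [derivative_sub, derivative_X_pow, derivative_X, eval_sub, eval_mul, eval_one]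
      simp only [eval_C, eval_pow, eval_X]
      norm_num
    rw [hd]
    refine IsUnit.of_mul_eq_one (Ideal.Quotient.mk _ (2 * u - 1)) ?_
    rw [← map_mul, ← map_one (Ideal.Quotient.mk _), Ideal.Quotient.eq]
    have : (2 * u - 1) * (2 * u - 1) - 1 = -(4 * (u * v)) := by rw [hv']; ring
    rw [this]
    exact neg_mem (Ideal.mul_mem_left _ _ huvI)
  obtain ⟨e, he, heu⟩ := hHens.is_henselian _ hfm u h1 h2
  have he' : e * (e - 1) = 0 := by
    have : (X ^ (1 + 1) - X : B[X]).eval e = 0 := he
    simp only [eval_sub, eval_pow, eval_X] at this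
    rw [← this]; ring
  have hIleQ : (maximalIdeal A).map (algebraMap A B) ≤ Q := by
    rw [hIQ]; exact Ideal.mul_le_right
  have hIleP : (maximalIdeal A).map (algebraMap A B) ≤ M1 ^ k := by
    rw [hIQ]; exact Ideal.mul_le_left
  rcases mul_eq_zero.1 he' with h | h
  · -- `e = 0`: `u ∈ I ≤ Q`, so `1 ∈ Q ≤ M2`
    rw [h, zero_sub] at heu
    have huQ : u ∈ Q := hIleQ (by simpa using neg_mem heu)
    have : (1 : B) ∈ M2 := hQ2 (huv ▸ Q.add_mem huQ hv)
    exact hM2.ne_top ((Ideal.eq_top_iff_one _).2 this)
  · -- `e = 1`: `v ∈ I ≤ M1 ^ k`, so `1 ∈ M1 ^ k`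
    have he1 : e = 1 := sub_eq_zero.1 h
    rw [he1] at heu
    have hvP : v ∈ M1 ^ k := hIleP (by rw [hv']; exact heu)
    have h1P : (1 : B) ∈ M1 ^ k := huv ▸ (M1 ^ k).add_mem hu hvP
    have htop : M1 ^ k = ⊤ := (Ideal.eq_top_iff_one _).2 h1P
    rw [htop, Ideal.top_mul] at hIQ
    have : M1 = ⊤ := by
      rw [← hPQ, ← hIQ]
      exact (sup_eq_left.2 (hle M1 hM1)).symm
    exact hM1.ne_top this

theorem existsUnique_isMaximal_of_complete (A : Type*) {B : Type*} [CommRing A] [IsDomain A]
    [IsDiscreteValuationRing A] [IsAdicComplete (maximalIdeal A) A]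
    [CommRing B] [IsDedekindDomain B] [Algebra A B] [Module.Finite A B] [Module.IsTorsionFree A B] :
    ∃! M : Ideal B, M.IsMaximal := by
  obtain ⟨M, hM⟩ := Ideal.exists_maximal B
  exact ⟨M, hM, fun M' hM' => eq_of_isMaximal_of_complete A M' M⟩

end Groth.Agent.H80
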