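import Groth.Agent.H80.CompleteExt
import Mathlib.RingTheory.Ideal.Norm.RelNorm
import Mathlib.RingTheory.RamificationInertia.Basic

/-!
# Finite extensions of complete discrete valuation rings: ramification, inertia, norms
-/

namespace Groth.Agent.H80

open IsLocalRing UniqueFactorizationMonoid

/-- In a Dedekind domain all of whose maximal ideals equal `M`, every nonzero ideal is a power of
`M`. -/
theorem exists_eq_pow_of_unique_maximal {B : Type*} [CommRing B] [IsDedekindDomain B]
    (M : Ideal B) (hM : ∀ M' : Ideal B, M'.IsMaximal → M' = M) {I : Ideal B} (hI : I ≠ ⊥) :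
    I = M ^ (Multiset.count M (normalizedFactors I)) ∧
      normalizedFactors I = Multiset.replicate (Multiset.count M (normalizedFactors I)) M := by
  classical
  have hall : ∀ p ∈ normalizedFactors I, p = M := by
    intro p hp
    have hprime : Prime p := prime_of_normalized_factor p hp
    have hpp : p.IsPrime := Ideal.isPrime_of_prime hprime
    exact hM p (hpp.isMaximal hprime.ne_zero)
  have hrep : normalizedFactors I = Multiset.replicate (Multiset.card (normalizedFactors I)) M :=
    Multiset.eq_replicate.2 ⟨rfl, hall⟩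
  have hcount : Multiset.count M (normalizedFactors I) = Multiset.card (normalizedFactors I) := by
    conv_lhs => rw [hrep]
    rw [Multiset.count_replicate_self]
  rw [hcount]
  refine ⟨?_, hrep⟩
  conv_lhs => rw [← Ideal.prod_normalizedFactors_eq_self hI, hrep]
  rw [Multiset.prod_replicate]

section

variable (A : Type*) {B : Type*} [CommRing A] [IsDomain A]
  [IsDiscreteValuationRing A] [IsAdicComplete (maximalIdeal A) A]
  [CommRing B] [IsDedekindDomain B] [Algebra A B] [Module.Finite A B] [Module.IsTorsionFree A B]
  (M : Ideal B) [hM : M.IsMaximal]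

include hM in
theorem liesOver_maximalIdeal_of_complete : M.LiesOver (maximalIdeal A) := by
  have hint : Algebra.IsIntegral A B := Algebra.IsIntegral.of_finite A B
  have : (M.comap (algebraMap A B)).IsMaximal :=
    Ideal.isMaximal_comap_of_isIntegral_of_isMaximal M
  exact ⟨(IsLocalRing.eq_maximalIdeal this).symm⟩

theorem map_maximalIdeal_ne_bot_of_complete : (maximalIdeal A).map (algebraMap A B) ≠ ⊥ := by
  have hinj : Function.Injective (algebraMap A B) := FaithfulSMul.algebraMap_injective A B
  rw [Ne, Ideal.map_eq_bot_iff_of_injective hinj]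
  exact IsDiscreteValuationRing.not_a_field A

include hM in
theorem map_maximalIdeal_eq_pow_of_complete :
    (maximalIdeal A).map (algebraMap A B) = M ^ (M.ramificationIdx A) := by
  classical
  have hlo := liesOver_maximalIdeal_of_complete A M
  have h0 := map_maximalIdeal_ne_bot_of_complete A (B := B)
  have h := exists_eq_pow_of_unique_maximal M
    (fun M' hM' => eq_of_isMaximal_of_complete A M' M) h0
  rw [Ideal.IsDedekindDomain.ramificationIdx_eq_normalizedFactors_count (maximalIdeal A) M h0]
  exact h.1

include hM in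
theorem primesOver_maximalIdeal_of_complete : (maximalIdeal A).primesOver B = {M} := by
  have hlo := liesOver_maximalIdeal_of_complete A M
  have hint : Algebra.IsIntegral A B := Algebra.IsIntegral.of_finite A B
  ext Q
  constructor
  · rintro ⟨hQp, hQo⟩
    have hQm : Q.IsMaximal := Ideal.IsMaximal.of_liesOver_isMaximal Q (maximalIdeal A)
    exact eq_of_isMaximal_of_complete A Q M
  · rintro rfl
    exact ⟨hM.isPrime, hlo⟩

include hM in
theorem ramificationIdx_mul_inertiaDeg_of_complete :
    M.ramificationIdx A * M.inertiaDeg A = Module.finrank A B := by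
  classical
  have hset := primesOver_maximalIdeal_of_complete A M
  have hfin : ((maximalIdeal A).primesOver B).Finite := by
    rw [hset]; exact Set.finite_singleton M
  have : Fintype ((maximalIdeal A).primesOver B) := hfin.fintype
  have hMmem : M ∈ (maximalIdeal A).primesOver B := by rw [hset]; rfl
  have hu : ∀ q : (maximalIdeal A).primesOver B, q = ⟨M, hMmem⟩ := by
    rintro ⟨q, hq⟩
    apply Subtype.ext
    have : q ∈ ({M} : Set (Ideal B)) := hset ▸ hq
    exact this
  have h := Ideal.sum_ramification_inertia_eq_finrank (R := A) (S := B) (p := maximalIdeal A)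
  rw [Fintype.sum_eq_single ⟨M, hMmem⟩ (fun q hq => absurd (hu q) hq)] at h
  exact h

include hM in
theorem ramificationIdx_ne_zero_of_complete : M.ramificationIdx A ≠ 0 := by
  intro h0
  have h := map_maximalIdeal_eq_pow_of_complete A M
  rw [h0, pow_zero, Ideal.one_eq_top] at h
  have hlo := liesOver_maximalIdeal_of_complete A M
  have hle : (maximalIdeal A).map (algebraMap A B) ≤ M := by
    rw [Ideal.map_le_iff_le_comap]
    exact hlo.over.le
  rw [h] at hle
  exact hM.ne_top (top_le_iff.1 hle)

include hM in
theorem relNorm_eq_pow_inertiaDeg_of_complete :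
    Ideal.relNorm A M = maximalIdeal A ^ M.inertiaDeg A := by
  have hlo := liesOver_maximalIdeal_of_complete A M
  obtain ⟨s, hs⟩ := Ideal.exists_relNorm_eq_pow_of_isPrime M (maximalIdeal A)
  have h1 := Ideal.relNorm_algebraMap B (maximalIdeal A)
  rw [map_maximalIdeal_eq_pow_of_complete A M, map_pow, hs, ← pow_mul,
    ← ramificationIdx_mul_inertiaDeg_of_complete A M] at h1
  have hinj := (Ideal.pow_right_strictAnti (maximalIdeal A)
    (IsDiscreteValuationRing.not_a_field A) (Ideal.IsMaximal.ne_top inferInstance)).injective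
  have h2 : s * M.ramificationIdx A = M.ramificationIdx A * M.inertiaDeg A := hinj h1
  have h3 : s = M.inertiaDeg A := by
    rw [mul_comm] at h2
    exact Nat.eq_of_mul_eq_mul_left (Nat.pos_of_ne_zero (ramificationIdx_ne_zero_of_complete A M)) h2
  rw [hs, h3]

end

/-- Precompleteness for a power of an ideal implies precompleteness for the ideal. -/
theorem isPrecomplete_of_pow {R : Type*} [CommRing R] (I : Ideal R) {e : ℕ} (he : e ≠ 0)
    [h : IsPrecomplete (I ^ e) R] : IsPrecomplete I R := by
  refine ⟨fun {f} hf => ?_⟩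
  have hle : ∀ n, n ≤ e * n := fun n => Nat.le_mul_of_pos_left n (Nat.pos_of_ne_zero he)
  obtain ⟨L, hL⟩ := h.prec (f := fun k => f (e * k)) (by
    intro k l hkl
    have h1 := hf (Nat.mul_le_mul_left e hkl)
    rw [SModEq.sub_mem, smul_eq_mul, Ideal.mul_top] at h1 ⊢
    rw [← pow_mul]
    exact h1)
  refine ⟨L, fun n => ?_⟩
  have h1 := hf (hle n)
  have h2 := hL n
  rw [SModEq.sub_mem, smul_eq_mul, Ideal.mul_top] at h1 h2 ⊢
  rw [← pow_mul] at h2
  have h3 : f (e * n) - L ∈ I ^ n := Ideal.pow_le_pow_right (hle n) h2
  have : f n - L = (f n - f (e * n)) + (f (e * n) - L) := by ring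
  rw [this]
  exact (I ^ n).add_mem h1 h3

section

variable (A : Type*) {B : Type*} [CommRing A] [IsDomain A]
  [IsDiscreteValuationRing A] [IsAdicComplete (maximalIdeal A) A]
  [CommRing B] [IsDedekindDomain B] [Algebra A B] [Module.Finite A B] [Module.IsTorsionFree A B]
  (M : Ideal B) [hM : M.IsMaximal]

include A hM in
/-- `B` is complete for its maximal ideal. -/
theorem isAdicComplete_of_complete : IsAdicComplete M B := by
  have hc := isAdicComplete_map_maximalIdeal (A := A) (B := B)
  rw [map_maximalIdeal_eq_pow_of_complete A M] at hc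
  have hpre : IsPrecomplete M B :=
    isPrecomplete_of_pow M (ramificationIdx_ne_zero_of_complete A M)
  have hhaus : IsHausdorff M B := IsHausdorff.of_isDomain M hM.ne_top
  exact { toIsHausdorff := hhaus, toIsPrecomplete := hpre }

include A hM in
theorem henselianRing_of_complete : HenselianRing B M :=
  have := isAdicComplete_of_complete A M
  inferInstance

include A hM in
theorem isUnit_of_notMem_of_complete {z : B} (hz : z ∉ M) : IsUnit z := by
  by_contra hu
  obtain ⟨M', hM', hzM'⟩ := exists_max_ideal_of_mem_nonunits (mem_nonunits_iff.2 hu)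
  rw [eq_of_isMaximal_of_complete A M' M] at hzM'
  exact hz hzM'

include A hM in
theorem ne_bot_of_complete : M ≠ ⊥ := by
  intro h
  have h1 := map_maximalIdeal_eq_pow_of_complete A M
  have h2 := ramificationIdx_ne_zero_of_complete A M
  rw [h] at h1 h2
  rw [Ideal.bot_pow h2] at h1
  exact map_maximalIdeal_ne_bot_of_complete A (B := B) h1

include A hM in
/-- Uniformizers exist and generate `M`. -/
theorem exists_uniformizer_of_complete :
    ∃ t : B, t ∈ M ∧ t ∉ M ^ 2 ∧ Ideal.span {t} = M := by
  classical
  have hM0 := ne_bot_of_complete A M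
  obtain ⟨t, ht1, ht2⟩ := Ideal.exists_mem_pow_notMem_pow_succ M hM0 hM.ne_top 1
  rw [pow_one] at ht1
  refine ⟨t, ht1, ht2, ?_⟩
  have ht0 : Ideal.span {t} ≠ ⊥ := by
    rw [Ne, Ideal.span_singleton_eq_bot]
    rintro rfl
    exact ht2 (zero_mem _)
  obtain ⟨hw, -⟩ := exists_eq_pow_of_unique_maximal M
    (fun M' hM' => eq_of_isMaximal_of_complete A M' M) ht0
  generalize Multiset.count M (normalizedFactors (Ideal.span {t})) = w at hw
  have htw : t ∈ M ^ w := hw ▸ Ideal.mem_span_singleton_self t
  have hw1 : w = 1 := by
    rcases Nat.lt_or_ge w 2 with h | h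
    · interval_cases w
      · exfalso
        rw [pow_zero, Ideal.one_eq_top, Ideal.span_singleton_eq_top] at hw
        exact hM.ne_top (Ideal.eq_top_of_isUnit_mem _ ht1 hw)
      · rfl
    · exact absurd (Ideal.pow_le_pow_right h htw) ht2
  rw [hw, hw1, pow_one]

include A hM in
/-- If the inertia degree is one, every element of `B` is congruent to an element of `A`. -/
theorem exists_sub_mem_of_inertiaDeg_eq_one (hf : M.inertiaDeg A = 1) (y : B) :
    ∃ a : A, y - algebraMap A B a ∈ M := by
  have hlo := liesOver_maximalIdeal_of_complete A M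
  rw [Ideal.inertiaDeg_eq_of_isMaximal (maximalIdeal A) M] at hf
  let _ : Field (A ⧸ maximalIdeal A) := Ideal.Quotient.field _
  let _ : Field (B ⧸ M) := Ideal.Quotient.field _
  obtain ⟨c, hc⟩ := (finrank_eq_one_iff_of_nonzero' (1 : B ⧸ M) one_ne_zero).1 hf
    (Ideal.Quotient.mk M y)
  obtain ⟨a, rfl⟩ := Ideal.Quotient.mk_surjective c
  refine ⟨a, ?_⟩
  rw [← Ideal.Quotient.eq, ← hc, Algebra.smul_def, mul_one,
    Ideal.Quotient.algebraMap_mk_of_liesOver]

end

end Groth.Agent.H80
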