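import Mathlib
import Groth.Agent.H54.Dim
import Groth.Agent.H55.FFExist
import Groth.Agent.H55.FFZeros

/-!
# Valuation rings of the function field of an affine curve not containing the coordinate ring
-/

namespace Groth.Agent.H80.CurveVal

open FunFld IntermediateField

set_option linter.unusedSectionVars false
set_option linter.style.haveILetI false

universe u
variable (k A F : Type u) [Field k] [CommRing A] [IsDomain A] [Algebra k A]
  [Algebra.FiniteType k A] [Field F] [Algebra A F] [IsFractionRing A F] [Algebra k F]
  [IsScalarTower k A F]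

theorem isFunctionField_algebraicClosure (hA : ringKrullDim A = 1) :
    IsFunctionField (algebraicClosure k F) F := by
  obtain ⟨s, g, hginj, hgint⟩ := exists_integral_inj_algHom_of_fg k A
  have hs : s = 1 := by
    have h1 := Groth.Agent.H54.ringKrullDim_eq_of_ringHom_isIntegral_of_injective g.toRingHom
      hgint hginj
    rw [Groth.Agent.H54.ringKrullDim_mvPolynomial_fin_field, hA] at h1
    exact_mod_cast h1
  subst hs
  set x : F := algebraMap A F (g (MvPolynomial.X 0)) with hx
  have htr : Transcendental k x := by
    have hinj : Function.Injective (MvPolynomial.aeval (R := k) (fun _ : Fin 1 => x)) := by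
      have : (MvPolynomial.aeval (R := k) (fun _ : Fin 1 => x))
          = (IsScalarTower.toAlgHom k A F).comp g := by
        apply MvPolynomial.algHom_ext
        intro i
        simp [hx, Subsingleton.elim i 0]
      rw [this]
      exact (IsFractionRing.injective A F).comp hginj
    have hai : AlgebraicIndependent k (fun _ : Fin 1 => x) :=
      algebraicIndependent_iff_injective_aeval.mpr hinj
    exact algebraicIndependent_unique_type_iff.mp hai
  refine ⟨⟨x, ?_, ?_⟩, ?_⟩
  · intro halg
    exact htr (halg.restrictScalars k)
  · set K1 := IntermediateField.adjoin (algebraicClosure k F) ({x} : Set F) with hK1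
    haveI : Algebra.EssFiniteType A F := Algebra.EssFiniteType.of_isLocalization F (nonZeroDivisors A)
    haveI : Algebra.EssFiniteType k F := Algebra.EssFiniteType.comp k A F
    haveI : IsScalarTower k K1 F := IsScalarTower.of_algebraMap_eq (fun c => rfl)
    haveI : Algebra.EssFiniteType K1 F := Algebra.EssFiniteType.of_comp k K1 F
    haveI : Algebra.IsAlgebraic K1 F := by
      let xx : K1 := ⟨x, mem_adjoin_simple_self (algebraicClosure k F) x⟩
      let ψ : MvPolynomial (Fin 1) k →ₐ[k] K1 := MvPolynomial.aeval (fun _ => xx)
      have hψ : (algebraMap K1 F).comp ψ.toRingHom = (algebraMap A F).comp g.toRingHom := by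
        apply MvPolynomial.ringHom_ext
        · intro c
          simp only [AlgHom.toRingHom_eq_coe, RingHom.coe_comp, RingHom.coe_coe,
            Function.comp_apply, MvPolynomial.algHom_C,
            ← IsScalarTower.algebraMap_apply]
        · intro i
          simp [xx, ψ, hx, Subsingleton.elim i 0]
      have hintA : ∀ a : A, IsIntegral K1 (algebraMap A F a) := by
        intro a
        letI := g.toRingHom.toAlgebra
        have : IsIntegral (MvPolynomial (Fin 1) k) a := hgint a
        exact IsIntegral.map_of_comp_eq ψ.toRingHom (algebraMap A F) hψ this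
      refine ⟨fun z => ?_⟩
      obtain ⟨a, b, hb, rfl⟩ := IsFractionRing.div_surjective (A := A) z
      rw [div_eq_mul_inv]
      exact (hintA a).isAlgebraic.mul (hintA b).isAlgebraic.inv
    exact Algebra.finite_of_essFiniteType_of_isAlgebraic
  · intro y hy
    have : IsAlgebraic k y := hy.restrictScalars k
    exact ⟨⟨y, mem_algebraicClosure_iff.mpr this⟩, rfl⟩


omit [Algebra.FiniteType k A] [IsFractionRing A F] in
/-- a valuation subring containing `k` contains the algebraic closure of `k` in `F`. -/
lemma algebraicClosure_le (O : ValuationSubring F) (hk : (algebraMap k F).range ≤ O.toSubring)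
    (c : algebraicClosure k F) : algebraMap (algebraicClosure k F) F c ∈ O := by
  have hc : IsIntegral k (c : F) := (mem_algebraicClosure_iff.mp c.2).isIntegral
  letI : Algebra k O := ((algebraMap k F).codRestrict O.toSubring fun c => hk ⟨c, rfl⟩).toAlgebra
  haveI : IsScalarTower k O F := IsScalarTower.of_algebraMap_eq (fun _ => rfl)
  have h2 : IsIntegral O (c : F) := hc.tower_top
  obtain ⟨y, hy⟩ := IsIntegrallyClosed.isIntegral_iff.mp h2
  change (c : F) ∈ O
  rw [← hy]
  exact y.2

theorem finite_valuationSubrings (hA : ringKrullDim A = 1) :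
    {O : ValuationSubring F | (algebraMap k F).range ≤ O.toSubring ∧
        ¬ (algebraMap A F).range ≤ O.toSubring}.Finite := by
  obtain ⟨T, hT⟩ := Algebra.FiniteType.out (R := k) (A := A)
  have hFF := isFunctionField_algebraicClosure k A F hA
  have hsub : {O : ValuationSubring F | (algebraMap k F).range ≤ O.toSubring ∧
        ¬ (algebraMap A F).range ≤ O.toSubring} ⊆
      ⋃ a ∈ T, {O : ValuationSubring F | (algebraMap k F).range ≤ O.toSubring ∧
        algebraMap A F a ∉ O} := by
    rintro O ⟨hk, hnA⟩
    by_contra hcon
    apply hnA
    rintro _ ⟨a, rfl⟩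
    have ha : a ∈ Algebra.adjoin k (T : Set A) := hT ▸ Algebra.mem_top
    induction ha using Algebra.adjoin_induction with
    | mem a ha =>
      by_contra h
      exact hcon (Set.mem_biUnion ha ⟨hk, h⟩)
    | algebraMap c =>
      rw [← IsScalarTower.algebraMap_apply]; exact hk ⟨c, rfl⟩
    | add a b _ _ ha hb => rw [map_add]; exact O.add_mem _ _ ha hb
    | mul a b _ _ ha hb => rw [map_mul]; exact O.mul_mem _ _ ha hb
  refine Set.Finite.subset (Set.Finite.biUnion T.finite_toSet fun a _ => ?_) hsub
  by_cases ha0 : algebraMap A F a = 0
  · convert Set.finite_empty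
    ext O
    simp [ha0]
  have hfin := (Groth.Agent.H55.Place.finite_poles hFF ha0).image
    (fun P : Place (algebraicClosure k F) F => P.1.valuationSubring)
  refine hfin.subset ?_
  rintro O ⟨hk, haO⟩
  have hinvO : (algebraMap A F a)⁻¹ ∈ O := by
    rcases O.mem_or_inv_mem (algebraMap A F a) with h | h
    · exact absurd h haO
    · exact h
  obtain ⟨P, hP⟩ := Groth.Agent.H55.exists_place_of_vs hFF O (algebraicClosure_le k F O hk)
    (algebraMap A F a)⁻¹ hinvO (inv_ne_zero ha0) (by rwa [inv_inv])
  refine ⟨P, ?_, ?_⟩
  · rw [Set.mem_ofPred_eq]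
    by_contra h
    exact haO ((hP _).mp (not_lt.mp h))
  · ext z
    exact hP z

end Groth.Agent.H80.CurveVal
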