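import Mathlib
import Groth.Agent.H73.KALength

/-!
# Krull–Akizuki length lemma: the equality case (helper80)

For a Noetherian domain `R` of dimension `≤ 1` with fraction field `K`, a *finite* `R`-module `P`
embedded in `K^r` and spanning `K^r` over `K`, and `x ≠ 0`: `ℓ(P/xP) = r · ℓ(R/xR)`.
Also the inequality for arbitrary modules embedded in `K^r`.
-/

set_option autoImplicit false
set_option linter.style.haveILetI false
set_option linter.unusedSectionVars false

open Function
open scoped Pointwise

namespace Groth.Agent.H80.DegOrd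

open Groth.Agent.H15.Len Groth.Agent.H73.KALength

variable {R : Type*} [CommRing R] [IsDomain R] [IsNoetherianRing R] [Ring.KrullDimLE 1 R]
  {K : Type*} [Field K] [Algebra R K] [IsFractionRing R K]

/-- Krull–Akizuki inequality for an arbitrary module embedded in `K^r`. -/
theorem length_quotSMulTop_le' (r : ℕ) {N : Type*} [AddCommGroup N] [Module R N]
    (ψ : N →ₗ[R] (Fin r → K)) (hψ : Injective ψ) (x : R) (hx : x ≠ 0) :
    Module.length R (QuotSMulTop x N) ≤ r * Module.length R (R ⧸ Ideal.span {x}) := by
  refine length_quotSMulTop_le_of_forall_fg x _ fun M' hM' => ?_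
  haveI : Module.Finite R M' := Module.Finite.iff_fg.mpr hM'
  exact length_quotSMulTop_le_of_finite r (ψ.comp M'.subtype)
    (hψ.comp (Submodule.subtype_injective M')) x hx

/-- The equality case: finite modules of full rank. -/
theorem length_quotSMulTop_eq_of_finite (r : ℕ) {P : Type*} [AddCommGroup P] [Module R P]
    [Module.Finite R P] (ι : P →ₗ[R] (Fin r → K)) (hι : Injective ι)
    (hfull : Submodule.span K (Set.range ι) = ⊤) (x : R) (hx : x ≠ 0) :
    Module.length R (QuotSMulTop x P) = r * Module.length R (R ⧸ Ideal.span {x}) := by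
  classical
  have hxnz : x ∈ nonZeroDivisors R := mem_nonZeroDivisors_of_ne_zero hx
  obtain ⟨b, hbsub, hbspan, hbli⟩ := exists_linearIndependent K (Set.range ι)
  have hbfin : b.Finite := hbli.setFinite
  letI : Fintype b := hbfin.fintype
  set s := Fintype.card b with hs
  have hsr : s = r := by
    have hbtop : ⊤ ≤ Submodule.span K (Set.range (Subtype.val : b → (Fin r → K))) := by
      rw [Subtype.range_coe_subtype, Set.ofPred_mem_eq, hbspan, hfull]
    let bb : Module.Basis b K (Fin r → K) := Module.Basis.mk hbli hbtop
    have h1 : Module.finrank K (Fin r → K) = Fintype.card b := Module.finrank_eq_card_basis bb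
    rw [Module.finrank_fin_fun] at h1
    exact h1.symm
  let e : Fin s ≃ b := (Fintype.equivFin b).symm
  have hpre : ∀ j : Fin s, ∃ p : P, ι p = (e j : Fin r → K) := fun j => hbsub (e j).2
  choose m' hm' using hpre
  have hli' : LinearIndependent K (fun j => ι (m' j)) := by
    have : (fun j => ι (m' j)) = (fun y : b => (y : Fin r → K)) ∘ e := by
      funext j; exact hm' j
    rw [this]
    exact hbli.comp e e.injective
  have hliR : LinearIndependent R m' := by
    have h1 : LinearIndependent R (ι ∘ m') := hli'.restrict_scalars' R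
    exact LinearIndependent.of_comp ι h1
  let φ : (Fin s → R) →ₗ[R] P := Fintype.linearCombination R m'
  have hφinj : Injective φ :=
    linearIndependent_iff_injective_fintypeLinearCombination.mp hliR
  have hφ : ∀ a, φ a = ∑ j, a j • m' j := fun a => Fintype.linearCombination_apply R m' a
  have hspan : Submodule.span K (Set.range fun j => ι (m' j)) = Submodule.span K (Set.range ι) := by
    rw [← hbspan]
    congr 1
    ext v
    constructor
    · rintro ⟨j, rfl⟩
      change ι (m' j) ∈ b
      rw [hm' j]; exact (e j).2
    · intro hv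
      refine ⟨e.symm ⟨v, hv⟩, ?_⟩
      change ι (m' (e.symm ⟨v, hv⟩)) = v
      rw [hm']; simp
  have htors : ∀ q : P ⧸ LinearMap.range φ, ∃ w ∈ nonZeroDivisors R, w • q = 0 := by
    intro q
    obtain ⟨p, rfl⟩ := Submodule.mkQ_surjective _ q
    have hp : ι p ∈ Submodule.span K (Set.range fun j => ι (m' j)) := by
      rw [hspan]; exact Submodule.subset_span ⟨p, rfl⟩
    obtain ⟨c, hc⟩ := (Submodule.mem_span_range_iff_exists_fun K).mp hp
    obtain ⟨d, hd⟩ := IsLocalization.exist_integer_multiples (nonZeroDivisors R) Finset.univ c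
    choose a ha using fun j => hd j (Finset.mem_univ j)
    refine ⟨d, d.2, ?_⟩
    rw [← map_smul, Submodule.mkQ_apply, Submodule.Quotient.mk_eq_zero]
    refine ⟨a, ?_⟩
    apply hι
    rw [hφ, map_sum, map_smul, ← hc, Finset.smul_sum]
    refine Finset.sum_congr rfl fun j _ => ?_
    rw [map_smul, ← algebraMap_smul K (a j) (ι (m' j)), ha j, smul_assoc]
  obtain ⟨w, hwS, hw⟩ := exists_smul_eq_zero_of_finite (nonZeroDivisors R)
    (P ⧸ LinearMap.range φ) htors
  have hQfin : IsFiniteLength R (P ⧸ LinearMap.range φ) :=
    isFiniteLength_of_smul_eq_zero hwS _ hw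
  have hd := defect_additive x φ (LinearMap.range φ).mkQ hφinj (Submodule.mkQ_surjective _)
    (LinearMap.exact_map_mkQ_range φ)
  rw [length_ker_smul_eq_zero r (ι.comp φ) (hι.comp hφinj) x hx,
    length_ker_smul_eq_zero r ι hι x hx, zero_add, zero_add] at hd
  have hQ := length_ker_eq_length_coker hQfin (x • (LinearMap.id : _ →ₗ[R] (P ⧸ LinearMap.range φ)))
  rw [← length_quotSMulTop] at hQ
  have hfin : Module.length R (QuotSMulTop x (P ⧸ LinearMap.range φ)) ≠ ⊤ := by
    rw [Module.length_ne_top_iff]
    exact hQfin.of_surjective (f := Submodule.mkQ _) (Submodule.mkQ_surjective _)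
  rw [hQ] at hd
  have hmain : Module.length R (QuotSMulTop x P) = Module.length R (QuotSMulTop x (Fin s → R)) := by
    rw [add_comm] at hd
    exact ENat.add_left_injective_of_ne_top hfin hd
  rw [hmain, length_quotSMulTop_pi, hsr]

end Groth.Agent.H80.DegOrd
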