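import Mathlib
import Groth.Agent.H80.DegOrd1
import Groth.Agent.S6320

/-!
# Degree–order inequality for one-dimensional local domains (helper80)

`A ⊆ B` finite type extension of domains, `A` Noetherian local of dimension one, `L/K` finite.
Basic lemmas: algebraicity, denominators, maximal ideals of `B`.
-/

set_option autoImplicit false
set_option linter.style.haveILetI false
set_option linter.unusedSectionVars false

universe u

open Function IsLocalRing

namespace Groth.Agent.H80.DegOrd

section Loc
variable {B : Type u} [CommRing B] (q : Ideal B) [q.IsPrime]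

/-- the localization of `B/J` at `q` is `B_q/JB_q` (copied from `H63.NormTame`). -/
theorem length_localizedModule_quot (J : Ideal B) :
    Module.length (Localization.AtPrime q) (LocalizedModule q.primeCompl (B ⧸ J)) =
      Module.length (Localization.AtPrime q)
        (Localization.AtPrime q ⧸ J.map (algebraMap B (Localization.AtPrime q))) := by
  let f : B →ₗ[B] Localization.AtPrime q := Algebra.linearMap B (Localization.AtPrime q)
  let M' : Submodule B B := J
  let g := M'.toLocalizedQuotient' (Localization.AtPrime q) q.primeCompl f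
  have hloc : M'.localized' (Localization.AtPrime q) q.primeCompl f =
      J.map (algebraMap B (Localization.AtPrime q)) :=
    Ideal.localized'_eq_map (Localization.AtPrime q) q.primeCompl J
  let e1 : LocalizedModule q.primeCompl (B ⧸ J) ≃ₗ[B]
      (Localization.AtPrime q ⧸ M'.localized' (Localization.AtPrime q) q.primeCompl f) :=
    IsLocalizedModule.linearEquiv q.primeCompl
      (LocalizedModule.mkLinearMap q.primeCompl (B ⧸ J)) g
  let e2 := e1.extendScalarsOfIsLocalization q.primeCompl (Localization.AtPrime q)
  rw [e2.length_eq]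
  exact (Submodule.quotEquivOfEq _ _ hloc).length_eq

end Loc

section Basic

variable (A B K L : Type u)
  [CommRing A] [IsDomain A] [IsNoetherianRing A] [IsLocalRing A]
  [CommRing B] [IsDomain B] [Algebra A B] [FaithfulSMul A B]
  [Field K] [Field L] [Algebra A K] [IsFractionRing A K] [Algebra B L] [IsFractionRing B L]
  [Algebra K L] [Algebra A L] [IsScalarTower A K L] [IsScalarTower A B L] [FiniteDimensional K L]

include K L in
/-- `B` is algebraic over `A`. -/
theorem isAlgebraic (b : B) : IsAlgebraic A b := by
  have h1 : IsAlgebraic K (algebraMap B L b) := Algebra.IsAlgebraic.isAlgebraic _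
  have h2 : IsAlgebraic A (algebraMap B L b) := (IsFractionRing.isAlgebraic_iff A K L).mpr h1
  exact (isAlgebraic_algebraMap_iff (IsFractionRing.injective B L)).mp h2

include K in
/-- Every element of `L` has a denominator in `A`. -/
theorem exists_denom (l : L) :
    ∃ a : A, a ≠ 0 ∧ ∃ b : B, algebraMap A L a * l = algebraMap B L b := by
  obtain ⟨b, b', hb', rfl⟩ := IsFractionRing.div_surjective (A := B) l
  have hb'0 : b' ≠ 0 := nonZeroDivisors.ne_zero hb'
  obtain ⟨a, ha, c, hc⟩ := (isAlgebraic A B K L b').exists_nonzero_dvd hb'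
  refine ⟨a, ha, c * b, ?_⟩
  have hb'L : algebraMap B L b' ≠ 0 := by
    rwa [Ne, IsFractionRing.to_map_eq_zero_iff]
  rw [IsScalarTower.algebraMap_apply A B L, hc, map_mul, map_mul]
  field_simp

variable {A} in
/-- In a one-dimensional local domain, `x ∈ 𝔪` lies in the radical of every nonzero principal ideal. -/
theorem exists_pow_mem_span [Ring.KrullDimLE 1 A] {x : A} (hx : x ∈ maximalIdeal A) {a : A}
    (ha : a ≠ 0) : ∃ N : ℕ, x ^ N ∈ Ideal.span {a} := by
  have : x ∈ (Ideal.span {a}).radical := by
    rw [Ideal.radical_eq_sInf, Ideal.mem_sInf]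
    rintro p ⟨hap, hp⟩
    have hpne : p ≠ ⊥ := by
      intro h
      apply ha
      have : a ∈ p := hap (Ideal.mem_span_singleton_self a)
      rwa [h, Ideal.mem_bot] at this
    have hpmax : p.IsMaximal := hp.isMaximal_of_ne_bot hpne
    rwa [IsLocalRing.eq_maximalIdeal hpmax]
  exact this

include K L in
/-- A maximal ideal of `B` not containing `x` is zero. -/
theorem maximal_eq_bot [Ring.KrullDimLE 1 A] {x : A} (hx : x ∈ maximalIdeal A)
    (m : Ideal B) [hm : m.IsMaximal] (hxm : algebraMap A B x ∉ m) : m = ⊥ := by
  have hp : (m.comap (algebraMap A B)) = ⊥ := by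
    by_contra hne
    have hmax : (m.comap (algebraMap A B)).IsMaximal :=
      (Ideal.comap_isPrime (algebraMap A B) m).isMaximal_of_ne_bot hne
    have : x ∈ m.comap (algebraMap A B) := by
      rw [IsLocalRing.eq_maximalIdeal hmax]; exact hx
    exact hxm this
  rw [eq_bot_iff]
  intro b hb
  rw [Ideal.mem_bot]
  by_contra hb0
  obtain ⟨a, ha, hdvd⟩ := (isAlgebraic A B K L b).exists_nonzero_dvd
    (mem_nonZeroDivisors_of_ne_zero hb0)
  have : a ∈ m.comap (algebraMap A B) := by
    rw [Ideal.mem_comap]
    exact Ideal.mem_of_dvd m hdvd hb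
  rw [hp, Ideal.mem_bot] at this
  exact ha this

end Basic

end Groth.Agent.H80.DegOrd
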