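import Mathlib
import Groth.Agent.H80.DegOrd2

/-!
# Degree–order inequality for one-dimensional local domains, part 2 (helper80)

The embedding `B → K^n`, the Krull–Akizuki bound for `B/xB` and the semilocal length formula.
-/

set_option autoImplicit false
set_option linter.style.haveILetI false
set_option linter.unusedSectionVars false

universe u

open Function IsLocalRing
open scoped Pointwise

namespace Groth.Agent.H80.DegOrd

section Emb

variable (A B K L : Type u)
  [CommRing A] [IsDomain A] [IsNoetherianRing A] [IsLocalRing A]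
  [CommRing B] [IsDomain B] [Algebra A B] [FaithfulSMul A B]
  [Field K] [Field L] [Algebra A K] [IsFractionRing A K] [Algebra B L] [IsFractionRing B L]
  [Algebra K L] [Algebra A L] [IsScalarTower A K L] [IsScalarTower A B L] [FiniteDimensional K L]

/-- the embedding of `B` into `K^n`, `n = [L:K]`. -/
noncomputable def emb : B →ₗ[A] (Fin (Module.finrank K L) → K) :=
  ((Module.finBasis K L).equivFun.restrictScalars A).toLinearMap ∘ₗ
    (IsScalarTower.toAlgHom A B L).toLinearMap

theorem emb_apply (b : B) :
    emb A B K L b = (Module.finBasis K L).equivFun (algebraMap B L b) := rfl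

theorem emb_injective : Injective (emb A B K L) := by
  intro b b' h
  rw [emb_apply, emb_apply] at h
  exact IsFractionRing.injective B L ((Module.finBasis K L).equivFun.injective h)

theorem emb_full : Submodule.span K (Set.range (emb A B K L)) = ⊤ := by
  rw [eq_top_iff]
  intro v _
  obtain ⟨a, ha, b, hb⟩ := exists_denom A B K L ((Module.finBasis K L).equivFun.symm v)
  have haK : algebraMap A K a ≠ 0 := by
    rwa [Ne, IsFractionRing.to_map_eq_zero_iff]
  have h1 : emb A B K L b = algebraMap A K a • v := by
    rw [emb_apply, ← hb, IsScalarTower.algebraMap_apply A K L, ← Algebra.smul_def, map_smul,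
      LinearEquiv.apply_symm_apply]
  have h2 : v = (algebraMap A K a)⁻¹ • emb A B K L b := by
    rw [h1, smul_smul, inv_mul_cancel₀ haK, one_smul]
  rw [h2]
  exact Submodule.smul_mem _ _ (Submodule.subset_span ⟨b, rfl⟩)

/-- `B/xB` as quotient by a `B`-ideal vs. as `QuotSMulTop`. -/
noncomputable def quotEquiv (x : A) :
    QuotSMulTop x B ≃ₗ[A] (B ⧸ Ideal.span {algebraMap A B x}) := by
  have h : x • (⊤ : Submodule A B) = (Ideal.span {algebraMap A B x}).restrictScalars A := by
    ext b
    rw [Submodule.mem_smul_pointwise_iff_exists, Submodule.restrictScalars_mem,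
      Ideal.mem_span_singleton']
    constructor
    · rintro ⟨c, -, rfl⟩
      exact ⟨c, by rw [Algebra.smul_def, mul_comm]⟩
    · rintro ⟨c, rfl⟩
      exact ⟨c, Submodule.mem_top, by rw [Algebra.smul_def, mul_comm]⟩
  exact (Submodule.quotEquivOfEq _ _ h).trans
    (Submodule.Quotient.restrictScalarsEquiv A (Ideal.span {algebraMap A B x}))

theorem length_quot_le [Ring.KrullDimLE 1 A] (x : A) (hx0 : x ≠ 0) :
    Module.length A (B ⧸ Ideal.span {algebraMap A B x}) ≤
      (Module.finrank K L : ℕ∞) * Module.length A (A ⧸ Ideal.span {x}) := by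
  rw [← (quotEquiv A B x).length_eq]
  exact length_quotSMulTop_le' _ (emb A B K L) (emb_injective A B K L) x hx0

end Emb

section Semilocal

variable (A B K L : Type u)
  [CommRing A] [IsDomain A] [IsNoetherianRing A] [IsLocalRing A]
  [CommRing B] [IsDomain B] [Algebra A B] [FaithfulSMul A B] [Algebra.FiniteType A B]
  [Field K] [Field L] [Algebra A K] [IsFractionRing A K] [Algebra B L] [IsFractionRing B L]
  [Algebra K L] [Algebra A L] [IsScalarTower A K L] [IsScalarTower A B L] [FiniteDimensional K L]
  [Ring.KrullDimLE 1 A] (x : A) (hx : x ∈ maximalIdeal A) (hx0 : x ≠ 0)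

include K L hx hx0 in
theorem mem_of_not_isUnit (hy : ¬ IsUnit (algebraMap A B x)) (m : Ideal B) [hm : m.IsMaximal] :
    algebraMap A B x ∈ m := by
  by_contra hxm
  have hbot : m = ⊥ := maximal_eq_bot A B K L hx m hxm
  apply hy
  have hfield : IsField B := by
    rw [Ring.isField_iff_maximal_bot, ← hbot]; exact hm
  have hy0 : algebraMap A B x ≠ 0 := by
    rwa [Ne, FaithfulSMul.algebraMap_eq_zero_iff]
  obtain ⟨z, hz⟩ := hfield.mul_inv_cancel hy0
  exact IsUnit.of_mul_eq_one z hz

include K L hx hx0 in
theorem comap_eq (hy : ¬ IsUnit (algebraMap A B x)) (m : Ideal B) [hm : m.IsMaximal] :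
    m.comap (algebraMap A B) = maximalIdeal A := by
  have hmem : x ∈ m.comap (algebraMap A B) := mem_of_not_isUnit A B K L x hx hx0 hy m
  have hne : m.comap (algebraMap A B) ≠ ⊥ := by
    intro h
    rw [h, Ideal.mem_bot] at hmem
    exact hx0 hmem
  exact IsLocalRing.eq_maximalIdeal
    ((Ideal.comap_isPrime (algebraMap A B) m).isMaximal_of_ne_bot hne)

omit [IsDomain A] [IsNoetherianRing A] [IsDomain B] [FaithfulSMul A B] in
theorem finite_quot (m : Ideal B) [hm : m.IsMaximal]
    (h : m.comap (algebraMap A B) = maximalIdeal A) :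
    Module.Finite (A ⧸ m.comap (algebraMap A B)) (B ⧸ m) := by
  haveI : (m.comap (algebraMap A B)).IsMaximal := h ▸ inferInstance
  letI := Ideal.Quotient.field (m.comap (algebraMap A B))
  letI := Ideal.Quotient.field m
  haveI : Algebra.FiniteType A (B ⧸ m) :=
    Algebra.FiniteType.of_surjective (Ideal.Quotient.mkₐ A m) (Ideal.Quotient.mkₐ_surjective A m)
  haveI : Algebra.FiniteType (A ⧸ m.comap (algebraMap A B)) (B ⧸ m) :=
    Algebra.FiniteType.of_restrictScalars_finiteType A _ _
  exact finite_of_finite_type_of_isJacobsonRing _ _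

include K L hx0 in
theorem length_quot_ne_top :
    Module.length A (B ⧸ Ideal.span {algebraMap A B x}) ≠ ⊤ := by
  refine ne_top_of_le_ne_top ?_ (length_quot_le A B K L x hx0)
  exact WithTop.mul_ne_top (ENat.natCast_ne_top _)
    (Groth.Agent.H73.KALength.length_quotient_span_ne_top x hx0)

include K L hx0 in
theorem isFiniteLength_quot : IsFiniteLength B (B ⧸ Ideal.span {algebraMap A B x}) := by
  have h1 := length_quot_ne_top A B K L x hx0
  rw [Module.length_ne_top_iff, isFiniteLength_iff_isNoetherian_isArtinian] at h1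
  obtain ⟨h2, h3⟩ := h1
  rw [isFiniteLength_iff_isNoetherian_isArtinian]
  exact ⟨isNoetherian_of_tower A h2, isArtinian_of_tower A h3⟩

include K L hx hx0 in
theorem finite_maximalSpectrum (hy : ¬ IsUnit (algebraMap A B x)) :
    Finite (MaximalSpectrum B) := by
  have hfl := isFiniteLength_quot A B K L x hx0
  rw [isFiniteLength_iff_isNoetherian_isArtinian] at hfl
  haveI : IsArtinianRing (B ⧸ Ideal.span {algebraMap A B x}) :=
    isArtinian_of_tower B hfl.2
  let q := Ideal.Quotient.mk (Ideal.span {algebraMap A B x})
  have hq : Surjective q := Ideal.Quotient.mk_surjective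
  let f : MaximalSpectrum (B ⧸ Ideal.span {algebraMap A B x}) → MaximalSpectrum B := fun n =>
    ⟨n.asIdeal.comap q, Ideal.comap_isMaximal_of_surjective q hq⟩
  refine Finite.of_surjective f ?_
  intro m
  haveI := m.isMaximal
  have hmem : algebraMap A B x ∈ m.asIdeal := mem_of_not_isUnit A B K L x hx hx0 hy m.asIdeal
  have hker : RingHom.ker q ≤ m.asIdeal := by
    rw [Ideal.mk_ker, Ideal.span_singleton_le_iff_mem]
    exact hmem
  have hcm : (m.asIdeal.map q).comap q = m.asIdeal := by
    rw [Ideal.comap_map_of_surjective q hq]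
    exact sup_eq_left.mpr (by rwa [← RingHom.ker_eq_comap_bot])
  have hmax : (m.asIdeal.map q).IsMaximal := by
    rcases Ideal.map_eq_top_or_isMaximal_of_surjective q hq m.isMaximal with h | h
    · exfalso
      rw [h, Ideal.comap_top] at hcm
      exact m.isMaximal.ne_top hcm.symm
    · exact h
  refine ⟨⟨m.asIdeal.map q, hmax⟩, ?_⟩
  apply MaximalSpectrum.ext
  exact hcm

include K L hx hx0 in
/-- the semilocal length formula for `B/xB` when `x` is not a unit of `B`. -/
theorem finsum_eq (hy : ¬ IsUnit (algebraMap A B x)) :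
    (∑ᶠ m : MaximalSpectrum B,
        Module.length A (B ⧸ m.asIdeal) *
          Module.length (Localization.AtPrime m.asIdeal)
            (Localization.AtPrime m.asIdeal ⧸
              Ideal.span ({algebraMap A (Localization.AtPrime m.asIdeal) x} : Set _))) =
      Module.length A (B ⧸ Ideal.span {algebraMap A B x}) := by
  haveI := finite_maximalSpectrum A B K L x hx hx0 hy
  have hover : ∀ n : MaximalSpectrum B,
      n.asIdeal.comap (algebraMap A B) = maximalIdeal A := fun n => by
    haveI := n.isMaximal
    exact comap_eq A B K L x hx hx0 hy n.asIdeal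
  have hfin : ∀ n : MaximalSpectrum B,
      Module.Finite (A ⧸ n.asIdeal.comap (algebraMap A B)) (B ⧸ n.asIdeal) := fun n => by
    haveI := n.isMaximal
    exact finite_quot A B n.asIdeal (hover n)
  rw [Groth.Agent.S6320.result hover hfin (B ⧸ Ideal.span {algebraMap A B x})
    (isFiniteLength_quot A B K L x hx0)]
  refine finsum_congr fun n => ?_
  haveI := n.isMaximal
  haveI := hfin n
  rw [Groth.Agent.H27.LengthSemilocal.length_quotient_eq_finrank n.asIdeal (hover n),
    length_localizedModule_quot n.asIdeal]
  have hJ : (Ideal.span {algebraMap A B x}).map (algebraMap B (Localization.AtPrime n.asIdeal)) =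
      Ideal.span {algebraMap A (Localization.AtPrime n.asIdeal) x} := by
    rw [Ideal.map_span, Set.image_singleton, ← IsScalarTower.algebraMap_apply]
  rw [hJ]

end Semilocal

end Groth.Agent.H80.DegOrd
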