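import Mathlib
import Groth.Agent.H80.DegOrd3

/-!
# Degree–order inequality for one-dimensional local domains, part 3 (helper80)

The equality case: if `ℓ_A(B/xB) = [L:K] ℓ(A/xA)` then `B` is a finite `A`-module, and conversely.
-/

set_option autoImplicit false
set_option linter.style.haveILetI false
set_option linter.unusedSectionVars false

universe u

open Function IsLocalRing
open scoped Pointwise

namespace Groth.Agent.H80.DegOrd

section Eq

variable (A B K L : Type u)
  [CommRing A] [IsDomain A] [IsNoetherianRing A] [IsLocalRing A]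
  [CommRing B] [IsDomain B] [Algebra A B] [FaithfulSMul A B]
  [Field K] [Field L] [Algebra A K] [IsFractionRing A K] [Algebra B L] [IsFractionRing B L]
  [Algebra K L] [Algebra A L] [IsScalarTower A K L] [IsScalarTower A B L] [FiniteDimensional K L]
  [Ring.KrullDimLE 1 A] (x : A) (hx : x ∈ maximalIdeal A) (hx0 : x ≠ 0)

include K L hx0 in
/-- If `ℓ(B/xB)` attains the bound, every submodule `M` of `B` surjecting onto `B/xB` has
`M/xM → B/xB` injective. -/
theorem key_injective
    (hc : Module.length A (QuotSMulTop x B) =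
      (Module.finrank K L : ℕ∞) * Module.length A (A ⧸ Ideal.span {x}))
    (M : Submodule A B) (hsurj : Surjective (QuotSMulTop.map x M.subtype)) :
    Injective (QuotSMulTop.map x M.subtype) := by
  set ψ := QuotSMulTop.map x M.subtype with hψ
  have hctop : (Module.finrank K L : ℕ∞) * Module.length A (A ⧸ Ideal.span {x}) ≠ ⊤ :=
    WithTop.mul_ne_top (ENat.natCast_ne_top _)
      (Groth.Agent.H73.KALength.length_quotient_span_ne_top x hx0)
  have hM : Module.length A (QuotSMulTop x M) ≤
      (Module.finrank K L : ℕ∞) * Module.length A (A ⧸ Ideal.span {x}) :=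
    length_quotSMulTop_le' _ ((emb A B K L).comp M.subtype)
      ((emb_injective A B K L).comp (Submodule.subtype_injective M)) x hx0
  have hB : Module.length A (QuotSMulTop x B) ≤ Module.length A (QuotSMulTop x M) :=
    Module.length_le_of_surjective ψ hsurj
  have heq : Module.length A (QuotSMulTop x M) =
      (Module.finrank K L : ℕ∞) * Module.length A (A ⧸ Ideal.span {x}) :=
    le_antisymm hM (hc ▸ hB)
  have hadd := Module.length_eq_add_of_exact (LinearMap.ker ψ).subtype ψ
    (Submodule.subtype_injective _) hsurj (LinearMap.exact_subtype_ker_map ψ)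
  rw [heq, hc] at hadd
  have h0 : (0 : ℕ∞) = Module.length A (LinearMap.ker ψ) := by
    apply ENat.add_left_injective_of_ne_top hctop
    change 0 + _ = _ + _
    rw [zero_add]
    exact hadd
  have hsub : Subsingleton (LinearMap.ker ψ) := Module.length_eq_zero_iff.mp h0.symm
  rw [← LinearMap.ker_eq_bot]
  exact Submodule.eq_bot_of_subsingleton

omit [IsDomain A] [IsNoetherianRing A] [IsLocalRing A] [IsDomain B] [FaithfulSMul A B]
  [Ring.KrullDimLE 1 A] in
/-- Consequence of injectivity: `M ∩ xB = xM`. -/
theorem exists_smul_of_injective (M : Submodule A B)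
    (hinj : Injective (QuotSMulTop.map x M.subtype)) (m : B) (hm : m ∈ M) (b : B)
    (h : m = x • b) : ∃ m' ∈ M, m = x • m' := by
  have h0 : QuotSMulTop.map x M.subtype (Submodule.Quotient.mk ⟨m, hm⟩) = 0 := by
    rw [QuotSMulTop.map_apply_mk, Submodule.Quotient.mk_eq_zero]
    change m ∈ x • (⊤ : Submodule A B)
    rw [h]
    exact Submodule.smul_mem_pointwise_smul b x ⊤ Submodule.mem_top
  have h1 : (Submodule.Quotient.mk ⟨m, hm⟩ : QuotSMulTop x M) = 0 :=
    hinj (h0.trans (map_zero _).symm)
  rw [Submodule.Quotient.mk_eq_zero, Submodule.mem_smul_pointwise_iff_exists] at h1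
  obtain ⟨m'', -, hm''⟩ := h1
  refine ⟨m'', m''.2, ?_⟩
  have := congrArg Subtype.val hm''
  simpa using this.symm

include K L hx hx0 in
/-- If `ℓ(B/xB)` attains the bound then `B` is a finite `A`-module. -/
theorem finite_of_length_eq
    (hc : Module.length A (QuotSMulTop x B) =
      (Module.finrank K L : ℕ∞) * Module.length A (A ⧸ Ideal.span {x})) :
    Module.Finite A B := by
  classical
  have hctop : (Module.finrank K L : ℕ∞) * Module.length A (A ⧸ Ideal.span {x}) ≠ ⊤ :=
    WithTop.mul_ne_top (ENat.natCast_ne_top _)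
      (Groth.Agent.H73.KALength.length_quotient_span_ne_top x hx0)
  have hfl : IsFiniteLength A (QuotSMulTop x B) := by
    rw [← Module.length_ne_top_iff, hc]; exact hctop
  rw [isFiniteLength_iff_isNoetherian_isArtinian] at hfl
  haveI := hfl.1
  obtain ⟨G, hG⟩ := (Module.Finite.fg_top : (⊤ : Submodule A (QuotSMulTop x B)).FG)
  have hlift : ∀ q : QuotSMulTop x B, ∃ b : B, Submodule.Quotient.mk b = q :=
    fun q => Submodule.Quotient.mk_surjective _ q
  choose lift hlift using hlift
  let M₀ : Submodule A B := Submodule.span A (lift '' (G : Set (QuotSMulTop x B)))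
  have hM₀fg : M₀.FG := Submodule.fg_span (G.finite_toSet.image lift)
  -- surjectivity for any `M ≥ M₀`
  have hsurj : ∀ M : Submodule A B, M₀ ≤ M → Surjective (QuotSMulTop.map x M.subtype) := by
    intro M hM
    rw [← LinearMap.range_eq_top, eq_top_iff, ← hG, Submodule.span_le]
    intro q hq
    have hm : lift q ∈ M := hM (Submodule.subset_span ⟨q, hq, rfl⟩)
    refine ⟨Submodule.Quotient.mk ⟨lift q, hm⟩, ?_⟩
    rw [QuotSMulTop.map_apply_mk]
    exact hlift q
  -- every `b` lies in `M₀`
  have hall : ∀ b : B, b ∈ M₀ := by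
    intro b
    let M' : Submodule A B := M₀ ⊔ Submodule.span A {b}
    have hM'fg : M'.FG := hM₀fg.sup (Submodule.fg_span_singleton b)
    have hle : M₀ ≤ M' := le_sup_left
    have hinj' := key_injective A B K L x hx0 hc M' (hsurj M' hle)
    have hNak : M' ≤ M₀ ⊔ (Ideal.span {x}) • M' := by
      intro m' hm'
      obtain ⟨q, hq⟩ := hsurj M₀ le_rfl (Submodule.Quotient.mk m')
      obtain ⟨⟨m, hm⟩, rfl⟩ := Submodule.Quotient.mk_surjective _ q
      rw [QuotSMulTop.map_apply_mk] at hq
      have hq' : (Submodule.Quotient.mk (m' - m) : QuotSMulTop x B) = 0 := by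
        rw [Submodule.Quotient.mk_sub, sub_eq_zero]
        exact hq.symm
      rw [Submodule.Quotient.mk_eq_zero, Submodule.mem_smul_pointwise_iff_exists] at hq'
      obtain ⟨b', -, hb'⟩ := hq'
      have hdiff : m' - m ∈ M' := M'.sub_mem hm' (hle hm)
      obtain ⟨m'', hm''M, hm''⟩ :=
        exists_smul_of_injective A B x M' hinj' (m' - m) hdiff b' hb'.symm
      have : m' = m + x • m'' := by rw [← hm'']; ring
      rw [this]
      refine Submodule.add_mem_sup hm ?_
      exact Submodule.smul_mem_smul (Ideal.mem_span_singleton_self x) hm''M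
    have hjac : Ideal.span {x} ≤ Ideal.jacobson (⊥ : Ideal A) := by
      rw [IsLocalRing.jacobson_eq_maximalIdeal ⊥ bot_ne_top, Ideal.span_singleton_le_iff_mem]
      exact hx
    have := Submodule.le_of_le_smul_of_le_jacobson_bot hM'fg hjac hNak
    exact this (Submodule.mem_sup_right (Submodule.mem_span_singleton_self b))
  have htop : M₀ = ⊤ := eq_top_iff.mpr fun b _ => hall b
  exact Module.finite_def.mpr (htop ▸ hM₀fg)

end Eq

end Groth.Agent.H80.DegOrd
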