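import Mathlib
import Groth.Agent.H80.DegOrd4

/-!
# Degree–order inequality for one-dimensional local domains: the main statement (helper80)
-/

set_option autoImplicit false
set_option linter.style.haveILetI false
set_option linter.unusedSectionVars false

universe u

open Function IsLocalRing
open scoped Pointwise

namespace Groth.Agent.H80.DegOrd

theorem main (A B K L : Type u)
    [CommRing A] [IsDomain A] [IsNoetherianRing A] [IsLocalRing A] (hdim : ringKrullDim A = 1)
    [CommRing B] [IsDomain B] [Algebra A B] [FaithfulSMul A B] [Algebra.FiniteType A B]
    [Field K] [Field L] [Algebra A K] [IsFractionRing A K] [Algebra B L] [IsFractionRing B L]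
    [Algebra K L] [Algebra A L] [IsScalarTower A K L] [IsScalarTower A B L] [FiniteDimensional K L]
    (x : A) (hx : x ∈ IsLocalRing.maximalIdeal A) (hx0 : x ≠ 0) :
    Finite (MaximalSpectrum B) ∧
      (∑ᶠ m : MaximalSpectrum B,
          Module.length A (B ⧸ m.asIdeal) *
            Module.length (Localization.AtPrime m.asIdeal)
              (Localization.AtPrime m.asIdeal ⧸
                Ideal.span ({algebraMap A (Localization.AtPrime m.asIdeal) x} : Set _)) ≤
        (Module.finrank K L : ℕ∞) * Module.length A (A ⧸ Ideal.span ({x} : Set A))) ∧
      ((∑ᶠ m : MaximalSpectrum B,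
          Module.length A (B ⧸ m.asIdeal) *
            Module.length (Localization.AtPrime m.asIdeal)
              (Localization.AtPrime m.asIdeal ⧸
                Ideal.span ({algebraMap A (Localization.AtPrime m.asIdeal) x} : Set _)) =
        (Module.finrank K L : ℕ∞) * Module.length A (A ⧸ Ideal.span ({x} : Set A))) ↔
          Module.Finite A B) := by
  classical
  haveI : Ring.KrullDimLE 1 A := Ring.krullDimLE_iff.mpr hdim.le
  -- the right-hand side is nonzero
  have hRHS : (Module.finrank K L : ℕ∞) * Module.length A (A ⧸ Ideal.span ({x} : Set A)) ≠ 0 := by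
    apply mul_ne_zero
    · have : 0 < Module.finrank K L := Module.finrank_pos
      exact_mod_cast this.ne'
    · haveI : Nontrivial (A ⧸ Ideal.span ({x} : Set A)) := by
        apply Ideal.Quotient.nontrivial_iff.mpr
        intro h
        have hle : Ideal.span ({x} : Set A) ≤ maximalIdeal A :=
          (Ideal.span_singleton_le_iff_mem _).mpr hx
        rw [h, top_le_iff] at hle
        exact (IsLocalRing.maximalIdeal.isMaximal A).ne_top hle
      rw [Ne, Module.length_eq_zero_iff]
      exact not_subsingleton _
  -- finite ⇒ length equality
  have hfin_eq : Module.Finite A B → Module.length A (B ⧸ Ideal.span {algebraMap A B x}) =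
      (Module.finrank K L : ℕ∞) * Module.length A (A ⧸ Ideal.span ({x} : Set A)) := by
    intro hfin
    rw [← (quotEquiv A B x).length_eq]
    exact length_quotSMulTop_eq_of_finite _ (emb A B K L) (emb_injective A B K L)
      (emb_full A B K L) x hx0
  by_cases hy : IsUnit (algebraMap A B x)
  · -- `x` is a unit of `B`: every term vanishes
    have hsub : Subsingleton (MaximalSpectrum B) := by
      refine ⟨fun m m' => ?_⟩
      haveI := m.isMaximal
      haveI := m'.isMaximal
      have h1 : m.asIdeal = ⊥ := maximal_eq_bot A B K L hx m.asIdeal
        (fun h => m.isMaximal.ne_top (Ideal.eq_top_of_isUnit_mem _ h hy))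
      have h2 : m'.asIdeal = ⊥ := maximal_eq_bot A B K L hx m'.asIdeal
        (fun h => m'.isMaximal.ne_top (Ideal.eq_top_of_isUnit_mem _ h hy))
      exact MaximalSpectrum.ext (h1.trans h2.symm)
    have hterm : ∀ m : MaximalSpectrum B,
        Module.length A (B ⧸ m.asIdeal) *
          Module.length (Localization.AtPrime m.asIdeal)
            (Localization.AtPrime m.asIdeal ⧸
              Ideal.span ({algebraMap A (Localization.AtPrime m.asIdeal) x} : Set _)) = 0 := by
      intro m
      have hu : IsUnit (algebraMap A (Localization.AtPrime m.asIdeal) x) := by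
        rw [IsScalarTower.algebraMap_apply A B (Localization.AtPrime m.asIdeal)]
        exact hy.map _
      have htop : Ideal.span ({algebraMap A (Localization.AtPrime m.asIdeal) x} : Set _) = ⊤ :=
        Ideal.span_singleton_eq_top.mpr hu
      haveI : Subsingleton (Localization.AtPrime m.asIdeal ⧸
          Ideal.span ({algebraMap A (Localization.AtPrime m.asIdeal) x} : Set _)) := by
        rw [htop]
        exact Submodule.Quotient.subsingleton_iff.mpr rfl
      have h0 : Module.length (Localization.AtPrime m.asIdeal)
          (Localization.AtPrime m.asIdeal ⧸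
            Ideal.span ({algebraMap A (Localization.AtPrime m.asIdeal) x} : Set _)) = 0 :=
        Module.length_eq_zero
      rw [h0, mul_zero]
    have hS : (∑ᶠ m : MaximalSpectrum B,
        Module.length A (B ⧸ m.asIdeal) *
          Module.length (Localization.AtPrime m.asIdeal)
            (Localization.AtPrime m.asIdeal ⧸
              Ideal.span ({algebraMap A (Localization.AtPrime m.asIdeal) x} : Set _))) = 0 :=
      finsum_eq_zero_of_forall_eq_zero hterm
    have hlen0 : Module.length A (B ⧸ Ideal.span {algebraMap A B x}) = 0 := by
      have htop : Ideal.span {algebraMap A B x} = ⊤ := Ideal.span_singleton_eq_top.mpr hy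
      haveI : Subsingleton (B ⧸ Ideal.span {algebraMap A B x}) := by
        rw [htop]
        exact Submodule.Quotient.subsingleton_iff.mpr rfl
      exact Module.length_eq_zero
    refine ⟨inferInstance, ?_, ?_⟩
    · rw [hS]; exact zero_le
    · rw [hS]
      constructor
      · intro h
        exact absurd h.symm hRHS
      · intro hfin
        exact absurd ((hfin_eq hfin).symm.trans hlen0) hRHS
  · -- `x` is not a unit of `B`
    have hS := finsum_eq A B K L x hx hx0 hy
    refine ⟨finite_maximalSpectrum A B K L x hx hx0 hy, ?_, ?_⟩
    · rw [hS]
      exact length_quot_le A B K L x hx0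
    · rw [hS]
      constructor
      · intro h
        apply finite_of_length_eq A B K L x hx hx0
        rw [(quotEquiv A B x).length_eq]
        exact h
      · exact hfin_eq

end Groth.Agent.H80.DegOrd
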