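import Mathlib

/-!
# The different ideal commutes with localization
-/

namespace Groth.Agent.H80.DiffLoc

open scoped nonZeroDivisors

set_option linter.unusedSectionVars false
set_option linter.style.haveILetI false

variable (A B : Type*) [CommRing A] [CommRing B] [IsDedekindDomain A] [IsDedekindDomain B]
  [Algebra A B] [Module.Finite A B] [Module.IsTorsionFree A B]
  (S : Submonoid A) (hS : S ≤ nonZeroDivisors A)
  (Aₛ Bₛ : Type*) [CommRing Aₛ] [CommRing Bₛ] [Algebra A Aₛ] [Algebra B Bₛ] [Algebra Aₛ Bₛ]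
  [Algebra A Bₛ] [IsScalarTower A Aₛ Bₛ] [IsScalarTower A B Bₛ] [IsLocalization S Aₛ]
  [IsLocalization (Algebra.algebraMapSubmonoid B S) Bₛ] [IsDomain Aₛ] [IsIntegrallyClosed Aₛ]
  [IsDedekindDomain Bₛ] [Module.IsTorsionFree Aₛ Bₛ]
  (K L : Type*) [Field K] [Field L] [Algebra A K] [IsFractionRing A K] [Algebra B L]
  [IsFractionRing B L] [Algebra K L] [Algebra A L] [IsScalarTower A K L] [IsScalarTower A B L]
  [Algebra.IsSeparable K L] [FiniteDimensional K L]
  [Algebra Aₛ K] [IsScalarTower A Aₛ K] [Algebra Bₛ L] [IsScalarTower B Bₛ L] [Algebra Aₛ L]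
  [IsScalarTower Aₛ K L] [IsScalarTower Aₛ Bₛ L] [IsFractionRing Aₛ K] [IsFractionRing Bₛ L]
  [Module.IsTorsionFree B Bₛ] [IsIntegralClosure B A L] [IsIntegralClosure Bₛ Aₛ L]

include hS in
theorem extendedHom_dual_one :
    FractionalIdeal.extendedHom L Bₛ (FractionalIdeal.dual A K (1 : FractionalIdeal B⁰ L)) =
      FractionalIdeal.dual Aₛ K (1 : FractionalIdeal Bₛ⁰ L) := by
  have hf : B⁰ ≤ Submonoid.comap (algebraMap B Bₛ) Bₛ⁰ :=
    nonZeroDivisors_le_comap_nonZeroDivisors_of_injective _
      (FaithfulSMul.algebraMap_injective _ _)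
  have hmap : (IsLocalization.map (S := L) L (algebraMap B Bₛ) hf) = RingHom.id L := by
    apply IsLocalization.ringHom_ext B⁰
    rw [IsLocalization.map_comp, RingHom.id_comp, ← IsScalarTower.algebraMap_eq]
  have h1B : (1 : FractionalIdeal B⁰ L) ≠ 0 := one_ne_zero
  have h1Bs : (1 : FractionalIdeal Bₛ⁰ L) ≠ 0 := one_ne_zero
  -- `A → L` through `Bₛ`
  have htower : ∀ a : A, algebraMap A L a = algebraMap Bₛ L (algebraMap B Bₛ (algebraMap A B a)) := by
    intro a
    rw [← IsScalarTower.algebraMap_apply B Bₛ L, ← IsScalarTower.algebraMap_apply A B L]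
  apply FractionalIdeal.coeToSubmodule_injective
  beta_reduce
  rw [FractionalIdeal.extendedHom'_apply, FractionalIdeal.coe_extended_eq_span, hmap,
    RingHom.coe_id, Set.image_id]
  apply le_antisymm
  · rw [Submodule.span_le]
    intro x hx
    simp only [SetLike.mem_coe, FractionalIdeal.mem_coe] at hx ⊢
    rw [FractionalIdeal.mem_dual h1B] at hx
    rw [FractionalIdeal.mem_dual h1Bs]
    intro y hy
    obtain ⟨b', rfl⟩ := (FractionalIdeal.mem_one_iff _).mp hy
    obtain ⟨b, ⟨_, s, hs, rfl⟩, rfl⟩ :=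
      IsLocalization.exists_mk'_eq (Algebra.algebraMapSubmonoid B S) b'
    set y := algebraMap Bₛ L (IsLocalization.mk' Bₛ b
      (⟨algebraMap A B s, s, hs, rfl⟩ : Algebra.algebraMapSubmonoid B S)) with hy
    have hys : s • y = algebraMap B L b := by
      rw [Algebra.smul_def, htower, hy, ← map_mul, mul_comm, IsLocalization.mk'_spec,
        ← IsScalarTower.algebraMap_apply]
    obtain ⟨a, ha⟩ := hx (algebraMap B L b) ((FractionalIdeal.mem_one_iff _).mpr ⟨b, rfl⟩)
    refine ⟨IsLocalization.mk' Aₛ a ⟨s, hs⟩, ?_⟩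
    have hs0 : algebraMap A K s ≠ 0 := by
      rw [Ne, map_eq_zero_iff _ (IsFractionRing.injective A K)]
      exact nonZeroDivisors.ne_zero (hS hs)
    apply mul_right_cancel₀ hs0
    have e1 : algebraMap Aₛ K (IsLocalization.mk' Aₛ a ⟨s, hs⟩) * algebraMap A K s
        = algebraMap A K a := by
      rw [IsScalarTower.algebraMap_apply A Aₛ K s, ← map_mul, IsLocalization.mk'_spec,
        ← IsScalarTower.algebraMap_apply]
    have e2 : (Algebra.traceForm K L x) y * algebraMap A K s = algebraMap A K a := by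
      rw [ha, ← hys, Algebra.traceForm_apply, Algebra.traceForm_apply, mul_smul_comm,
        ← algebraMap_smul K s (x * y), map_smul, smul_eq_mul, mul_comm]
    rw [e1, e2]
  · intro x hx
    rw [FractionalIdeal.mem_coe, FractionalIdeal.mem_dual h1Bs] at hx
    obtain ⟨T, hT⟩ := Module.Finite.fg_top (R := A) (M := B)
    have h1 : ∀ b : B, ∃ c : Aₛ, algebraMap Aₛ K c = Algebra.traceForm K L x (algebraMap B L b) := by
      intro b
      apply hx
      rw [FractionalIdeal.mem_one_iff]
      exact ⟨algebraMap B Bₛ b, (IsScalarTower.algebraMap_apply B Bₛ L b).symm⟩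
    choose c hc using h1
    obtain ⟨s, hs⟩ := IsLocalization.exist_integer_multiples S T c
    have hsx : (s : A) • x ∈ FractionalIdeal.dual A K (1 : FractionalIdeal B⁰ L) := by
      rw [FractionalIdeal.mem_dual h1B]
      have key : ∀ b ∈ Submodule.span A (T : Set B),
          Algebra.traceForm K L ((s : A) • x) (algebraMap B L b) ∈ (algebraMap A K).range := by
        intro b hb
        induction hb using Submodule.span_induction with
        | mem b hb =>
          obtain ⟨a, ha⟩ := hs b hb
          refine ⟨a, ?_⟩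
          rw [Algebra.traceForm_apply, smul_mul_assoc, ← algebraMap_smul K (s : A), map_smul,
            ← Algebra.traceForm_apply, ← hc, smul_eq_mul, IsScalarTower.algebraMap_apply A Aₛ K a, ha,
            Algebra.smul_def, map_mul, ← IsScalarTower.algebraMap_apply A Aₛ K]
        | zero => exact ⟨0, by simp⟩
        | add b1 b2 _ _ h1 h2 =>
          obtain ⟨a1, ha1⟩ := h1
          obtain ⟨a2, ha2⟩ := h2
          exact ⟨a1 + a2, by rw [map_add, ha1, ha2, map_add, map_add]⟩
        | smul a b _ h =>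
          obtain ⟨a1, ha1⟩ := h
          refine ⟨a * a1, ?_⟩
          rw [Algebra.smul_def a b, map_mul (algebraMap B L), ← IsScalarTower.algebraMap_apply A B L,
            ← Algebra.smul_def a (algebraMap B L b), ← algebraMap_smul K a (algebraMap B L b),
            map_smul, smul_eq_mul, ← ha1, map_mul]
      intro y hy
      obtain ⟨b, rfl⟩ := (FractionalIdeal.mem_one_iff _).mp hy
      exact key b (hT ▸ Submodule.mem_top)
    have hsB : algebraMap A B s ∈ Algebra.algebraMapSubmonoid B S := ⟨s, s.2, rfl⟩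
    have : x = (IsLocalization.mk' Bₛ 1 (⟨algebraMap A B s, hsB⟩ : Algebra.algebraMapSubmonoid B S))
        • ((s : A) • x) := by
      rw [Algebra.smul_def, Algebra.smul_def, htower, ← mul_assoc, ← map_mul,
        IsLocalization.mk'_spec, map_one, map_one, one_mul]
    rw [this]
    exact Submodule.smul_mem _ _ (Submodule.subset_span hsx)


include hS K L in
theorem map_differentIdeal_aux :
    Ideal.map (algebraMap B Bₛ) (differentIdeal A B) = differentIdeal Aₛ Bₛ := by
  apply FractionalIdeal.coeIdeal_injective (K := L)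
  beta_reduce
  rw [coeIdeal_differentIdeal Aₛ K L Bₛ, ← extendedHom_dual_one A B S hS Aₛ Bₛ K L, ← map_inv₀,
    ← coeIdeal_differentIdeal A K L B, FractionalIdeal.extendedHom_coeIdeal_eq_map]

end Groth.Agent.H80.DiffLoc

namespace Groth.Agent.H80.DiffLoc

universe u

attribute [local instance] FractionRing.liftAlgebra FractionRing.isScalarTower_liftAlgebra

set_option linter.style.haveILetI false in
theorem map_differentIdeal (A B : Type u) [CommRing A] [CommRing B]
    [IsDedekindDomain A] [IsDedekindDomain B] [Algebra A B] [Module.Finite A B]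
    [Module.IsTorsionFree A B]
    [Algebra.IsSeparable (FractionRing A) (FractionRing B)]
    (S : Submonoid A) (hS : S ≤ nonZeroDivisors A)
    (Aₛ Bₛ : Type u) [CommRing Aₛ] [CommRing Bₛ] [Algebra A Aₛ] [Algebra B Bₛ] [Algebra Aₛ Bₛ]
    [Algebra A Bₛ] [IsScalarTower A Aₛ Bₛ] [IsScalarTower A B Bₛ]
    [IsLocalization S Aₛ] [IsLocalization (Algebra.algebraMapSubmonoid B S) Bₛ]
    [IsDomain Aₛ] [IsIntegrallyClosed Aₛ] [IsDedekindDomain Bₛ] [Module.IsTorsionFree Aₛ Bₛ] :
    Ideal.map (algebraMap B Bₛ) (differentIdeal A B) = differentIdeal Aₛ Bₛ := by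
  let K := FractionRing A
  let L := FractionRing B
  have hSB : Algebra.algebraMapSubmonoid B S ≤ nonZeroDivisors B :=
    Submonoid.map_le_of_le_comap _ <| hS.trans
      (nonZeroDivisors_le_comap_nonZeroDivisors_of_injective _
        (FaithfulSMul.algebraMap_injective _ _))
  -- `Aₛ → K`
  letI : Algebra Aₛ K := (IsLocalization.lift (M := S) (g := algebraMap A K) (fun s =>
    IsLocalization.map_units K (⟨s.1, hS s.2⟩ : nonZeroDivisors A))).toAlgebra
  haveI : IsScalarTower A Aₛ K := IsScalarTower.of_algebraMap_eq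
    (fun a => (IsLocalization.lift_eq _ a).symm)
  haveI : IsFractionRing Aₛ K := IsFractionRing.isFractionRing_of_isDomain_of_isLocalization S Aₛ K
  -- `Bₛ → L`
  letI : Algebra Bₛ L := (IsLocalization.lift (M := Algebra.algebraMapSubmonoid B S)
    (g := algebraMap B L) (fun s =>
    IsLocalization.map_units L (⟨s.1, hSB s.2⟩ : nonZeroDivisors B))).toAlgebra
  haveI : IsScalarTower B Bₛ L := IsScalarTower.of_algebraMap_eq
    (fun a => (IsLocalization.lift_eq _ a).symm)
  haveI : IsFractionRing Bₛ L :=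
    IsFractionRing.isFractionRing_of_isDomain_of_isLocalization (Algebra.algebraMapSubmonoid B S) Bₛ L
  letI : Algebra Aₛ L := ((algebraMap K L).comp (algebraMap Aₛ K)).toAlgebra
  haveI : IsScalarTower Aₛ K L := IsScalarTower.of_algebraMap_eq (fun _ => rfl)
  haveI : IsScalarTower Aₛ Bₛ L := by
    apply IsScalarTower.of_algebraMap_eq'
    apply IsLocalization.ringHom_ext S
    rw [RingHom.algebraMap_toAlgebra, RingHom.comp_assoc, ← IsScalarTower.algebraMap_eq A Aₛ K,
      ← IsScalarTower.algebraMap_eq A K L, RingHom.comp_assoc,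
      ← IsScalarTower.algebraMap_eq A Aₛ Bₛ, IsScalarTower.algebraMap_eq A B Bₛ,
      ← RingHom.comp_assoc, ← IsScalarTower.algebraMap_eq B Bₛ L,
      ← IsScalarTower.algebraMap_eq A B L]
  haveI : Module.IsTorsionFree B Bₛ := by
    rw [Module.isTorsionFree_iff_algebraMap_injective]
    exact IsLocalization.injective Bₛ hSB
  haveI : Module.Finite Aₛ Bₛ := Module.Finite.of_isLocalization A B S
  haveI : IsIntegralClosure Bₛ Aₛ L := IsIntegralClosure.of_isIntegrallyClosed Bₛ Aₛ L
  exact map_differentIdeal_aux A B S hS Aₛ Bₛ K L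

end Groth.Agent.H80.DiffLoc
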