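import Mathlib
import Groth.Agent.H91.SymPowProj
import Groth.Agent.H91.SymGrPhi

/-!
# Symmetric powers of projective modules are projective; retractions onto powers of an ideal
-/

set_option autoImplicit false

namespace Groth.Agent.H80.DiffSm

open TensorProduct Groth.Agent.H91 Groth.Agent.H91.SymGr

universe u v

section SymProj

variable {R : Type u} {ι : Type u} [CommRing R] [Fintype ι] {P : Type v} [AddCommGroup P]
  [Module R P]

omit [Fintype ι] in
theorem map_map_of_comp_eq_id {M : Type v} {N : Type*} [AddCommGroup M] [Module R M]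
    [AddCommGroup N] [Module R N] (s : M →ₗ[R] N) (π : N →ₗ[R] M) (h : π ∘ₗ s = LinearMap.id)
    (x : Sym[R] ι M) : SymPow.map π (SymPow.map s x) = x := by
  have : (SymPow.map (ι := ι) π) ∘ₗ (SymPow.map s) = LinearMap.id := by
    apply SymPow.hom_ext
    intro m
    simp only [LinearMap.comp_apply, SymPow.map_tprod, LinearMap.id_apply]
    congr 1
    funext i
    exact LinearMap.congr_fun h (m i)
  exact LinearMap.congr_fun this x

/-- The symmetric power of a projective module is projective. -/
theorem projective_sym [Module.Projective R P] : Module.Projective R (Sym[R] ι P) := by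
  classical
  obtain ⟨s, hs⟩ := (Module.projective_def' (R := R) (P := P)).mp inferInstance
  set π : (P →₀ R) →ₗ[R] P := Finsupp.linearCombination R id with hπ
  let b : Module.Basis P R (P →₀ R) := Finsupp.basisSingleOne
  let E := SymmetricAlgebra.equivMvPolynomial b
  let i : Sym[R] ι P →ₗ[R] MvPolynomial P R :=
    E.toLinearMap ∘ₗ SymPow.toSymAlg ∘ₗ SymPow.map s
  let l : MvPolynomial P R →ₗ[R] Sym[R] ι P := SymPow.map π ∘ₗ SymPow.leftInvFree (ι := ι) b
  refine Module.Projective.of_split i l ?_
  ext x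
  simp only [LinearMap.comp_apply, LinearMap.id_apply, i, l, AlgEquiv.toLinearMap_apply]
  rw [SymPow.leftInvFree_toSymAlg]
  exact map_map_of_comp_eq_id s π hs x

end SymProj

section Retract

variable {R S : Type u} [CommRing R] [CommRing S] [Algebra R S] (I : Ideal S)

/-- If `I^n/I^(n+1)` is projective, `I^(n+1)` is a direct summand of `I^n`. -/
theorem exists_retract_step (n : ℕ) [Module.Projective R (gr R I n)] :
    ∃ ρ : ↥((I ^ n).restrictScalars R) →ₗ[R] ↥((I ^ (n + 1)).restrictScalars R),
      ∀ y : ↥((I ^ n).restrictScalars R), (y : S) ∈ I ^ (n + 1) → ((ρ y : S)) = y := by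
  set N := ((I ^ (n + 1)).restrictScalars R).comap ((I ^ n).restrictScalars R).subtype with hN
  obtain ⟨s, hs⟩ := Module.projective_lifting_property N.mkQ LinearMap.id
    (Submodule.mkQ_surjective N)
  have hmem : ∀ y : ↥((I ^ n).restrictScalars R), ((y - s (N.mkQ y) : _) : S) ∈ I ^ (n + 1) := by
    intro y
    have h1 : N.mkQ (y - s (N.mkQ y)) = 0 := by
      rw [map_sub]
      have := LinearMap.congr_fun hs (N.mkQ y)
      simp only [LinearMap.comp_apply, LinearMap.id_apply] at this
      rw [this, sub_self]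
    rw [Submodule.mkQ_apply, Submodule.Quotient.mk_eq_zero] at h1
    exact h1
  let ρ₀ : ↥((I ^ n).restrictScalars R) →ₗ[R] ↥((I ^ n).restrictScalars R) :=
    LinearMap.id - s ∘ₗ N.mkQ
  refine ⟨(((I ^ n).restrictScalars R).subtype ∘ₗ ρ₀).codRestrict _ (fun y => hmem y), ?_⟩
  intro y hy
  have h0 : N.mkQ y = 0 := by
    rw [Submodule.mkQ_apply, Submodule.Quotient.mk_eq_zero]
    exact hy
  simp [ρ₀, h0]

/-- If all `I^k/I^(k+1)` are projective, `I^n` is a direct summand of `S`. -/
theorem exists_retract (h : ∀ k : ℕ, Module.Projective R (gr R I k)) (n : ℕ) :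
    ∃ r : S →ₗ[R] ↥((I ^ n).restrictScalars R), ∀ y : S, ∀ hy : y ∈ I ^ n, r y = ⟨y, hy⟩ := by
  induction n with
  | zero =>
    refine ⟨LinearMap.codRestrict _ LinearMap.id (fun y => by simp), fun y hy => rfl⟩
  | succ n ih =>
    obtain ⟨r, hr⟩ := ih
    haveI := h n
    obtain ⟨ρ, hρ⟩ := exists_retract_step (R := R) I n
    refine ⟨ρ ∘ₗ r, fun y hy => ?_⟩
    have hy' : y ∈ I ^ n := Ideal.pow_le_pow_right (Nat.le_succ n) hy
    apply Subtype.ext
    rw [LinearMap.comp_apply, hr y hy']
    exact hρ ⟨y, hy'⟩ hy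

end Retract

end Groth.Agent.H80.DiffSm
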