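import Groth.Agent.H80.DiffSmBC1

/-!
# The retraction `Λ : S → Sym^ι P` from bijectivity of the canonical maps, and injectivity from `Λ`
-/

set_option autoImplicit false

namespace Groth.Agent.H80.DiffSm

open TensorProduct Groth.Agent.H91 Groth.Agent.H91.SymGr

universe u v

section Lambda

variable {R S : Type u} [CommRing R] [CommRing S] [Algebra R S] (I : Ideal S)
  {P : Type u} [AddCommGroup P] [Module R P]
  (q : ↥(I.restrictScalars R) →ₗ[R] P)

/-- `I^n/I^(n+1)` is projective when it is isomorphic to a symmetric power of a projective module. -/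
theorem projective_gr [Module.Projective R P]
    (hφ : ∀ (ι : Type u) [Fintype ι], ∃ φ : Sym[R] ι P →ₗ[R] gr R I (Fintype.card ι),
      Function.Bijective φ) (k : ℕ) : Module.Projective R (gr R I k) := by
  obtain ⟨φ, hbij⟩ := hφ (ULift.{u} (Fin k))
  have hc : Fintype.card (ULift.{u} (Fin k)) = k := by simp
  haveI : Module.Projective R (Sym[R] (ULift.{u} (Fin k)) P) := projective_sym
  have h1 : Module.Projective R (gr R I (Fintype.card (ULift.{u} (Fin k)))) :=
    Module.Projective.of_equiv (LinearEquiv.ofBijective φ hbij)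
  rwa [hc] at h1

/-- From bijectivity of the canonical maps (and projectivity of `P`) we get linear maps
`Λ : S → Sym^ι P` sending products of elements of `I` to the symmetric tensors and killing
`I^(n+1)`. -/
theorem exists_Lambda_of_bijective [Module.Projective R P]
    (hφ : ∀ (ι : Type u) [Fintype ι], ∃ φ : Sym[R] ι P →ₗ[R] gr R I (Fintype.card ι),
      (∀ x : ι → ↥(I.restrictScalars R),
        φ (SymmetricPower.tprod R (fun i => q (x i))) = prodI I x) ∧ Function.Bijective φ)
    (ι : Type u) [Fintype ι] :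
    ∃ Λ : S →ₗ[R] Sym[R] ι P,
      (∀ x : ι → ↥(I.restrictScalars R),
        Λ (∏ i, (x i : S)) = SymmetricPower.tprod R (fun i => q (x i))) ∧
      ∀ y ∈ I ^ (Fintype.card ι + 1), Λ y = 0 := by
  have hproj : ∀ k : ℕ, Module.Projective R (gr R I k) :=
    projective_gr I (fun ι _ => by obtain ⟨φ, _, h⟩ := hφ ι; exact ⟨φ, h⟩)
  obtain ⟨φ, hφ1, hφ2⟩ := hφ ι
  obtain ⟨r, hr⟩ := exists_retract (R := R) I hproj (Fintype.card ι)
  let e := LinearEquiv.ofBijective φ hφ2
  refine ⟨e.symm.toLinearMap ∘ₗ (Submodule.mkQ _) ∘ₗ r, fun x => ?_, fun y hy => ?_⟩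
  · have hmem : ∏ i, (x i : S) ∈ I ^ Fintype.card ι := by
      simpa using prod_mem_pow_card I Finset.univ (fun i => ((x i : ↥(I.restrictScalars R)) : S))
          (fun i _ => (x i).2)
    simp only [LinearMap.comp_apply, LinearEquiv.coe_coe]
    rw [hr _ hmem, LinearEquiv.symm_apply_eq]
    change _ = φ _
    rw [hφ1 x, prodI_apply]
    rfl
  · have hy' : y ∈ I ^ Fintype.card ι := Ideal.pow_le_pow_right (Nat.le_succ _) hy
    simp only [LinearMap.comp_apply, LinearEquiv.coe_coe]
    rw [hr _ hy']
    have : Submodule.mkQ (((I ^ (Fintype.card ι + 1)).restrictScalars R).comap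
        ((I ^ (Fintype.card ι)).restrictScalars R).subtype) ⟨y, hy'⟩ = 0 := by
      rw [Submodule.mkQ_apply, Submodule.Quotient.mk_eq_zero]
      exact hy
    rw [this, map_zero]

/-- Injectivity of the canonical map from the existence of `Λ`. -/
theorem phi_injective_of_Lambda {ι : Type u} [Fintype ι] (hq : Function.Surjective q)
    (Λ : S →ₗ[R] Sym[R] ι P)
    (hΛ1 : ∀ x : ι → ↥(I.restrictScalars R),
        Λ (∏ i, (x i : S)) = SymmetricPower.tprod R (fun i => q (x i)))
    (hΛ2 : ∀ y ∈ I ^ (Fintype.card ι + 1), Λ y = 0)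
    (φ : Sym[R] ι P →ₗ[R] gr R I (Fintype.card ι))
    (hφ : ∀ x : ι → ↥(I.restrictScalars R),
        φ (SymmetricPower.tprod R (fun i => q (x i))) = prodI I x) :
    Function.Injective φ := by
  have hker : ((I ^ (Fintype.card ι + 1)).restrictScalars R).comap
      ((I ^ (Fintype.card ι)).restrictScalars R).subtype ≤
      LinearMap.ker (Λ ∘ₗ ((I ^ (Fintype.card ι)).restrictScalars R).subtype) := by
    intro y hy
    rw [LinearMap.mem_ker, LinearMap.comp_apply]
    exact hΛ2 _ hy
  let Ψ : gr R I (Fintype.card ι) →ₗ[R] Sym[R] ι P := Submodule.liftQ _ _ hker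
  have hΨφ : Ψ ∘ₗ φ = LinearMap.id := by
    apply SymPow.hom_ext
    intro m
    choose x hx using fun i => hq (m i)
    have h2 : m = fun i => q (x i) := by funext i; rw [hx]
    rw [h2, LinearMap.comp_apply, hφ, prodI_apply]
    show Λ (∏ i, (x i : S)) = _
    rw [hΛ1]
    rfl
  intro a b hab
  have := congrArg Ψ hab
  rwa [← LinearMap.comp_apply, ← LinearMap.comp_apply, hΨφ] at this

end Lambda

end Groth.Agent.H80.DiffSm
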