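import Groth.Agent.H80.DiffSmBC2

/-!
# Base change of the retraction `Λ`
-/

set_option autoImplicit false

namespace Groth.Agent.H80.DiffSm

open TensorProduct Groth.Agent.H91 Groth.Agent.H91.SymGr

universe u

section BaseChange

variable {R R' : Type u} [CommRing R] [CommRing R'] [Algebra R R']
  {S S' : Type u} [CommRing S] [CommRing S'] [Algebra R S] [Algebra R' S'] [Algebra R S']
  [IsScalarTower R R' S']
  (τ : S →ₐ[R] S') (hτ : IsBaseChange R' τ.toLinearMap)
  (I : Ideal S) (I' : Ideal S') (hII' : I' = I.map τ)

include hτ in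
/-- The `R'`-span of `τ(J)` is stable under multiplication by `S'`. -/
theorem mul_mem_span_image (J : Ideal S) (s' : S') (z : S')
    (hz : z ∈ Submodule.span R' (τ '' (J : Set S))) :
    s' * z ∈ Submodule.span R' (τ '' (J : Set S)) := by
  induction s' using hτ.inductionOn with
  | zero => rw [zero_mul]; exact zero_mem _
  | tmul s =>
    induction hz using Submodule.span_induction with
    | mem z hz =>
      obtain ⟨x, hx, rfl⟩ := hz
      have : τ.toLinearMap s * τ x = τ (s * x) := by simp
      rw [this]
      exact Submodule.subset_span ⟨s * x, J.mul_mem_left s hx, rfl⟩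
    | zero => rw [mul_zero]; exact zero_mem _
    | add a b _ _ ha hb => rw [mul_add]; exact add_mem ha hb
    | smul r a _ ha =>
      rw [mul_smul_comm]
      exact Submodule.smul_mem _ r ha
  | smul r s' ih =>
    rw [smul_mul_assoc]
    exact Submodule.smul_mem _ r ih
  | add a b ha hb => rw [add_mul]; exact add_mem ha hb

include hτ in
/-- The extended ideal is the `R'`-span of the image. -/
theorem map_eq_span_image (J : Ideal S) :
    ((J.map τ : Ideal S') : Set S') = (Submodule.span R' (τ '' (J : Set S)) : Set S') := by
  ext z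
  constructor
  · intro hz
    change z ∈ Ideal.span _ at hz
    induction hz using Submodule.span_induction with
    | mem z hz => exact Submodule.subset_span hz
    | zero => exact zero_mem _
    | add a b _ _ ha hb => exact add_mem ha hb
    | smul s' a _ ha => exact mul_mem_span_image τ hτ J s' a ha
  · intro hz
    induction hz using Submodule.span_induction with
    | mem z hz =>
      obtain ⟨x, hx, rfl⟩ := hz
      exact Ideal.mem_map_of_mem τ hx
    | zero => exact zero_mem _
    | add a b _ _ ha hb => exact add_mem ha hb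
    | smul r a _ ha =>
      rw [Algebra.smul_def]
      exact Ideal.mul_mem_left _ _ ha

variable {P P' : Type u} [AddCommGroup P] [Module R P] [AddCommGroup P'] [Module R' P']
  [Module R P'] [IsScalarTower R R' P']
  (q : ↥(I.restrictScalars R) →ₗ[R] P) (q' : ↥(I'.restrictScalars R') →ₗ[R'] P')
  (κ : P →ₗ[R] P')
  (hκ : ∀ (x : ↥(I.restrictScalars R)) (hx : τ (x : S) ∈ I'), q' ⟨τ (x : S), hx⟩ = κ (q x))
  {ι : Type u} [Fintype ι]

omit [Fintype ι] in
/-- The comparison map `Sym_R^ι P → Sym_{R'}^ι P'` (as an additive map). -/
noncomputable def symComp : Sym[R] ι P →+ Sym[R'] ι P' :=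
  letI : Module R (Sym[R'] ι P') := Module.compHom _ (algebraMap R R')
  haveI : IsScalarTower R R' (Sym[R'] ι P') := IsScalarTower.of_algebraMap_smul fun _ _ => rfl
  (SymPow.lift (((SymmetricPower.tprod R' (ι := ι) (M := P')).restrictScalars R).compLinearMap
    (fun _ => κ)) (fun e m => by
      simp only [MultilinearMap.compLinearMap_apply, MultilinearMap.coe_restrictScalars]
      exact SymmetricPower.tprod_equiv e (fun i => κ (m i)))).toAddMonoidHom

omit [Fintype ι] in
lemma symComp_tprod (m : ι → P) :
    symComp (R' := R') κ (SymmetricPower.tprod R m) = SymmetricPower.tprod R' (fun i => κ (m i)) := by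
  letI : Module R (Sym[R'] ι P') := Module.compHom _ (algebraMap R R')
  haveI : IsScalarTower R R' (Sym[R'] ι P') := IsScalarTower.of_algebraMap_smul fun _ _ => rfl
  simp only [symComp, LinearMap.toAddMonoidHom_coe, SymPow.lift_tprod,
    MultilinearMap.compLinearMap_apply, MultilinearMap.coe_restrictScalars]

omit [Fintype ι] in
lemma symComp_smul (r : R) (x : Sym[R] ι P) :
    symComp (R' := R') κ (r • x) = algebraMap R R' r • symComp (R' := R') (ι := ι) κ x := by
  letI : Module R (Sym[R'] ι P') := Module.compHom _ (algebraMap R R')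
  haveI : IsScalarTower R R' (Sym[R'] ι P') := IsScalarTower.of_algebraMap_smul fun _ _ => rfl
  simp only [symComp, LinearMap.toAddMonoidHom_coe, map_smul]
  rfl


include hτ hII' hκ in
/-- Base change of the retraction `Λ`. -/
theorem exists_Lambda_baseChange (Λ : S →ₗ[R] Sym[R] ι P)
    (hΛ1 : ∀ x : ι → ↥(I.restrictScalars R),
      Λ (∏ i, (x i : S)) = SymmetricPower.tprod R (fun i => q (x i)))
    (hΛ2 : ∀ y ∈ I ^ (Fintype.card ι + 1), Λ y = 0) :
    ∃ Λ' : S' →ₗ[R'] Sym[R'] ι P',
      (∀ x : ι → ↥(I'.restrictScalars R'),
        Λ' (∏ i, (x i : S')) = SymmetricPower.tprod R' (fun i => q' (x i))) ∧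
      ∀ y ∈ I' ^ (Fintype.card ι + 1), Λ' y = 0 := by
  classical
  letI : Module R (Sym[R'] ι P') := Module.compHom _ (algebraMap R R')
  haveI : IsScalarTower R R' (Sym[R'] ι P') := IsScalarTower.of_algebraMap_smul fun _ _ => rfl
  let g : S →ₗ[R] Sym[R'] ι P' :=
    { toFun := fun s => symComp (R' := R') κ (Λ s)
      map_add' := by intro a b; rw [map_add, map_add]
      map_smul' := by
        intro r s
        rw [map_smul, symComp_smul]
        rfl }
  let Λ' := hτ.lift g
  have hΛ' : ∀ s, Λ' (τ s) = symComp (R' := R') κ (Λ s) := fun s => hτ.lift_eq g s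
  refine ⟨Λ', ?_, ?_⟩
  · -- products
    have hmem : ∀ x : ↥(I.restrictScalars R), τ (x : S) ∈ I' := fun x => by
      rw [hII']; exact Ideal.mem_map_of_mem τ x.2
    let gen : ↥(I.restrictScalars R) → ↥(I'.restrictScalars R') := fun x => ⟨τ (x : S), hmem x⟩
    have hg : Submodule.span R' (Set.range gen) = ⊤ := by
      apply Submodule.map_injective_of_injective (I'.restrictScalars R').injective_subtype
      rw [Submodule.map_span, Submodule.map_subtype_top, ← Set.range_comp]
      have h1 : Set.range ((I'.restrictScalars R').subtype ∘ gen) = τ '' (I : Set S) := by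
        ext z
        constructor
        · rintro ⟨x, rfl⟩
          exact ⟨x, x.2, rfl⟩
        · rintro ⟨x, hx, rfl⟩
          exact ⟨⟨x, hx⟩, rfl⟩
      rw [h1]
      apply SetLike.coe_injective
      rw [← map_eq_span_image τ hτ I, hII']
      rfl
    let M1 : MultilinearMap R' (fun _ : ι => ↥(I'.restrictScalars R')) (Sym[R'] ι P') :=
      Λ'.compMultilinearMap ((MultilinearMap.mkPiAlgebra R' ι S').compLinearMap
        (fun _ => (I'.restrictScalars R').subtype))
    let M2 : MultilinearMap R' (fun _ : ι => ↥(I'.restrictScalars R')) (Sym[R'] ι P') :=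
      (SymmetricPower.tprod R' (ι := ι) (M := P')).compLinearMap (fun _ => q')
    have hM : M1 = M2 := by
      refine MultilinearMap.ext_of_span_eq_top (g := fun _ x => gen x) (fun _ => hg) (fun j => ?_)
      simp only [M1, M2, LinearMap.compMultilinearMap_apply, MultilinearMap.compLinearMap_apply,
        MultilinearMap.mkPiAlgebra_apply, Submodule.subtype_apply, gen]
      rw [← map_prod, hΛ', hΛ1, symComp_tprod]
      congr 1
      funext i
      exact (hκ (j i) (hmem (j i))).symm
    intro x
    exact congrArg (fun M => M x) hM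
  · intro y hy
    rw [hII', ← Ideal.map_pow] at hy
    have key : ∀ z ∈ Submodule.span R' (τ '' ((I ^ (Fintype.card ι + 1) : Ideal S) : Set S)),
        Λ' z = 0 := by
      intro z hz
      induction hz using Submodule.span_induction with
      | mem z hz =>
        obtain ⟨x, hx, rfl⟩ := hz
        rw [hΛ', hΛ2 x hx, map_zero]
      | zero => rw [map_zero]
      | add a b _ _ ha hb => rw [map_add, ha, hb, add_zero]
      | smul r a _ ha => rw [map_smul, ha, smul_zero]
    apply key
    have h1 := map_eq_span_image τ hτ (I ^ (Fintype.card ι + 1))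
    exact (Set.ext_iff.mp h1 y).mp hy

end BaseChange

end Groth.Agent.H80.DiffSm
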