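import Groth.Prelude.Def_PP16
import Groth.Agent.H80.DiffSmBC3
import Groth.Agent.H91.SymGrSurj

/-!
# Differential smoothness is stable under base change
-/

set_option autoImplicit false

namespace Groth.Agent.H80.DiffSm

open TensorProduct Groth.Agent.H91 Groth.Agent.H91.SymGr PP16

universe u

section General

variable (A B : Type u) [CommRing A] [CommRing B] [Algebra A B]

/-- The cotangent map of the diagonal ideal, as a `B`-linear map. -/
noncomputable abbrev qB : ↥((KaehlerDifferential.ideal A B).restrictScalars B) →ₗ[B] Ω[B⁄A] :=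
  (KaehlerDifferential.fromIdeal A B).restrictScalars B

/-- The generators `1 ⊗ b - b ⊗ 1` of the diagonal ideal. -/
noncomputable def gen (b : B) : ↥((KaehlerDifferential.ideal A B).restrictScalars B) :=
  ⟨(1 : B) ⊗ₜ[A] b - b ⊗ₜ[A] (1 : B), KaehlerDifferential.one_smul_sub_smul_one_mem_ideal A b⟩

theorem span_gen_eq_top : Submodule.span B (Set.range (gen A B)) = ⊤ := by
  apply Submodule.map_injective_of_injective
    ((KaehlerDifferential.ideal A B).restrictScalars B).injective_subtype
  rw [Submodule.map_span, Submodule.map_subtype_top, ← Set.range_comp]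
  exact KaehlerDifferential.submodule_span_range_eq_ideal A B

theorem qB_gen (b : B) : qB A B (gen A B b) = KaehlerDifferential.D A B b := rfl

theorem general_of_isDiffSmooth (h : PP16.IsDiffSmooth A B) (ι : Type u) [Fintype ι] :
    ∃ φ : Sym[B] ι Ω[B⁄A] →ₗ[B] gr B (KaehlerDifferential.ideal A B) (Fintype.card ι),
      (∀ x : ι → ↥((KaehlerDifferential.ideal A B).restrictScalars B),
        φ (SymmetricPower.tprod B (fun i => qB A B (x i))) =
          prodI (KaehlerDifferential.ideal A B) x) ∧ Function.Bijective φ := by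
  obtain ⟨φ, hφ1, hφ2⟩ := h.2 ι
  refine ⟨φ, ?_, hφ2⟩
  let M1 : MultilinearMap B (fun _ : ι => ↥((KaehlerDifferential.ideal A B).restrictScalars B))
      (gr B (KaehlerDifferential.ideal A B) (Fintype.card ι)) :=
    φ.compMultilinearMap ((SymmetricPower.tprod B (ι := ι) (M := Ω[B⁄A])).compLinearMap
      (fun _ => qB A B))
  have hM : M1 = prodI (R := B) (ι := ι) (KaehlerDifferential.ideal A B) := by
    refine MultilinearMap.ext_of_span_eq_top (g := fun _ b => gen A B b)
      (fun _ => span_gen_eq_top A B) (fun j => ?_)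
    exact hφ1 j
  intro x
  exact congrArg (fun M => M x) hM

end General

section BC

variable (A B A' B' : Type u) [CommRing A] [CommRing B] [Algebra A B]
  [CommRing A'] [CommRing B'] [Algebra A' B'] [Algebra A A'] [Algebra B B'] [Algebra A B']
  [IsScalarTower A A' B'] [IsScalarTower A B B']

/-- The map `B ⊗_A B → B' ⊗_{A'} B'` as a `B`-algebra map. -/
noncomputable def tauB : B ⊗[A] B →ₐ[B] B' ⊗[A'] B' :=
  { (tensorMap A B A' B').toRingHom with
    commutes' := fun b => by
      change tensorMap A B A' B' (b ⊗ₜ[A] (1 : B)) = algebraMap B B' b ⊗ₜ[A'] (1 : B')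
      rw [tensorMap_tmul, map_one] }

@[simp] theorem tauB_tmul (b c : B) :
    tauB A B A' B' (b ⊗ₜ c) = (algebraMap B B' b) ⊗ₜ (algebraMap B B' c) :=
  tensorMap_tmul A B A' B' b c

theorem isBaseChange_tauB [Algebra.IsPushout A B A' B'] :
    IsBaseChange B' (tauB A B A' B').toLinearMap := by
  have h1 : IsBaseChange B (TensorProduct.mk A B B 1) := TensorProduct.isBaseChange A B B
  refine IsBaseChange.of_comp h1 ?_
  have h2 : IsBaseChange A' (IsScalarTower.toAlgHom A B B').toLinearMap :=
    (Algebra.IsPushout.symm (inferInstanceAs (Algebra.IsPushout A B A' B'))).out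
  have h3 : IsBaseChange B' (TensorProduct.mk A' B' B' 1) := TensorProduct.isBaseChange A' B' B'
  have h4 := IsBaseChange.comp h2 h3
  have e : ((tauB A B A' B').toLinearMap.restrictScalars A) ∘ₗ (TensorProduct.mk A B B 1) =
      ((TensorProduct.mk A' B' B' 1).restrictScalars A) ∘ₗ
        (IsScalarTower.toAlgHom A B B').toLinearMap := by
    ext b
    simp
  rw [e]
  exact h4

theorem ideal_eq_map [Algebra.IsPushout A B A' B'] :
    KaehlerDifferential.ideal A' B' = (KaehlerDifferential.ideal A B).map (tauB A B A' B') := by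
  apply le_antisymm
  · have h2 : IsBaseChange A' (IsScalarTower.toAlgHom A B B').toLinearMap :=
      (Algebra.IsPushout.symm (inferInstanceAs (Algebra.IsPushout A B A' B'))).out
    have key : ∀ s : B', (1 : B') ⊗ₜ[A'] s - s ⊗ₜ[A'] (1 : B') ∈
        (KaehlerDifferential.ideal A B).map (tauB A B A' B') := by
      intro s
      induction s using h2.inductionOn with
      | zero => simp
      | tmul b =>
        have e : (1 : B') ⊗ₜ[A'] ((IsScalarTower.toAlgHom A B B').toLinearMap b) -
            ((IsScalarTower.toAlgHom A B B').toLinearMap b) ⊗ₜ[A'] (1 : B') =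
            tauB A B A' B' ((1 : B) ⊗ₜ[A] b - b ⊗ₜ[A] (1 : B)) := by
          simp
        rw [e]
        exact Ideal.mem_map_of_mem _ (KaehlerDifferential.one_smul_sub_smul_one_mem_ideal A b)
      | smul a' s ih =>
        have e : (1 : B') ⊗ₜ[A'] (a' • s) - (a' • s) ⊗ₜ[A'] (1 : B') =
            a' • ((1 : B') ⊗ₜ[A'] s - s ⊗ₜ[A'] (1 : B')) := by
          rw [smul_sub, TensorProduct.tmul_smul, ← TensorProduct.smul_tmul']
        rw [e, Algebra.smul_def]
        exact Ideal.mul_mem_left _ _ ih
      | add s t hs ht =>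
        have e : (1 : B') ⊗ₜ[A'] (s + t) - (s + t) ⊗ₜ[A'] (1 : B') =
            ((1 : B') ⊗ₜ[A'] s - s ⊗ₜ[A'] (1 : B')) +
              ((1 : B') ⊗ₜ[A'] t - t ⊗ₜ[A'] (1 : B')) := by
          rw [TensorProduct.tmul_add, TensorProduct.add_tmul]
          abel
        rw [e]
        exact add_mem hs ht
    rw [← KaehlerDifferential.span_range_eq_ideal, Ideal.span_le]
    rintro _ ⟨s, rfl⟩
    exact key s
  · exact ideal_map_tensorMap_le A B A' B'

theorem tauB_mem (x : ↥((KaehlerDifferential.ideal A B).restrictScalars B)) :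
    tauB A B A' B' (x : B ⊗[A] B) ∈ KaehlerDifferential.ideal A' B' :=
  ideal_map_tensorMap_le A B A' B' (Ideal.mem_map_of_mem _ x.2)

/-- `τ` restricted to the diagonal ideals. -/
noncomputable def tauI : ↥((KaehlerDifferential.ideal A B).restrictScalars B) →ₗ[B]
    ↥((KaehlerDifferential.ideal A' B').restrictScalars B') where
  toFun x := ⟨tauB A B A' B' (x : B ⊗[A] B), tauB_mem A B A' B' x⟩
  map_add' x y := by
    apply Subtype.ext
    simp
  map_smul' r x := by
    apply Subtype.ext
    simp

/-- Naturality of the cotangent maps. -/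
theorem qB_tauB (x : ↥((KaehlerDifferential.ideal A B).restrictScalars B))
    (hx : tauB A B A' B' (x : B ⊗[A] B) ∈ KaehlerDifferential.ideal A' B') :
    qB A' B' ⟨tauB A B A' B' (x : B ⊗[A] B), hx⟩ =
      KaehlerDifferential.map A A' B B' (qB A B x) := by
  let L1 : ↥((KaehlerDifferential.ideal A B).restrictScalars B) →ₗ[B] Ω[B'⁄A'] :=
    ((qB A' B').restrictScalars B) ∘ₗ tauI A B A' B'
  let L2 : ↥((KaehlerDifferential.ideal A B).restrictScalars B) →ₗ[B] Ω[B'⁄A'] :=
    (KaehlerDifferential.map A A' B B') ∘ₗ qB A B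
  have hL : L1 = L2 := by
    apply LinearMap.ext_on (span_gen_eq_top A B)
    rintro _ ⟨b, rfl⟩
    change qB A' B' (tauI A B A' B' (gen A B b)) =
      KaehlerDifferential.map A A' B B' (qB A B (gen A B b))
    rw [qB_gen, KaehlerDifferential.map_D, ← qB_gen]
    congr 1
    apply Subtype.ext
    simp [gen, tauI]
  exact LinearMap.congr_fun hL x

/-- **Differential smoothness is stable under base change.** -/
theorem isDiffSmooth_baseChange [Algebra.IsPushout A B A' B'] (h : PP16.IsDiffSmooth A B) :
    PP16.IsDiffSmooth A' B' := by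
  haveI : Module.Projective B Ω[B⁄A] := h.1
  have hproj' : Module.Projective B' Ω[B'⁄A'] := by
    haveI : Algebra.IsPushout A A' B B' :=
      Algebra.IsPushout.symm (inferInstanceAs (Algebra.IsPushout A B A' B'))
    exact Module.Projective.of_equiv (KaehlerDifferential.tensorKaehlerEquiv A A' B B')
  refine ⟨hproj', ?_⟩
  intro ι _
  let σ' : B' ⊗[A'] B' →ₐ[B'] B' := Algebra.TensorProduct.lmul'' A'
  have hI' : ∀ x, x ∈ KaehlerDifferential.ideal A' B' ↔ σ' x = 0 := fun x => Iff.rfl
  have hq' : Function.Surjective (qB A' B') := KaehlerDifferential.fromIdeal_surjective A' B'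
  have hq0' : ∀ x, qB A' B' x = 0 ↔
      (x : B' ⊗[A'] B') ∈ KaehlerDifferential.ideal A' B' ^ 2 :=
    fun x => Ideal.toCotangent_eq_zero _ x
  obtain ⟨φ', hφ'⟩ :=
    SymGr.exists_phi (ι := ι) (KaehlerDifferential.ideal A' B') (qB A' B') hq' hq0'
  obtain ⟨Λ, hΛ1, hΛ2⟩ := exists_Lambda_of_bijective (KaehlerDifferential.ideal A B) (qB A B)
    (general_of_isDiffSmooth A B h) ι
  obtain ⟨Λ', hΛ1', hΛ2'⟩ := exists_Lambda_baseChange (tauB A B A' B')
    (isBaseChange_tauB A B A' B') (KaehlerDifferential.ideal A B)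
    (KaehlerDifferential.ideal A' B') (ideal_eq_map A B A' B') (qB A B) (qB A' B')
    (KaehlerDifferential.map A A' B B') (qB_tauB A B A' B') Λ hΛ1 hΛ2
  refine ⟨φ', ?_, phi_injective_of_Lambda _ (qB A' B') hq' Λ' hΛ1' hΛ2' φ' hφ',
    SymGr.phi_surjective σ' _ hI' (qB A' B') φ' hφ'⟩
  intro b
  exact hφ' (fun i => gen A' B' (b i))

end BC

end Groth.Agent.H80.DiffSm
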