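import Groth.Agent.H80.DiffSmBC2

/-!
# Polynomials in generators of `I` versus `S / I^(m+1)` when the canonical maps are bijective
-/

set_option autoImplicit false

namespace Groth.Agent.H80.DiffSm

open TensorProduct Groth.Agent.H91 Groth.Agent.H91.SymGr MvPolynomial

universe u

section Words

variable {ι : Type} [Fintype ι] [DecidableEq ι]

/-- A word with a prescribed exponent vector. -/
theorem exists_word (s : ι →₀ ℕ) (κ : Type u) [Fintype κ]
    (hk : (s.sum fun _ e => e) = Fintype.card κ) :
    ∃ σ : κ → ι, ∀ (M : Type u) [CommMonoid M] (f : ι → M), ∏ j, f (σ j) = ∏ i, f i ^ s i := by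
  classical
  have hcard : Fintype.card κ = Fintype.card (Σ i : ι, Fin (s i)) := by
    rw [Fintype.card_sigma, ← hk, Finsupp.sum_fintype _ _ (fun _ => rfl)]
    simp
  let e : κ ≃ Σ i : ι, Fin (s i) := Fintype.equivOfCardEq hcard
  refine ⟨fun j => (e j).1, fun M _ f => ?_⟩
  rw [Equiv.prod_comp e (fun x => f x.1), Fintype.prod_sigma]
  refine Finset.prod_congr rfl fun i _ => ?_
  simp

end Words

section Main

variable {R S : Type u} [CommRing R] [CommRing S] [Algebra R S] (I : Ideal S)
  {P : Type u} [AddCommGroup P] [Module R P]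
  (q : ↥(I.restrictScalars R) →ₗ[R] P)
  {ι : Type} [Fintype ι] [DecidableEq ι] (b : Module.Basis ι R P)
  (g : ι → ↥(I.restrictScalars R)) (hg : ∀ i, q (g i) = b i)

/-- Evaluation of polynomials at the generators. -/
noncomputable def ev : MvPolynomial ι R →ₐ[R] S := MvPolynomial.aeval (fun i => ((g i : S)))

/-- The map `Sym^κ P → R[X_i]` sending `⊗ b_{σ j}` to `∏ X_{σ j}`. -/
noncomputable def toPoly (κ : Type u) [Fintype κ] : Sym[R] κ P →ₗ[R] MvPolynomial ι R :=
  (SymmetricAlgebra.equivMvPolynomial b).toLinearMap ∘ₗ SymPow.toSymAlg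

lemma toPoly_tprod_basis (κ : Type u) [Fintype κ] (σ : κ → ι) :
    toPoly b κ (SymmetricPower.tprod R (fun j => b (σ j))) = ∏ j, X (σ j) := by
  simp [toPoly, SymPow.toSymAlg_tprod, SymmetricAlgebra.equivMvPolynomial_ι_apply]

/-- Tensors of basis vectors span the symmetric power. -/
theorem span_tprod_basis (κ : Type u) [Fintype κ] :
    Submodule.span R (Set.range fun σ : κ → ι => SymmetricPower.tprod R (fun j => b (σ j))) =
      (⊤ : Submodule R (Sym[R] κ P)) := by
  set N := Submodule.span R (Set.range fun σ : κ → ι =>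
    SymmetricPower.tprod R (M := P) (fun j => b (σ j))) with hN
  have h0 : N.mkQ.compMultilinearMap (SymmetricPower.tprod R (ι := κ) (M := P)) = 0 := by
    refine MultilinearMap.ext_of_span_eq_top (g := fun _ i => b i) (fun _ => b.span_eq)
      (fun σ => ?_)
    simp only [LinearMap.compMultilinearMap_apply, zero_apply,
      Submodule.mkQ_apply, Submodule.Quotient.mk_eq_zero]
    exact Submodule.subset_span ⟨σ, rfl⟩
  rw [eq_top_iff, ← SymmetricPower.span_tprod_eq_top, Submodule.span_le]
  rintro _ ⟨m, rfl⟩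
  have := congrArg (fun M => M m) h0
  simpa [Submodule.Quotient.mk_eq_zero] using this

lemma prod_X_mem_restrictTotalDegree (κ : Type u) [Fintype κ] (σ : κ → ι) :
    (∏ j, X (σ j) : MvPolynomial ι R) ∈ restrictTotalDegree ι R (Fintype.card κ) := by
  rw [mem_restrictTotalDegree]
  refine (totalDegree_finsetProd _ _).trans ?_
  calc ∑ j, (X (σ j) : MvPolynomial ι R).totalDegree ≤ ∑ _j : κ, 1 :=
        Finset.sum_le_sum fun j _ => by
          rw [X]
          exact (totalDegree_monomial_le _ _).trans (by simp)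
    _ = Fintype.card κ := by simp

lemma toPoly_mem (κ : Type u) [Fintype κ] (y : Sym[R] κ P) :
    toPoly b κ y ∈ restrictTotalDegree ι R (Fintype.card κ) := by
  have hy : y ∈ Submodule.span R (Set.range fun σ : κ → ι =>
      SymmetricPower.tprod R (M := P) (fun j => b (σ j))) := by
    rw [span_tprod_basis]; trivial
  induction hy using Submodule.span_induction with
  | mem y hy =>
    obtain ⟨σ, rfl⟩ := hy
    rw [toPoly_tprod_basis]
    exact prod_X_mem_restrictTotalDegree κ σ
  | zero => rw [map_zero]; exact zero_mem _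
  | add a c _ _ ha hc => rw [map_add]; exact add_mem ha hc
  | smul r a _ ha => rw [map_smul]; exact Submodule.smul_mem _ r ha


section Surj

variable (hφ : ∀ (κ : Type u) [Fintype κ], ∃ φ : Sym[R] κ P →ₗ[R] gr R I (Fintype.card κ),
      (∀ x : κ → ↥(I.restrictScalars R),
        φ (SymmetricPower.tprod R (fun i => q (x i))) = prodI I x) ∧ Function.Bijective φ)

lemma ev_prod_X (κ : Type u) [Fintype κ] (σ : κ → ι) :
    ev I g (∏ j, X (σ j)) = ∏ j, ((g (σ j) : S)) := by
  simp [ev]

include hg hφ in
/-- One step: elements of `I^n` are polynomials of degree `≤ n` in the generators mod `I^(n+1)`. -/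
theorem exists_poly_step (κ : Type u) [Fintype κ] (x : S) (hx : x ∈ I ^ Fintype.card κ) :
    ∃ f ∈ restrictTotalDegree ι R (Fintype.card κ), x - ev I g f ∈ I ^ (Fintype.card κ + 1) := by
  obtain ⟨φ, hφ1, hφ2⟩ := hφ κ
  -- the class of ev (toPoly y) is φ y
  have hmem : ∀ y : Sym[R] κ P, ev I g (toPoly b κ y) ∈ I ^ Fintype.card κ := by
    intro y
    have hy : y ∈ Submodule.span R (Set.range fun σ : κ → ι =>
        SymmetricPower.tprod R (M := P) (fun j => b (σ j))) := by
      rw [span_tprod_basis]; trivial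
    induction hy using Submodule.span_induction with
    | mem y hy =>
      obtain ⟨σ, rfl⟩ := hy
      rw [toPoly_tprod_basis, ev_prod_X]
      simpa using prod_mem_pow_card I Finset.univ (fun j => ((g (σ j) : S))) (fun j _ => (g (σ j)).2)
    | zero => rw [map_zero, map_zero]; exact zero_mem _
    | add a c _ _ ha hc => rw [map_add, map_add]; exact add_mem ha hc
    | smul r a _ ha =>
      rw [map_smul, map_smul]
      exact ((I ^ Fintype.card κ).restrictScalars R).smul_mem r ha
  let Θ : Sym[R] κ P →ₗ[R] ↥((I ^ Fintype.card κ).restrictScalars R) :=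
    ((ev I g).toLinearMap ∘ₗ toPoly b κ).codRestrict _ hmem
  have hΘ : (Submodule.mkQ _) ∘ₗ Θ = φ := by
    apply LinearMap.ext_on (span_tprod_basis b κ)
    rintro _ ⟨σ, rfl⟩
    beta_reduce
    have h1 : (fun j => b (σ j)) = fun j => q (g (σ j)) := by funext j; rw [hg]
    rw [h1, hφ1, prodI_apply, LinearMap.comp_apply, Submodule.mkQ_apply]
    congr 1
    apply Subtype.ext
    simp only [Θ, LinearMap.codRestrict_apply, LinearMap.comp_apply, AlgHom.toLinearMap_apply]
    rw [← h1, toPoly_tprod_basis, ev_prod_X]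
  obtain ⟨y, hy⟩ := hφ2.2 (Submodule.mkQ _ ⟨x, hx⟩)
  refine ⟨toPoly b κ y, toPoly_mem b κ y, ?_⟩
  rw [← hΘ, LinearMap.comp_apply, Submodule.mkQ_apply, Submodule.mkQ_apply, eq_comm,
    Submodule.Quotient.eq] at hy
  exact hy

include hg hφ in
/-- Every element of `S` is a polynomial of degree `≤ m` in the generators modulo `I^(m+1)`. -/
theorem exists_poly (m : ℕ) (x : S) :
    ∃ f ∈ restrictTotalDegree ι R m, x - ev I g f ∈ I ^ (m + 1) := by
  have key : ∀ j : ℕ, j ≤ m + 1 → ∀ x ∈ I ^ (m + 1 - j),
      ∃ f ∈ restrictTotalDegree ι R m, x - ev I g f ∈ I ^ (m + 1) := by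
    intro j
    induction j with
    | zero =>
      intro _ x hx
      exact ⟨0, zero_mem _, by simpa using hx⟩
    | succ j ih =>
      intro hj x hx
      obtain ⟨κ, _, hκ⟩ : ∃ (κ : Type u) (_ : Fintype κ), Fintype.card κ = m + 1 - (j + 1) :=
        ⟨ULift.{u} (Fin (m + 1 - (j + 1))), inferInstance, by simp⟩
      rw [← hκ] at hx
      obtain ⟨f₁, hf₁, h1⟩ := exists_poly_step I q b g hg hφ κ x hx
      have hle : Fintype.card κ + 1 = m + 1 - j := by omega
      rw [hle] at h1
      obtain ⟨f₂, hf₂, h2⟩ := ih (by omega) _ h1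
      refine ⟨f₁ + f₂, add_mem (restrictSupport_mono R (fun n hn => ?_) hf₁) hf₂, ?_⟩
      · have hn' : (n.sum fun _ e => e) ≤ Fintype.card κ := hn
        show (n.sum fun _ e => e) ≤ m
        omega
      · rw [map_add]
        have : x - (ev I g f₁ + ev I g f₂) = x - ev I g f₁ - ev I g f₂ := by ring
        rw [this]
        exact h2
  exact key (m + 1) le_rfl x (by simp)

end Surj


section Inj

variable (hφ : ∀ (κ : Type u) [Fintype κ], ∃ φ : Sym[R] κ P →ₗ[R] gr R I (Fintype.card κ),
      (∀ x : κ → ↥(I.restrictScalars R),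
        φ (SymmetricPower.tprod R (fun i => q (x i))) = prodI I x) ∧ Function.Bijective φ)

lemma ev_monomial (s : ι →₀ ℕ) : ev I g (monomial s 1) = ∏ i, ((g i : S)) ^ s i := by
  rw [ev, aeval_monomial, map_one, one_mul, Finsupp.prod_fintype _ _ (fun i => pow_zero _)]

lemma ev_monomial_mem (s : ι →₀ ℕ) : ev I g (monomial s 1) ∈ I ^ (s.sum fun _ e => e) := by
  rw [ev_monomial, Finsupp.sum_fintype _ _ (fun _ => rfl), ← Finset.prod_pow_eq_pow_sum]
  exact Ideal.prod_mem_prod fun i _ => Ideal.pow_mem_pow (g i).2 _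

include hg hφ in
/-- A polynomial of degree `≤ m` in the generators lying in `I^(m+1)` vanishes. -/
theorem eq_zero_of_ev_mem (m : ℕ) (f : MvPolynomial ι R) (hf : f ∈ restrictTotalDegree ι R m)
    (hev : ev I g f ∈ I ^ (m + 1)) : f = 0 := by
  classical
  haveI : Module.Projective R P := Module.Projective.of_basis b
  have key : ∀ k : ℕ, ∀ s : ι →₀ ℕ, (s.sum fun _ e => e) = k → coeff s f = 0 := by
    intro k
    induction k using Nat.strong_induction_on with
    | _ k ih =>
    intro s hs
    by_cases hkm : m < k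
    · apply coeff_eq_zero_of_totalDegree_lt
      rw [mem_restrictTotalDegree] at hf
      have : ∑ i ∈ s.support, s i = k := hs
      omega
    · obtain ⟨κ, _, hκ⟩ : ∃ (κ : Type u) (_ : Fintype κ), Fintype.card κ = k :=
        ⟨ULift.{u} (Fin k), inferInstance, by simp⟩
      obtain ⟨Λ, hΛ1, hΛ2⟩ := exists_Lambda_of_bijective I q hφ κ
      let Φ : MvPolynomial ι R →ₗ[R] MvPolynomial ι R :=
        toPoly b κ ∘ₗ Λ ∘ₗ (ev I g).toLinearMap
      have hΦa : ∀ t : ι →₀ ℕ, (t.sum fun _ e => e) = k → Φ (monomial t 1) = monomial t 1 := by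
        intro t ht
        obtain ⟨σ, hσ⟩ := exists_word t κ (ht.trans hκ.symm)
        simp only [Φ, LinearMap.comp_apply, AlgHom.toLinearMap_apply]
        rw [ev_monomial, ← hσ S (fun i => ((g i : S))), hΛ1 (fun j => g (σ j))]
        have h1 : (fun j => q (g (σ j))) = fun j => b (σ j) := by funext j; rw [hg]
        rw [h1, toPoly_tprod_basis, hσ (MvPolynomial ι R) (fun i => X i), monomial_eq, map_one,
          one_mul, Finsupp.prod_fintype _ _ (fun i => pow_zero _)]
      have hΦb : ∀ t : ι →₀ ℕ, k < (t.sum fun _ e => e) → Φ (monomial t 1) = 0 := by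
        intro t ht
        simp only [Φ, LinearMap.comp_apply, AlgHom.toLinearMap_apply]
        rw [hΛ2 _ (Ideal.pow_le_pow_right (by omega) (ev_monomial_mem I g t)), map_zero]
      have hΦc : Φ f = 0 := by
        simp only [Φ, LinearMap.comp_apply, AlgHom.toLinearMap_apply]
        rw [hΛ2 _ (Ideal.pow_le_pow_right (by omega) hev), map_zero]
      have hΦf : Φ f = ∑ t ∈ f.support, coeff t f • Φ (monomial t 1) := by
        conv_lhs => rw [← support_sum_monomial_coeff f]
        rw [map_sum]
        refine Finset.sum_congr rfl fun t _ => ?_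
        rw [← map_smul, smul_monomial, smul_eq_mul, mul_one]
      have h2 : coeff s (Φ f) = ∑ t ∈ f.support, if t = s then coeff t f else 0 := by
        rw [hΦf, coeff_sum]
        refine Finset.sum_congr rfl fun t _ => ?_
        rw [coeff_smul, smul_eq_mul]
        rcases lt_trichotomy (t.sum fun _ e => e) k with h | h | h
        · rw [ih _ h t rfl, zero_mul]
          simp
        · rw [hΦa t h, coeff_monomial]
          split_ifs <;> simp
        · rw [hΦb t h, coeff_zero, mul_zero]
          split_ifs with hts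
          · subst hts; omega
          · rfl
      rw [hΦc, coeff_zero, Finset.sum_ite_eq'] at h2
      split_ifs at h2 with hsupp
      · exact h2.symm
      · exact notMem_support_iff.mp hsupp
  ext s
  rw [coeff_zero]
  exact key _ s rfl

end Inj

end Main

end Groth.Agent.H80.DiffSm
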