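import Groth.Agent.H80.DiffSmBC4
import Groth.Agent.H80.DiffSmBasis1

/-!
# The monomial basis of the principal parts of a differentially smooth algebra
-/

set_option autoImplicit false

namespace Groth.Agent.H80.DiffSm

open TensorProduct Groth.Agent.H91 Groth.Agent.H91.SymGr MvPolynomial PP16

universe u

section

variable (A B : Type u) [CommRing A] [CommRing B] [Algebra A B]
  (ι : Type) [Fintype ι] [DecidableEq ι] (z : ι → B) (m : ℕ)

/-- The exponent vector as a finitely supported function. -/
noncomputable def expS (p : ι → ℕ) : ι →₀ ℕ := Finsupp.equivFunOnFinite.symm p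

omit [DecidableEq ι] in
lemma expS_apply (p : ι → ℕ) (i : ι) : expS ι p i = p i := rfl

omit [DecidableEq ι] in
lemma expS_sum (p : ι → ℕ) : ((expS ι p).sum fun _ e => e) = ∑ i, p i := by
  rw [Finsupp.sum_fintype _ _ (fun _ => rfl)]
  rfl

omit [DecidableEq ι] in
lemma expS_injective : Function.Injective (expS ι) := Finsupp.equivFunOnFinite.symm.injective

/-- The monomials in `ζ_i = d^m z_i - z_i`. -/
noncomputable def zetaMon (p : ι → ℕ) : P m A B :=
  ∏ i, (dn m A B (z i) - algebraMap B (P m A B) (z i)) ^ (p i)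

lemma mk_gen (b : B) :
    Ideal.Quotient.mk (KaehlerDifferential.ideal A B ^ (m + 1)) ((gen A B b : B ⊗[A] B)) =
      dn m A B b - algebraMap B (P m A B) b := by
  rw [gen]
  simp only [map_sub]
  rfl

lemma zetaMon_eq (p : ι → ℕ) :
    zetaMon A B ι z m p = Ideal.Quotient.mk (KaehlerDifferential.ideal A B ^ (m + 1))
      (ev (KaehlerDifferential.ideal A B) (fun i => gen A B (z i)) (monomial (expS ι p) 1)) := by
  rw [ev_monomial, map_prod, zetaMon]
  refine Finset.prod_congr rfl fun i _ => ?_
  rw [map_pow, mk_gen, expS_apply]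

end

section Main

variable (A B : Type u) [CommRing A] [CommRing B] [Algebra A B]
  (hB : PP16.IsDiffSmooth A B) (ι : Type) [Fintype ι] [DecidableEq ι] (z : ι → B)
  (b : Module.Basis ι B Ω[B⁄A]) (hb : ∀ i, b i = KaehlerDifferential.D A B (z i)) (m : ℕ)

include hB hb in
theorem zetaMon_linearIndependent :
    LinearIndependent B (fun p : {p : ι → ℕ // ∑ i, p i ≤ m} => zetaMon A B ι z m p.1) := by
  classical
  have hg : ∀ i, qB A B (gen A B (z i)) = b i := fun i => (qB_gen A B (z i)).trans (hb i).symm
  rw [linearIndependent_iff]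
  intro l hl
  let f : MvPolynomial ι B := ∑ p ∈ l.support, monomial (expS ι p.1) (l p)
  have hf : f ∈ restrictTotalDegree ι B m := by
    refine Submodule.sum_mem _ fun p _ => ?_
    rw [restrictTotalDegree, monomial_mem_restrictSupport]
    left
    show ((expS ι p.1).sum fun _ e => e) ≤ m
    rw [expS_sum]
    exact p.2
  have hev : ev (KaehlerDifferential.ideal A B) (fun i => gen A B (z i)) f ∈
      KaehlerDifferential.ideal A B ^ (m + 1) := by
    rw [← Ideal.Quotient.eq_zero_iff_mem, ← hl, Finsupp.linearCombination_apply, Finsupp.sum,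
      map_sum, map_sum]
    refine Finset.sum_congr rfl fun p _ => ?_
    have h1 : monomial (expS ι p.1) (l p) = l p • monomial (expS ι p.1) (1 : B) := by
      rw [smul_monomial, smul_eq_mul, mul_one]
    rw [h1, map_smul, zetaMon_eq, Algebra.smul_def, Algebra.smul_def, map_mul]
    rfl
  have hf0 := eq_zero_of_ev_mem (KaehlerDifferential.ideal A B) (qB A B) b
    (fun i => gen A B (z i)) hg (general_of_isDiffSmooth A B hB) m f hf hev
  ext p₀
  have h2 : coeff (expS ι p₀.1) f = l p₀ := by
    simp only [f, coeff_sum, coeff_monomial]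
    have h3 : ∀ p : {p : ι → ℕ // ∑ i, p i ≤ m},
        (if expS ι p.1 = expS ι p₀.1 then l p else 0) = if p = p₀ then l p else 0 := by
      intro p
      by_cases h : p = p₀
      · subst h; simp
      · have : expS ι p.1 ≠ expS ι p₀.1 := fun e => h (Subtype.ext (expS_injective ι e))
        simp [h, this]
    rw [Finset.sum_congr rfl (fun p _ => h3 p), Finset.sum_ite_eq']
    split_ifs with hs
    · rfl
    · exact (Finsupp.notMem_support_iff.mp hs).symm
  rw [← h2, hf0, coeff_zero]
  rfl

include hB hb in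
theorem zetaMon_span :
    ⊤ ≤ Submodule.span B
      (Set.range fun p : {p : ι → ℕ // ∑ i, p i ≤ m} => zetaMon A B ι z m p.1) := by
  classical
  have hg : ∀ i, qB A B (gen A B (z i)) = b i := fun i => (qB_gen A B (z i)).trans (hb i).symm
  intro x _
  obtain ⟨t, rfl⟩ := Ideal.Quotient.mk_surjective x
  obtain ⟨f, hf, hfx⟩ := exists_poly (KaehlerDifferential.ideal A B) (qB A B) b
    (fun i => gen A B (z i)) hg (general_of_isDiffSmooth A B hB) m t
  rw [← Ideal.Quotient.eq_zero_iff_mem, map_sub, sub_eq_zero] at hfx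
  rw [hfx, ← support_sum_monomial_coeff f, map_sum, map_sum]
  refine Submodule.sum_mem _ fun n hn => ?_
  have h1 : monomial n (coeff n f) = coeff n f • monomial n (1 : B) := by
    rw [smul_monomial, smul_eq_mul, mul_one]
  have hdeg : (n.sum fun _ e => e) ≤ m := hf hn
  have hsum : ∑ i, n i ≤ m := by
    rwa [Finsupp.sum_fintype _ _ (fun _ => rfl)] at hdeg
  have hn' : expS ι (fun i => n i) = n := by
    ext i; rfl
  rw [h1, map_smul, Algebra.smul_def, map_mul]
  have h2 : Ideal.Quotient.mk (KaehlerDifferential.ideal A B ^ (m + 1))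
      (ev (KaehlerDifferential.ideal A B) (fun i => gen A B (z i)) (monomial n 1)) =
      zetaMon A B ι z m (fun i => n i) := by
    rw [zetaMon_eq, hn']
  rw [h2]
  have h3 : zetaMon A B ι z m (fun i => n i) ∈ Submodule.span B
      (Set.range fun p : {p : ι → ℕ // ∑ i, p i ≤ m} => zetaMon A B ι z m p.1) :=
    Submodule.subset_span ⟨⟨fun i => n i, hsum⟩, rfl⟩
  have h4 := Submodule.smul_mem _ (coeff n f) h3
  rw [Algebra.smul_def] at h4
  exact h4

include hB hb in
/-- The monomial basis of `P^m_{B/A}`. -/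
theorem exists_monomialBasis :
    ∃ bas : Module.Basis {p : ι → ℕ // ∑ i, p i ≤ m} B (PP16.P m A B),
      ∀ p, bas p = ∏ i, (PP16.dn m A B (z i) - algebraMap B (PP16.P m A B) (z i)) ^ (p.1 i) :=
  ⟨Module.Basis.mk (zetaMon_linearIndependent A B hB ι z b hb m) (zetaMon_span A B hB ι z b hb m),
    fun p => by rw [Module.Basis.mk_apply]; rfl⟩

end Main


end Groth.Agent.H80.DiffSm
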