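import Groth.Agent.H80.DiffSmBC4
import Groth.Agent.H80.DiffSmBasis1
import Groth.Agent.H80.ProjDescent

/-!
# Faithfully flat descent of differential smoothness
-/

set_option autoImplicit false

namespace Groth.Agent.H80.DiffSm

open TensorProduct Groth.Agent.H91 Groth.Agent.H91.SymGr PP16 MvPolynomial

universe u

section SymCompInj

variable {R R' : Type u} [CommRing R] [CommRing R'] [Algebra R R']
  {P P' : Type u} [AddCommGroup P] [Module R P] [AddCommGroup P'] [Module R' P']
  [Module R P'] [IsScalarTower R R' P']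
  (κ : P →ₗ[R] P') (hκ : IsBaseChange R' κ)
  {ι : Type u} [Fintype ι]

/-- The linear forms `v ↦ Σ v_j X_j`. -/
noncomputable def linForm (R : Type u) [CommRing R] (n : ℕ) :
    (Fin n → R) →ₗ[R] MvPolynomial (Fin n) R :=
  (SymmetricAlgebra.equivMvPolynomial (Pi.basisFun R (Fin n))).toLinearMap ∘ₗ
    SymmetricAlgebra.ι R (Fin n → R)

lemma linForm_single (R : Type u) [CommRing R] (n : ℕ) (j : Fin n) :
    linForm R n (Pi.single j 1) = X j := by
  have := SymmetricAlgebra.equivMvPolynomial_ι_apply (Pi.basisFun R (Fin n)) j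
  simpa [linForm] using this

lemma map_linForm (n : ℕ) (v : Fin n → R) :
    MvPolynomial.map (algebraMap R R') (linForm R n v) =
      linForm R' n (fun j => algebraMap R R' (v j)) := by
  let L1 : (Fin n → R) →ₗ[R] MvPolynomial (Fin n) R' :=
    (MvPolynomial.mapAlgHom (Algebra.ofId R R')).toLinearMap ∘ₗ linForm R n
  let L2 : (Fin n → R) →ₗ[R] MvPolynomial (Fin n) R' :=
    ((linForm R' n).restrictScalars R) ∘ₗ (Algebra.linearMap R R').compLeft (Fin n)
  have h : L1 = L2 := by
    apply (Pi.basisFun R (Fin n)).ext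
    intro j
    simp only [L1, L2, LinearMap.comp_apply, Pi.basisFun_apply, AlgHom.toLinearMap_apply,
      LinearMap.coe_restrictScalars]
    rw [linForm_single]
    have e : ((Algebra.linearMap R R').compLeft (Fin n)) (Pi.single j (1 : R)) =
        Pi.single j (1 : R') := by
      funext k
      by_cases hk : k = j
      · subst hk; simp
      · simp [hk]
    rw [e, linForm_single]
    simp
  exact LinearMap.congr_fun h v

lemma toPoly_tprod (n : ℕ) (v : ι → (Fin n → R)) :
    toPoly (Pi.basisFun R (Fin n)) ι (SymmetricPower.tprod R v) = ∏ i, linForm R n (v i) := by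
  simp [toPoly, SymPow.toSymAlg_tprod, linForm]

lemma toPoly_injective (n : ℕ) :
    Function.Injective (toPoly (Pi.basisFun R (Fin n)) ι) := by
  intro x y hxy
  have hx := SymPow.leftInvFree_toSymAlg (ι := ι) (Pi.basisFun R (Fin n)) x
  have hy := SymPow.leftInvFree_toSymAlg (ι := ι) (Pi.basisFun R (Fin n)) y
  have : SymmetricAlgebra.equivMvPolynomial (Pi.basisFun R (Fin n)) (SymPow.toSymAlg x) =
      SymmetricAlgebra.equivMvPolynomial (Pi.basisFun R (Fin n)) (SymPow.toSymAlg y) := hxy
  rw [← hx, ← hy, this]

include hκ in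
/-- The comparison map of symmetric powers is injective for a finite projective module when
`R → R'` is injective. -/
theorem symComp_injective [Module.Finite R P] [Module.Projective R P]
    (hinj : Function.Injective (algebraMap R R')) :
    Function.Injective (symComp (R' := R') (ι := ι) κ) := by
  classical
  obtain ⟨n, f, g, -, -, hfg⟩ := Module.Finite.exists_comp_eq_id_of_projective R P
  let c : (Fin n → R) →ₗ[R] (Fin n → R') := (Algebra.linearMap R R').compLeft (Fin n)
  let g' : P' →ₗ[R'] (Fin n → R') := hκ.lift (c ∘ₗ g)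
  have hg' : ∀ p, g' (κ p) = fun j => algebraMap R R' (g p j) := fun p => hκ.lift_eq (c ∘ₗ g) p
  let TR : Sym[R] ι P →ₗ[R] MvPolynomial (Fin n) R :=
    toPoly (Pi.basisFun R (Fin n)) ι ∘ₗ SymPow.map g
  let TR' : Sym[R'] ι P' →ₗ[R'] MvPolynomial (Fin n) R' :=
    toPoly (Pi.basisFun R' (Fin n)) ι ∘ₗ SymPow.map g'
  have hTR : Function.Injective TR := by
    intro x y hxy
    have h1 : SymPow.map g x = SymPow.map g y := toPoly_injective n hxy
    have := congrArg (SymPow.map f) h1
    rwa [map_map_of_comp_eq_id g f hfg, map_map_of_comp_eq_id g f hfg] at this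
  have key : ∀ x : Sym[R] ι P, TR' (symComp (R' := R') κ x) =
      MvPolynomial.map (algebraMap R R') (TR x) := by
    intro x
    have hx : x ∈ Submodule.span R (Set.range (SymmetricPower.tprod R (ι := ι) (M := P))) := by
      rw [SymmetricPower.span_tprod_eq_top]; trivial
    induction hx using Submodule.span_induction with
    | mem y hy =>
      obtain ⟨m, rfl⟩ := hy
      rw [symComp_tprod]
      simp only [TR, TR', LinearMap.comp_apply, SymPow.map_tprod, toPoly_tprod, map_prod]
      refine Finset.prod_congr rfl fun i _ => ?_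
      rw [hg', map_linForm]
    | zero => simp
    | add a b _ _ ha hb => rw [map_add, map_add, map_add, map_add, ha, hb]
    | smul r a _ ha =>
      rw [symComp_smul, map_smul, map_smul, ha, MvPolynomial.smul_eq_C_mul,
        MvPolynomial.smul_eq_C_mul, map_mul, MvPolynomial.map_C]
  rw [injective_iff_map_eq_zero]
  intro x hx
  apply hTR
  apply MvPolynomial.map_injective _ hinj
  rw [← key, hx, map_zero, map_zero, map_zero]

end SymCompInj

section Descent

variable (A B A' B' : Type u) [CommRing A] [CommRing B] [Algebra A B]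
  [CommRing A'] [CommRing B'] [Algebra A' B'] [Algebra A A'] [Algebra B B'] [Algebra A B']
  [IsScalarTower A A' B'] [IsScalarTower A B B']

theorem faithfullyFlat_of_isPushout [Algebra.IsPushout A B A' B'] [Module.FaithfullyFlat A A'] :
    Module.FaithfullyFlat B B' :=
  Module.FaithfullyFlat.of_linearEquiv (R := B) (M := B ⊗[A] A') (N := B')
    (Algebra.IsPushout.equiv A B A' B').symm.toLinearEquiv

theorem isBaseChange_map [Algebra.IsPushout A B A' B'] :
    IsBaseChange B' (KaehlerDifferential.map A A' B B') := by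
  haveI : Algebra.IsPushout A A' B B' :=
    Algebra.IsPushout.symm (inferInstanceAs (Algebra.IsPushout A B A' B'))
  refine IsBaseChange.of_equiv (KaehlerDifferential.tensorKaehlerEquiv A A' B B') ?_
  have h : ((KaehlerDifferential.tensorKaehlerEquiv A A' B B').toLinearMap.restrictScalars B) ∘ₗ
      (TensorProduct.mk B B' Ω[B⁄A] 1) = KaehlerDifferential.map A A' B B' := by
    apply LinearMap.ext_on (KaehlerDifferential.span_range_derivation A B)
    rintro _ ⟨b, rfl⟩
    simp
  exact fun x => LinearMap.congr_fun h x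

/-- **Faithfully flat descent of differential smoothness.** -/
theorem isDiffSmooth_of_faithfullyFlat [Algebra.IsPushout A B A' B'] [Module.FaithfullyFlat A A']
    (h : PP16.IsDiffSmooth A' B') (hfin : Module.Finite B' Ω[B'⁄A']) :
    PP16.IsDiffSmooth A B ∧ Module.Finite B Ω[B⁄A] := by
  haveI : Module.FaithfullyFlat B B' := faithfullyFlat_of_isPushout A B A' B'
  haveI : Algebra.IsPushout A A' B B' :=
    Algebra.IsPushout.symm (inferInstanceAs (Algebra.IsPushout A B A' B'))
  haveI hproj' : Module.Projective B' Ω[B'⁄A'] := h.1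
  let e := KaehlerDifferential.tensorKaehlerEquiv A A' B B'
  haveI : Module.Finite B' (B' ⊗[B] Ω[B⁄A]) := Module.Finite.equiv e.symm
  haveI : Module.Projective B' (B' ⊗[B] Ω[B⁄A]) := Module.Projective.of_equiv e.symm
  haveI hfinB : Module.Finite B Ω[B⁄A] :=
    Module.Finite.of_finite_tensorProduct_of_faithfullyFlat B'
  haveI hprojB : Module.Projective B Ω[B⁄A] := Groth.Agent.H80.ProjDescent.main B B' Ω[B⁄A]
  refine ⟨⟨hprojB, ?_⟩, hfinB⟩
  intro ι _
  let σ : B ⊗[A] B →ₐ[B] B := Algebra.TensorProduct.lmul'' A
  have hI : ∀ x, x ∈ KaehlerDifferential.ideal A B ↔ σ x = 0 := fun x => Iff.rfl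
  have hq : Function.Surjective (qB A B) := KaehlerDifferential.fromIdeal_surjective A B
  have hq0 : ∀ x, qB A B x = 0 ↔ (x : B ⊗[A] B) ∈ KaehlerDifferential.ideal A B ^ 2 :=
    fun x => Ideal.toCotangent_eq_zero _ x
  obtain ⟨φ, hφ⟩ := SymGr.exists_phi (ι := ι) (KaehlerDifferential.ideal A B) (qB A B) hq hq0
  obtain ⟨Λ', hΛ1', hΛ2'⟩ := exists_Lambda_of_bijective (KaehlerDifferential.ideal A' B')
    (qB A' B') (general_of_isDiffSmooth A' B' h) ι
  have hβ : Function.Injective
      (symComp (R' := B') (ι := ι) (KaehlerDifferential.map A A' B B')) :=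
    symComp_injective _ (isBaseChange_map A B A' B') (FaithfulSMul.algebraMap_injective B B')
  -- `Λ' ∘ τ` kills `I^(n+1)`
  have hkill : ∀ y ∈ KaehlerDifferential.ideal A B ^ (Fintype.card ι + 1),
      Λ' (tauB A B A' B' y) = 0 := by
    intro y hy
    apply hΛ2'
    have h1 : tauB A B A' B' y ∈ (KaehlerDifferential.ideal A B ^ (Fintype.card ι + 1)).map
        (tauB A B A' B') := Ideal.mem_map_of_mem _ hy
    rw [Ideal.map_pow] at h1
    exact Ideal.pow_right_mono (ideal_map_tensorMap_le A B A' B') _ h1
  -- the key identity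
  have key : ∀ (x : Sym[B] ι Ω[B⁄A]) (y : B ⊗[A] B)
      (hy : y ∈ KaehlerDifferential.ideal A B ^ Fintype.card ι),
      φ x = Submodule.Quotient.mk ⟨y, hy⟩ →
      symComp (R' := B') (KaehlerDifferential.map A A' B B') x = Λ' (tauB A B A' B' y) := by
    intro x
    have hx : x ∈ Submodule.span B
        (Set.range (SymmetricPower.tprod B (ι := ι) (M := Ω[B⁄A]))) := by
      rw [SymmetricPower.span_tprod_eq_top]; trivial
    induction hx using Submodule.span_induction with
    | mem x hx =>
      obtain ⟨m, rfl⟩ := hx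
      intro y hy hxy
      choose z hz using fun i => hq (m i)
      have h2 : m = fun i => qB A B (z i) := by funext i; rw [hz]
      rw [h2, hφ, prodI_apply, Submodule.Quotient.eq] at hxy
      have h3 : (∏ i, (z i : B ⊗[A] B)) - y ∈
          KaehlerDifferential.ideal A B ^ (Fintype.card ι + 1) := hxy
      have h4 := hkill _ h3
      rw [map_sub, map_sub, sub_eq_zero] at h4
      rw [← h4, map_prod, h2, symComp_tprod]
      have h5 := hΛ1' (fun i => tauI A B A' B' (z i))
      have h6 : (∏ i, ((tauI A B A' B' (z i) :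
          ↥((KaehlerDifferential.ideal A' B').restrictScalars B')) : B' ⊗[A'] B')) =
          ∏ i, tauB A B A' B' (z i : B ⊗[A] B) := rfl
      rw [h6] at h5
      rw [h5]
      congr 1
      funext i
      exact (qB_tauB A B A' B' (z i) (tauB_mem A B A' B' (z i))).symm
    | zero =>
      intro y hy hxy
      rw [map_zero] at hxy ⊢
      have h3 : y ∈ KaehlerDifferential.ideal A B ^ (Fintype.card ι + 1) := by
        have := (Submodule.Quotient.mk_eq_zero _).mp hxy.symm
        exact this
      exact (hkill y h3).symm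
    | add a b _ _ ha hb =>
      intro y hy hxy
      obtain ⟨⟨ya, hya⟩, hya'⟩ := Submodule.Quotient.mk_surjective _ (φ a)
      have hyb : y - ya ∈ KaehlerDifferential.ideal A B ^ Fintype.card ι :=
        sub_mem hy hya
      have hb' : φ b = Submodule.Quotient.mk ⟨y - ya, hyb⟩ := by
        have e1 : φ b = φ (a + b) - φ a := by rw [map_add]; abel
        rw [e1, hxy, ← hya', ← Submodule.Quotient.mk_sub]
        rfl
      rw [map_add, ha ya hya hya'.symm, hb (y - ya) hyb hb', ← map_add, ← map_add]
      congr 2
      abel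
    | smul r a _ ha =>
      intro y hy hxy
      obtain ⟨⟨ya, hya⟩, hya'⟩ := Submodule.Quotient.mk_surjective _ (φ a)
      have h3 : r • ya - y ∈ KaehlerDifferential.ideal A B ^ (Fintype.card ι + 1) := by
        rw [map_smul, ← hya', ← Submodule.Quotient.mk_smul, Submodule.Quotient.eq] at hxy
        exact hxy
      have h4 := hkill _ h3
      rw [map_sub, map_sub, sub_eq_zero] at h4
      rw [← h4, symComp_smul, ha ya hya hya'.symm, map_smul, ← algebraMap_smul B' r,
        map_smul]
  have hinj : Function.Injective φ := by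
    rw [injective_iff_map_eq_zero]
    intro x hx
    apply hβ
    rw [map_zero, key x 0 (zero_mem _) (by rw [hx]; rfl), map_zero, map_zero]
  exact ⟨φ, fun b => hφ (fun i => gen A B (b i)), hinj,
    SymGr.phi_surjective σ _ hI (qB A B) φ hφ⟩

end Descent

end Groth.Agent.H80.DiffSm
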