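import Groth.Agent.H14.DiffOpLin
import Groth.Agent.H14.DiffOpUniq
import Groth.Agent.H80.DiffSmBasis2

/-!
# Divided power operators: binomial coefficients and the duality `L_p(ζ^q) = δ_{pq}`
-/

set_option autoImplicit false

namespace Groth.Agent.H80.DivPow

open TensorProduct MvPolynomial Groth.Agent.H80.DiffSm

universe u

section Binom

variable (B : Type u) [CommRing B] {ι : Type} [Fintype ι] [DecidableEq ι] (z : ι → B)

theorem prod_binom_eq_sum (q : ι → ℕ) :
    ∏ i, (C (z i) + X i : MvPolynomial ι B) ^ (q i) =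
      ∑ m ∈ Fintype.piFinset (fun i => Finset.range (q i + 1)),
        monomial (expS ι m) (∏ i, (z i ^ (q i - m i) * ((Nat.choose (q i) (m i) : ℕ) : B))) := by
  have h1 : ∀ i, (C (z i) + X i : MvPolynomial ι B) ^ (q i) =
      ∑ m ∈ Finset.range (q i + 1), (X i ^ m * C (z i) ^ (q i - m) *
        ((Nat.choose (q i) m : ℕ) : MvPolynomial ι B)) := by
    intro i
    rw [add_comm, add_pow]
  simp_rw [h1]
  rw [Finset.prod_univ_sum]
  refine Finset.sum_congr rfl (fun m _ => ?_)
  rw [monomial_eq, Finsupp.prod_fintype _ _ (fun i => pow_zero _)]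
  simp only [expS_apply, map_prod, map_mul, map_pow, map_natCast]
  rw [← Finset.prod_mul_distrib]
  refine Finset.prod_congr rfl (fun i _ => ?_)
  ring

theorem coeff_prod_binom (q p : ι → ℕ) :
    coeff (expS ι p) (∏ i, (C (z i) + X i : MvPolynomial ι B) ^ (q i)) =
      ((∏ i, Nat.choose (q i) (p i) : ℕ) : B) * ∏ i, z i ^ (q i - p i) := by
  classical
  rw [prod_binom_eq_sum, coeff_sum]
  simp only [coeff_monomial, (expS_injective ι).eq_iff]
  rw [Finset.sum_ite_eq']
  split_ifs with h
  · rw [Finset.prod_mul_distrib, Nat.cast_prod, mul_comm]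
  · rw [Fintype.mem_piFinset] at h
    push Not at h
    obtain ⟨i, hi⟩ := h
    rw [Finset.mem_range] at hi
    have : Nat.choose (q i) (p i) = 0 := Nat.choose_eq_zero_of_lt (by omega)
    rw [Finset.prod_eq_zero (Finset.mem_univ i) this]
    simp

end Binom

section Core

variable {B : Type u} [CommRing B] {ι : Type} [Fintype ι] [DecidableEq ι] (z : ι → B)
  {S : Type u} [CommRing S] [Algebra B S] (w : ι → S)

/-- If a `B`-linear functional `L` on a `B`-algebra `S` takes the values of the `p`-th divided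
power operator on the monomials in `w`, then `L (∏ (w_i - z_i)^(q_i)) = δ_{pq}`. -/
theorem dual_zeta (p : ι → ℕ) (L : S →ₗ[B] B)
    (hL : ∀ r : ι → ℕ, L (∏ i, w i ^ r i) =
      ((∏ i, Nat.choose (r i) (p i) : ℕ) : B) * ∏ i, z i ^ (r i - p i)) (q : ι → ℕ) :
    L (∏ i, (w i - algebraMap B S (z i)) ^ q i) = if q = p then 1 else 0 := by
  classical
  let ev₂ : MvPolynomial ι B →ₐ[B] S := aeval w
  let τ₀ : MvPolynomial ι B →ₐ[B] MvPolynomial ι B := aeval (fun i => C (z i) + X i)
  have key : L ∘ₗ ev₂.toLinearMap = (lcoeff B (expS ι p)) ∘ₗ τ₀.toLinearMap := by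
    apply (basisMonomials ι B).ext
    intro r
    simp only [coe_basisMonomials, LinearMap.comp_apply, AlgHom.toLinearMap_apply, lcoeff_apply]
    have hr : expS ι (fun i => r i) = r := by ext i; rfl
    have e1 : ev₂ (monomial r 1) = ∏ i, w i ^ r i := by
      simp only [ev₂]
      rw [aeval_monomial, map_one, one_mul, Finsupp.prod_fintype _ _ (fun i => pow_zero _)]
    have e2 : τ₀ (monomial r 1) = ∏ i, (C (z i) + X i : MvPolynomial ι B) ^ r i := by
      simp only [τ₀]
      rw [aeval_monomial, map_one, one_mul, Finsupp.prod_fintype _ _ (fun i => pow_zero _)]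
    rw [e1, e2, hL, coeff_prod_binom]
  have h1 := LinearMap.congr_fun key (∏ i, (X i - C (z i)) ^ q i)
  simp only [LinearMap.comp_apply, AlgHom.toLinearMap_apply, lcoeff_apply] at h1
  have e3 : ev₂ (∏ i, (X i - C (z i)) ^ q i) = ∏ i, (w i - algebraMap B S (z i)) ^ q i := by
    simp only [ev₂, map_prod, map_pow, map_sub, aeval_X, aeval_C]
  have e4 : τ₀ (∏ i, (X i - C (z i)) ^ q i) = monomial (expS ι q) 1 := by
    simp only [τ₀, map_prod, map_pow, map_sub, aeval_X, aeval_C, add_sub_cancel_left,
      algebraMap_eq]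
    rw [monomial_eq, map_one, one_mul, Finsupp.prod_fintype _ _ (fun i => pow_zero _)]
    rfl
  rw [e3, e4, coeff_monomial] at h1
  rw [h1]
  by_cases hqp : q = p
  · subst hqp; simp
  · have : expS ι q ≠ expS ι p := fun e => hqp (expS_injective ι e)
    simp [hqp, this]

end Core

end Groth.Agent.H80.DivPow
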