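import Groth.Agent.H80.DivPow1

/-!
# Divided power operators: generation of `I^n` by the monomials `ζ^q`, order `≤ |p|`, expansion
-/

set_option autoImplicit false

namespace Groth.Agent.H80.DivPow

open TensorProduct MvPolynomial Groth.Agent.H80.DiffSm Groth.Agent.H14 Diff16

universe u

section Setup

variable (A B : Type u) [CommRing A] [CommRing B] [Algebra A B]
  {ι : Type} [Fintype ι] [DecidableEq ι] (z : ι → B)

/-- `ζ_i = 1 ⊗ z_i - z_i ⊗ 1`. -/
noncomputable def zeta (i : ι) : B ⊗[A] B := (1 : B) ⊗ₜ[A] z i - z i ⊗ₜ[A] (1 : B)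

/-- `ζ^q`. -/
noncomputable def zetaPow (q : ι → ℕ) : B ⊗[A] B := ∏ i, zeta A B z i ^ q i

omit [Fintype ι] [DecidableEq ι] in
lemma zeta_mem (i : ι) : zeta A B z i ∈ KaehlerDifferential.ideal A B :=
  KaehlerDifferential.one_smul_sub_smul_one_mem_ideal A (z i)

omit [DecidableEq ι] in
lemma zetaPow_mem (q : ι → ℕ) : zetaPow A B z q ∈ KaehlerDifferential.ideal A B ^ (∑ i, q i) := by
  rw [zetaPow, ← Finset.prod_pow_eq_pow_sum]
  exact Ideal.prod_mem_prod fun i _ => Ideal.pow_mem_pow (zeta_mem A B z i) _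

omit [DecidableEq ι] in
lemma zetaPow_add (q q' : ι → ℕ) :
    zetaPow A B z (q + q') = zetaPow A B z q * zetaPow A B z q' := by
  simp only [zetaPow, Pi.add_apply, pow_add, Finset.prod_mul_distrib]

lemma zetaPow_single (i : ι) : zetaPow A B z (Pi.single i 1) = zeta A B z i := by
  rw [zetaPow, Finset.prod_eq_single i]
  · simp
  · intro j _ hj
    simp [hj]
  · intro h
    exact absurd (Finset.mem_univ i) h

omit [DecidableEq ι] in
lemma zetaPow_zero : zetaPow A B z 0 = 1 := by
  simp [zetaPow]

/-- The `B`-linearisation of an `A`-linear map `B → B`. -/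
noncomputable def linB (D : B →ₗ[A] B) : B ⊗[A] B →ₗ[B] B := D.liftBaseChange B

lemma linB_tmul (D : B →ₗ[A] B) (b c : B) : linB A B D (b ⊗ₜ c) = b * D c := rfl

lemma linearize_eq_linB (D : B →ₗ[A] B) (x : B ⊗[A] B) :
    Diff16.linearize A B B B D x = linB A B D x := by
  induction x using TensorProduct.induction_on with
  | zero => simp
  | tmul b c => rw [linearize_tmul, linB_tmul, smul_eq_mul]
  | add x y hx hy => rw [map_add, map_add, hx, hy]

lemma linB_add (D D' : B →ₗ[A] B) : linB A B (D + D') = linB A B D + linB A B D' :=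
  map_add (LinearMap.liftBaseChangeEquiv B) D D'

lemma linB_sub (D D' : B →ₗ[A] B) : linB A B (D - D') = linB A B D - linB A B D' :=
  map_sub (LinearMap.liftBaseChangeEquiv B) D D'

lemma linB_smul (c : B) (D : B →ₗ[A] B) : linB A B (c • D) = c • linB A B D :=
  map_smul (LinearMap.liftBaseChangeEquiv B) c D

lemma linB_sum {κ : Type*} (s : Finset κ) (D : κ → (B →ₗ[A] B)) :
    linB A B (∑ k ∈ s, D k) = ∑ k ∈ s, linB A B (D k) :=
  map_sum (LinearMap.liftBaseChangeEquiv B) D s

lemma isDiffOpLE_iff_linB (n : ℕ) (D : B →ₗ[A] B) :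
    IsDiffOpLE A B B B n D ↔
      ∀ x ∈ KaehlerDifferential.ideal A B ^ (n + 1), linB A B D x = 0 := by
  rw [isDiffOpLE_iff_vanishesOnPow]
  unfold VanishesOnPow
  simp only [linearize_eq_linB]

lemma eq_zero_of_linB_eq_zero (D : B →ₗ[A] B) (h : linB A B D = 0) : D = 0 := by
  ext b
  have := LinearMap.congr_fun h ((1 : B) ⊗ₜ[A] b)
  simpa [linB_tmul] using this

/-- The duality `L_p(ζ^q) = δ_{pq}`. -/
theorem linB_zetaPow (p : ι → ℕ) (D : B →ₗ[A] B)
    (hDz : ∀ q : ι → ℕ, D (∏ i, z i ^ q i) =
        ((∏ i, Nat.choose (q i) (p i) : ℕ) : B) * ∏ i, z i ^ (q i - p i)) (q : ι → ℕ) :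
    linB A B D (zetaPow A B z q) = if q = p then 1 else 0 := by
  have h := dual_zeta z (fun i => (1 : B) ⊗ₜ[A] z i) p (linB A B D) (fun r => by
    have e : ∏ i, ((1 : B) ⊗ₜ[A] z i) ^ r i = (1 : B) ⊗ₜ[A] (∏ i, z i ^ r i) := by
      have := map_prod (Algebra.TensorProduct.includeRight (R := A) (A := B) (B := B))
        (fun i => z i ^ r i) Finset.univ
      simp only [map_pow, Algebra.TensorProduct.includeRight_apply] at this
      exact this.symm
    rw [e, linB_tmul, one_mul, hDz]) q
  exact h

end Setup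

section Gen

variable (A B : Type u) [CommRing A] [CommRing B] [Algebra A B]
  {ι : Type} [Fintype ι] [DecidableEq ι] (z : ι → B)
  (hz : Submodule.span B (Set.range fun i => KaehlerDifferential.D A B (z i)) = ⊤)

/-- The `B`-span of the monomials `ζ^q`, `|q| = n`. -/
noncomputable def monSpan (n : ℕ) : Submodule B (B ⊗[A] B) :=
  Submodule.span B (Set.range fun q : {q : ι → ℕ // ∑ i, q i = n} => zetaPow A B z q.1)

omit [DecidableEq ι] in
lemma monSpan_le (n : ℕ) :
    monSpan A B z n ≤ (KaehlerDifferential.ideal A B ^ n).restrictScalars B := by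
  rw [monSpan, Submodule.span_le]
  rintro _ ⟨q, rfl⟩
  have := zetaPow_mem A B z q.1
  rw [q.2] at this
  exact this

include hz in
lemma ideal_le_one :
    (KaehlerDifferential.ideal A B).restrictScalars B ≤
      monSpan A B z 1 ⊔ (KaehlerDifferential.ideal A B ^ 2).restrictScalars B := by
  intro x hx
  have hx' : qB A B ⟨x, hx⟩ ∈ Submodule.span B
      (Set.range fun i => KaehlerDifferential.D A B (z i)) := by rw [hz]; trivial
  obtain ⟨c, hc⟩ := (Submodule.mem_span_range_iff_exists_fun B).mp hx'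
  have h1 : qB A B (⟨x, hx⟩ - ∑ i, c i • gen A B (z i)) = 0 := by
    rw [map_sub, map_sum, ← hc, sub_eq_zero]
    refine Finset.sum_congr rfl fun i _ => ?_
    rw [map_smul, qB_gen]
  have h2 : ((⟨x, hx⟩ - ∑ i, c i • gen A B (z i) :
      ↥((KaehlerDifferential.ideal A B).restrictScalars B)) : B ⊗[A] B) ∈
      KaehlerDifferential.ideal A B ^ 2 := (Ideal.toCotangent_eq_zero _ _).mp h1
  have h3 : x = ∑ i, c i • zeta A B z i + (x - ∑ i, c i • zeta A B z i) := by ring
  rw [h3]
  refine Submodule.add_mem_sup (Submodule.sum_mem _ fun i _ => Submodule.smul_mem _ _ ?_) ?_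
  · refine Submodule.subset_span ⟨⟨Pi.single i 1, ?_⟩, zetaPow_single A B z i⟩
    rw [Finset.sum_eq_single i] <;> simp +contextual
  · have e : ((⟨x, hx⟩ - ∑ i, c i • gen A B (z i) :
        ↥((KaehlerDifferential.ideal A B).restrictScalars B)) : B ⊗[A] B) =
        x - ∑ i, c i • zeta A B z i := by
      simp only [Submodule.coe_sub, Submodule.coe_sum, Submodule.coe_smul]
      rfl
    rw [e] at h2
    exact h2

include hz in
/-- `I^n` is the `B`-span of the `ζ^q`, `|q| = n`, modulo `I^(n+1)`. -/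
theorem pow_le_monSpan_sup (n : ℕ) :
    (KaehlerDifferential.ideal A B ^ n).restrictScalars B ≤
      monSpan A B z n ⊔ (KaehlerDifferential.ideal A B ^ (n + 1)).restrictScalars B := by
  induction n with
  | zero =>
    intro x _
    let σ : B ⊗[A] B →ₐ[B] B := Algebra.TensorProduct.lmul'' A
    have h3 : x = σ x • (1 : B ⊗[A] B) + (x - σ x • (1 : B ⊗[A] B)) := by ring
    rw [h3]
    refine Submodule.add_mem_sup (Submodule.smul_mem _ _ ?_) ?_
    · exact Submodule.subset_span ⟨⟨0, by simp⟩, zetaPow_zero A B z⟩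
    · show x - σ x • (1 : B ⊗[A] B) ∈ KaehlerDifferential.ideal A B ^ (0 + 1)
      rw [zero_add, pow_one]
      show σ (x - σ x • (1 : B ⊗[A] B)) = 0
      rw [map_sub, map_smul, map_one, smul_eq_mul, mul_one, sub_self]
  | succ n ih =>
    intro x hx
    have hx' : x ∈ KaehlerDifferential.ideal A B ^ n * KaehlerDifferential.ideal A B := by
      rw [← pow_succ]; exact hx
    refine Submodule.mul_induction_on hx' ?_ ?_
    · intro a ha b hb
      obtain ⟨a₁, ha₁, a₂, ha₂, rfl⟩ := Submodule.mem_sup.mp (ih ha)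
      obtain ⟨b₁, hb₁, b₂, hb₂, rfl⟩ := Submodule.mem_sup.mp (ideal_le_one A B z hz hb)
      have e : (a₁ + a₂) * (b₁ + b₂) = a₁ * b₁ + (a₂ * (b₁ + b₂) + a₁ * b₂) := by ring
      rw [e]
      refine Submodule.add_mem_sup ?_ (add_mem ?_ ?_)
      · -- `a₁ * b₁ ∈ monSpan (n+1)`
        have key : ∀ u ∈ monSpan A B z n, ∀ v ∈ monSpan A B z 1,
            u * v ∈ monSpan A B z (n + 1) := by
          intro u hu
          induction hu using Submodule.span_induction with
          | mem u hu =>
            obtain ⟨q, rfl⟩ := hu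
            intro v hv
            induction hv using Submodule.span_induction with
            | mem v hv =>
              obtain ⟨q', rfl⟩ := hv
              rw [← zetaPow_add]
              refine Submodule.subset_span ⟨⟨q.1 + q'.1, ?_⟩, rfl⟩
              simp only [Pi.add_apply, Finset.sum_add_distrib, q.2, q'.2]
            | zero => rw [mul_zero]; exact zero_mem _
            | add v v' _ _ hv hv' => rw [mul_add]; exact add_mem hv hv'
            | smul c v _ hv => rw [mul_smul_comm]; exact Submodule.smul_mem _ c hv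
          | zero => intro v _; rw [zero_mul]; exact zero_mem _
          | add u u' _ _ hu hu' => intro v hv; rw [add_mul]; exact add_mem (hu v hv) (hu' v hv)
          | smul c u _ hu => intro v hv; rw [smul_mul_assoc]; exact Submodule.smul_mem _ c (hu v hv)
        exact key a₁ ha₁ b₁ hb₁
      · show a₂ * (b₁ + b₂) ∈ KaehlerDifferential.ideal A B ^ (n + 1 + 1)
        rw [pow_succ _ (n + 1)]
        exact Ideal.mul_mem_mul ha₂ hb
      · show a₁ * b₂ ∈ KaehlerDifferential.ideal A B ^ (n + 1 + 1)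
        have : n + 1 + 1 = n + 2 := rfl
        rw [this, pow_add]
        exact Ideal.mul_mem_mul (monSpan_le A B z n ha₁) hb₂
    · intro x y hx hy
      exact add_mem hx hy

end Gen

end Groth.Agent.H80.DivPow
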