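import Groth.Agent.H80.DivPow2

/-!
# Divided power operators: order `≤ |p|` and the unique expansion of differential operators
-/

set_option autoImplicit false

namespace Groth.Agent.H80.DivPow

open TensorProduct MvPolynomial Groth.Agent.H80.DiffSm Groth.Agent.H14 Diff16

universe u

section Order

variable (A B : Type u) [CommRing A] [CommRing B] [Algebra A B]
  {ι : Type} [Fintype ι] [DecidableEq ι] (z : ι → B)
  (hz : Submodule.span B (Set.range fun i => KaehlerDifferential.D A B (z i)) = ⊤)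

include hz in
/-- A `B`-linear functional vanishing on `I^(k+1)` and on the `ζ^q` with `|q| ≥ n` vanishes on
`I^n`. -/
theorem vanish_of_vanish_zetaPow (L : B ⊗[A] B →ₗ[B] B) (k : ℕ)
    (hk : ∀ x ∈ KaehlerDifferential.ideal A B ^ (k + 1), L x = 0) (n₀ : ℕ)
    (hq : ∀ q : ι → ℕ, n₀ ≤ ∑ i, q i → L (zetaPow A B z q) = 0) :
    ∀ x ∈ KaehlerDifferential.ideal A B ^ n₀, L x = 0 := by
  have key : ∀ d n : ℕ, k + 1 ≤ n + d → n₀ ≤ n →
      ∀ x ∈ KaehlerDifferential.ideal A B ^ n, L x = 0 := by
    intro d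
    induction d with
    | zero =>
      intro n hn _ x hx
      exact hk x (Ideal.pow_le_pow_right (by omega) hx)
    | succ d ih =>
      intro n hn hn₀ x hx
      obtain ⟨y, hy, x', hx', rfl⟩ := Submodule.mem_sup.mp (pow_le_monSpan_sup A B z hz n hx)
      rw [map_add, ih (n + 1) (by omega) (by omega) x' hx', add_zero]
      clear hx
      induction hy using Submodule.span_induction with
      | mem y hy =>
        obtain ⟨q, rfl⟩ := hy
        exact hq q.1 (by rw [q.2]; exact hn₀)
      | zero => rw [map_zero]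
      | add a b _ _ ha hb => rw [map_add, ha, hb, add_zero]
      | smul c a _ ha => rw [map_smul, ha, smul_zero]
  exact key (k + 1) n₀ (by omega) le_rfl

variable (Dp : (ι → ℕ) → (B →ₗ[A] B)) (hD : ∀ p, ∃ k : ℕ, Diff16.IsDiffOpLE A B B B k (Dp p))
  (hDz : ∀ p q : ι → ℕ, Dp p (∏ i, z i ^ q i) =
      ((∏ i, Nat.choose (q i) (p i) : ℕ) : B) * ∏ i, z i ^ (q i - p i))

include hz hD hDz in
/-- `D_p` has order at most `|p|`. -/
theorem isDiffOpLE_Dp (p : ι → ℕ) : Diff16.IsDiffOpLE A B B B (∑ i, p i) (Dp p) := by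
  obtain ⟨k, hk⟩ := hD p
  rw [isDiffOpLE_iff_linB] at hk ⊢
  refine vanish_of_vanish_zetaPow A B z hz _ k hk _ (fun q hq => ?_)
  rw [linB_zetaPow A B z p (Dp p) (hDz p) q, if_neg]
  rintro rfl
  omega

include hz hD hDz in
lemma linB_Dp_vanish (p : ι → ℕ) (n : ℕ) (hn : ∑ i, p i < n) :
    ∀ x ∈ KaehlerDifferential.ideal A B ^ n, linB A B (Dp p) x = 0 := by
  intro x hx
  have h := (isDiffOpLE_iff_linB A B _ _).mp (isDiffOpLE_Dp A B z hz Dp hD hDz p)
  exact h x (Ideal.pow_le_pow_right (by omega) hx)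

instance finite_multiIndex (m : ℕ) : Finite {p : ι → ℕ // ∑ i, p i ≤ m} := by
  have hle : ∀ (p : {p : ι → ℕ // ∑ i, p i ≤ m}) (i : ι), p.1 i < m + 1 := by
    intro p i
    have := Finset.single_le_sum (f := p.1) (fun j _ => Nat.zero_le _) (Finset.mem_univ i)
    have := p.2
    omega
  refine Finite.of_injective
    (fun p : {p : ι → ℕ // ∑ i, p i ≤ m} => fun i => (⟨p.1 i, hle p i⟩ : Fin (m + 1))) ?_
  intro p p' h
  apply Subtype.ext
  funext i
  have := congrFun h i
  simpa using this

include hz hD hDz in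
/-- Every differential operator of order `≤ m` is a `B`-linear combination of the `D_p`,
`|p| ≤ m`. -/
theorem eq_sum_Dp (m : ℕ) (D : B →ₗ[A] B) (hDm : Diff16.IsDiffOpLE A B B B m D)
    [Fintype {p : ι → ℕ // ∑ i, p i ≤ m}] :
    D = ∑ p : {p : ι → ℕ // ∑ i, p i ≤ m}, linB A B D (zetaPow A B z p.1) • Dp p.1 := by
  classical
  rw [← sub_eq_zero]
  apply eq_zero_of_linB_eq_zero
  set E := D - ∑ p : {p : ι → ℕ // ∑ i, p i ≤ m}, linB A B D (zetaPow A B z p.1) • Dp p.1 with hE
  have hEq : ∀ q : ι → ℕ, linB A B E (zetaPow A B z q) = 0 := by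
    intro q
    have hDq : m < ∑ i, q i → linB A B D (zetaPow A B z q) = 0 := fun h =>
      (isDiffOpLE_iff_linB A B _ _).mp hDm _
        (Ideal.pow_le_pow_right (by omega) (zetaPow_mem A B z q))
    rw [hE, linB_sub, linB_sum, LinearMap.sub_apply, LinearMap.sum_apply]
    simp only [linB_smul, LinearMap.smul_apply, linB_zetaPow A B z _ (Dp _) (hDz _) q,
      smul_eq_mul, mul_ite, mul_one, mul_zero]
    by_cases hq : ∑ i, q i ≤ m
    · rw [Finset.sum_eq_single ⟨q, hq⟩]
      · simp
      · intro p _ hp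
        rw [if_neg]
        intro e
        exact hp (Subtype.ext e.symm)
      · intro h
        exact absurd (Finset.mem_univ _) h
    · rw [hDq (by omega), Finset.sum_eq_zero, sub_zero]
      intro p _
      rw [if_neg]
      rintro rfl
      exact hq p.2
  have hEm : ∀ x ∈ KaehlerDifferential.ideal A B ^ (m + 1), linB A B E x = 0 := by
    intro x hx
    rw [hE, linB_sub, linB_sum, LinearMap.sub_apply, LinearMap.sum_apply,
      (isDiffOpLE_iff_linB A B _ _).mp hDm x hx, zero_sub, neg_eq_zero]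
    refine Finset.sum_eq_zero fun p _ => ?_
    rw [linB_smul, LinearMap.smul_apply,
      linB_Dp_vanish A B z hz Dp hD hDz p.1 (m + 1) (by have := p.2; omega) x hx, smul_zero]
  apply LinearMap.ext
  intro x
  have := vanish_of_vanish_zetaPow A B z hz (linB A B E) m hEm 0 (fun q _ => hEq q) x (by simp)
  simpa using this

include hz hD hDz in
/-- **Unique expansion.** -/
theorem existsUnique_expansion (m : ℕ) (D : B →ₗ[A] B) (hDm : Diff16.IsDiffOpLE A B B B m D) :
    ∃! a : {p : ι → ℕ // ∑ i, p i ≤ m} →₀ B, D = a.sum fun p c => c • Dp p.1 := by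
  classical
  haveI : Fintype {p : ι → ℕ // ∑ i, p i ≤ m} := Fintype.ofFinite _
  have hsum : ∀ a : {p : ι → ℕ // ∑ i, p i ≤ m} →₀ B,
      (a.sum fun p c => c • Dp p.1) = ∑ p, a p • Dp p.1 :=
    fun a => Finsupp.sum_fintype _ _ (fun _ => zero_smul _ _)
  refine ⟨Finsupp.equivFunOnFinite.symm (fun p => linB A B D (zetaPow A B z p.1)), ?_, ?_⟩
  · beta_reduce
    rw [hsum]
    exact eq_sum_Dp A B z hz Dp hD hDz m D hDm
  · intro a ha
    rw [hsum] at ha
    ext q
    rw [Finsupp.equivFunOnFinite_symm_apply_apply, ha, linB_sum, LinearMap.sum_apply]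
    simp only [linB_smul, LinearMap.smul_apply, linB_zetaPow A B z _ (Dp _) (hDz _) q.1,
      smul_eq_mul, mul_ite, mul_one, mul_zero]
    rw [Finset.sum_eq_single q]
    · simp
    · intro p _ hp
      rw [if_neg]
      intro e
      exact hp (Subtype.ext e.symm)
    · intro h
      exact absurd (Finset.mem_univ _) h

end Order

end Groth.Agent.H80.DivPow
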