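import Groth.Agent.H80.DivPow3
import Groth.Agent.H91.SymGrSurj

/-!
# Divided power operators and differential smoothness
-/

set_option autoImplicit false

namespace Groth.Agent.H80.DivPow

open TensorProduct MvPolynomial Groth.Agent.H80.DiffSm Groth.Agent.H14 Diff16
  Groth.Agent.H91 Groth.Agent.H91.SymGr PP16

universe u

section Core2

variable {B : Type u} [CommRing B] {ι : Type} [Fintype ι] [DecidableEq ι] (z : ι → B)
  {S : Type u} [CommRing S] [Algebra B S] (g : ι → S)

/-- A `B`-linear functional dual to the monomial `g^p` computes the `p`-th coefficient. -/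
theorem coeff_of_dual (p : ι → ℕ) (L : S →ₗ[B] B)
    (hL : ∀ q : ι → ℕ, L (∏ i, g i ^ q i) = if q = p then 1 else 0) (f : MvPolynomial ι B) :
    L (aeval g f) = coeff (expS ι p) f := by
  classical
  have key : L ∘ₗ (aeval g : MvPolynomial ι B →ₐ[B] S).toLinearMap = lcoeff B (expS ι p) := by
    apply (basisMonomials ι B).ext
    intro r
    simp only [coe_basisMonomials, LinearMap.comp_apply, AlgHom.toLinearMap_apply, lcoeff_apply]
    rw [aeval_monomial, map_one, one_mul, Finsupp.prod_fintype _ _ (fun i => pow_zero _), hL,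
      coeff_monomial]
    have hr : expS ι (fun i => r i) = r := by ext i; rfl
    by_cases h : (fun i => r i) = p
    · rw [if_pos h, if_pos (by rw [← h, hr])]
    · rw [if_neg h, if_neg]
      intro e
      apply h
      rw [e]
      rfl
  exact LinearMap.congr_fun key f

/-- Converse of `dual_zeta`. -/
theorem binom_of_dual (p : ι → ℕ) (L : S →ₗ[B] B)
    (hL : ∀ q : ι → ℕ, L (∏ i, g i ^ q i) = if q = p then 1 else 0) (r : ι → ℕ) :
    L (∏ i, (g i + algebraMap B S (z i)) ^ r i) =
      ((∏ i, Nat.choose (r i) (p i) : ℕ) : B) * ∏ i, z i ^ (r i - p i) := by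
  rw [← coeff_prod_binom B z r p, ← coeff_of_dual g p L hL]
  congr 1
  simp only [map_prod, map_pow, map_add, aeval_X, aeval_C]
  refine Finset.prod_congr rfl fun i _ => ?_
  rw [add_comm]

end Core2

section PhiEv

variable {R S : Type u} [CommRing R] [CommRing S] [Algebra R S] (I : Ideal S)
  {P : Type u} [AddCommGroup P] [Module R P]
  (q : ↥(I.restrictScalars R) →ₗ[R] P)
  {ι : Type} [Fintype ι] [DecidableEq ι] (b : Module.Basis ι R P)
  (g : ι → ↥(I.restrictScalars R)) (hg : ∀ i, q (g i) = b i)

omit [Fintype ι] [DecidableEq ι] in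
theorem toPoly_injective' (κ : Type u) [Fintype κ] : Function.Injective (toPoly b κ) := by
  intro x y hxy
  have hx := SymPow.leftInvFree_toSymAlg (ι := κ) b x
  have hy := SymPow.leftInvFree_toSymAlg (ι := κ) b y
  have : SymmetricAlgebra.equivMvPolynomial b (SymPow.toSymAlg x) =
      SymmetricAlgebra.equivMvPolynomial b (SymPow.toSymAlg y) := hxy
  rw [← hx, ← hy, this]

include hg in
/-- The canonical map is "evaluate the polynomial at the generators". -/
theorem phi_eq_mk_ev (κ : Type u) [Fintype κ] (φ : Sym[R] κ P →ₗ[R] gr R I (Fintype.card κ))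
    (hφ1 : ∀ x : κ → ↥(I.restrictScalars R),
        φ (SymmetricPower.tprod R (fun i => q (x i))) = prodI I x) (y : Sym[R] κ P) :
    ∃ h : ev I g (toPoly b κ y) ∈ I ^ Fintype.card κ,
      φ y = Submodule.Quotient.mk ⟨ev I g (toPoly b κ y), h⟩ := by
  have hmem : ∀ y : Sym[R] κ P, ev I g (toPoly b κ y) ∈ I ^ Fintype.card κ := by
    intro y
    have hy : y ∈ Submodule.span R (Set.range fun σ : κ → ι =>
        SymmetricPower.tprod R (M := P) (fun j => b (σ j))) := by
      rw [span_tprod_basis]; trivial
    induction hy using Submodule.span_induction with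
    | mem y hy =>
      obtain ⟨σ, rfl⟩ := hy
      rw [toPoly_tprod_basis, ev_prod_X]
      simpa using prod_mem_pow_card I Finset.univ (fun j => ((g (σ j) : S))) (fun j _ => (g (σ j)).2)
    | zero => rw [map_zero, map_zero]; exact zero_mem _
    | add a c _ _ ha hc => rw [map_add, map_add]; exact add_mem ha hc
    | smul r a _ ha =>
      rw [map_smul, map_smul]
      exact ((I ^ Fintype.card κ).restrictScalars R).smul_mem r ha
  let Θ : Sym[R] κ P →ₗ[R] ↥((I ^ Fintype.card κ).restrictScalars R) :=
    ((ev I g).toLinearMap ∘ₗ toPoly b κ).codRestrict _ hmem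
  have hΘ : (Submodule.mkQ _) ∘ₗ Θ = φ := by
    apply LinearMap.ext_on (span_tprod_basis b κ)
    rintro _ ⟨σ, rfl⟩
    beta_reduce
    have h1 : (fun j => b (σ j)) = fun j => q (g (σ j)) := by funext j; rw [hg]
    rw [h1, hφ1, prodI_apply, LinearMap.comp_apply, Submodule.mkQ_apply]
    congr 1
    apply Subtype.ext
    simp only [Θ, LinearMap.codRestrict_apply, LinearMap.comp_apply, AlgHom.toLinearMap_apply]
    rw [← h1, toPoly_tprod_basis, ev_prod_X]
  refine ⟨hmem y, ?_⟩
  rw [← hΘ]
  rfl

end PhiEv

end Groth.Agent.H80.DivPow
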