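import Groth.Agent.H80.DivPow4

/-!
# Differential smoothness with a basis `dz_i` ⟺ existence of divided power operators
-/

set_option autoImplicit false

namespace Groth.Agent.H80.DivPow

open TensorProduct MvPolynomial Groth.Agent.H80.DiffSm Groth.Agent.H14 Diff16
  Groth.Agent.H91 Groth.Agent.H91.SymGr PP16

universe u

variable (A B : Type u) [CommRing A] [CommRing B] [Algebra A B]
  {ι : Type} [Fintype ι] [DecidableEq ι] (z : ι → B)

section Backward

variable (hz : Submodule.span B (Set.range fun i => KaehlerDifferential.D A B (z i)) = ⊤)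
  (Dp : (ι → ℕ) → (B →ₗ[A] B)) (hD : ∀ p, ∃ k : ℕ, Diff16.IsDiffOpLE A B B B k (Dp p))
  (hDz : ∀ p q : ι → ℕ, Dp p (∏ i, z i ^ q i) =
      ((∏ i, Nat.choose (q i) (p i) : ℕ) : B) * ∏ i, z i ^ (q i - p i))

omit [Fintype ι] in
lemma single_one_eq_iff (i j : ι) : (Pi.single i 1 : ι → ℕ) = Pi.single j 1 ↔ i = j := by
  constructor
  · intro h
    by_contra hij
    have := congrFun h i
    simp [hij] at this
  · rintro rfl; rfl

include hz hD hDz in
theorem linearIndependent_dz :
    LinearIndependent B (fun i => KaehlerDifferential.D A B (z i)) := by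
  rw [Fintype.linearIndependent_iff]
  intro c hc j
  have h1 : qB A B (∑ i, c i • gen A B (z i)) = 0 := by
    rw [map_sum, ← hc]
    refine Finset.sum_congr rfl fun i _ => ?_
    rw [map_smul, qB_gen]
  have h2 : ((∑ i, c i • gen A B (z i) :
      ↥((KaehlerDifferential.ideal A B).restrictScalars B)) : B ⊗[A] B) ∈
      KaehlerDifferential.ideal A B ^ 2 := (Ideal.toCotangent_eq_zero _ _).mp h1
  have e : ((∑ i, c i • gen A B (z i) :
      ↥((KaehlerDifferential.ideal A B).restrictScalars B)) : B ⊗[A] B) =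
      ∑ i, c i • zetaPow A B z (Pi.single i 1) := by
    simp only [Submodule.coe_sum, Submodule.coe_smul, zetaPow_single]
    rfl
  rw [e] at h2
  have h4 := linB_Dp_vanish A B z hz Dp hD hDz (Pi.single j 1) 2
    (by rw [Finset.sum_eq_single j] <;> simp +contextual) _ h2
  rw [map_sum] at h4
  simp only [map_smul, linB_zetaPow A B z _ (Dp _) (hDz _), single_one_eq_iff, smul_eq_mul,
    mul_ite, mul_one, mul_zero, Finset.sum_ite_eq', Finset.mem_univ, if_true] at h4
  exact h4

include hz hD hDz in
theorem isDiffSmooth_of_Dp (b : Module.Basis ι B Ω[B⁄A])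
    (hb : ∀ i, b i = KaehlerDifferential.D A B (z i)) : PP16.IsDiffSmooth A B := by
  classical
  refine ⟨Module.Projective.of_basis b, fun κ _ => ?_⟩
  let σ : B ⊗[A] B →ₐ[B] B := Algebra.TensorProduct.lmul'' A
  have hI : ∀ x, x ∈ KaehlerDifferential.ideal A B ↔ σ x = 0 := fun x => Iff.rfl
  have hq : Function.Surjective (qB A B) := KaehlerDifferential.fromIdeal_surjective A B
  have hq0 : ∀ x, qB A B x = 0 ↔ (x : B ⊗[A] B) ∈ KaehlerDifferential.ideal A B ^ 2 :=
    fun x => Ideal.toCotangent_eq_zero _ x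
  obtain ⟨φ, hφ⟩ := SymGr.exists_phi (ι := κ) (KaehlerDifferential.ideal A B) (qB A B) hq hq0
  have hg : ∀ i, qB A B (gen A B (z i)) = b i := fun i => (qB_gen A B (z i)).trans (hb i).symm
  have hinj : Function.Injective φ := by
    rw [injective_iff_map_eq_zero]
    intro x hx
    obtain ⟨hmem, hφx⟩ := phi_eq_mk_ev (KaehlerDifferential.ideal A B) (qB A B) b
      (fun i => gen A B (z i)) hg κ φ hφ x
    rw [hx] at hφx
    have h3 : ev (KaehlerDifferential.ideal A B) (fun i => gen A B (z i)) (toPoly b κ x) ∈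
        KaehlerDifferential.ideal A B ^ (Fintype.card κ + 1) := by
      have h3' := (Submodule.Quotient.mk_eq_zero _).mp hφx.symm
      exact h3'
    have hf0 : toPoly b κ x = 0 := by
      ext s
      rw [coeff_zero]
      by_cases hs : (s.sum fun _ e => e) ≤ Fintype.card κ
      · have hss : ∑ i, s i ≤ Fintype.card κ := by
          rwa [Finsupp.sum_fintype _ _ (fun _ => rfl)] at hs
        have h5 := coeff_of_dual (fun i => zeta A B z i) (fun i => s i)
          (linB A B (Dp (fun i => s i)))
          (fun q => linB_zetaPow A B z _ (Dp _) (hDz _) q) (toPoly b κ x)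
        have h6 : expS ι (fun i => s i) = s := by ext i; rfl
        rw [h6] at h5
        rw [← h5]
        exact linB_Dp_vanish A B z hz Dp hD hDz (fun i => s i) (Fintype.card κ + 1)
          (by omega) _ h3
      · have hmem' := toPoly_mem b κ x
        rw [mem_restrictTotalDegree] at hmem'
        apply coeff_eq_zero_of_totalDegree_lt
        have : ∑ i ∈ s.support, s i = (s.sum fun _ e => e) := rfl
        omega
    exact toPoly_injective' b κ (by rw [hf0, map_zero])
  exact ⟨φ, fun c => hφ (fun i => gen A B (c i)), hinj,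
    SymGr.phi_surjective σ _ hI (qB A B) φ hφ⟩

end Backward

section Forward

variable (hB : PP16.IsDiffSmooth A B) (b : Module.Basis ι B Ω[B⁄A])
  (hb : ∀ i, b i = KaehlerDifferential.D A B (z i))

include hB hb in
theorem exists_Dp (p : ι → ℕ) :
    ∃ D : B →ₗ[A] B, Diff16.IsDiffOpLE A B B B (∑ i, p i) D ∧
      ∀ q : ι → ℕ, D (∏ i, z i ^ q i) =
        ((∏ i, Nat.choose (q i) (p i) : ℕ) : B) * ∏ i, z i ^ (q i - p i) := by
  classical
  set m := ∑ i, p i with hm
  obtain ⟨bas, hbas⟩ := exists_monomialBasis A B hB ι z b hb m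
  let mkB : B ⊗[A] B →ₗ[B] P m A B :=
    (Ideal.Quotient.mkₐ B (KaehlerDifferential.ideal A B ^ (m + 1))).toLinearMap
  have hmkB : ∀ x, mkB x = Ideal.Quotient.mk _ x := fun x => rfl
  let L : B ⊗[A] B →ₗ[B] B := (bas.coord ⟨p, le_rfl⟩) ∘ₗ mkB
  let D : B →ₗ[A] B := (L.restrictScalars A) ∘ₗ (TensorProduct.mk A B B 1)
  have hDL : ∀ c, D c = L ((1 : B) ⊗ₜ[A] c) := fun c => rfl
  have hlin : linB A B D = L := by
    apply LinearMap.ext
    intro x
    induction x using TensorProduct.induction_on with
    | zero => simp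
    | tmul c d =>
      rw [linB_tmul, hDL]
      have : c ⊗ₜ[A] d = c • ((1 : B) ⊗ₜ[A] d) := by
        rw [TensorProduct.smul_tmul', smul_eq_mul, mul_one]
      rw [this, map_smul, smul_eq_mul]
    | add x y hx hy => rw [map_add, map_add, hx, hy]
  have hLz : ∀ q : ι → ℕ, L (∏ i, zeta A B z i ^ q i) = if q = p then 1 else 0 := by
    intro q
    by_cases hq : ∑ i, q i ≤ m
    · have h1 : mkB (∏ i, zeta A B z i ^ q i) = bas ⟨q, hq⟩ := by
        rw [hbas, hmkB, map_prod]
        refine Finset.prod_congr rfl fun i _ => ?_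
        rw [map_pow]
        exact congrArg (· ^ q i) (mk_gen A B m (z i))
      simp only [L, LinearMap.comp_apply]
      rw [h1, Module.Basis.coord_apply, Module.Basis.repr_self, Finsupp.single_apply]
      by_cases hqp : q = p
      · subst hqp; simp
      · rw [if_neg hqp, if_neg]
        intro e
        exact hqp (congrArg Subtype.val e)
    · have h1 : mkB (∏ i, zeta A B z i ^ q i) = 0 := by
        rw [hmkB, Ideal.Quotient.eq_zero_iff_mem]
        exact Ideal.pow_le_pow_right (by omega) (zetaPow_mem A B z q)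
      simp only [L, LinearMap.comp_apply]
      rw [h1, map_zero, if_neg]
      rintro rfl
      exact hq le_rfl
  refine ⟨D, ?_, fun q => ?_⟩
  · rw [isDiffOpLE_iff_linB, hlin]
    intro x hx
    simp only [L, LinearMap.comp_apply]
    rw [hmkB, Ideal.Quotient.eq_zero_iff_mem.mpr hx, map_zero]
  · have h := binom_of_dual z (fun i => zeta A B z i) p L hLz q
    rw [hDL, ← h]
    congr 1
    have e : ∀ i, zeta A B z i + algebraMap B (B ⊗[A] B) (z i) = (1 : B) ⊗ₜ[A] z i := by
      intro i
      rw [zeta, Algebra.TensorProduct.algebraMap_apply]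
      simp
    simp only [e]
    have := map_prod (Algebra.TensorProduct.includeRight (R := A) (A := B) (B := B))
      (fun i => z i ^ q i) Finset.univ
    simp only [map_pow, Algebra.TensorProduct.includeRight_apply] at this
    exact this

end Forward

/-- **EGA IV 16.11.2 (a) ⟺ (b).** -/
theorem isDiffSmooth_and_basis_iff
    (hz : Submodule.span B (Set.range fun i => KaehlerDifferential.D A B (z i)) = ⊤) :
    (PP16.IsDiffSmooth A B ∧
        ∃ b : Module.Basis ι B Ω[B⁄A], ∀ i, b i = KaehlerDifferential.D A B (z i)) ↔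
      ∃ Dp : (ι → ℕ) → (B →ₗ[A] B),
        (∀ p, ∃ k : ℕ, Diff16.IsDiffOpLE A B B B k (Dp p)) ∧
        ∀ p q : ι → ℕ, Dp p (∏ i, z i ^ q i) =
          ((∏ i, Nat.choose (q i) (p i) : ℕ) : B) * ∏ i, z i ^ (q i - p i) := by
  constructor
  · rintro ⟨hB, b, hb⟩
    choose Dp h1 h2 using fun p => exists_Dp A B z hB b hb p
    exact ⟨Dp, fun p => ⟨_, h1 p⟩, h2⟩
  · rintro ⟨Dp, hD, hDz⟩
    have hli := linearIndependent_dz A B z hz Dp hD hDz
    let b : Module.Basis ι B Ω[B⁄A] := Module.Basis.mk hli (by rw [hz])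
    have hb : ∀ i, b i = KaehlerDifferential.D A B (z i) := fun i => by
      rw [Module.Basis.mk_apply]
    exact ⟨isDiffSmooth_of_Dp A B z hz Dp hD hDz b hb, b, hb⟩

end Groth.Agent.H80.DivPow
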