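import Mathlib
import Groth.Agent.H80.DvrExt

/-! Complements to `DvrExt`: uniqueness of the representation of elements of the monogenic step,
and the residue map of a good subalgebra in elementwise form. -/

set_option autoImplicit false
set_option linter.style.haveILetI false
set_option linter.unusedSectionVars false

namespace Groth.Agent.H80.DvrExt

open Polynomial IsLocalRing

section Repr

variable {R : Type*} [CommRing R] [IsDomain R] [IsDiscreteValuationRing R]
  {A : Type*} [CommRing A] [Algebra R A]
  {S : Type*} [CommRing S] [IsDomain S] [IsDiscreteValuationRing S] [Algebra R S]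
  (j : S →ₐ[R] A) (f : S[X]) (hf : f.Monic) (a : A) (ha : f.eval₂ (j : S →+* A) a = 0)

include hf in
/-- the first `deg f` powers of `a` are linearly independent over `S` when the step map is
injective -/
theorem repr_unique (hinj : Function.Injective (stepHom j f a ha)) (c : Fin f.natDegree → S)
    (h : ∑ i, j (c i) * a ^ (i : ℕ) = 0) : c = 0 := by
  classical
  set g : S[X] := ∑ i : Fin f.natDegree, C (c i) * X ^ (i : ℕ) with hg
  have hdeg : g.degree < f.degree := by
    rw [hg]
    refine (degree_sum_le _ _).trans_lt ?_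
    rw [Finset.sup_lt_iff]
    · intro i _
      refine (degree_C_mul_X_pow_le _ _).trans_lt ?_
      rw [degree_eq_natDegree hf.ne_zero]
      exact_mod_cast i.2
    · rw [degree_eq_natDegree hf.ne_zero]
      exact WithBot.bot_lt_coe _
  have hev : stepHom j f a ha (AdjoinRoot.mk f g) = 0 := by
    rw [stepHom_mk, hg, eval₂_finsetSum, ← h]
    refine Finset.sum_congr rfl fun i _ => ?_
    rw [eval₂_mul, eval₂_C, eval₂_pow, eval₂_X]
    rfl
  have hmk : AdjoinRoot.mk f g = 0 := hinj (hev.trans (map_zero _).symm)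
  rw [AdjoinRoot.mk_eq_zero] at hmk
  have hg0 : g = 0 := eq_zero_of_dvd_of_degree_lt hmk hdeg
  funext i
  have hc : g.coeff (i : ℕ) = c i := by
    rw [hg, finsetSum_coeff]
    rw [Finset.sum_eq_single i]
    · rw [coeff_C_mul, coeff_X_pow, if_pos rfl, mul_one]
    · intro k _ hk
      rw [coeff_C_mul, coeff_X_pow, if_neg, mul_zero]
      intro hik
      exact hk (Fin.ext hik.symm)
    · intro hi
      exact absurd (Finset.mem_univ i) hi
  rw [← hc, hg0, coeff_zero]
  rfl

end Repr

section Residue

variable {R : Type*} [CommRing R] [IsDomain R] [IsDiscreteValuationRing R]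
  {A : Type*} [CommRing A] [Algebra R A] {Ω : Type*} [Field Ω] [Algebra R Ω]
  {q : A →ₐ[R] Ω} {ϖ : R} {Γ : Subalgebra R A}

theorem Good.residue_eq_zero_iff (hΓ : Good q ϖ Γ) (hΩ : Function.Injective (algebraMap R Ω))
    (hϖ : Irreducible ϖ) [IsDomain Γ] [IsDiscreteValuationRing Γ] (x : Γ) :
    residue Γ x = 0 ↔ ∃ w ∈ Γ, (x : A) = algebraMap R A ϖ * w := by
  rw [IsLocalRing.residue_eq_zero_iff, hΓ.maximalIdeal_eq hΩ hϖ, Ideal.mem_span_singleton]
  constructor
  · rintro ⟨w, rfl⟩
    exact ⟨w.1, w.2, rfl⟩
  · rintro ⟨w, hw, hxw⟩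
    exact ⟨⟨w, hw⟩, Subtype.ext hxw⟩

end Residue

end Groth.Agent.H80.DvrExt
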