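import Mathlib
import Groth.Agent.H80.DvrExt2

/-! Inside an algebraically closed field `Ω` containing a discrete valuation ring `R` with residue
characteristic `p`: a discrete valuation ring `Γ ⊆ Ω` with the uniformizer of `R`, which is a
directed union of finite free `R`-subalgebras of `p`-power rank and whose residue field is a perfect
closure of that of `R`. -/

set_option autoImplicit false
set_option linter.style.haveILetI false
set_option linter.unusedSectionVars false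
universe u

namespace Groth.Agent.H80.DvrPerfExt

open Polynomial IsLocalRing DvrExt

variable {R : Type u} [CommRing R] [IsDomain R] [IsDiscreteValuationRing R]
  {Ω : Type u} [Field Ω] [Algebra R Ω]

/-- `Γ` is a directed union of finite free subalgebras of `p`-power rank -/
def FinFree (p : ℕ) (Γ : Subalgebra R Ω) : Prop :=
  ∀ s : Finset Ω, (↑s : Set Ω) ⊆ Γ → ∃ S₀ : Subalgebra R Ω, S₀ ≤ Γ ∧ (↑s : Set Ω) ⊆ S₀ ∧
    Module.Finite R S₀ ∧ Module.Free R S₀ ∧ ∃ m : ℕ, Module.finrank R S₀ = p ^ m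

/-- the residue field of `Γ` is purely inseparable over that of `R` -/
def PInsep (ϖ : R) (p : ℕ) (Γ : Subalgebra R Ω) : Prop :=
  ∀ y ∈ Γ, ∃ (m : ℕ) (z : R), ∃ w ∈ Γ, algebraMap R Ω z - y ^ (p ^ m) = algebraMap R Ω ϖ * w

/-- the subalgebras over which Zorn's lemma runs -/
def Nice (ϖ : R) (p : ℕ) (Γ : Subalgebra R Ω) : Prop :=
  Good (AlgHom.id R Ω) ϖ Γ ∧ FinFree p Γ ∧ PInsep ϖ p Γ

theorem nice_bot (hΩ : Function.Injective (algebraMap R Ω)) {ϖ : R} (hϖ : Irreducible ϖ) (p : ℕ) :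
    Nice ϖ p (⊥ : Subalgebra R Ω) := by
  refine ⟨good_bot hΩ hϖ, ?_, ?_⟩
  · intro s hs
    let e := Algebra.botEquivOfInjective hΩ
    refine ⟨⊥, le_rfl, hs, Module.Finite.equiv e.symm.toLinearEquiv,
      Module.Free.of_equiv e.symm.toLinearEquiv, 0, ?_⟩
    rw [e.toLinearEquiv.finrank_eq, Module.finrank_self, pow_zero]
  · intro y hy
    obtain ⟨r, rfl⟩ := Algebra.mem_bot.mp hy
    exact ⟨0, r, 0, zero_mem _, by simp⟩

theorem nice_sSup {ϖ : R} {p : ℕ} {c : Set (Subalgebra R Ω)} (hc : IsChain (· ≤ ·) c)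
    (hne : c.Nonempty) (hnice : ∀ Γ ∈ c, Nice ϖ p Γ) : Nice ϖ p (sSup c) := by
  refine ⟨good_sSup hc hne fun Γ h => (hnice Γ h).1, ?_, ?_⟩
  · intro s hs
    have hs' : (↑s : Set Ω) ⊆ ⋃ Γ ∈ c, (Γ : Set Ω) := by
      intro x hx
      obtain ⟨Γ, hΓ, hxΓ⟩ := (mem_sSup_chain hc hne x).mp (hs hx)
      exact Set.mem_biUnion hΓ hxΓ
    have hdir : DirectedOn (fun Γ₁ Γ₂ : Subalgebra R Ω => (Γ₁ : Set Ω) ⊆ Γ₂) c := by
      intro Γ₁ h₁ Γ₂ h₂
      rcases hc.total h₁ h₂ with h | h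
      · exact ⟨Γ₂, h₂, h, le_rfl⟩
      · exact ⟨Γ₁, h₁, le_rfl, h⟩
    obtain ⟨Γ, hΓ, hsΓ⟩ := DirectedOn.exists_mem_subset_of_finset_subset_biUnion hne hdir hs'
    obtain ⟨S₀, hle, hsS, hfin, hfree, hrk⟩ := (hnice Γ hΓ).2.1 s hsΓ
    exact ⟨S₀, hle.trans (le_sSup hΓ), hsS, hfin, hfree, hrk⟩
  · intro y hy
    obtain ⟨Γ, hΓ, hyΓ⟩ := (mem_sSup_chain hc hne y).mp hy
    obtain ⟨m, z, w, hw, h⟩ := (hnice Γ hΓ).2.2 y hyΓ
    exact ⟨m, z, w, (le_sSup hΓ : Γ ≤ sSup c) hw, h⟩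

section Aux

/-- adjoining a `p`-th root to a finite free subalgebra of `p`-power rank -/
theorem exists_adjoin_root_finFree {p : ℕ} (hp : p.Prime) (S₀ : Subalgebra R Ω)
    [Module.Finite R S₀] [Module.Free R S₀] {m : ℕ} (hrk : Module.finrank R S₀ = p ^ m)
    {a : Ω} (ha : a ∈ S₀) {α : Ω} (hα : α ^ p = a)
    (hli : ∀ g : S₀[X], g.natDegree < p → g.eval₂ (S₀.val : S₀ →+* Ω) α = 0 → g = 0) :
    ∃ S₁ : Subalgebra R Ω, (∀ g : S₀[X], g.eval₂ (S₀.val : S₀ →+* Ω) α ∈ S₁) ∧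
      (∀ x ∈ S₁, ∃ g : S₀[X], x = g.eval₂ (S₀.val : S₀ →+* Ω) α) ∧
      Module.Finite R S₁ ∧ Module.Free R S₁ ∧ Module.finrank R S₁ = p ^ (m + 1) := by
  set f₀ : S₀[X] := X ^ p - C (⟨a, ha⟩ : S₀) with hf₀def
  have hf₀ : f₀.Monic := monic_X_pow_sub_C _ hp.ne_zero
  have hdeg : f₀.natDegree = p := natDegree_X_pow_sub_C
  have hf₀1 : f₀ ≠ 1 := by
    intro h
    rw [h, natDegree_one] at hdeg
    exact hp.ne_zero hdeg.symm
  have h₀ : f₀.eval₂ (S₀.val : S₀ →+* Ω) α = 0 := by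
    simp [hf₀def, hα]
  let φ₀ : AdjoinRoot f₀ →ₐ[R] Ω := AdjoinRoot.liftAlgHom f₀ S₀.val α h₀
  have hφmk : ∀ g : S₀[X], φ₀ (AdjoinRoot.mk f₀ g) = g.eval₂ (S₀.val : S₀ →+* Ω) α := fun g => rfl
  have hinj : Function.Injective φ₀ := by
    rw [injective_iff_map_eq_zero]
    intro t ht
    obtain ⟨g, rfl⟩ := AdjoinRoot.mk_surjective t
    have hmk : AdjoinRoot.mk f₀ g = AdjoinRoot.mk f₀ (g %ₘ f₀) := by
      rw [AdjoinRoot.mk_eq_mk]
      refine ⟨g /ₘ f₀, ?_⟩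
      have := modByMonic_add_div g f₀
      linear_combination -this
    rw [hmk] at ht ⊢
    rw [hφmk] at ht
    have hlt : (g %ₘ f₀).natDegree < p := by
      rw [← hdeg]
      exact natDegree_modByMonic_lt g hf₀ hf₀1
    rw [hli _ hlt ht, map_zero]
  haveI : Module.Finite S₀ (AdjoinRoot f₀) := hf₀.finite_adjoinRoot
  haveI : Module.Free S₀ (AdjoinRoot f₀) := hf₀.free_adjoinRoot
  haveI : Module.Finite R (AdjoinRoot f₀) := Module.Finite.trans S₀ (AdjoinRoot f₀)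
  haveI : Module.Free R (AdjoinRoot f₀) := Module.Free.trans (R := R) (S := S₀)
  have hrk₀ : Module.finrank R (AdjoinRoot f₀) = p ^ (m + 1) := by
    rw [← Module.finrank_mul_finrank R S₀ (AdjoinRoot f₀), hrk,
      (AdjoinRoot.powerBasis' hf₀).finrank, AdjoinRoot.powerBasis'_dim, hdeg, pow_succ]
  let e : AdjoinRoot f₀ ≃ₐ[R] φ₀.range := AlgEquiv.ofInjective φ₀ hinj
  refine ⟨φ₀.range, fun g => ⟨AdjoinRoot.mk f₀ g, hφmk g⟩, ?_, Module.Finite.equiv e.toLinearEquiv,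
    Module.Free.of_equiv e.toLinearEquiv, ?_⟩
  · intro x hx
    obtain ⟨t, rfl⟩ := (AlgHom.mem_range _).mp hx
    obtain ⟨g, rfl⟩ := AdjoinRoot.mk_surjective t
    exact ⟨g, hφmk g⟩
  · rw [← e.toLinearEquiv.finrank_eq, hrk₀]

end Aux

section StepP

variable {ϖ : R} {p : ℕ} (hΩ : Function.Injective (algebraMap R Ω)) (hϖ : Irreducible ϖ)
  (hp : p.Prime) (hpR : (p : R) ∈ maximalIdeal R)
  {Γ : Subalgebra R Ω} (hΓ : Nice ϖ p Γ) [IsDiscreteValuationRing Γ]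
  {a : Ω} (haΓ : a ∈ Γ) (hnp : ∀ b : ResidueField Γ, b ^ p ≠ residue Γ ⟨a, haΓ⟩)
  {α : Ω} (hα : α ^ p = a)

/-- the polynomial `X ^ p - a` over `Γ` -/
noncomputable def fP (p : ℕ) {Γ : Subalgebra R Ω} {a : Ω} (haΓ : a ∈ Γ) : Γ[X] :=
  X ^ p - C (⟨a, haΓ⟩ : Γ)

include hp in
theorem fP_monic : (fP p haΓ).Monic := monic_X_pow_sub_C _ hp.ne_zero

theorem fP_natDegree : (fP p haΓ).natDegree = p := natDegree_X_pow_sub_C

include hp hnp in
theorem fP_irreducible : Irreducible ((fP p haΓ).map (residue Γ)) := by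
  have : (fP p haΓ).map (residue Γ) = X ^ p - C (residue Γ ⟨a, haΓ⟩) := by
    simp [fP]
  rw [this]
  exact X_pow_sub_C_irreducible_of_prime hp hnp

include hα in
theorem fP_eval : (fP p haΓ).eval₂ (Γ.val : Γ →+* Ω) α = 0 := by
  simp [fP, hα]

include hΩ hϖ hp hΓ hnp hα in
/-- the step: adjoining a `p`-th root of an element whose residue is not a `p`-th power -/
theorem good_stepP : Good (AlgHom.id R Ω) ϖ (stepHom Γ.val (fP p haΓ) α (fP_eval haΓ hα)).range :=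
  good_step (AlgHom.id R Ω) ϖ Γ.val hΓ.1.injective (hΓ.1.irreducible_pi hΩ hϖ) (fP p haΓ)
    (fP_monic hp haΓ) (fP_irreducible hp haΓ hnp) α (fP_eval haΓ hα)

theorem le_stepP : Γ ≤ (stepHom Γ.val (fP p haΓ) α (fP_eval haΓ hα)).range := by
  have := le_step Γ.val (fP p haΓ) α (fP_eval haΓ hα)
  rwa [Subalgebra.range_val] at this

include hΩ hϖ hp hΓ hnp hα in
/-- independence of the powers of `α` over `Γ`, in polynomial form -/
theorem eq_zero_of_eval₂_eq_zero (g : Γ[X]) (hdeg : g.natDegree < p)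
    (hg : g.eval₂ (Γ.val : Γ →+* Ω) α = 0) : g = 0 := by
  have hinj0 := stepHom_injective (AlgHom.id R Ω) ϖ Γ.val hΓ.1.injective
    (hΓ.1.irreducible_pi hΩ hϖ) (fP p haΓ) (fP_monic hp haΓ) (fP_irreducible hp haΓ hnp) α
    (fP_eval haΓ hα)
  have hinj : Function.Injective (stepHom Γ.val (fP p haΓ) α (fP_eval haΓ hα)) :=
    fun x y h => hinj0 (congrArg (AlgHom.id R Ω) h)
  have hsum : ∑ i : Fin (fP p haΓ).natDegree, Γ.val (g.coeff i) * α ^ (i : ℕ) = 0 := by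
    rw [← hg, eval₂_eq_sum_range' _ (n := (fP p haΓ).natDegree) (by rw [fP_natDegree]; exact hdeg),
      Finset.sum_range]
    rfl
  have hc := repr_unique Γ.val (fP p haΓ) (fP_monic hp haΓ) α (fP_eval haΓ hα) hinj
    (fun i => g.coeff i) hsum
  refine Polynomial.ext fun i => ?_
  rw [coeff_zero]
  by_cases hi : i < p
  · have hi' : i < (fP p haΓ).natDegree := by rw [fP_natDegree]; exact hi
    exact congrFun hc ⟨i, hi'⟩
  · exact coeff_eq_zero_of_natDegree_lt (lt_of_lt_of_le hdeg (not_lt.mp hi))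

include hΩ hϖ hp hΓ hnp hα in
theorem finFree_stepP :
    FinFree p (stepHom Γ.val (fP p haΓ) α (fP_eval haΓ hα)).range := by
  classical
  intro s hs
  set Γ' := (stepHom Γ.val (fP p haΓ) α (fP_eval haΓ hα)).range with hΓ'
  have hle : Γ ≤ Γ' := le_stepP haΓ hα
  have hαΓ' : α ∈ Γ' := mem_step Γ.val (fP p haΓ) α (fP_eval haΓ hα)
  have hrep : ∀ x : s, ∃ c : Fin (fP p haΓ).natDegree → Γ,
      (x : Ω) = ∑ i, Γ.val (c i) * α ^ (i : ℕ) := fun x =>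
    exists_repr Γ.val (fP p haΓ) (fP_monic hp haΓ) (fP_irreducible hp haΓ hnp) α
      (fP_eval haΓ hα) (hs x.2)
  choose cc hcc using hrep
  let t : Finset Ω := insert a (Finset.univ.image
    (fun xi : s × Fin (fP p haΓ).natDegree => ((cc xi.1 xi.2 : Γ) : Ω)))
  have ht : (↑t : Set Ω) ⊆ Γ := by
    intro y hy
    rw [Finset.mem_coe, Finset.mem_insert, Finset.mem_image] at hy
    rcases hy with rfl | ⟨xi, -, rfl⟩
    · exact haΓ
    · exact (cc xi.1 xi.2).2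
  obtain ⟨S₀, hS₀le, htS, hfin, hfree, m, hrk⟩ := hΓ.2.1 t ht
  have haS : a ∈ S₀ := htS (Finset.mem_coe.mpr (Finset.mem_insert_self _ _))
  have hccS : ∀ (x : s) (i : Fin (fP p haΓ).natDegree), ((cc x i : Γ) : Ω) ∈ S₀ := fun x i =>
    htS (Finset.mem_coe.mpr (Finset.mem_insert_of_mem
      (Finset.mem_image.mpr ⟨(x, i), Finset.mem_univ _, rfl⟩)))
  have hli : ∀ g : S₀[X], g.natDegree < p → g.eval₂ (S₀.val : S₀ →+* Ω) α = 0 → g = 0 := by
    intro g hdeg hg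
    let ι : S₀ →+* Γ := (Subalgebra.inclusion hS₀le : S₀ →+* Γ)
    have hιinj : Function.Injective ι := Subalgebra.inclusion_injective hS₀le
    have h1 : (g.map ι).eval₂ (Γ.val : Γ →+* Ω) α = 0 := by
      rw [eval₂_map]
      exact hg
    have h2 := eq_zero_of_eval₂_eq_zero hΩ hϖ hp hΓ haΓ hnp hα (g.map ι)
      (by rw [natDegree_map_eq_of_injective hιinj]; exact hdeg) h1
    exact Polynomial.map_injective ι hιinj (h2.trans (Polynomial.map_zero ι).symm)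
  obtain ⟨S₁, hS₁mem, hS₁rep, hfin₁, hfree₁, hrk₁⟩ :=
    exists_adjoin_root_finFree hp S₀ hrk haS hα hli
  refine ⟨S₁, ?_, ?_, hfin₁, hfree₁, m + 1, hrk₁⟩
  · intro x hx
    obtain ⟨g, rfl⟩ := hS₁rep x hx
    rw [eval₂_eq_sum_range]
    refine Subalgebra.sum_mem _ fun i _ => ?_
    exact Subalgebra.mul_mem _ (hle (hS₀le (g.coeff i).2)) (Subalgebra.pow_mem _ hαΓ' _)
  · intro x hx
    have hx' : x ∈ s := Finset.mem_coe.mp hx
    have := hS₁mem (∑ i : Fin (fP p haΓ).natDegree, C (⟨_, hccS ⟨x, hx'⟩ i⟩ : S₀) * X ^ (i : ℕ))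
    rw [eval₂_finsetSum] at this
    have h3 : (x : Ω) = ∑ i : Fin (fP p haΓ).natDegree,
        eval₂ (S₀.val : S₀ →+* Ω) α (C (⟨_, hccS ⟨x, hx'⟩ i⟩ : S₀) * X ^ (i : ℕ)) := by
      refine (hcc ⟨x, hx'⟩).trans ?_
      refine Finset.sum_congr rfl fun i _ => ?_
      rw [eval₂_mul, eval₂_C, eval₂_pow, eval₂_X]
      rfl
    rw [SetLike.mem_coe, h3]
    exact this

include hΩ hϖ hp hpR hΓ hnp hα in
theorem pInsep_stepP :
    PInsep ϖ p (stepHom Γ.val (fP p haΓ) α (fP_eval haΓ hα)).range := by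
  intro y hy
  set Γ' := (stepHom Γ.val (fP p haΓ) α (fP_eval haΓ hα)).range with hΓ'def
  have hgood' : Good (AlgHom.id R Ω) ϖ Γ' := good_stepP hΩ hϖ hp hΓ haΓ hnp hα
  haveI : IsDiscreteValuationRing Γ' := hgood'.dvr hΩ hϖ
  have hle : Γ ≤ Γ' := le_stepP haΓ hα
  have hαΓ' : α ∈ Γ' := mem_step Γ.val (fP p haΓ) α (fP_eval haΓ hα)
  obtain ⟨c, hc⟩ := exists_repr Γ.val (fP p haΓ) (fP_monic hp haΓ) (fP_irreducible hp haΓ hnp) α
    (fP_eval haΓ hα) hy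
  have hpΓ' : residue Γ' ((p : ℕ) : Γ') = 0 := by
    rw [IsLocalRing.residue_eq_zero_iff, ← hgood'.map_maximalIdeal hΩ hϖ]
    have : ((p : ℕ) : Γ') = algebraMap R Γ' (p : R) := (map_natCast _ _).symm
    rw [this]
    exact Ideal.mem_map_of_mem _ hpR
  haveI : CharP (ResidueField Γ') p :=
    (CharP.charP_iff_prime_eq_zero hp).mpr (by rw [← map_natCast (residue Γ')]; exact hpΓ')
  haveI : ExpChar (ResidueField Γ') p := ExpChar.prime hp
  let ι : Γ →+* Γ' := (Subalgebra.inclusion hle : Γ →+* Γ')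
  let y' : Γ' := ⟨y, hy⟩
  let α' : Γ' := ⟨α, hαΓ'⟩
  let a' : Γ := ⟨a, haΓ⟩
  have hy' : y' = ∑ i, ι (c i) * α' ^ (i : ℕ) := by
    apply Subtype.ext
    change y = _
    rw [hc]
    push_cast
    rfl
  have hα' : α' ^ p = ι a' := Subtype.ext hα
  let sΓ : Γ := ∑ i, c i ^ p * a' ^ (i : ℕ)
  have hres : residue Γ' y' ^ p = residue Γ' (ι sΓ) := by
    rw [hy', map_sum, sum_pow_char, map_sum ι, map_sum (residue Γ')]
    refine Finset.sum_congr rfl fun i _ => ?_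
    rw [map_mul, map_pow, mul_pow, ← pow_mul, mul_comm (i : ℕ) p, pow_mul, ← map_pow (residue Γ') α',
      hα', map_mul ι, map_pow ι, map_pow ι, map_mul (residue Γ'), map_pow (residue Γ'),
      map_pow (residue Γ')]
  obtain ⟨m, z, w, hw, hzw⟩ := hΓ.2.2 sΓ.1 sΓ.2
  have hzero : residue Γ' (algebraMap R Γ' z - y' ^ (p ^ (m + 1))) = 0 := by
    have h1 : algebraMap R Γ' z - (ι sΓ) ^ (p ^ m) = algebraMap R Γ' ϖ * ι ⟨w, hw⟩ :=
      Subtype.ext hzw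
    have h2 : residue Γ' (algebraMap R Γ' ϖ) = 0 := by
      rw [IsLocalRing.residue_eq_zero_iff, hgood'.maximalIdeal_eq hΩ hϖ]
      exact Ideal.mem_span_singleton_self _
    rw [map_sub, map_pow, pow_succ', pow_mul, hres, ← map_pow, ← map_sub, h1, map_mul, h2,
      zero_mul]
  obtain ⟨w', hw', hw'eq⟩ := (hgood'.residue_eq_zero_iff hΩ hϖ _).mp hzero
  exact ⟨m + 1, z, w', hw', hw'eq⟩

end StepP

/-- a maximal nice subalgebra has perfect residue field -/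
theorem exists_nice_perfect [IsAlgClosed Ω] (hΩ : Function.Injective (algebraMap R Ω)) {ϖ : R}
    (hϖ : Irreducible ϖ) {p : ℕ} (hp : p.Prime) (hpR : (p : R) ∈ maximalIdeal R) :
    ∃ Γ : Subalgebra R Ω, Nice ϖ p Γ ∧
      ∀ y ∈ Γ, ∃ z ∈ Γ, ∃ w ∈ Γ, z ^ p - y = algebraMap R Ω ϖ * w := by
  obtain ⟨Γ, -, hmax⟩ := zorn_le_nonempty₀ {Γ : Subalgebra R Ω | Nice ϖ p Γ}
    (fun c hcs hc y hy => ⟨sSup c, nice_sSup hc ⟨y, hy⟩ (fun Γ h => hcs h), fun z hz => le_sSup hz⟩)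
    ⊥ (nice_bot hΩ hϖ p)
  have hΓ : Nice ϖ p Γ := hmax.prop
  refine ⟨Γ, hΓ, ?_⟩
  intro y hy
  by_contra hcon
  push Not at hcon
  haveI : IsDiscreteValuationRing Γ := hΓ.1.dvr hΩ hϖ
  have hnp : ∀ b : ResidueField Γ, b ^ p ≠ residue Γ ⟨y, hy⟩ := by
    intro b hb
    obtain ⟨z, rfl⟩ := residue_surjective b
    have h0 : residue Γ (z ^ p - ⟨y, hy⟩) = 0 := by
      rw [map_sub, map_pow, hb, sub_self]
    obtain ⟨w, hw, hzw⟩ := (hΓ.1.residue_eq_zero_iff hΩ hϖ _).mp h0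
    exact hcon z.1 z.2 w hw hzw
  obtain ⟨α, hα⟩ := IsAlgClosed.exists_pow_nat_eq y hp.pos
  have hnice' : Nice ϖ p (stepHom Γ.val (fP p hy) α (fP_eval hy hα)).range :=
    ⟨good_stepP hΩ hϖ hp hΓ hy hnp hα, finFree_stepP hΩ hϖ hp hΓ hy hnp hα,
      pInsep_stepP hΩ hϖ hp hpR hΓ hy hnp hα⟩
  have hge := hmax.le_of_ge hnice' (le_stepP hy hα)
  have hαΓ : α ∈ Γ := hge (mem_step Γ.val (fP p hy) α (fP_eval hy hα))
  exact hcon α hαΓ 0 (zero_mem _) (by rw [hα, sub_self, mul_zero])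

end Groth.Agent.H80.DvrPerfExt
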