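import Mathlib
import Groth.Agent.H80.DvrPerfExt
import Groth.Agent.H78.HensInt.Basic

/-! Assembly: a henselian discrete valuation ring `R` has a henselian DVR extension `R'` of
ramification index one, a directed union of finite free subalgebras of `p`-power rank, whose residue
field is a perfect closure of that of `R`. -/

set_option autoImplicit false
set_option linter.style.haveILetI false
set_option linter.unusedSectionVars false
universe u

namespace Groth.Agent.H80.DvrPerfExt

open Polynomial IsLocalRing DvrExt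

theorem main (R : Type u) [CommRing R] [IsDomain R] [IsDiscreteValuationRing R]
    [HenselianLocalRing R] :
    ∃ (R' : Type u) (_ : CommRing R') (_ : IsDomain R') (_ : IsDiscreteValuationRing R')
      (_ : HenselianLocalRing R') (_ : Algebra R R'),
      Function.Injective (algebraMap R R') ∧
      Ideal.map (algebraMap R R') (maximalIdeal R) = maximalIdeal R' ∧
      (∀ s : Finset R', ∃ S : Subalgebra R R', (↑s : Set R') ⊆ ↑S ∧ Module.Finite R S ∧
        Module.Free R S ∧ ∃ m : ℕ, Module.finrank R S = ringExpChar (ResidueField R) ^ m) ∧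
      (∀ y : R', ∃ z : R', z ^ ringExpChar (ResidueField R) - y ∈ maximalIdeal R') ∧
      (∀ y : R', ∃ (m : ℕ) (z : R),
        algebraMap R R' z - y ^ (ringExpChar (ResidueField R) ^ m) ∈ maximalIdeal R') := by
  classical
  obtain ⟨p, hp⟩ : ∃ p, ringExpChar (ResidueField R) = p := ⟨_, rfl⟩
  rw [hp]
  have hexp : ExpChar (ResidueField R) p := ringExpChar.of_eq hp
  cases hexp with
  | zero =>
    refine ⟨R, inferInstance, inferInstance, inferInstance, inferInstance, Algebra.id R,
      Function.injective_id, Ideal.map_id _, ?_, ?_, ?_⟩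
    · intro s
      let e : (⊤ : Subalgebra R R) ≃ₐ[R] R := Subalgebra.topEquiv
      refine ⟨⊤, fun x _ => Algebra.mem_top, Module.Finite.equiv e.symm.toLinearEquiv,
        Module.Free.of_equiv e.symm.toLinearEquiv, 0, ?_⟩
      rw [e.toLinearEquiv.finrank_eq, Module.finrank_self, pow_zero]
    · intro y
      exact ⟨y, by simp⟩
    · intro y
      exact ⟨0, y, by simp⟩
  | prime hprime =>
    let K := FractionRing R
    let Ω := AlgebraicClosure K
    have hΩ : Function.Injective (algebraMap R Ω) := by
      rw [IsScalarTower.algebraMap_eq R K Ω]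
      exact (algebraMap K Ω).injective.comp (IsFractionRing.injective R K)
    obtain ⟨ϖ, hϖ⟩ := IsDiscreteValuationRing.exists_irreducible R
    have hpR : (p : R) ∈ maximalIdeal R := by
      rw [← IsLocalRing.residue_eq_zero_iff, map_natCast]
      exact CharP.cast_eq_zero _ p
    obtain ⟨Γ, hΓ, hperf⟩ := exists_nice_perfect (Ω := Ω) hΩ hϖ hprime hpR
    haveI : IsDiscreteValuationRing Γ := hΓ.1.dvr hΩ hϖ
    haveI : Algebra.IsIntegral R Γ := by
      constructor
      intro x
      obtain ⟨S₀, hle, hsS, hfin, hfree, -⟩ := hΓ.2.1 {x.1} (by simp)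
      have hx : x.1 ∈ S₀ := hsS (by simp)
      have h1 : IsIntegral R (⟨x.1, hx⟩ : S₀) := IsIntegral.of_finite R _
      exact h1.map (Subalgebra.inclusion hle)
    haveI : HenselianLocalRing Γ := Groth.Agent.H78.HensInt.henselianLocalRing_of_isIntegral R Γ
    have hmax := hΓ.1.maximalIdeal_eq hΩ hϖ
    refine ⟨Γ, inferInstance, inferInstance, inferInstance, inferInstance, inferInstance,
      hΓ.1.algebraMap_injective hΩ, hΓ.1.map_maximalIdeal hΩ hϖ, ?_, ?_, ?_⟩
    · intro s
      obtain ⟨S₀, hle, hsS, hfin, hfree, m, hrk⟩ := hΓ.2.1 (s.image Subtype.val) (by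
        intro x hx
        rw [Finset.mem_coe, Finset.mem_image] at hx
        obtain ⟨y, -, rfl⟩ := hx
        exact y.2)
      let e : S₀ ≃ₐ[R] (Subalgebra.inclusion hle).range :=
        AlgEquiv.ofInjective (Subalgebra.inclusion hle) (Subalgebra.inclusion_injective hle)
      refine ⟨(Subalgebra.inclusion hle).range, ?_, Module.Finite.equiv e.toLinearEquiv,
        Module.Free.of_equiv e.toLinearEquiv, m, ?_⟩
      · intro x hx
        have hxS : x.1 ∈ S₀ := hsS (Finset.mem_coe.mpr (Finset.mem_image.mpr ⟨x, hx, rfl⟩))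
        exact (AlgHom.mem_range _).mpr ⟨⟨x.1, hxS⟩, rfl⟩
      · rw [← e.toLinearEquiv.finrank_eq, hrk]
    · intro y
      obtain ⟨z, hz, w, hw, h⟩ := hperf y.1 y.2
      refine ⟨⟨z, hz⟩, ?_⟩
      rw [hmax, Ideal.mem_span_singleton]
      exact ⟨⟨w, hw⟩, Subtype.ext h⟩
    · intro y
      obtain ⟨m, z, w, hw, h⟩ := hΓ.2.2 y.1 y.2
      refine ⟨m, z, ?_⟩
      rw [hmax, Ideal.mem_span_singleton]
      exact ⟨⟨w, hw⟩, Subtype.ext h⟩

end Groth.Agent.H80.DvrPerfExt
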