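import Mathlib

/-!
# Subrings of finite products of normal domains closed under "division by nonzerodivisors"

If `A ⊆ S = Π i, D i` (finite product of integrally closed domains) satisfies
* (P) `s ∈ A`, all coordinates of `s` nonzero, `s * b ∈ A` implies `b ∈ A`,
* (Q) the indicator of the support of every `a ∈ A` is in `A`,
then `A` is a finite product of integrally closed domains.
-/

namespace Groth.Agent.H80.EqLocusProd

open Classical

universe u
variable {ι : Type u} (D : ι → Type u) [∀ i, CommRing (D i)]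

/-- indicator function of a set of indices, as an element of the product ring. -/
noncomputable def ind (J : Set ι) : Π i, D i := fun i => if i ∈ J then 1 else 0

variable {D}

@[simp] lemma ind_apply (J : Set ι) (i : ι) : ind D J i = if i ∈ J then 1 else 0 := rfl

lemma ind_mul (J J' : Set ι) : ind D J * ind D J' = ind D (J ∩ J') := by
  funext i
  by_cases h : i ∈ J <;> by_cases h' : i ∈ J' <;> simp [h, h']

lemma one_sub_ind (J : Set ι) : 1 - ind D J = ind D Jᶜ := by
  funext i
  by_cases h : i ∈ J <;> simp [h]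

lemma ind_add_compl (J : Set ι) : ind D J + ind D Jᶜ = 1 := by
  rw [← one_sub_ind]; ring

variable (A : Subring (Π i, D i))

/-- two indices are related if no idempotent of `A` separates them. -/
def rel (i j : ι) : Prop := ∀ J : Set ι, ind D J ∈ A → (i ∈ J ↔ j ∈ J)

lemma rel_refl (i : ι) : rel A i i := fun _ _ => Iff.rfl
lemma rel_symm {i j : ι} (h : rel A i j) : rel A j i := fun J hJ => (h J hJ).symm
lemma rel_trans {i j k : ι} (h : rel A i j) (h' : rel A j k) : rel A i k :=
  fun J hJ => (h J hJ).trans (h' J hJ)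

/-- the class of an index. -/
def cls (i : ι) : Set ι := {j | rel A i j}

lemma compl_mem {J : Set ι} (hJ : ind D J ∈ A) : ind D Jᶜ ∈ A := by
  rw [← one_sub_ind]; exact A.sub_mem A.one_mem hJ

lemma rel_of_imp {i j : ι} (h : ∀ J : Set ι, ind D J ∈ A → i ∈ J → j ∈ J) : rel A i j := by
  intro J hJ
  refine ⟨h J hJ, fun hj => ?_⟩
  by_contra hi
  exact (h Jᶜ (compl_mem A hJ) hi) hj

lemma cls_eq_of_rel {i j : ι} (h : rel A i j) : cls A i = cls A j := by
  ext k
  exact ⟨fun hk => rel_trans A (rel_symm A h) hk, fun hk => rel_trans A h hk⟩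

set_option linter.unusedSectionVars false
set_option linter.style.haveILetI false
variable [Fintype ι]

lemma ind_cls_mem (i : ι) : ind D (cls A i) ∈ A := by
  have : ind D (cls A i)
      = ∏ J ∈ (Finset.univ.filter fun J : Set ι => ind D J ∈ A ∧ i ∈ J), ind D J := by
    funext j
    rw [Finset.prod_apply]
    simp only [ind_apply]
    have hiff : j ∈ cls A i ↔
        ∀ J ∈ (Finset.univ.filter fun J : Set ι => ind D J ∈ A ∧ i ∈ J), j ∈ J := by
      constructor
      · intro hj J hJ
        have := (Finset.mem_filter.mp hJ).2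
        exact (hj J this.1).mp this.2
      · intro hj
        refine rel_of_imp A fun J hJ hi => hj J ?_
        exact Finset.mem_filter.mpr ⟨Finset.mem_univ _, hJ, hi⟩
    by_cases hj : j ∈ cls A i
    · rw [if_pos hj]
      symm
      apply Finset.prod_eq_one
      intro J hJ
      rw [if_pos (hiff.mp hj J hJ)]
    · rw [if_neg hj]
      symm
      rw [hiff] at hj
      push Not at hj
      obtain ⟨J, hJ, hjJ⟩ := hj
      exact Finset.prod_eq_zero hJ (if_neg hjJ)
  rw [this]
  exact Subring.prod_mem _ fun J hJ => (Finset.mem_filter.mp hJ).2.1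

/-- The index type of the decomposition: the set of classes. -/
def Idx : Type u := {J : Set ι // ∃ i, J = cls A i}

instance : Finite (Idx A) := by unfold Idx; infer_instance

noncomputable instance : Fintype (Idx A) := Fintype.ofFinite _

/-- the class of an index, as an element of `Idx A`. -/
def mkIdx (i : ι) : Idx A := ⟨cls A i, i, rfl⟩

lemma mem_mkIdx (i : ι) : i ∈ (mkIdx A i).1 := rel_refl A i

lemma Idx.exists_mem (q : Idx A) : ∃ i, i ∈ q.1 := by
  obtain ⟨i, hi⟩ := q.2
  exact ⟨i, hi ▸ rel_refl A i⟩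

lemma Idx.rel_of_mem (q : Idx A) {i j : ι} (hi : i ∈ q.1) (hj : j ∈ q.1) : rel A i j := by
  obtain ⟨i0, hi0⟩ := q.2
  rw [hi0] at hi hj
  exact rel_trans A (rel_symm A hi) hj

lemma Idx.eq_of_mem {q q' : Idx A} {i : ι} (h : i ∈ q.1) (h' : i ∈ q'.1) : q = q' := by
  obtain ⟨i0, hi0⟩ := q.2
  obtain ⟨i1, hi1⟩ := q'.2
  apply Subtype.ext
  rw [hi0] at h
  rw [hi1] at h'
  rw [hi0, hi1]
  exact cls_eq_of_rel A (rel_trans A h (rel_symm A h'))

lemma Idx.ind_mem (q : Idx A) : ind D q.1 ∈ A := by
  obtain ⟨i0, hi0⟩ := q.2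
  rw [hi0]; exact ind_cls_mem A i0

/-- the projection of `A` to the coordinates in the class `q`. -/
def proj (q : Idx A) : A →+* Π i : q.1, D i.1 :=
  (RingHom.pi fun i : q.1 => Pi.evalRingHom D i.1).comp A.subtype

@[simp] lemma proj_apply (q : Idx A) (a : A) (i : q.1) : proj A q a i = a.1 i.1 := rfl

section Q

variable (hQ : ∀ a ∈ A, ind D {i | a i ≠ 0} ∈ A)
include hQ

lemma eq_zero_iff_of_rel {a : Π i, D i} (ha : a ∈ A) {i j : ι} (h : rel A i j) :
    a i = 0 ↔ a j = 0 := by
  have := h _ (hQ a ha)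
  simp only [Set.mem_ofPred_eq] at this
  exact not_iff_not.mp this

lemma proj_eq_zero_of_apply_eq_zero (q : Idx A) (a : A) (i : q.1) (h : a.1 i.1 = 0) :
    proj A q a = 0 := by
  funext j
  exact (eq_zero_iff_of_rel A hQ a.2 (q.rel_of_mem A i.2 j.2)).mp h

lemma isDomain_range [∀ i, IsDomain (D i)] (q : Idx A) : IsDomain (proj A q).range := by
  obtain ⟨i0, hi0⟩ := q.exists_mem
  haveI : Nontrivial (proj A q).range := by
    refine ⟨⟨0, 1, fun h => ?_⟩⟩
    have := congrArg (fun x : (proj A q).range => x.1 ⟨i0, hi0⟩) h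
    simp at this
  haveI : NoZeroDivisors (proj A q).range := ⟨by
    intro x y hab
    obtain ⟨_, a, rfl⟩ := x
    obtain ⟨_, b, rfl⟩ := y
    have h0 : a.1 i0 * b.1 i0 = 0 :=
      congrArg (fun x : (proj A q).range => x.1 ⟨i0, hi0⟩) hab
    rw [mul_eq_zero] at h0
    rcases h0 with h0 | h0
    · left
      exact Subtype.ext (proj_eq_zero_of_apply_eq_zero A hQ q a ⟨i0, hi0⟩ h0)
    · right
      exact Subtype.ext (proj_eq_zero_of_apply_eq_zero A hQ q b ⟨i0, hi0⟩ h0)⟩
  exact NoZeroDivisors.to_isDomain _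


lemma isIntegrallyClosed_range [∀ i, IsDomain (D i)] [∀ i, IsIntegrallyClosed (D i)]
    (hP : ∀ s ∈ A, (∀ i, s i ≠ 0) → ∀ b, s * b ∈ A → b ∈ A) (q : Idx A)
    [IsDomain (proj A q).range] :
    IsIntegrallyClosed (proj A q).range := by
  rw [isIntegrallyClosed_iff (FractionRing (proj A q).range)]
  intro x hx
  obtain ⟨y, z, hz, rfl⟩ := IsFractionRing.div_surjective (A := (proj A q).range) x
  have hz0 : z ≠ 0 := nonZeroDivisors.ne_zero hz
  obtain ⟨cy, hcy⟩ := y.2
  obtain ⟨cz, hcz⟩ := z.2
  -- injectivity of the coordinate maps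
  have hπinj : ∀ i : q.1, ∀ e : (proj A q).range, e.1 i = 0 → e = 0 := by
    intro i e he
    obtain ⟨_, a, rfl⟩ := e
    exact Subtype.ext (proj_eq_zero_of_apply_eq_zero A hQ q a i he)
  have key : ∀ i : q.1, ∃ d : D i.1, z.1 i * d = y.1 i := by
    intro i
    let π : (proj A q).range →+* D i.1 :=
      (Pi.evalRingHom (fun i : q.1 => D i.1) i).comp (proj A q).range.subtype
    have hπ : Function.Injective π := by
      rw [injective_iff_map_eq_zero]
      intro e he
      exact hπinj i e he
    let g : (proj A q).range →+* FractionRing (D i.1) :=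
      (algebraMap (D i.1) (FractionRing (D i.1))).comp π
    have hg : Function.Injective g := (IsFractionRing.injective _ _).comp hπ
    let ψ : FractionRing (proj A q).range →+* FractionRing (D i.1) := IsFractionRing.lift hg
    have hψ : ∀ e, ψ (algebraMap (proj A q).range _ e) = g e := IsFractionRing.lift_algebraMap hg
    have hint : IsIntegral (D i.1)
        (ψ (algebraMap (proj A q).range _ y / algebraMap (proj A q).range _ z)) :=
      IsIntegral.map_of_comp_eq π ψ (by ext e; simp [hψ, g]) hx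
    obtain ⟨d, hd⟩ := IsIntegrallyClosed.algebraMap_eq_of_integral hint
    refine ⟨d, ?_⟩
    apply IsFractionRing.injective (D i.1) (FractionRing (D i.1))
    rw [map_mul, hd, map_div₀, hψ, hψ]
    have hgz : g z ≠ 0 := fun h => hz0 (hg (h.trans (map_zero g).symm))
    have : algebraMap (D i.1) (FractionRing (D i.1)) (z.1 i) = g z := rfl
    rw [this, mul_div_cancel₀ _ hgz]
    rfl
  choose d hd using key
  -- the candidate
  let b : Π i, D i := fun i => if h : i ∈ q.1 then d ⟨i, h⟩ else 0
  let s : Π i, D i := cz.1 * ind D q.1 + ind D q.1ᶜ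
  have hsA : s ∈ A :=
    A.add_mem (A.mul_mem cz.2 (q.ind_mem A)) (compl_mem A (q.ind_mem A))
  have hs0 : ∀ i, s i ≠ 0 := by
    intro i
    by_cases hi : i ∈ q.1
    · have h1 : s i = z.1 ⟨i, hi⟩ := by
        simp [s, hi, ← hcz]
      rw [h1]
      intro h0
      exact hz0 (hπinj ⟨i, hi⟩ z h0)
    · have h1 : s i = 1 := by simp [s, hi]
      rw [h1]; exact one_ne_zero
  have hsb : s * b = cy.1 * ind D q.1 := by
    funext i
    by_cases hi : i ∈ q.1
    · have := hd ⟨i, hi⟩
      rw [← hcy, ← hcz] at this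
      simp only [proj_apply] at this
      simp [s, b, hi, this]
    · simp [s, b, hi]
  have hbA : b ∈ A := hP s hsA hs0 b (hsb ▸ A.mul_mem cy.2 (q.ind_mem A))
  refine ⟨⟨proj A q ⟨b, hbA⟩, ⟨_, rfl⟩⟩, ?_⟩
  rw [eq_div_iff (by
    intro h0
    exact hz0 ((IsFractionRing.injective (proj A q).range _) (h0.trans (map_zero _).symm))),
    ← map_mul]
  congr 1
  apply Subtype.ext
  funext i
  have := hd i
  show b i.1 * z.1 i = y.1 i
  simp only [b, dif_pos i.2]
  rw [mul_comm]; exact this


theorem exists_equiv_pi [∀ i, IsDomain (D i)] [∀ i, IsIntegrallyClosed (D i)]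
    (hP : ∀ s ∈ A, (∀ i, s i ≠ 0) → ∀ b, s * b ∈ A → b ∈ A) :
    ∃ (κ : Type u) (_ : Fintype κ) (E : κ → Type u) (_ : ∀ j, CommRing (E j))
      (_ : ∀ j, IsDomain (E j)) (_ : ∀ j, IsIntegrallyClosed (E j)),
      Nonempty (A ≃+* Π j, E j) := by
  refine ⟨Idx A, inferInstance, fun q => (proj A q).range, fun q => inferInstance,
    fun q => isDomain_range A hQ q, fun q => ?_, ⟨?_⟩⟩
  · haveI := isDomain_range A hQ q
    exact isIntegrallyClosed_range A hQ hP q
  · refine RingEquiv.ofBijective (RingHom.pi fun q => (proj A q).rangeRestrict) ⟨?_, ?_⟩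
    · rw [injective_iff_map_eq_zero]
      intro a ha
      apply Subtype.ext
      funext i
      have h1 := congrFun ha (mkIdx A i)
      have h2 : ((proj A (mkIdx A i)).rangeRestrict a).1 ⟨i, mem_mkIdx A i⟩ = 0 := by
        rw [show (proj A (mkIdx A i)).rangeRestrict a = 0 from h1]; rfl
      exact h2
    · intro x
      choose c hc using fun q => (x q).2
      let a : Π i, D i := ∑ q : Idx A, (c q).1 * ind D q.1
      have haA : a ∈ A := Subring.sum_mem _ fun q _ => A.mul_mem (c q).2 (q.ind_mem A)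
      refine ⟨⟨a, haA⟩, ?_⟩
      funext q
      apply Subtype.ext
      funext i
      show a i.1 = (x q).1 i
      rw [← hc q]
      simp only [a, Finset.sum_apply, Pi.mul_apply, ind_apply, proj_apply]
      rw [Finset.sum_eq_single q]
      · rw [if_pos i.2, mul_one]
      · intro q' _ hq'
        rw [if_neg, mul_zero]
        intro hi
        exact hq' (Idx.eq_of_mem A hi i.2)
      · intro h; exact absurd (Finset.mem_univ q) h

end Q


section Equalizer

variable [∀ i, IsDomain (D i)] {R : Type*} [CommRing R] (F : Set ((Π i, D i) →+* R))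
  (hF : ∀ f ∈ F, ∀ s ∈ nonZeroDivisors (Π i, D i), f s ∈ nonZeroDivisors R)
  (hA : ∀ a, a ∈ A ↔ ∀ f ∈ F, ∀ f' ∈ F, f a = f' a)

omit [Fintype ι] in
lemma mem_nonZeroDivisors_of_forall_ne {s : Π i, D i} (hs : ∀ i, s i ≠ 0) :
    s ∈ nonZeroDivisors (Π i, D i) := by
  rw [mem_nonZeroDivisors_iff_right]
  intro x hx
  funext i
  have := congrFun hx i
  simp only [Pi.mul_apply, Pi.zero_apply, mul_eq_zero] at this
  exact this.resolve_right (hs i)

include hF hA

omit [Fintype ι] in
lemma hP_of_eqLocus : ∀ s ∈ A, (∀ i, s i ≠ 0) → ∀ b, s * b ∈ A → b ∈ A := by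
  intro s hsA hs b hsb
  rw [hA] at hsA hsb ⊢
  intro f hf f' hf'
  have h1 := hsb f hf f' hf'
  rw [map_mul, map_mul, hsA f hf f' hf', ← sub_eq_zero, ← mul_sub] at h1
  have hnz := hF f' hf' s (mem_nonZeroDivisors_of_forall_ne hs)
  have := (mem_nonZeroDivisors_iff_left.mp hnz) _ h1
  exact sub_eq_zero.mp this

omit [Fintype ι] in
lemma hQ_of_eqLocus : ∀ a ∈ A, ind D {i | a i ≠ 0} ∈ A := by
  intro a haA
  set e : Π i, D i := ind D {i | a i ≠ 0} with he
  set s : Π i, D i := a + ind D {i | a i ≠ 0}ᶜ with hs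
  have hs0 : ∀ i, s i ≠ 0 := by
    intro i
    by_cases hi : a i = 0
    · simp [s, hi]
    · simp [s, hi]
  have hse : s * e = a := by
    funext i
    by_cases hi : a i = 0
    · simp [s, e, hi]
    · simp [s, e, hi]
  have hee : e * e = e := by rw [he, ind_mul, Set.inter_self]
  have hsnz := mem_nonZeroDivisors_of_forall_ne hs0
  -- the key computation
  have key : ∀ f ∈ F, ∀ f' ∈ F, f e = f' e * f e := by
    intro f hf f' hf'
    have h1 : f s * f e = f' s * f' e := by
      rw [← map_mul, ← map_mul, hse]; exact (hA a).mp haA f hf f' hf'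
    have h2 : f s * ((1 - f' e) * f e) = 0 := by
      have : f s * ((1 - f' e) * f e) = (1 - f' e) * (f s * f e) := by ring
      rw [this, h1]
      have h3 : f' e * f' e = f' e := by rw [← map_mul, hee]
      have : (1 - f' e) * (f' s * f' e) = f' s * (f' e - f' e * f' e) := by ring
      rw [this, h3, sub_self, mul_zero]
    have h4 := (mem_nonZeroDivisors_iff_left.mp (hF f hf s hsnz)) _ h2
    have : (1 - f' e) * f e = f e - f' e * f e := by ring
    rw [this, sub_eq_zero] at h4
    exact h4
  rw [hA]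
  intro f hf f' hf'
  rw [key f hf f' hf', mul_comm]
  exact (key f' hf' f hf).symm

end Equalizer

end Groth.Agent.H80.EqLocusProd
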