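import Groth.Agent.H80.FFGapKv

/-!
# Strong approximation in the adele ring (completions) of a function field (helper80)
-/

set_option autoImplicit false

namespace Groth.Agent.H80.FFAdeleStrong

open FunFld WithZero Module Groth.Agent.H55

universe u

variable {k K : Type u} [Field k] [Field K] [Algebra k K]

theorem part1 (hK : IsFunctionField k K) [AdFn.HasFinitePoles k K]
    (S : Set (Place k K)) (hS : S.Nonempty) (a : AdFn.AdeleRing k K) :
    ∃ f : K, ∀ v : Place k K, v ∉ S →
      AdFn.AdeleRing.proj v (a - AdFn.AdeleRing.diag f) ∈ AdFn.Ov v := by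
  classical
  obtain ⟨P, hP⟩ := hS
  have hfin : {v : Place k K | ¬ (a.1 v ∈ AdFn.Ov v)}.Finite := by
    have := a.2
    rw [Filter.eventually_cofinite] at this
    exact this
  let T : Finset (Place k K) := hfin.toFinset.filter (fun v => v ∉ S)
  have hPT : P ∉ T := by
    intro h
    rw [Finset.mem_filter] at h
    exact h.2 hP
  choose x hx using fun v : Place k K => FFGapKv.exists_toKv_sub_mem v (a.1 v)
  obtain ⟨z, hz1, hz2⟩ := strong_approx_le hK P T hPT x (fun _ => 0)
  refine ⟨z, fun v hv => ?_⟩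
  rw [map_sub, AdFn.AdeleRing.proj_diag, AdFn.AdeleRing.proj_apply]
  by_cases hvT : v ∈ T
  · have h1 : AdFn.toKv v (z - x v) ∈ AdFn.Ov v := by
      rw [AdFn.toKv_mem_Ov]
      simpa using hz1 v hvT
    have h2 := hx v
    have : a.1 v - AdFn.toKv v z = - (AdFn.toKv v (x v) - a.1 v) - AdFn.toKv v (z - x v) := by
      rw [map_sub]; ring
    rw [this]
    exact sub_mem ((AdFn.Ov v).neg_mem _ h2) h1
  · have hav : a.1 v ∈ AdFn.Ov v := by
      by_contra hcon
      apply hvT
      rw [Finset.mem_filter, Set.Finite.mem_toFinset]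
      exact ⟨hcon, hv⟩
    have hvP : v ≠ P := fun h => hv (h ▸ hP)
    have hzv : AdFn.toKv v z ∈ AdFn.Ov v := by
      rw [AdFn.toKv_mem_Ov]
      exact hz2 v hvP hvT
    exact sub_mem hav hzv

theorem part2 [AdFn.HasFinitePoles k K] (S : Set (Place k K)) (b : AdFn.AdeleRing k K)
    (hb : ∀ v : Place k K, v ∉ S → AdFn.AdeleRing.proj v b = 0) :
    (∃ f : K, ∀ v : Place k K,
        AdFn.AdeleRing.proj v (b - AdFn.AdeleRing.diag f) ∈ AdFn.Ov v) ↔
      ∃ f ∈ AdFn.SInt S, ∀ v ∈ S, AdFn.AdeleRing.proj v b - AdFn.toKv v f ∈ AdFn.Ov v := by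
  constructor
  · rintro ⟨f, hf⟩
    refine ⟨f, ?_, fun v _ => ?_⟩
    · rw [AdFn.mem_SInt]
      intro v hv
      have := hf v
      rw [map_sub, hb v hv, zero_sub, AdFn.AdeleRing.proj_diag] at this
      have h2 := (AdFn.Ov v).neg_mem _ this
      rw [neg_neg] at h2
      exact (AdFn.toKv_mem_Ov v f).mp h2
    · have := hf v
      rw [map_sub, AdFn.AdeleRing.proj_diag] at this
      exact this
  · rintro ⟨f, hfS, hf⟩
    refine ⟨f, fun v => ?_⟩
    rw [map_sub, AdFn.AdeleRing.proj_diag]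
    by_cases hv : v ∈ S
    · exact hf v hv
    · rw [hb v hv, zero_sub]
      apply (AdFn.Ov v).neg_mem
      rw [AdFn.toKv_mem_Ov]
      exact hfS v hv

end Groth.Agent.H80.FFAdeleStrong
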