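import Groth.Agent.H55.FFStrong
import Groth.Agent.H55.FFAdele
import Groth.Prelude.Def_AdFn

/-!
# `K / (O_{P} + O_P)` has dimension the genus (helper80, on top of helper55's function field library)
-/

set_option autoImplicit false

namespace Groth.Agent.H80.FFGapK

open FunFld WithZero Module Groth.Agent.H55

universe u

variable {k K : Type u} [Field k] [Field K] [Algebra k K]

open Classical in
/-- the adele with component `x` at `P` and `0` elsewhere -/
noncomputable def atP (P : Place k K) : K →ₗ[k] (Place k K → K) :=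
  LinearMap.single k (fun _ : Place k K => K) P

open Classical in
theorem atP_apply (P Q : Place k K) (x : K) : atP P x Q = if Q = P then x else 0 := by
  unfold atP
  rw [LinearMap.single_apply, Pi.single_apply]

theorem atP_mem_adele (P : Place k K) (x : K) : atP P x ∈ adele k K := by
  rw [mem_adele]
  apply (Set.finite_singleton P).subset
  intro Q hQ
  rw [Set.mem_ofPred_eq] at hQ
  rw [Set.mem_singleton_iff]
  by_contra hne
  rw [atP_apply, if_neg hne, map_zero] at hQ
  exact absurd hQ (by simp)

/-- the subspace `A(0) + K` of the space of repartitions -/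
abbrev U : Submodule k (Place k K → K) := AD (0 : Divisor k K) ⊔ LinearMap.range (diag k K)

theorem mem_AD_zero {a : Place k K → K} : a ∈ AD (0 : Divisor k K) ↔ ∀ Q : Place k K, Q.1 (a Q) ≤ 1 := by
  rw [mem_AD]
  simp only [Finsupp.coe_zero, Pi.zero_apply, exp_zero]

/-- the map `K → A / (A(0) + K)` -/
noncomputable def toQ (P : Place k K) : K →ₗ[k] RelQ (U (k := k) (K := K)) (adele k K) :=
  (Submodule.mkQ _).comp ((atP P).codRestrict (adele k K) (atP_mem_adele P))

theorem toQ_eq_zero_iff (P : Place k K) (x : K) :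
    toQ P x = 0 ↔ atP P x ∈ U (k := k) (K := K) := by
  unfold toQ
  rw [LinearMap.comp_apply, Submodule.mkQ_apply, Submodule.Quotient.mk_eq_zero, Submodule.mem_comap]
  rfl

theorem ker_toQ (P : Place k K) :
    LinearMap.ker (toQ P) = Subalgebra.toSubmodule (AdFn.SInt ({P} : Set (Place k K))) ⊔
      Subalgebra.toSubmodule (AdFn.SInt (({P} : Set (Place k K))ᶜ)) := by
  ext x
  rw [LinearMap.mem_ker, toQ_eq_zero_iff, Submodule.mem_sup, Submodule.mem_sup]
  constructor
  · rintro ⟨b, hb, _, ⟨z, rfl⟩, hbz⟩
    rw [mem_AD_zero] at hb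
    refine ⟨z, ?_, b P, ?_, ?_⟩
    · rw [Subalgebra.mem_toSubmodule, AdFn.mem_SInt]
      intro v hv
      have hvP : v ≠ P := hv
      have := congrFun hbz v
      rw [Pi.add_apply, atP_apply, if_neg hvP] at this
      have hz : z = - b v := by
        have h2 : diag k K z v = z := rfl
        rw [h2] at this
        exact eq_neg_of_add_eq_zero_right this
      rw [hz, Valuation.map_neg]
      exact hb v
    · rw [Subalgebra.mem_toSubmodule, AdFn.mem_SInt]
      intro v hv
      have hvP : v = P := by
        by_contra hne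
        exact hv hne
      rw [hvP]
      exact hb P
    · have := congrFun hbz P
      rw [Pi.add_apply, atP_apply, if_pos rfl] at this
      have h2 : diag k K z P = z := rfl
      rw [h2] at this
      rw [← this, add_comm]
  · rintro ⟨z, hz, w, hw, rfl⟩
    rw [Subalgebra.mem_toSubmodule, AdFn.mem_SInt] at hz hw
    refine ⟨atP P (z + w) - diag k K z, ?_, diag k K z, ⟨z, rfl⟩, by abel⟩
    rw [mem_AD_zero]
    intro Q
    have h2 : diag k K z Q = z := rfl
    rw [Pi.sub_apply, atP_apply, h2]
    by_cases hQ : Q = P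
    · rw [if_pos hQ, add_sub_cancel_left]
      apply hw
      rw [hQ]
      simp
    · rw [if_neg hQ, zero_sub, Valuation.map_neg]
      exact hz Q hQ

theorem toQ_surjective (hK : IsFunctionField k K) (P : Place k K) :
    Function.Surjective (toQ P) := by
  classical
  intro q
  obtain ⟨a, rfl⟩ := Submodule.mkQ_surjective _ q
  have ha := a.2
  rw [mem_adele] at ha
  let S₀ : Finset (Place k K) := ha.toFinset.erase P
  have hPS : P ∉ S₀ := Finset.notMem_erase P _
  obtain ⟨z, hz1, hz2⟩ := strong_approx_le hK P S₀ hPS (a : Place k K → K) (fun _ => 0)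
  refine ⟨(a : Place k K → K) P - z, ?_⟩
  unfold toQ
  rw [LinearMap.comp_apply, Submodule.mkQ_apply, Submodule.mkQ_apply, Submodule.Quotient.eq,
    Submodule.mem_comap]
  change atP P ((a : Place k K → K) P - z) - (a : Place k K → K) ∈ U (k := k) (K := K)
  rw [Submodule.mem_sup]
  refine ⟨atP P ((a : Place k K → K) P - z) - (a : Place k K → K) + diag k K z, ?_,
    - diag k K z, ⟨-z, by rw [map_neg]⟩, by abel⟩
  rw [mem_AD_zero]
  intro Q
  have h2 : diag k K z Q = z := rfl
  rw [Pi.add_apply, Pi.sub_apply, atP_apply, h2]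
  by_cases hQ : Q = P
  · rw [if_pos hQ, hQ]
    simp
  · rw [if_neg hQ, zero_sub]
    have : -(a : Place k K → K) Q + z = z - (a : Place k K → K) Q := by ring
    rw [this]
    by_cases hQS : Q ∈ S₀
    · have := hz1 Q hQS
      simpa using this
    · have h3 := hz2 Q hQ hQS
      have h4 : Q.1 ((a : Place k K → K) Q) ≤ 1 := by
        by_contra hcon
        apply hQS
        rw [Finset.mem_erase]
        refine ⟨hQ, ?_⟩
        rw [Set.Finite.mem_toFinset, Set.mem_ofPred_eq]
        exact not_le.mp hcon
      exact (Valuation.map_sub _ _ _).trans (max_le h3 h4)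

/-- `K / (O_{P} + O_P) ≃ A / (A(0) + K)` -/
noncomputable def quotEquiv (hK : IsFunctionField k K) (P : Place k K) :
    (K ⧸ (Subalgebra.toSubmodule (AdFn.SInt ({P} : Set (Place k K))) ⊔
      Subalgebra.toSubmodule (AdFn.SInt (({P} : Set (Place k K))ᶜ)))) ≃ₗ[k]
      RelQ (U (k := k) (K := K)) (adele k K) :=
  (Submodule.quotEquivOfEq _ _ (ker_toQ P).symm).trans
    ((toQ P).quotKerEquivOfSurjective (toQ_surjective hK P))

theorem main (hK : IsFunctionField k K) (P : Place k K) :
    FiniteDimensional k (K ⧸ (Subalgebra.toSubmodule (AdFn.SInt ({P} : Set (Place k K))) ⊔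
        Subalgebra.toSubmodule (AdFn.SInt (({P} : Set (Place k K))ᶜ)))) ∧
    Module.finrank k (K ⧸ (Subalgebra.toSubmodule (AdFn.SInt ({P} : Set (Place k K))) ⊔
        Subalgebra.toSubmodule (AdFn.SInt (({P} : Set (Place k K))ᶜ)))) = genus k K := by
  obtain ⟨hfin, hrank⟩ := adele_quot_finrank hK (0 : Divisor k K)
  rw [ell_zero hK, Divisor.deg_zero] at hrank
  have hrank' : finrank k (RelQ (U (k := k) (K := K)) (adele k K)) = genus k K := by
    have : (finrank k (RelQ (U (k := k) (K := K)) (adele k K)) : ℤ) = (genus k K : ℤ) := by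
      rw [hrank]; simp
    exact_mod_cast this
  have e := quotEquiv hK P
  exact ⟨Module.Finite.equiv e.symm, e.finrank_eq.trans hrank'⟩

end Groth.Agent.H80.FFGapK
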