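import Groth.Agent.H80.FFGapK

/-!
# `K_P / (O_{P} + Ô_P)` has dimension the genus (helper80)
-/

set_option autoImplicit false

namespace Groth.Agent.H80.FFGapKv

open FunFld WithZero Module Groth.Agent.H55

universe u

variable {k K : Type u} [Field k] [Field K] [Algebra k K]

/-- density of `K` in `K_P`: every element is a `P`-adic integer away from `K` -/
theorem exists_toKv_sub_mem (P : Place k K) (y : AdFn.Kv P) :
    ∃ x : K, AdFn.toKv P x - y ∈ AdFn.Ov P := by
  have hopen : IsOpen {z : AdFn.Kv P | z - y ∈ AdFn.Ov P} :=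
    (AdFn.isOpen_Ov P).preimage (continuous_id.sub continuous_const)
  have hne : {z : AdFn.Kv P | z - y ∈ AdFn.Ov P}.Nonempty :=
    ⟨y, by rw [Set.mem_ofPred_eq, sub_self]; exact (AdFn.Ov P).zero_mem⟩
  have hd : DenseRange (fun a : WithVal P.1 => (a : P.1.Completion)) :=
    UniformSpace.Completion.denseRange_coe
  obtain ⟨a, ha⟩ := hd.exists_mem_open hopen hne
  obtain ⟨x, rfl⟩ := WithVal.toVal_surjective P.1 a
  exact ⟨x, ha⟩

/-- `Ô_P` is stable under scalars from `k` -/
theorem span_Ov_le (P : Place k K) (y : AdFn.Kv P)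
    (hy : y ∈ Submodule.span k (AdFn.Ov P : Set (AdFn.Kv P))) : y ∈ AdFn.Ov P := by
  induction hy using Submodule.span_induction with
  | mem z hz => exact hz
  | zero => exact (AdFn.Ov P).zero_mem
  | add a b _ _ ha hb => exact (AdFn.Ov P).add_mem _ _ ha hb
  | smul c z _ hz =>
    rw [Algebra.smul_def, IsScalarTower.algebraMap_apply k K (AdFn.Kv P)]
    apply (AdFn.Ov P).mul_mem _ _ _ hz
    change AdFn.toKv P (algebraMap k K c) ∈ AdFn.Ov P
    rw [AdFn.toKv_mem_Ov]
    exact P.2.1 c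

/-- the subspace `O_{P} + Ô_P` of `K_P` -/
noncomputable abbrev W' (P : Place k K) : Submodule k (AdFn.Kv P) :=
  Subalgebra.toSubmodule ((AdFn.SInt ({P} : Set (FunFld.Place k K))).map
      (IsScalarTower.toAlgHom k K (AdFn.Kv P))) ⊔
    Submodule.span k (AdFn.Ov P : Set (AdFn.Kv P))

noncomputable def toQ' (P : Place k K) : K →ₗ[k] AdFn.Kv P ⧸ W' P :=
  (Submodule.mkQ _).comp (IsScalarTower.toAlgHom k K (AdFn.Kv P)).toLinearMap

theorem toQ'_surjective (P : Place k K) : Function.Surjective (toQ' P) := by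
  intro q
  obtain ⟨y, rfl⟩ := Submodule.mkQ_surjective _ q
  obtain ⟨x, hx⟩ := exists_toKv_sub_mem P y
  refine ⟨x, ?_⟩
  unfold toQ'
  rw [LinearMap.comp_apply, Submodule.mkQ_apply, Submodule.mkQ_apply, Submodule.Quotient.eq]
  apply Submodule.mem_sup_right
  exact Submodule.subset_span hx

theorem ker_toQ' (P : Place k K) :
    LinearMap.ker (toQ' P) = Subalgebra.toSubmodule (AdFn.SInt ({P} : Set (Place k K))) ⊔
      Subalgebra.toSubmodule (AdFn.SInt (({P} : Set (Place k K))ᶜ)) := by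
  ext x
  rw [LinearMap.mem_ker]
  unfold toQ'
  rw [LinearMap.comp_apply, Submodule.mkQ_apply, Submodule.Quotient.mk_eq_zero, Submodule.mem_sup,
    Submodule.mem_sup]
  constructor
  · rintro ⟨z', hz', o, ho, hsum⟩
    rw [Subalgebra.mem_toSubmodule, Subalgebra.mem_map] at hz'
    obtain ⟨z, hz, rfl⟩ := hz'
    have ho' := span_Ov_le P o ho
    refine ⟨z, hz, x - z, ?_, by ring⟩
    rw [Subalgebra.mem_toSubmodule, AdFn.mem_SInt]
    intro v hv
    have hvP : v = P := by
      by_contra hne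
      exact hv hne
    rw [hvP, ← AdFn.toKv_mem_Ov, map_sub]
    have : AdFn.toKv P x - AdFn.toKv P z = o := by
      have h1 : (IsScalarTower.toAlgHom k K (AdFn.Kv P)) z = AdFn.toKv P z := rfl
      have h2 : (IsScalarTower.toAlgHom k K (AdFn.Kv P)).toLinearMap x = AdFn.toKv P x := rfl
      rw [h1, h2] at hsum
      rw [← hsum]
      ring
    rw [this]
    exact ho'
  · rintro ⟨z, hz, w, hw, rfl⟩
    rw [Subalgebra.mem_toSubmodule, AdFn.mem_SInt] at hw
    refine ⟨AdFn.toKv P z, ?_, AdFn.toKv P w, ?_, ?_⟩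
    · rw [Subalgebra.mem_toSubmodule, Subalgebra.mem_map]
      exact ⟨z, hz, rfl⟩
    · apply Submodule.subset_span
      change AdFn.toKv P w ∈ AdFn.Ov P
      rw [AdFn.toKv_mem_Ov]
      apply hw
      simp
    · change AdFn.toKv P z + AdFn.toKv P w = AdFn.toKv P (z + w)
      rw [map_add]

theorem main (hK : IsFunctionField k K) (P : Place k K) :
    FiniteDimensional k (AdFn.Kv P ⧸ W' P) ∧ Module.finrank k (AdFn.Kv P ⧸ W' P) = genus k K := by
  obtain ⟨hfin, hrank⟩ := FFGapK.main hK P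
  have e : (K ⧸ (Subalgebra.toSubmodule (AdFn.SInt ({P} : Set (Place k K))) ⊔
      Subalgebra.toSubmodule (AdFn.SInt (({P} : Set (Place k K))ᶜ)))) ≃ₗ[k] (AdFn.Kv P ⧸ W' P) :=
    (Submodule.quotEquivOfEq _ _ (ker_toQ' P).symm).trans
      ((toQ' P).quotKerEquivOfSurjective (toQ'_surjective P))
  exact ⟨Module.Finite.equiv e, e.symm.finrank_eq.trans hrank⟩

end Groth.Agent.H80.FFGapKv
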