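import Mathlib

/-! Lower semicontinuity of the dimension of the span of the image of a subset in the fibres
of a finite module of constant fibre dimension. -/

set_option autoImplicit false
set_option linter.style.haveILetI false
set_option linter.unusedSectionVars false

namespace Groth.Agent.H80.FiberSpan

open scoped TensorProduct
open Module

variable {R : Type*} [CommRing R] {A : Type*} [AddCommGroup A] [Module R A]

/-- the canonical map to the fibre -/
noncomputable def toFiber (p : PrimeSpectrum R) (A : Type*) [AddCommGroup A] [Module R A] :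
    A →ₗ[R] p.asIdeal.ResidueField ⊗[R] A :=
  TensorProduct.mk R p.asIdeal.ResidueField A 1

@[simp] theorem toFiber_apply (p : PrimeSpectrum R) (a : A) :
    toFiber p A a = (1 : p.asIdeal.ResidueField) ⊗ₜ[R] a := rfl

/-- the span in the fibre at `p` of the image of `X` -/
noncomputable def fspan (p : PrimeSpectrum R) (X : Set A) :
    Submodule p.asIdeal.ResidueField (p.asIdeal.ResidueField ⊗[R] A) :=
  Submodule.span p.asIdeal.ResidueField (toFiber p A '' X)

theorem fspan_univ (p : PrimeSpectrum R) : fspan p (Set.univ : Set A) = ⊤ := by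
  rw [eq_top_iff]
  suffices key : ∀ x : p.asIdeal.ResidueField ⊗[R] A, x ∈ fspan p (Set.univ : Set A) from
    fun x _ => key x
  intro x
  induction x using TensorProduct.induction_on with
  | zero => exact Submodule.zero_mem _
  | add x y hx hy => exact Submodule.add_mem _ hx hy
  | tmul c a =>
      have : c ⊗ₜ[R] a = c • ((1 : p.asIdeal.ResidueField) ⊗ₜ[R] a) := by
        rw [TensorProduct.smul_tmul', smul_eq_mul, mul_one]
      rw [this]
      exact Submodule.smul_mem _ _ (Submodule.subset_span ⟨a, Set.mem_univ _, rfl⟩)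

theorem fspan_mono (p : PrimeSpectrum R) {X Y : Set A} (h : X ⊆ Y) : fspan p X ≤ fspan p Y :=
  Submodule.span_mono (Set.image_mono h)

/-- the fibre span of an `R`-span is the fibre span of the set -/
theorem fspan_span (p : PrimeSpectrum R) (Y : Set A) :
    fspan p (Submodule.span R Y : Set A) = fspan p Y := by
  apply le_antisymm
  · refine Submodule.span_le.mpr ?_
    rintro _ ⟨a, ha, rfl⟩
    have hle : Submodule.span R Y ≤ ((fspan p Y).restrictScalars R).comap (toFiber p A) := by
      refine Submodule.span_le.mpr fun y hy => ?_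
      exact Submodule.subset_span ⟨y, hy, rfl⟩
    exact hle ha
  · exact fspan_mono p Submodule.subset_span

/-- Nakayama: if a submodule fills the fibre at `p` then it contains `f • A` for some `f ∉ p`. -/
theorem exists_smul_mem [Module.Finite R A] (p : PrimeSpectrum R) (M' : Submodule R A)
    (h : fspan p (M' : Set A) = ⊤) : ∃ f ∉ p.asIdeal, ∀ a : A, f • a ∈ M' := by
  have hsub : Subsingleton (p.asIdeal.ResidueField ⊗[R] (A ⧸ M')) := by
    let φ : p.asIdeal.ResidueField ⊗[R] A →ₗ[p.asIdeal.ResidueField]
        p.asIdeal.ResidueField ⊗[R] (A ⧸ M') := LinearMap.baseChange _ M'.mkQ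
    have hφ : ∀ x, φ x = 0 := by
      intro x
      have hx : x ∈ fspan p (M' : Set A) := by rw [h]; trivial
      have hle : fspan p (M' : Set A) ≤ LinearMap.ker φ := by
        refine Submodule.span_le.mpr ?_
        rintro _ ⟨a, ha, rfl⟩
        simp only [SetLike.mem_coe, LinearMap.mem_ker, toFiber_apply, φ,
          LinearMap.baseChange_tmul, Submodule.mkQ_apply]
        rw [(Submodule.Quotient.mk_eq_zero M').mpr ha, TensorProduct.tmul_zero]
      exact hle hx
    refine ⟨fun x y => ?_⟩
    have h0 : ∀ z : p.asIdeal.ResidueField ⊗[R] (A ⧸ M'), z = 0 := by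
      intro z
      induction z using TensorProduct.induction_on with
      | zero => rfl
      | add x y hx hy => rw [hx, hy, add_zero]
      | tmul c a =>
          obtain ⟨a, rfl⟩ := Submodule.Quotient.mk_surjective M' a
          have := hφ (c ⊗ₜ[R] a)
          simpa [φ] using this
    rw [h0 x, h0 y]
  have hns : p ∉ Module.support R (A ⧸ M') := by
    rw [Module.mem_support_iff_nontrivial_residueField_tensorProduct]
    exact not_nontrivial _
  rw [Module.mem_support_iff_of_finite, SetLike.not_le_iff_exists] at hns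
  obtain ⟨f, hf, hfp⟩ := hns
  refine ⟨f, hfp, fun a => ?_⟩
  have := Module.mem_annihilator.mp hf (Submodule.Quotient.mk a)
  rwa [← Submodule.Quotient.mk_smul, Submodule.Quotient.mk_eq_zero] at this

/-- if `f • A ⊆ span Y` and `f ∉ p'` then `Y` spans the fibre at `p'` -/
theorem fspan_eq_top_of_smul_mem (p' : PrimeSpectrum R) (Y : Set A) (f : R)
    (hf : f ∉ p'.asIdeal) (h : ∀ a : A, f • a ∈ Submodule.span R Y) : fspan p' Y = ⊤ := by
  rw [← fspan_span, eq_top_iff, ← fspan_univ p']
  refine Submodule.span_le.mpr ?_
  rintro _ ⟨a, -, rfl⟩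
  have hne : algebraMap R p'.asIdeal.ResidueField f ≠ 0 := by
    rwa [Ne, Ideal.algebraMap_residueField_eq_zero]
  have : toFiber p' A a = (algebraMap R p'.asIdeal.ResidueField f)⁻¹ • toFiber p' A (f • a) := by
    rw [map_smul, ← algebraMap_smul p'.asIdeal.ResidueField f (toFiber p' A a), smul_smul,
      inv_mul_cancel₀ hne, one_smul]
  rw [this]
  exact Submodule.smul_mem _ _ (Submodule.subset_span ⟨f • a, h a, rfl⟩)

/-- Lower semicontinuity of the fibre span dimension, for a finite module with constant fibre
dimension. -/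
theorem finrank_fspan_le [Module.Finite R A] (N : ℕ)
    (hN : ∀ p : PrimeSpectrum R,
      Module.finrank p.asIdeal.ResidueField (p.asIdeal.ResidueField ⊗[R] A) = N)
    (X : Set A) (q : PrimeSpectrum R) :
    ∃ f ∉ q.asIdeal, ∀ q' : PrimeSpectrum R, f ∉ q'.asIdeal →
      Module.finrank q.asIdeal.ResidueField (fspan q X)
        ≤ Module.finrank q'.asIdeal.ResidueField (fspan q' X) := by
  classical
  obtain ⟨b, hbX, hbspan, hbli⟩ := exists_linearIndependent q.asIdeal.ResidueField
    (toFiber q A '' X)
  have hbt : b ⊆ Set.range (toFiber q A) := fun y hy => by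
    obtain ⟨a, -, rfl⟩ := hbX hy; exact ⟨a, rfl⟩
  obtain ⟨b', hb't, hbb', hb'span, hb'li'⟩ := exists_linearIndepOn_id_extension
    (K := q.asIdeal.ResidueField) (show LinearIndepOn q.asIdeal.ResidueField id b from hbli) hbt
  have hb'li : LinearIndependent q.asIdeal.ResidueField
    ((↑) : b' → q.asIdeal.ResidueField ⊗[R] A) := hb'li'
  have htop : Submodule.span q.asIdeal.ResidueField b' = ⊤ := by
    rw [eq_top_iff, ← fspan_univ q]
    refine Submodule.span_le.mpr ?_
    rintro _ ⟨a, -, rfl⟩
    exact hb'span ⟨a, rfl⟩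
  haveI : Finite b' := hb'li.finite
  haveI : Fintype b' := Fintype.ofFinite b'
  haveI : Finite b := hbli.finite
  haveI : Fintype b := Fintype.ofFinite b
  have hcard : Fintype.card b' = N := by
    rw [← hN q]
    exact (Module.finrank_eq_card_basis
      (Basis.mk hb'li (by rw [Subtype.range_coe]; exact htop.ge))).symm
  have hex : ∀ y : b', ∃ a : A, toFiber q A a = y.1 ∧ (y.1 ∈ b → a ∈ X) := by
    intro y
    by_cases hy : y.1 ∈ b
    · obtain ⟨a, ha, hay⟩ := hbX hy
      exact ⟨a, hay, fun _ => ha⟩
    · obtain ⟨a, hay⟩ := hb't y.2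
      exact ⟨a, hay, fun h => absurd h hy⟩
  choose g hg1 hg2 using hex
  have hfill : fspan q (Submodule.span R (Set.range g) : Set A) = ⊤ := by
    rw [fspan_span, eq_top_iff, ← htop]
    refine Submodule.span_mono ?_
    intro y hy
    exact ⟨g ⟨y, hy⟩, ⟨⟨y, hy⟩, rfl⟩, hg1 ⟨y, hy⟩⟩
  obtain ⟨f, hfq, hf⟩ := exists_smul_mem q (Submodule.span R (Set.range g)) hfill
  refine ⟨f, hfq, fun q' hfq' => ?_⟩
  have htop' := fspan_eq_top_of_smul_mem q' (Set.range g) f hfq' hf
  let v : b' → q'.asIdeal.ResidueField ⊗[R] A := fun y => toFiber q' A (g y)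
  have hvspan : ⊤ ≤ Submodule.span q'.asIdeal.ResidueField (Set.range v) := by
    rw [← htop']
    unfold fspan
    rw [← Set.range_comp]
    exact le_rfl
  have hvli : LinearIndependent q'.asIdeal.ResidueField v :=
    linearIndependent_of_top_le_span_of_card_eq_finrank hvspan (by rw [hcard, hN q'])
  let incl : b → b' := fun y => ⟨y.1, hbb' y.2⟩
  have hincl : Function.Injective incl := fun y z h =>
    Subtype.ext (by simpa [incl] using congrArg Subtype.val h)
  have hmem : ∀ y : b, v (incl y) ∈ fspan q' X := fun y =>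
    Submodule.subset_span ⟨g (incl y), hg2 (incl y) y.2, rfl⟩
  let u : b → fspan q' X := fun y => ⟨v (incl y), hmem y⟩
  have huli : LinearIndependent q'.asIdeal.ResidueField u := by
    apply LinearIndependent.of_comp (fspan q' X).subtype
    exact hvli.comp incl hincl
  have h1 := huli.fintype_card_le_finrank
  have h2 : Module.finrank q.asIdeal.ResidueField (fspan q X) = Fintype.card b := by
    unfold fspan
    rw [← hbspan, finrank_span_set_eq_card hbli, Set.toFinset_card]
  rw [h2]
  exact h1

end Groth.Agent.H80.FiberSpan
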