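import Mathlib

/-! Split filtrations of a finite projective module are determined by the filtration induced on
a tensor power (elementary proof via scalar contractions and Nakayama). -/

set_option autoImplicit false
set_option linter.unusedSectionVars false
universe u v w

namespace Groth.Agent.H80.FiltTensor

open scoped TensorProduct
open DirectSum

section Proj

variable {Γ : Type w} [DecidableEq Γ] {R : Type u} [CommRing R] {M : Type v} [AddCommGroup M]
  [Module R M] (G : Γ → Submodule R M) [DirectSum.Decomposition G]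

/-- projection onto the component `G η`, as an endomorphism of `M`. -/
noncomputable def proj (η : Γ) : M →ₗ[R] M :=
  (G η).subtype ∘ₗ (DirectSum.component R Γ (fun i => G i) η) ∘ₗ
    (DirectSum.decomposeLinearEquiv G).toLinearMap

lemma proj_apply (η : Γ) (x : M) : proj G η x = (DirectSum.decompose G x η : M) := rfl

lemma proj_mem (η : Γ) (x : M) : proj G η x ∈ G η := (DirectSum.decompose G x η).2

lemma proj_of_mem_same {η : Γ} {x : M} (hx : x ∈ G η) : proj G η x = x :=
  DirectSum.decompose_of_mem_same G hx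

lemma proj_of_mem_ne {η η' : Γ} {x : M} (hx : x ∈ G η) (h : η ≠ η') : proj G η' x = 0 :=
  DirectSum.decompose_of_mem_ne G hx h

/-- a finite set of degrees supporting everything, for a finite module. -/
lemma exists_support [Module.Finite R M] :
    ∃ S₀ : Finset Γ, ∀ x : M, (∀ η ∉ S₀, proj G η x = 0) ∧ x = ∑ η ∈ S₀, proj G η x := by
  classical
  obtain ⟨s, hs⟩ := (Module.Finite.fg_top : (⊤ : Submodule R M).FG)
  let S₀ : Finset Γ := s.biUnion (fun m => (DirectSum.decompose G m).support)
  have h1 : ∀ x : M, ∀ η ∉ S₀, proj G η x = 0 := by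
    intro x η hη
    have hx : x ∈ Submodule.span R (s : Set M) := by rw [hs]; trivial
    induction hx using Submodule.span_induction with
    | mem m hm =>
      rw [proj_apply]
      by_contra hne
      apply hη
      rw [Finset.mem_biUnion]
      refine ⟨m, hm, ?_⟩
      rw [DFinsupp.mem_support_toFun]
      intro h0
      apply hne
      rw [h0]; rfl
    | zero => simp
    | add a b _ _ ha hb => rw [map_add, ha, hb, add_zero]
    | smul r a _ ha => rw [map_smul, ha, smul_zero]
  refine ⟨S₀, fun x => ⟨h1 x, ?_⟩⟩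
  have h2 := DirectSum.sum_support_decompose G x
  rw [← h2]
  conv_lhs => rw [h2]
  have hsub : (DirectSum.decompose G x).support ⊆ S₀ := by
    intro η hη
    by_contra hn
    rw [DFinsupp.mem_support_toFun] at hη
    apply hη
    have := h1 x η hn
    rw [proj_apply] at this
    exact Subtype.ext this
  rw [h2]
  conv_lhs => rw [← h2]
  rw [Finset.sum_subset hsub]
  · rfl
  · intro η _ hη
    rw [DFinsupp.mem_support_toFun, not_not] at hη
    rw [hη]; rfl

/-- membership in the filtration step `⨆ η ≥ γ, G η` in terms of components. -/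
lemma mem_iSup_Ici_iff [LinearOrder Γ] (S₀ : Finset Γ)
    (hS₀ : ∀ x : M, (∀ η ∉ S₀, proj G η x = 0) ∧ x = ∑ η ∈ S₀, proj G η x) (γ : Γ) (x : M) :
    x ∈ (⨆ η ∈ Set.Ici γ, G η) ↔ ∀ η, η < γ → proj G η x = 0 := by
  constructor
  · intro hx η hη
    refine Submodule.iSup_induction (fun η' : Γ => ⨆ (_ : η' ∈ Set.Ici γ), G η')
      (motive := fun x => proj G η x = 0) hx ?_ ?_ ?_
    · intro η' z hz
      by_cases hη' : η' ∈ Set.Ici γ
      · rw [iSup_pos hη'] at hz
        exact proj_of_mem_ne G hz (ne_of_gt (lt_of_lt_of_le hη hη'))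
      · rw [iSup_neg hη'] at hz
        rw [(Submodule.mem_bot R).1 hz, map_zero]
    · exact map_zero _
    · intro a b ha hb
      rw [map_add, ha, hb, add_zero]
  · intro h
    rw [(hS₀ x).2]
    refine Submodule.sum_mem _ fun η _ => ?_
    by_cases hη : η < γ
    · rw [h η hη]; exact Submodule.zero_mem _
    · exact Submodule.mem_iSup_of_mem η
        (Submodule.mem_iSup_of_mem (not_lt.1 hη : γ ≤ η) (proj_mem G η x))

end Proj

section Dual

variable {R : Type u} [CommRing R] {M : Type v} [AddCommGroup M] [Module R M]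
  [Module.Projective R M]

/-- functionals detect membership in `I • ⊤` for a projective module. -/
lemma mem_smul_top_of_forall_dual (I : Ideal R) (z : M)
    (h : ∀ ψ : Module.Dual R M, ψ z ∈ I) : z ∈ I • (⊤ : Submodule R M) := by
  obtain ⟨s, hs⟩ := Module.projective_def'.1 (inferInstance : Module.Projective R M)
  have hz : z = Finsupp.linearCombination R id (s z) := by
    have := congr($hs z)
    simpa using this.symm
  rw [hz, Finsupp.linearCombination_apply]
  refine Submodule.sum_mem _ fun q _ => ?_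
  refine Submodule.smul_mem_smul ?_ trivial
  exact h ((Finsupp.lapply q).comp s)

lemma eq_zero_of_forall_dual (z : M) (h : ∀ ψ : Module.Dual R M, ψ z = 0) : z = 0 := by
  have := mem_smul_top_of_forall_dual (⊥ : Ideal R) z (fun ψ => by rw [h ψ]; exact Ideal.zero_mem _)
  rwa [Submodule.bot_smul, Submodule.mem_bot] at this

end Dual

section Lam

variable {R : Type u} [CommRing R] {M : Type v} [AddCommGroup M] [Module R M] {k : ℕ}

/-- the scalar contraction `m₁ ⊗ ⋯ ⊗ m_k ↦ ∏ Φ_j(m_j)`. -/
noncomputable def Lam (Φ : Fin k → Module.Dual R M) : (⨂[R] _ : Fin k, M) →ₗ[R] R :=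
  PiTensorProduct.lift ((MultilinearMap.mkPiAlgebra R (Fin k) R).compLinearMap Φ)

lemma Lam_tprod (Φ : Fin k → Module.Dual R M) (m : Fin k → M) :
    Lam Φ (PiTensorProduct.tprod R m) = ∏ j, Φ j (m j) := by
  rw [Lam, PiTensorProduct.lift.tprod]
  rfl

end Lam

section Main

variable {Γ : Type w} [AddCommGroup Γ] [LinearOrder Γ] [IsOrderedAddMonoid Γ]
  {R : Type u} [CommRing R] {M : Type v} [AddCommGroup M] [Module R M]

/-- the filtration induced on the tensor power. -/
def T (k : ℕ) (F : Γ → Submodule R M) (γ : Γ) : Submodule R (⨂[R] _ : Fin k, M) :=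
  ⨆ c : {c : Fin k → Γ // ∑ i, c i = γ},
    LinearMap.range (PiTensorProduct.map (R := R) (fun i => (F (c.1 i)).subtype))

lemma tprod_mem_T {k : ℕ} (F : Γ → Submodule R M) (c : Fin k → Γ) (γ : Γ) (hc : ∑ i, c i = γ)
    (m : Fin k → M) (hm : ∀ j, m j ∈ F (c j)) : PiTensorProduct.tprod R m ∈ T k F γ := by
  refine Submodule.mem_iSup_of_mem ⟨c, hc⟩
    ⟨PiTensorProduct.tprod R (fun j => (⟨m j, hm j⟩ : F (c j))), ?_⟩
  rw [PiTensorProduct.map_tprod]
  rfl

lemma T_le {k : ℕ} (F : Γ → Submodule R M) (γ : Γ) (N : Submodule R (⨂[R] _ : Fin k, M))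
    (h : ∀ (c : Fin k → Γ), ∑ i, c i = γ → ∀ m : Fin k → M, (∀ j, m j ∈ F (c j)) →
      PiTensorProduct.tprod R m ∈ N) : T k F γ ≤ N := by
  refine iSup_le fun c => ?_
  rintro _ ⟨t, rfl⟩
  induction t using PiTensorProduct.induction_on with
  | smul_tprod r s =>
    rw [map_smul, PiTensorProduct.map_tprod]
    exact N.smul_mem _ (h c.1 c.2 _ (fun j => (s j).2))
  | add a b ha hb =>
    rw [map_add]
    exact N.add_mem ha hb

lemma prod_sub_prod_mem {ι : Type*} [Fintype ι] (p : Ideal R) (a b : ι → R)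
    (h : ∀ j, a j - b j ∈ p) : ∏ j, a j - ∏ j, b j ∈ p := by
  rw [← Ideal.Quotient.eq, map_prod, map_prod]
  refine Finset.prod_congr rfl fun j _ => ?_
  rw [Ideal.Quotient.eq]
  exact h j

variable [Module.Finite R M] [Module.Projective R M]

theorem le_of_T_eq (F₁ F₂ : Γ → Submodule R M) (G : Γ → Submodule R M)
    (hG : DirectSum.IsInternal G) (hF₂ : ∀ γ, F₂ γ = ⨆ η ∈ Set.Ici γ, G η) (k' : ℕ)
    (h : ∀ γ, T (k' + 1) F₁ γ = T (k' + 1) F₂ γ) (γ : Γ) : F₁ γ ≤ F₂ γ := by
  classical
  letI := hG.chooseDecomposition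
  obtain ⟨S₀, hS₀⟩ := exists_support G
  have hmemF : ∀ (c : Γ) (z : M), z ∈ F₂ c ↔ ∀ η, η < c → proj G η z = 0 := by
    intro c z
    rw [hF₂ c]
    exact mem_iSup_Ici_iff G S₀ hS₀ c z
  have hGF : ∀ η, G η ≤ F₂ η := by
    intro η
    rw [hF₂ η]
    exact le_iSup₂_of_le η (Set.mem_Ici.2 le_rfl) le_rfl
  intro x hx
  by_contra hxn
  let 𝔞 : Ideal R := Submodule.comap (LinearMap.toSpanSingleton R M x) (F₂ γ)
  have h𝔞 : ∀ r : R, r ∈ 𝔞 ↔ r • x ∈ F₂ γ := fun r => by
    change LinearMap.toSpanSingleton R M x r ∈ F₂ γ ↔ _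
    rw [LinearMap.toSpanSingleton_apply]
  have h1 : 𝔞 ≠ ⊤ := by
    rw [Ideal.ne_top_iff_one, h𝔞, one_smul]
    exact hxn
  obtain ⟨p, hpmax, hap⟩ := Ideal.exists_le_maximal 𝔞 h1
  have hp : p.IsPrime := hpmax.isPrime
  -- projections
  let πlt : Γ → (M →ₗ[R] M) := fun c => ∑ η ∈ S₀.filter (· < c), proj G η
  let πle : Γ → (M →ₗ[R] M) := fun c => ∑ η ∈ S₀.filter (· ≤ c), proj G η
  have hπlt0 : ∀ (c c' : Γ) (z : M), z ∈ F₂ c → c' ≤ c → πlt c' z = 0 := by
    intro c c' z hz hcc
    change (∑ η ∈ S₀.filter (· < c'), proj G η) z = 0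
    rw [LinearMap.sum_apply]
    refine Finset.sum_eq_zero fun η hη => ?_
    exact (hmemF c z).1 hz η (lt_of_lt_of_le (Finset.mem_filter.1 hη).2 hcc)
  have hπle0 : ∀ (c δ : Γ) (z : M), z ∈ F₂ c → δ < c → πle δ z = 0 := by
    intro c δ z hz hcc
    change (∑ η ∈ S₀.filter (· ≤ δ), proj G η) z = 0
    rw [LinearMap.sum_apply]
    refine Finset.sum_eq_zero fun η hη => ?_
    exact (hmemF c z).1 hz η (lt_of_le_of_lt (Finset.mem_filter.1 hη).2 hcc)
  have hprojproj : ∀ (η η' : Γ) (z : M), proj G η' (proj G η z) =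
      if η = η' then proj G η z else 0 := by
    intro η η' z
    split_ifs with hh
    · subst hh
      exact proj_of_mem_same G (proj_mem G η z)
    · exact proj_of_mem_ne G (proj_mem G η z) hh
  have hπlt_mem : ∀ (z : M), πlt γ z = 0 → z ∈ F₂ γ := by
    intro z hz
    rw [hmemF]
    intro η hη
    by_cases hηS : η ∈ S₀
    · have := congr(proj G η $hz)
      change proj G η ((∑ η' ∈ S₀.filter (· < γ), proj G η') z) = _ at this
      rw [LinearMap.sum_apply, map_sum, map_zero] at this
      simp_rw [hprojproj] at this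
      rw [Finset.sum_ite_eq' _ η] at this
      rw [if_pos (Finset.mem_filter.2 ⟨hηS, hη⟩)] at this
      exact this
    · exact (hS₀ z).1 η hηS
  have hsplit : ∀ (c : Γ) (z : M), z = πle c z + ∑ η ∈ S₀.filter (c < ·), proj G η z := by
    intro c z
    change z = (∑ η ∈ S₀.filter (· ≤ c), proj G η) z + _
    rw [LinearMap.sum_apply]
    have h2 : S₀.filter (c < ·) = S₀.filter (fun η => ¬ η ≤ c) := by
      ext η; simp
    rw [h2, Finset.sum_filter_add_sum_filter_not]
    exact (hS₀ z).2
  -- Step A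
  have hA : ∀ (δ : Γ) (y : M), y ∈ F₁ δ → ∀ φ : Module.Dual R M, φ (πle δ y) ∈ p := by
    intro δ y hy φ
    apply hp.mem_of_pow_mem k'
    apply hap
    rw [h𝔞]
    apply hπlt_mem
    apply eq_zero_of_forall_dual (R := R)
    intro ψ
    let Φ : Fin (k' + 1) → Module.Dual R M :=
      Fin.cons (ψ.comp (πlt γ)) (fun _ => φ.comp (πle δ))
    have hker : T (k' + 1) F₂ (γ + k' • δ) ≤ LinearMap.ker (Lam Φ) := by
      apply T_le
      intro c hc m hm
      rw [LinearMap.mem_ker, Lam_tprod]
      by_cases hc0 : γ ≤ c 0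
      · apply Finset.prod_eq_zero (Finset.mem_univ (0 : Fin (k' + 1)))
        change ψ (πlt γ (m 0)) = 0
        rw [hπlt0 (c 0) γ (m 0) (hm 0) hc0, map_zero]
      · have hex : ∃ j : Fin k', δ < c j.succ := by
          by_contra hcon
          push Not at hcon
          have h3 : ∑ j : Fin k', c j.succ ≤ k' • δ := by
            calc ∑ j : Fin k', c j.succ ≤ ∑ _j : Fin k', δ := Finset.sum_le_sum fun j _ => hcon j
              _ = k' • δ := by simp
          rw [Fin.sum_univ_succ] at hc
          have h4 : c 0 + ∑ j : Fin k', c j.succ < γ + k' • δ :=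
            add_lt_add_of_lt_of_le (not_le.1 hc0) h3
          rw [hc] at h4
          exact lt_irrefl _ h4
        obtain ⟨j, hj⟩ := hex
        apply Finset.prod_eq_zero (Finset.mem_univ j.succ)
        change φ (πle δ (m j.succ)) = 0
        rw [hπle0 (c j.succ) δ (m j.succ) (hm j.succ) hj, map_zero]
    have hτ : PiTensorProduct.tprod R (Fin.cons x (fun _ => y) : Fin (k' + 1) → M) ∈
        T (k' + 1) F₁ (γ + k' • δ) := by
      apply tprod_mem_T F₁ (Fin.cons γ (fun _ => δ))
      · rw [Fin.sum_univ_succ]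
        simp
      · intro j
        refine Fin.cases ?_ (fun i => ?_) j
        · simpa using hx
        · simpa using hy
    rw [h] at hτ
    have h5 := LinearMap.mem_ker.1 (hker hτ)
    rw [Lam_tprod, Fin.prod_univ_succ] at h5
    simp only [Fin.cons_zero, Fin.cons_succ, Finset.prod_const, Finset.card_univ,
      Fintype.card_fin, Φ, LinearMap.comp_apply] at h5
    rw [map_smul, map_smul, smul_eq_mul, mul_comm]
    exact h5
  -- Step C
  let S_k : Finset Γ :=
    (Fintype.piFinset (fun _ : Fin (k' + 1) => S₀)).image (fun η => ∑ j, η j)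
  have hC : ∀ n : ℕ, ∀ γ' : Γ, (S_k.filter (γ' < ·)).card = n →
      ∀ Φ : Fin (k' + 1) → Module.Dual R M, T (k' + 1) F₂ γ' ≤ Submodule.comap (Lam Φ) p := by
    intro n
    induction n using Nat.strong_induction_on with
    | _ n ih =>
      intro γ' hcard Φ
      rw [← h γ']
      apply T_le
      intro c hc m hm
      rw [Submodule.mem_comap, Lam_tprod]
      have hcong : ∏ j, Φ j (m j) -
          ∏ j, ∑ η ∈ S₀.filter (c j < ·), Φ j (proj G η (m j)) ∈ p := by
        apply prod_sub_prod_mem
        intro j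
        have h6 := congr(Φ j $(hsplit (c j) (m j)))
        rw [map_add, map_sum] at h6
        rw [h6, add_sub_cancel_right]
        exact hA (c j) (m j) (hm j) (Φ j)
      have hsum : ∏ j, ∑ η ∈ S₀.filter (c j < ·), Φ j (proj G η (m j)) ∈ p := by
        rw [Finset.prod_univ_sum]
        refine Ideal.sum_mem _ fun η hη => ?_
        rw [Fintype.mem_piFinset] at hη
        have hηc : ∀ j, c j < η j := fun j => (Finset.mem_filter.1 (hη j)).2
        have hηS : ∀ j, η j ∈ S₀ := fun j => (Finset.mem_filter.1 (hη j)).1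
        have hσ : γ' < ∑ j, η j := by
          rw [← hc]
          exact Finset.sum_lt_sum_of_nonempty Finset.univ_nonempty fun j _ => hηc j
        have hσS : ∑ j, η j ∈ S_k := by
          apply Finset.mem_image.2
          exact ⟨η, Fintype.mem_piFinset.2 hηS, rfl⟩
        have hlt : (S_k.filter ((∑ j, η j) < ·)).card < n := by
          rw [← hcard]
          apply Finset.card_lt_card
          rw [Finset.ssubset_iff_of_subset]
          · refine ⟨∑ j, η j, Finset.mem_filter.2 ⟨hσS, hσ⟩, ?_⟩
            intro hcon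
            exact lt_irrefl _ (Finset.mem_filter.1 hcon).2
          · intro s hs
            rw [Finset.mem_filter] at hs ⊢
            exact ⟨hs.1, hσ.trans hs.2⟩
        have h7 := ih _ hlt (∑ j, η j) rfl Φ
        have h8 : PiTensorProduct.tprod R (fun j => proj G (η j) (m j)) ∈
            T (k' + 1) F₂ (∑ j, η j) :=
          tprod_mem_T F₂ η _ rfl _ (fun j => hGF (η j) (proj_mem G (η j) (m j)))
        have h9 := h7 h8
        rw [Submodule.mem_comap, Lam_tprod] at h9
        exact h9
      have := p.add_mem hcong hsum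
      rwa [sub_add_cancel] at this
  -- Step D
  have hD : ∀ (φ : Module.Dual R M) (m : M), φ m ∈ p := by
    intro φ m
    apply hp.mem_of_pow_mem (k' + 1)
    have h10 : φ m = ∑ η ∈ S₀, φ (proj G η m) := by
      conv_lhs => rw [(hS₀ m).2]
      rw [map_sum]
    have h11 : (φ m) ^ (k' + 1) = ∏ _j : Fin (k' + 1), ∑ η ∈ S₀, φ (proj G η m) := by
      rw [Finset.prod_const, Finset.card_univ, Fintype.card_fin, ← h10]
    rw [h11, Finset.prod_univ_sum]
    refine Ideal.sum_mem _ fun η _ => ?_
    have h8 : PiTensorProduct.tprod R (fun j => proj G (η j) m) ∈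
        T (k' + 1) F₂ (∑ j, η j) :=
      tprod_mem_T F₂ η _ rfl _ (fun j => hGF (η j) (proj_mem G (η j) m))
    have h9 := hC _ (∑ j, η j) rfl (fun _ => φ) h8
    rw [Submodule.mem_comap, Lam_tprod] at h9
    exact h9
  have hle : (⊤ : Submodule R M) ≤ p • (⊤ : Submodule R M) := by
    intro z _
    exact mem_smul_top_of_forall_dual p z (fun ψ => hD ψ z)
  obtain ⟨r, hr1, hr0⟩ := Submodule.exists_sub_one_mem_and_smul_eq_zero_of_fg_of_le_smul p
    (⊤ : Submodule R M) Module.Finite.fg_top hle
  have hr𝔞 : r ∈ 𝔞 := by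
    rw [h𝔞, hr0 x trivial]
    exact Submodule.zero_mem _
  have : (1 : R) ∈ p := by
    have := p.sub_mem (hap hr𝔞) hr1
    rwa [sub_sub_cancel] at this
  exact hp.ne_top ((Ideal.eq_top_iff_one p).2 this)

end Main

end Groth.Agent.H80.FiltTensor
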