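import Mathlib

/-!
# Endomorphisms of a Noetherian local ring with a coefficient ring

If `σ` is a ring endomorphism of a Noetherian local ring `A` fixing a subring `k` that surjects
onto the residue field, and `σ g - g ∈ J` for generators `g` of the maximal ideal, then
`σ a - a ∈ J` for all `a` (Krull intersection).
-/

set_option autoImplicit false

open IsLocalRing

namespace Groth.Agent.H80.FixedGen

variable {A : Type*} [CommRing A] [IsLocalRing A] [IsNoetherianRing A]
  {k : Type*} [CommRing k] [Algebra k A]

/-- Krull intersection: an ideal of a Noetherian local ring is closed. -/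
theorem mem_of_forall_mem_sup_pow (J : Ideal A) (x : A)
    (h : ∀ j : ℕ, x ∈ J ⊔ maximalIdeal A ^ j) : x ∈ J := by
  have hbot := Ideal.iInf_pow_smul_eq_bot_of_isLocalRing (maximalIdeal A) (M := A ⧸ J)
    (Ideal.IsPrime.ne_top inferInstance)
  have hx : (Ideal.Quotient.mk J x : A ⧸ J) ∈
      (⨅ i : ℕ, maximalIdeal A ^ i • (⊤ : Submodule A (A ⧸ J))) := by
    rw [Submodule.mem_iInf]
    intro j
    obtain ⟨y, hy, z, hz, hyz⟩ := Submodule.mem_sup.mp (h j)
    have h1 : (Ideal.Quotient.mk J x : A ⧸ J) = z • (Ideal.Quotient.mk J 1 : A ⧸ J) := by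
      rw [← hyz, map_add, Ideal.Quotient.eq_zero_iff_mem.mpr hy, zero_add]
      change _ = Ideal.Quotient.mk J (z • (1 : A))
      rw [smul_eq_mul, mul_one]
    rw [h1]
    exact Submodule.smul_mem_smul hz Submodule.mem_top
  rw [hbot, Submodule.mem_bot] at hx
  exact Ideal.Quotient.eq_zero_iff_mem.mp hx

theorem map_sub_mem (hk : Function.Surjective (residue A ∘ algebraMap k A))
    (σ : A →+* A) (hσk : ∀ c : k, σ (algebraMap k A c) = algebraMap k A c)
    (s : Set A) (hs : Ideal.span s = maximalIdeal A)
    (J : Ideal A) (hsJ : ∀ g ∈ s, σ g - g ∈ J) (a : A) : σ a - a ∈ J := by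
  apply mem_of_forall_mem_sup_pow
  intro j
  induction j generalizing a with
  | zero => simp
  | succ j ih =>
    obtain ⟨c, hc⟩ := hk (residue A a)
    have hx : a - algebraMap k A c ∈ maximalIdeal A := by
      rw [← residue_eq_zero_iff, map_sub, sub_eq_zero]
      exact hc.symm
    have ha : σ a - a = σ (a - algebraMap k A c) - (a - algebraMap k A c) := by
      rw [map_sub, hσk]; ring
    rw [ha]
    generalize a - algebraMap k A c = x at hx
    rw [← hs] at hx
    induction hx using Submodule.span_induction with
    | mem g hg => exact Ideal.mem_sup_left (hsJ g hg)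
    | zero => simp
    | add x y _ _ hx hy =>
      have : σ (x + y) - (x + y) = (σ x - x) + (σ y - y) := by rw [map_add]; ring
      rw [this]
      exact add_mem hx hy
    | smul b x hxs hx =>
      have : σ (b • x) - b • x = σ b * (σ x - x) + (σ b - b) * x := by
        rw [smul_eq_mul, map_mul]; ring
      rw [this]
      refine add_mem (Ideal.mul_mem_left _ _ hx) ?_
      have h1 : (σ b - b) * x ∈ (J ⊔ maximalIdeal A ^ j) * maximalIdeal A :=
        Ideal.mul_mem_mul (ih b) (hs ▸ hxs)
      have h2 : (J ⊔ maximalIdeal A ^ j) * maximalIdeal A ≤ J ⊔ maximalIdeal A ^ (j + 1) := by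
        rw [Ideal.sup_mul, pow_succ]
        exact sup_le_sup Ideal.mul_le_left le_rfl
      exact h2 h1

end Groth.Agent.H80.FixedGen
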