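import Mathlib

/-! Tensoring a jointly injective family of maps with a projective module, and with a direct
limit (over `ℕ`) of projective modules along universally injective transition maps. -/

set_option autoImplicit false
set_option linter.style.haveILetI false
set_option linter.unusedSectionVars false

namespace Groth.Agent.H80.PureLim

open scoped TensorProduct
open Module

universe u v w

variable {R : Type u} [CommRing R]

section Joint

variable {L : Type v} [AddCommGroup L] [Module R L] {ι : Type*} {T : ι → Type w}
  [∀ i, AddCommGroup (T i)] [∀ i, Module R (T i)] (π : ∀ i, L →ₗ[R] T i)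

theorem lid_lTensor {M N : Type*} [AddCommGroup M] [Module R M] [AddCommGroup N] [Module R N]
    (g : M →ₗ[R] N) (y : R ⊗[R] M) :
    g (TensorProduct.lid R M y) = TensorProduct.lid R N (LinearMap.lTensor R g y) := by
  induction y using TensorProduct.induction_on with
  | zero => simp
  | add a b ha hb => simp only [map_add, ha, hb]
  | tmul r m => simp

/-- free case -/
theorem joint_injective_finsupp (hπ : ∀ x : L, (∀ i, π i x = 0) → x = 0) (J : Type*)
    (x : (J →₀ R) ⊗[R] L) (hx : ∀ i, LinearMap.lTensor (J →₀ R) (π i) x = 0) : x = 0 := by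
  classical
  apply (TensorProduct.finsuppScalarLeft R L J).injective
  rw [map_zero]
  ext j
  rw [Finsupp.zero_apply, TensorProduct.finsuppScalarLeft_apply]
  apply hπ
  intro i
  rw [lid_lTensor, ← LinearMap.comp_apply, LinearMap.lTensor_comp_rTensor,
    ← LinearMap.rTensor_comp_lTensor, LinearMap.comp_apply, hx i, map_zero, map_zero]

/-- projective case -/
theorem joint_injective_projective (hπ : ∀ x : L, (∀ i, π i x = 0) → x = 0)
    (P : Type*) [AddCommGroup P] [Module R P] [Module.Projective R P]
    (x : P ⊗[R] L) (hx : ∀ i, LinearMap.lTensor P (π i) x = 0) : x = 0 := by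
  obtain ⟨s, hs⟩ := (Module.projective_def'.mp (inferInstance : Module.Projective R P))
  have h1 : LinearMap.rTensor L s x = 0 := by
    apply joint_injective_finsupp π hπ P
    intro i
    rw [← LinearMap.comp_apply, LinearMap.lTensor_comp_rTensor, ← LinearMap.rTensor_comp_lTensor,
      LinearMap.comp_apply, hx i, map_zero]
  have h2 : LinearMap.rTensor L (Finsupp.linearCombination R id) (LinearMap.rTensor L s x) = x := by
    rw [← LinearMap.comp_apply, ← LinearMap.rTensor_comp, hs, LinearMap.rTensor_id,
      LinearMap.id_apply]
  rw [← h2, h1, map_zero]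

end Joint

section Lim

variable (G : ℕ → Type v) [∀ n, AddCommGroup (G n)] [∀ n, Module R (G n)]
  (f : ∀ i j, i ≤ j → G i →ₗ[R] G j) [DirectedSystem G fun i j h => f i j h]
  [∀ n, Module.Projective R (G n)]
  (hpure : ∀ (i j : ℕ) (h : i ≤ j) (T : Type w) [AddCommGroup T] [Module R T],
    Function.Injective (LinearMap.rTensor T (f i j h)))

include hpure in
/-- direct limit of projectives along universally injective maps -/
theorem joint_injective_directLimit {L : Type w} [AddCommGroup L] [Module R L] {ι : Type*}
    {T : ι → Type w} [∀ i, AddCommGroup (T i)] [∀ i, Module R (T i)] (π : ∀ i, L →ₗ[R] T i)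
    (hπ : ∀ x : L, (∀ i, π i x = 0) → x = 0)
    (x : Module.DirectLimit G f ⊗[R] L)
    (hx : ∀ i, LinearMap.lTensor (Module.DirectLimit G f) (π i) x = 0) : x = 0 := by
  classical
  apply (TensorProduct.directLimitLeft f L).injective
  rw [map_zero]
  obtain ⟨n, xn, hxn⟩ := Module.DirectLimit.exists_of (TensorProduct.directLimitLeft f L x)
  have hx' : x = LinearMap.rTensor L (Module.DirectLimit.of R ℕ G f n) xn := by
    apply (TensorProduct.directLimitLeft f L).injective
    rw [TensorProduct.directLimitLeft_rTensor_of, hxn]
  have hzero : xn = 0 := by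
    apply joint_injective_projective π hπ (G n)
    intro i
    have h1 : TensorProduct.directLimitLeft f (T i)
        (LinearMap.lTensor (Module.DirectLimit G f) (π i) x) = 0 := by rw [hx i, map_zero]
    rw [hx', ← LinearMap.comp_apply, LinearMap.lTensor_comp_rTensor,
      ← LinearMap.rTensor_comp_lTensor, LinearMap.comp_apply,
      TensorProduct.directLimitLeft_rTensor_of] at h1
    obtain ⟨m, hnm, hm⟩ := Module.DirectLimit.of.zero_exact h1
    exact hpure n m hnm (T i) (by rw [hm, map_zero])
  rw [← hxn, hzero, map_zero]

end Lim

end Groth.Agent.H80.PureLim
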