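import Mathlib
import Groth.Prelude.Def_FrobAlg
import Groth.Agent.H80.PureLim

/-! The Frobenius tower `R → R → R → ⋯` of a ring of characteristic `p` whose Frobenius is
projective: projectivity of the stages, purity of the transition maps, and the perfect closure as
its direct limit. -/

set_option autoImplicit false
set_option linter.style.haveILetI false
set_option linter.unusedSectionVars false

namespace Groth.Agent.H80.FrobTower

open scoped TensorProduct
open Module

universe u

section Trans

/-- transitivity of projectivity -/
theorem projective_trans (R S N : Type*) [CommRing R] [CommRing S] [Algebra R S]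
    [AddCommGroup N] [Module S N] [Module R N] [IsScalarTower R S N]
    [Module.Projective R S] [Module.Projective S N] : Module.Projective R N := by
  obtain ⟨sS, hsS⟩ := Module.projective_def'.mp (inferInstance : Module.Projective R S)
  obtain ⟨sN, hsN⟩ := Module.projective_def'.mp (inferInstance : Module.Projective S N)
  -- `N →₀ S` is `R`-projective
  haveI : Module.Projective R (N →₀ S) := by
    refine Module.Projective.of_split (M := N →₀ (S →₀ R))
      (Finsupp.mapRange.linearMap sS) (Finsupp.mapRange.linearMap (Finsupp.linearCombination R id))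
      ?_
    rw [← Finsupp.mapRange.linearMap_comp, hsS, Finsupp.mapRange.linearMap_id]
  refine Module.Projective.of_split (M := N →₀ S) (sN.restrictScalars R)
    ((Finsupp.linearCombination S id).restrictScalars R) ?_
  ext x
  exact LinearMap.congr_fun hsN x

end Trans

set_option linter.unusedVariables false in
/-- a copy of `R`, an `R`-algebra through the `n`-th iterate of Frobenius -/
def Pn (p : ℕ) (R : Type u) (n : ℕ) : Type u := R

variable (p : ℕ) [Fact p.Prime] (R : Type u) [CommRing R] [CharP R p]

instance (n : ℕ) : CommRing (Pn p R n) := inferInstanceAs (CommRing R)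

/-- identity -/
def toPn (n : ℕ) : R ≃+* Pn p R n := RingEquiv.refl R

instance algebraPn (n : ℕ) : Algebra R (Pn p R n) :=
  ((toPn p R n : R →+* Pn p R n).comp (iterateFrobenius R p n)).toAlgebra

theorem algebraMap_Pn (n : ℕ) (r : R) : algebraMap R (Pn p R n) r = toPn p R n (r ^ p ^ n) := by
  change toPn p R n (iterateFrobenius R p n r) = _
  rw [iterateFrobenius_def]

/-- the transition ring map, Frobenius -/
def step (n : ℕ) : Pn p R n →+* Pn p R (n + 1) :=
  (toPn p R (n + 1) : R →+* Pn p R (n + 1)).comp
    ((frobenius R p).comp ((toPn p R n).symm : Pn p R n →+* R))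

theorem step_apply (n : ℕ) (x : Pn p R n) :
    step p R n x = toPn p R (n + 1) ((toPn p R n).symm x ^ p) := rfl

instance algebraStep (n : ℕ) : Algebra (Pn p R n) (Pn p R (n + 1)) := (step p R n).toAlgebra

theorem algebraMap_step (n : ℕ) (x : Pn p R n) :
    algebraMap (Pn p R n) (Pn p R (n + 1)) x = step p R n x := rfl

instance (n : ℕ) : IsScalarTower R (Pn p R n) (Pn p R (n + 1)) :=
  IsScalarTower.of_algebraMap_eq fun r => by
    rw [algebraMap_step, algebraMap_Pn, algebraMap_Pn, step_apply, RingEquiv.symm_apply_apply,
      ← pow_mul, ← pow_succ]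

section Proj

variable [Module.Projective R (FrobAlg.Twist p R)]

instance projective_step (n : ℕ) : Module.Projective (Pn p R n) (Pn p R (n + 1)) := by
  letI : RingHomInvPair (toPn p R n : R →+* Pn p R n) ((toPn p R n).symm : Pn p R n →+* R) :=
    RingHomInvPair.of_ringEquiv (toPn p R n)
  letI : RingHomInvPair ((toPn p R n).symm : Pn p R n →+* R) (toPn p R n : R →+* Pn p R n) :=
    RingHomInvPair.symm _ _
  let e₂ : FrobAlg.Twist p R ≃ₛₗ[(toPn p R n : R →+* Pn p R n)] Pn p R (n + 1) :=
    { toFun := fun x => toPn p R (n + 1) ((FrobAlg.toTwist p R).symm x)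
      invFun := fun y => FrobAlg.toTwist p R ((toPn p R (n + 1)).symm y)
      map_add' := fun x y => by simp
      map_smul' := fun r x => by
        rw [Algebra.smul_def, FrobAlg.algebraMap_twist, map_mul, RingEquiv.symm_apply_apply,
          map_mul, Algebra.smul_def, algebraMap_step, step_apply]
        simp
      left_inv := fun x => by simp
      right_inv := fun y => by simp }
  exact Module.Projective.of_equiv e₂

theorem projective_Pn (n : ℕ) : Module.Projective R (Pn p R n) := by
  induction n with
  | zero =>
      have : Module.Projective R R := inferInstance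
      refine Module.Projective.of_equiv' (M := R)
        { toFun := fun x => toPn p R 0 x
          invFun := fun y => (toPn p R 0).symm y
          map_add' := fun x y => by simp
          map_smul' := fun r x => by
            rw [smul_eq_mul, map_mul, RingHom.id_apply, Algebra.smul_def (A := Pn p R 0),
              algebraMap_Pn, pow_zero, pow_one]
          left_inv := fun x => by simp
          right_inv := fun y => by simp }
  | succ n ih =>
      haveI := ih
      exact projective_trans R (Pn p R n) (Pn p R (n + 1))

instance faithfullyFlat_step (n : ℕ) : Module.FaithfullyFlat (Pn p R n) (Pn p R (n + 1)) := by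
  rw [Module.FaithfullyFlat.iff_flat_and_proper_ideal]
  refine ⟨inferInstance, fun I hI htop => ?_⟩
  apply hI
  rw [Ideal.eq_top_iff_one]
  have key : ∀ y ∈ I • (⊤ : Submodule (Pn p R n) (Pn p R (n + 1))),
      toPn p R n ((toPn p R (n + 1)).symm y) ∈ I := by
    intro y hy
    refine Submodule.smul_induction_on hy ?_ ?_
    · intro a ha y _
      rw [Algebra.smul_def, algebraMap_step, step_apply, map_mul, RingEquiv.symm_apply_apply,
        map_mul, map_pow, RingEquiv.apply_symm_apply]
      have hp : p ≠ 0 := (Fact.out : p.Prime).ne_zero
      exact I.mul_mem_right _ (I.pow_mem_of_mem ha p (Nat.pos_of_ne_zero hp))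
    · intro x y hx hy
      rw [map_add, map_add]
      exact I.add_mem hx hy
  have h1 := key 1 (by rw [htop]; trivial)
  simpa using h1

/-- the one step transition is universally injective over `R` -/
theorem step_pure (n : ℕ) (T : Type*) [AddCommGroup T] [Module R T] :
    Function.Injective (LinearMap.rTensor T
      ((Algebra.linearMap (Pn p R n) (Pn p R (n + 1))).restrictScalars R)) := by
  have h1 := Module.FaithfullyFlat.tensorProduct_mk_injective (A := Pn p R n)
    (B := Pn p R (n + 1)) (Pn p R n ⊗[R] T)
  let Ψ := TensorProduct.AlgebraTensorModule.cancelBaseChange R (Pn p R n) (Pn p R (n + 1))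
    (Pn p R (n + 1)) T
  have h2 : ∀ x : Pn p R n ⊗[R] T, LinearMap.rTensor T
      ((Algebra.linearMap (Pn p R n) (Pn p R (n + 1))).restrictScalars R) x
      = Ψ (TensorProduct.mk (Pn p R n) (Pn p R (n + 1)) (Pn p R n ⊗[R] T) 1 x) := by
    intro x
    induction x using TensorProduct.induction_on with
    | zero => simp
    | add a b ha hb => simp only [map_add, ha, hb]
    | tmul a t =>
        simp only [LinearMap.rTensor_tmul, LinearMap.coe_restrictScalars, Algebra.linearMap_apply,
          TensorProduct.mk_apply, Ψ, TensorProduct.AlgebraTensorModule.cancelBaseChange_tmul,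
          Algebra.smul_def, mul_one]
  intro x y hxy
  rw [h2, h2] at hxy
  exact h1 (Ψ.injective hxy)

end Proj

section System

/-- transition maps of the tower -/
def tr (i j : ℕ) (h : i ≤ j) : Pn p R i →ₗ[R] Pn p R j where
  toFun x := toPn p R j ((toPn p R i).symm x ^ p ^ (j - i))
  map_add' x y := by rw [map_add, add_pow_char_pow, map_add]
  map_smul' r x := by
    rw [RingHom.id_apply, Algebra.smul_def, Algebra.smul_def, algebraMap_Pn, algebraMap_Pn,
      map_mul, RingEquiv.symm_apply_apply, mul_pow, ← pow_mul, ← pow_add,
      Nat.add_sub_cancel' h, map_mul]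

theorem tr_apply (i j : ℕ) (h : i ≤ j) (x : Pn p R i) :
    tr p R i j h x = toPn p R j ((toPn p R i).symm x ^ p ^ (j - i)) := rfl

instance : DirectedSystem (Pn p R) (fun i j h => tr p R i j h) where
  map_self i x := by simp [tr_apply]
  map_map k j i hij hjk x := by
    simp only [tr_apply, RingEquiv.symm_apply_apply]
    rw [← pow_mul, ← pow_add]
    congr 3
    omega

theorem tr_succ (n : ℕ) : tr p R n (n + 1) (Nat.le_succ n)
    = (Algebra.linearMap (Pn p R n) (Pn p R (n + 1))).restrictScalars R := by
  ext x
  simp [tr_apply, algebraMap_step, step_apply]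

variable [Module.Projective R (FrobAlg.Twist p R)]

theorem tr_pure (i j : ℕ) (h : i ≤ j) (T : Type*) [AddCommGroup T] [Module R T] :
    Function.Injective (LinearMap.rTensor T (tr p R i j h)) := by
  induction j, h using Nat.le_induction with
  | base =>
      have : tr p R i i le_rfl = LinearMap.id := by
        ext x; exact DirectedSystem.map_self (f := fun i j h => tr p R i j h) x
      rw [this, LinearMap.rTensor_id]
      exact Function.injective_id
  | succ j hij ih =>
      have : tr p R i (j + 1) (hij.trans (Nat.le_succ j))
          = (tr p R j (j + 1) (Nat.le_succ j)).comp (tr p R i j hij) := by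
        ext x
        exact (DirectedSystem.map_map (f := fun i j h => tr p R i j h) hij (Nat.le_succ j) x).symm
      rw [this, LinearMap.rTensor_comp, tr_succ]
      exact (step_pure p R j T).comp ih

end System

section PC

/-- the perfect closure as an `R`-algebra -/
@[reducible] def algPC : Algebra R (PerfectClosure R p) := (PerfectClosure.of R p).toAlgebra

attribute [local instance] algPC

theorem algebraMap_PC (r : R) : algebraMap R (PerfectClosure R p) r = PerfectClosure.of R p r := rfl

/-- the maps to the perfect closure, as ring maps -/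
noncomputable def jnRing (n : ℕ) : Pn p R n →+* PerfectClosure R p :=
  ((iterateFrobeniusEquiv (PerfectClosure R p) p n).symm : PerfectClosure R p →+* _).comp
    ((PerfectClosure.of R p).comp ((toPn p R n).symm : Pn p R n →+* R))

theorem jnRing_pow (n : ℕ) (x : Pn p R n) :
    jnRing p R n x ^ p ^ n = PerfectClosure.of R p ((toPn p R n).symm x) := by
  have := (iterateFrobeniusEquiv (PerfectClosure R p) p n).apply_symm_apply
    (PerfectClosure.of R p ((toPn p R n).symm x))
  rw [iterateFrobeniusEquiv_apply, iterateFrobenius_def] at this
  exact this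

theorem pow_injective_PC (n : ℕ) : Function.Injective fun y : PerfectClosure R p => y ^ p ^ n := by
  intro a b hab
  apply (iterateFrobeniusEquiv (PerfectClosure R p) p n).injective
  rw [iterateFrobeniusEquiv_apply, iterateFrobeniusEquiv_apply, iterateFrobenius_def,
    iterateFrobenius_def]
  exact hab

/-- the maps to the perfect closure, `R`-linear -/
noncomputable def jn (n : ℕ) : Pn p R n →ₗ[R] PerfectClosure R p where
  toFun := jnRing p R n
  map_add' := map_add _
  map_smul' r x := by
    rw [RingHom.id_apply, Algebra.smul_def, Algebra.smul_def, map_mul, algebraMap_PC]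
    congr 1
    apply pow_injective_PC p R n
    change jnRing p R n _ ^ p ^ n = _ ^ p ^ n
    rw [jnRing_pow, algebraMap_Pn, RingEquiv.symm_apply_apply, map_pow]

theorem jn_apply (n : ℕ) (x : Pn p R n) : jn p R n x = jnRing p R n x := rfl

theorem jn_tr (i j : ℕ) (h : i ≤ j) (x : Pn p R i) : jn p R j (tr p R i j h x) = jn p R i x := by
  apply pow_injective_PC p R j
  change jnRing p R j _ ^ p ^ j = jnRing p R i x ^ p ^ j
  rw [jnRing_pow, tr_apply, RingEquiv.symm_apply_apply, map_pow, ← jnRing_pow, ← pow_mul,
    ← pow_add, Nat.add_sub_cancel' h]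

theorem mk_eq_jn (n : ℕ) (x : R) :
    PerfectClosure.mk R p (n, x) = jn p R n (toPn p R n x) := by
  apply pow_injective_PC p R n
  change PerfectClosure.mk R p (n, x) ^ p ^ n = jnRing p R n _ ^ p ^ n
  rw [jnRing_pow, RingEquiv.symm_apply_apply, PerfectClosure.mk_pow, PerfectClosure.of_apply,
    PerfectClosure.mk_eq_iff]
  refine ⟨0, ?_⟩
  simp only [add_zero, iterate_frobenius, pow_zero, pow_one]

theorem jn_eq_zero (n : ℕ) (x : Pn p R n) (h : jn p R n x = 0) :
    ∃ k, (toPn p R n).symm x ^ p ^ k = 0 := by
  have h1 : PerfectClosure.of R p ((toPn p R n).symm x) = 0 := by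
    rw [← jnRing_pow, ← jn_apply, h, zero_pow]
    exact pow_ne_zero _ (Fact.out : p.Prime).ne_zero
  rw [PerfectClosure.of_apply, ← PerfectClosure.mk_zero, PerfectClosure.mk_eq_iff] at h1
  obtain ⟨z, hz⟩ := h1
  refine ⟨z, ?_⟩
  simpa [iterate_frobenius] using hz

/-- the perfect closure is the direct limit of the tower -/
noncomputable def limEquiv :
    Module.DirectLimit (Pn p R) (tr p R) ≃ₗ[R] PerfectClosure R p :=
  LinearEquiv.ofBijective
    (Module.DirectLimit.lift R ℕ (Pn p R) (tr p R) (jn p R) (fun i j h x => jn_tr p R i j h x))
    ⟨by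
      rw [← LinearMap.ker_eq_bot, LinearMap.ker_eq_bot']
      intro z hz
      obtain ⟨n, x, rfl⟩ := Module.DirectLimit.exists_of z
      rw [Module.DirectLimit.lift_of] at hz
      obtain ⟨k, hk⟩ := jn_eq_zero p R n x hz
      rw [← Module.DirectLimit.of_f (hij := Nat.le_add_right n k), tr_apply,
        Nat.add_sub_cancel_left, hk, map_zero, map_zero],
     by
      intro y
      induction y using PerfectClosure.induction_on with
      | _ x =>
        obtain ⟨n, x⟩ := x
        refine ⟨Module.DirectLimit.of R ℕ (Pn p R) (tr p R) n (toPn p R n x), ?_⟩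
        rw [Module.DirectLimit.lift_of, mk_eq_jn]⟩

variable [Module.Projective R (FrobAlg.Twist p R)]

/-- Main theorem: tensoring a jointly injective family with the perfect closure. -/
theorem joint_injective_perfectClosure {L : Type u} [AddCommGroup L] [Module R L] {ι : Type*}
    {T : ι → Type u} [∀ i, AddCommGroup (T i)] [∀ i, Module R (T i)] (π : ∀ i, L →ₗ[R] T i)
    (hπ : ∀ x : L, (∀ i, π i x = 0) → x = 0)
    (x : PerfectClosure R p ⊗[R] L)
    (hx : ∀ i, LinearMap.lTensor (PerfectClosure R p) (π i) x = 0) : x = 0 := by
  haveI : ∀ n, Module.Projective R (Pn p R n) := projective_Pn p R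
  have key := PureLim.joint_injective_directLimit (Pn p R) (tr p R)
    (fun i j h T _ _ => tr_pure p R i j h T) π hπ
    (LinearMap.rTensor L (limEquiv p R).symm.toLinearMap x) (fun i => by
      rw [← LinearMap.comp_apply, LinearMap.lTensor_comp_rTensor,
        ← LinearMap.rTensor_comp_lTensor, LinearMap.comp_apply, hx i, map_zero])
  have h2 : LinearMap.rTensor L (limEquiv p R).toLinearMap
      (LinearMap.rTensor L (limEquiv p R).symm.toLinearMap x) = x := by
    rw [← LinearMap.comp_apply, ← LinearMap.rTensor_comp]
    have : (limEquiv p R).toLinearMap.comp (limEquiv p R).symm.toLinearMap = LinearMap.id := by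
      ext y; simp
    rw [this, LinearMap.rTensor_id, LinearMap.id_apply]
  rw [← h2, key, map_zero]

end PC

end Groth.Agent.H80.FrobTower
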