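import Mathlib

/-!
# Counting geometric points of a finite algebra over a field (helper80)

`k` a field, `C` a finite `k`-algebra.  `geomCard k C` is the number of `k`-algebra maps
`C → k̄`.  For every field extension `F/k`, `Spec (F ⊗[k] C)` is finite with at most
`geomCard k C` points, with equality as soon as `F` contains a copy of a subfield of `k̄`
through which all the maps `C → k̄` factor.
-/

set_option autoImplicit false
set_option linter.style.haveILetI false
set_option linter.unusedSectionVars false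

universe u

open TensorProduct

namespace Groth.Agent.H80.GeomPts

variable (k : Type u) [Field k] (C : Type u) [CommRing C] [Algebra k C] [Module.Finite k C]

/-- the number of geometric points of `Spec C`. -/
noncomputable def geomCard : ℕ := Nat.card (C →ₐ[k] AlgebraicClosure k)

instance finite_algHom (Ω : Type u) [Field Ω] [Algebra k Ω] : Finite (C →ₐ[k] Ω) :=
  Fintype.finite (minpoly.AlgHom.fintype k C Ω)

/-- The number of maps into an algebraically closed field does not depend on the field. -/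
theorem card_algHom_eq (Ω : Type u) [Field Ω] [Algebra k Ω] [IsAlgClosed Ω] :
    Nat.card (C →ₐ[k] Ω) = geomCard k C := by
  let Ω' : IntermediateField k Ω := algebraicClosure k Ω
  haveI : IsAlgClosure k Ω' := algebraicClosure.isAlgClosure k Ω
  let e : Ω' ≃ₐ[k] AlgebraicClosure k := IsAlgClosure.equiv k Ω' (AlgebraicClosure k)
  have hmem : ∀ (τ : C →ₐ[k] Ω) (c : C), τ c ∈ Ω' := by
    intro τ c
    rw [mem_algebraicClosure_iff]
    exact ((Algebra.IsIntegral.isIntegral (R := k) c).map τ).isAlgebraic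
  let φ : (C →ₐ[k] Ω) ≃ (C →ₐ[k] Ω') :=
    { toFun := fun τ => τ.codRestrict Ω'.toSubalgebra (hmem τ)
      invFun := fun ρ => Ω'.val.comp ρ
      left_inv := fun τ => by ext c; rfl
      right_inv := fun ρ => by ext c; rfl }
  let ψ : (C →ₐ[k] Ω') ≃ (C →ₐ[k] AlgebraicClosure k) :=
    { toFun := fun ρ => e.toAlgHom.comp ρ
      invFun := fun ρ => e.symm.toAlgHom.comp ρ
      left_inv := fun ρ => by ext c; simp
      right_inv := fun ρ => by ext c; simp }
  exact Nat.card_congr (φ.trans ψ)

section Upper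

variable (F : Type u) [Field F] [Algebra k F]

/-- two `F`-algebra maps out of `F ⊗ C` agreeing on `C` are equal. -/
theorem algHom_ext_right {M : Type u} [CommRing M] [Algebra F M]
    (Θ Θ' : F ⊗[k] C →ₐ[F] M) (h : ∀ c : C, Θ (1 ⊗ₜ c) = Θ' (1 ⊗ₜ c)) : Θ = Θ' := by
  apply AlgHom.ext
  intro z
  induction z using TensorProduct.induction_on with
  | zero => rw [map_zero, map_zero]
  | tmul a c =>
    have h1 : (a ⊗ₜ[k] c : F ⊗[k] C) = a • ((1 : F) ⊗ₜ[k] c) := by
      rw [TensorProduct.smul_tmul', smul_eq_mul, mul_one]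
    rw [h1, map_smul, map_smul, h]
  | add x y hx hy => rw [map_add, map_add, hx, hy]

/-- every prime of `F ⊗ C` is the kernel of an `F`-algebra map to `F̄`. -/
theorem exists_hom_ker_eq (P : PrimeSpectrum (F ⊗[k] C)) :
    ∃ Θ : F ⊗[k] C →ₐ[F] AlgebraicClosure F, RingHom.ker Θ = P.asIdeal := by
  haveI : IsDomain ((F ⊗[k] C) ⧸ P.asIdeal) := Ideal.Quotient.isDomain P.asIdeal
  haveI : Algebra.IsIntegral F (F ⊗[k] C) := inferInstance
  haveI : Algebra.IsIntegral F ((F ⊗[k] C) ⧸ P.asIdeal) :=
    Algebra.IsIntegral.of_surjective (Ideal.Quotient.mkₐ F P.asIdeal)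
      (Ideal.Quotient.mkₐ_surjective F P.asIdeal)
  haveI : Algebra.IsAlgebraic F ((F ⊗[k] C) ⧸ P.asIdeal) := inferInstance
  haveI : FaithfulSMul F ((F ⊗[k] C) ⧸ P.asIdeal) :=
    (faithfulSMul_iff_algebraMap_injective F _).mpr (RingHom.injective _)
  have hfield : IsField ((F ⊗[k] C) ⧸ P.asIdeal) :=
    isField_of_isIntegral_of_isField' (Field.toIsField F)
  let θ : ((F ⊗[k] C) ⧸ P.asIdeal) →ₐ[F] AlgebraicClosure F := IsAlgClosed.lift
  have hθ : Function.Injective θ := by
    rw [injective_iff_map_eq_zero]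
    intro d hd
    by_contra hd0
    obtain ⟨d', hd'⟩ := hfield.mul_inv_cancel hd0
    have : θ (d * d') = 1 := by rw [hd', map_one]
    rw [map_mul, hd, zero_mul] at this
    exact zero_ne_one this
  refine ⟨θ.comp (Ideal.Quotient.mkₐ F P.asIdeal), ?_⟩
  ext z
  rw [RingHom.mem_ker]
  change θ (Ideal.Quotient.mk P.asIdeal z) = 0 ↔ _
  rw [map_eq_zero_iff θ hθ, Ideal.Quotient.eq_zero_iff_mem]

/-- `Spec (F ⊗ C)` is finite with at most `geomCard k C` points. -/
theorem card_primeSpectrum_le :
    Finite (PrimeSpectrum (F ⊗[k] C)) ∧ Nat.card (PrimeSpectrum (F ⊗[k] C)) ≤ geomCard k C := by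
  classical
  choose Θ hΘ using exists_hom_ker_eq k C F
  let g : PrimeSpectrum (F ⊗[k] C) → (C →ₐ[k] AlgebraicClosure F) := fun P =>
    ((Θ P).restrictScalars k).comp (Algebra.TensorProduct.includeRight : C →ₐ[k] F ⊗[k] C)
  have hg : Function.Injective g := by
    intro P Q h
    have h1 : Θ P = Θ Q := by
      apply algHom_ext_right
      intro c
      exact AlgHom.congr_fun h c
    apply PrimeSpectrum.ext
    rw [← hΘ P, ← hΘ Q, h1]
  haveI : Finite (PrimeSpectrum (F ⊗[k] C)) := Finite.of_injective g hg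
  refine ⟨inferInstance, ?_⟩
  rw [← card_algHom_eq k C (AlgebraicClosure F)]
  exact Nat.card_le_card_of_injective g hg

/-- If all maps `C → k̄` land in `E` and `E` embeds in `F`, then `Spec (F ⊗ C)` has exactly
`geomCard k C` points. -/
theorem card_primeSpectrum_eq (E : IntermediateField k (AlgebraicClosure k))
    (hE : ∀ (σ : C →ₐ[k] AlgebraicClosure k) (c : C), σ c ∈ E) (j : E →ₐ[k] F) :
    Nat.card (PrimeSpectrum (F ⊗[k] C)) = geomCard k C := by
  classical
  obtain ⟨hfin, hle⟩ := card_primeSpectrum_le k C F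
  refine le_antisymm hle ?_
  let jσ : (C →ₐ[k] AlgebraicClosure k) → (C →ₐ[k] F) := fun σ =>
    j.comp (σ.codRestrict E.toSubalgebra (hE σ))
  let τ : (C →ₐ[k] AlgebraicClosure k) → (F ⊗[k] C →ₐ[F] F) := fun σ =>
    Algebra.TensorProduct.lift (Algebra.ofId F F) (jσ σ) (fun _ _ => Commute.all _ _)
  have hτ : ∀ σ (a : F) (c : C), τ σ (a ⊗ₜ c) = a * jσ σ c := by
    intro σ a c
    change Algebra.TensorProduct.lift (Algebra.ofId F F) (jσ σ) _ (a ⊗ₜ c) = _
    rw [Algebra.TensorProduct.lift_tmul]
    rfl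
  let g : (C →ₐ[k] AlgebraicClosure k) → PrimeSpectrum (F ⊗[k] C) := fun σ =>
    ⟨RingHom.ker (τ σ), RingHom.ker_isPrime _⟩
  have hg : Function.Injective g := by
    intro σ σ' h
    have hker : RingHom.ker (τ σ) = RingHom.ker (τ σ') := congrArg PrimeSpectrum.asIdeal h
    ext c
    have hmem : ((1 : F) ⊗ₜ[k] c - (jσ σ c) ⊗ₜ[k] (1 : C) : F ⊗[k] C) ∈ RingHom.ker (τ σ) := by
      rw [RingHom.mem_ker, map_sub, hτ, hτ, map_one, one_mul, mul_one, sub_self]
    rw [hker, RingHom.mem_ker, map_sub, hτ, hτ, map_one, one_mul, mul_one, sub_eq_zero] at hmem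
    have h2 : σ'.codRestrict E.toSubalgebra (hE σ') c = σ.codRestrict E.toSubalgebra (hE σ) c :=
      j.injective hmem
    exact (congrArg Subtype.val h2).symm
  exact Nat.card_le_card_of_injective g hg

end Upper

/-- a finite splitting subfield. -/
theorem exists_splitting :
    ∃ (S : Finset (AlgebraicClosure k)),
      ∀ (σ : C →ₐ[k] AlgebraicClosure k) (c : C),
        σ c ∈ IntermediateField.adjoin k (S : Set (AlgebraicClosure k)) := by
  classical
  haveI : Fintype (C →ₐ[k] AlgebraicClosure k) := Fintype.ofFinite _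
  let b := Module.finBasis k C
  let S : Finset (AlgebraicClosure k) :=
    Finset.univ.biUnion fun σ : C →ₐ[k] AlgebraicClosure k => Finset.univ.image fun i => σ (b i)
  refine ⟨S, fun σ c => ?_⟩
  rw [← b.sum_repr c, map_sum]
  refine sum_mem fun i _ => ?_
  rw [map_smul]
  refine (IntermediateField.adjoin k (S : Set (AlgebraicClosure k))).smul_mem ?_
  apply IntermediateField.subset_adjoin
  rw [Finset.mem_coe, Finset.mem_biUnion]
  exact ⟨σ, Finset.mem_univ _, Finset.mem_image.mpr ⟨i, Finset.mem_univ _, rfl⟩⟩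

/-- the count over the separable closure. -/
theorem card_sepClosure :
    Nat.card (PrimeSpectrum (SeparableClosure k ⊗[k] C)) = geomCard k C := by
  have h1 : Nat.card (PrimeSpectrum (AlgebraicClosure k ⊗[k] C)) = geomCard k C := by
    refine card_primeSpectrum_eq k C (AlgebraicClosure k) ⊤ (fun _ _ => IntermediateField.mem_top)
      (IntermediateField.topEquiv.toAlgHom)
  rw [← h1]
  have hh := PrimeSpectrum.isHomeomorph_comap_tensorProductMap_of_isPurelyInseparable
    (R := k) (K := SeparableClosure k) (S := C) (AlgebraicClosure k)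
  exact (Nat.card_congr (Equiv.ofBijective _ hh.bijective)).symm

/-- the count over a field identified with the separable closure. -/
theorem card_sepClosure' (S : Type u) [Field S] [Algebra k S] (e : SeparableClosure k ≃+* S)
    (h : ∀ a, e (algebraMap k (SeparableClosure k) a) = algebraMap k S a) :
    Nat.card (PrimeSpectrum (S ⊗[k] C)) = geomCard k C := by
  let e' : SeparableClosure k ≃ₐ[k] S := AlgEquiv.ofRingEquiv (f := e) h
  let E : (SeparableClosure k ⊗[k] C) ≃ₐ[k] (S ⊗[k] C) :=
    Algebra.TensorProduct.congr e' AlgEquiv.refl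
  rw [← card_sepClosure k C]
  exact (Nat.card_congr (PrimeSpectrum.comapEquiv E.toRingEquiv).toEquiv).symm

/-- `F ⊗ C` is an artinian ring. -/
theorem isArtinianRing_tensor (F : Type u) [Field F] [Algebra k F] :
    IsArtinianRing (F ⊗[k] C) := by
  haveI : Module.Finite F (F ⊗[k] C) := inferInstance
  exact IsArtinianRing.of_finite F (F ⊗[k] C)

end Groth.Agent.H80.GeomPts
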