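import Mathlib
import Groth.Prelude.Def_MoreMor
import Groth.Agent.H80.GeomPts1

/-!
# Counting points of fibres of a quasi-finite morphism after field extension (helper80)
-/

set_option autoImplicit false
set_option linter.style.haveILetI false
set_option linter.unusedSectionVars false

universe u

open CategoryTheory CategoryTheory.Limits AlgebraicGeometry TensorProduct

namespace Groth.Agent.H80.GeomPts

variable {X Y : Scheme.{u}} (f : X ⟶ Y) [LocallyQuasiFinite f] [QuasiCompact f]

instance isAffine_fiber (y : Y) : IsAffine (f.fiber y) :=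
  isAffine_of_isAffineHom (f.fiberToSpecResidueField y)

/-- the structure map of the coordinate ring of the fibre. -/
noncomputable def fibHom (y : Y) : Y.residueField y ⟶ Γ(f.fiber y, ⊤) :=
  Spec.preimage ((f.fiber y).isoSpec.inv ≫ f.fiberToSpecResidueField y)

lemma isoSpec_inv_fiberTo (y : Y) :
    (f.fiber y).isoSpec.inv ≫ f.fiberToSpecResidueField y = Spec.map (fibHom f y) :=
  (Spec.map_preimage _).symm

lemma fibHom_finite (y : Y) : (fibHom f y).hom.Finite := by
  have : IsFinite (Spec.map (fibHom f y)) := by
    rw [← isoSpec_inv_fiberTo]; infer_instance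
  exact (IsFinite.SpecMap_iff _).mp this

/-- the number of geometric points of the fibre over `y`. -/
noncomputable def geomN (y : Y) : ℕ :=
  letI := (fibHom f y).hom.toAlgebra
  haveI : Module.Finite (Y.residueField y) Γ(f.fiber y, ⊤) := fibHom_finite f y
  geomCard (Y.residueField y) Γ(f.fiber y, ⊤)

/-- Points of the base change of the fibre along a field extension. -/
theorem nonempty_homeomorph_pullback_fiber (y : Y) (F : Type u) [Field F]
    (φ : Y.residueField y ⟶ CommRingCat.of F) :
    letI := (fibHom f y).hom.toAlgebra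
    letI := φ.hom.toAlgebra
    Nonempty (↥(pullback (f.fiberToSpecResidueField y) (Spec.map φ)) ≃ₜ
      PrimeSpectrum (F ⊗[Y.residueField y] Γ(f.fiber y, ⊤))) := by
  letI := (fibHom f y).hom.toAlgebra
  letI := φ.hom.toAlgebra
  -- replace the fibre by the spectrum of its coordinate ring
  let e1 : pullback (Spec.map (fibHom f y)) (Spec.map φ) ≅
      pullback (f.fiberToSpecResidueField y) (Spec.map φ) :=
    asIso (pullback.map (Spec.map (fibHom f y)) (Spec.map φ) (f.fiberToSpecResidueField y)
      (Spec.map φ) (f.fiber y).isoSpec.inv (𝟙 _) (𝟙 _)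
      (by rw [Category.comp_id, isoSpec_inv_fiberTo]) (by rw [Category.comp_id, Category.id_comp]))
  let e2 : pullback (Spec.map (fibHom f y)) (Spec.map φ) ≅
      Spec (.of (Γ(f.fiber y, ⊤) ⊗[Y.residueField y] F)) :=
    pullbackSpecIso (Y.residueField y) Γ(f.fiber y, ⊤) F
  let e3 : (Γ(f.fiber y, ⊤) ⊗[Y.residueField y] F) ≃+* (F ⊗[Y.residueField y] Γ(f.fiber y, ⊤)) :=
    (Algebra.TensorProduct.comm (Y.residueField y) Γ(f.fiber y, ⊤) F).toRingEquiv
  exact ⟨((Scheme.homeoOfIso e1).symm.trans (Scheme.homeoOfIso e2)).trans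
    (PrimeSpectrum.homeomorphOfRingEquiv e3)⟩

theorem card_pullback_fiber (y : Y) (F : Type u) [Field F]
    (φ : Y.residueField y ⟶ CommRingCat.of F) :
    letI := (fibHom f y).hom.toAlgebra
    letI := φ.hom.toAlgebra
    Nat.card ↥(pullback (f.fiberToSpecResidueField y) (Spec.map φ)) =
      Nat.card (PrimeSpectrum (F ⊗[Y.residueField y] Γ(f.fiber y, ⊤))) := by
  obtain ⟨e⟩ := nonempty_homeomorph_pullback_fiber f y F φ
  exact Nat.card_congr e.toEquiv

/-- The count for a field containing a splitting field. -/
theorem card_pullback_eq_geomN (y : Y) (F : Type u) [Field F]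
    (φ : Y.residueField y ⟶ CommRingCat.of F)
    (E : IntermediateField (Y.residueField y) (AlgebraicClosure (Y.residueField y)))
    (hE : letI := (fibHom f y).hom.toAlgebra
      ∀ (σ : Γ(f.fiber y, ⊤) →ₐ[Y.residueField y] AlgebraicClosure (Y.residueField y))
        (c : Γ(f.fiber y, ⊤)), σ c ∈ E)
    (j : E →+* F) (hj : ∀ a : Y.residueField y, j (algebraMap _ E a) = φ.hom a) :
    Nat.card ↥(pullback f (Spec.map φ ≫ Y.fromSpecResidueField y)) = geomN f y := by
  letI := (fibHom f y).hom.toAlgebra
  letI := φ.hom.toAlgebra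
  haveI : Module.Finite (Y.residueField y) Γ(f.fiber y, ⊤) := fibHom_finite f y
  have e0 : pullback (f.fiberToSpecResidueField y) (Spec.map φ) ≅
      pullback f (Spec.map φ ≫ Y.fromSpecResidueField y) :=
    pullbackLeftPullbackSndIso f (Y.fromSpecResidueField y) (Spec.map φ)
  rw [← Nat.card_congr (Scheme.homeoOfIso e0).toEquiv, card_pullback_fiber f y F φ]
  let j' : E →ₐ[Y.residueField y] F := { j with commutes' := hj }
  exact card_primeSpectrum_eq (Y.residueField y) Γ(f.fiber y, ⊤) F E hE j'

/-- `nGeomConnComp` is the number of geometric points. -/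
theorem nGeomConnComp_eq (y : Y) : MoreMor.nGeomConnComp f y = (geomN f y : ℕ∞) := by
  letI := (fibHom f y).hom.toAlgebra
  haveI : Module.Finite (Y.residueField y) Γ(f.fiber y, ⊤) := fibHom_finite f y
  let φ : Y.residueField y ⟶ CommRingCat.of (SeparableClosure (Y.residueField y)) :=
    CommRingCat.ofHom (algebraMap (Y.residueField y) (SeparableClosure (Y.residueField y)))
  obtain ⟨e⟩ := nonempty_homeomorph_pullback_fiber f y (SeparableClosure (Y.residueField y)) φ
  letI inst' : Algebra (Y.residueField y) (SeparableClosure (Y.residueField y)) := φ.hom.toAlgebra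
  have hcard := @card_sepClosure' (Y.residueField y) _ Γ(f.fiber y, ⊤) _ _ _
    (SeparableClosure (Y.residueField y)) _ inst' (RingEquiv.refl _) (fun _ => rfl)
  obtain ⟨hfin, -⟩ := card_primeSpectrum_le (Y.residueField y) Γ(f.fiber y, ⊤)
    (SeparableClosure (Y.residueField y))
  haveI := isArtinianRing_tensor (Y.residueField y) Γ(f.fiber y, ⊤)
    (SeparableClosure (Y.residueField y))
  haveI : DiscreteTopology ↥(MoreMor.geomFiber f y) := e.symm.discreteTopology
  haveI : Finite ↥(MoreMor.geomFiber f y) := Finite.of_equiv _ e.symm.toEquiv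
  have hbij : Function.Bijective
      (_root_.ConnectedComponents.mk : ↥(MoreMor.geomFiber f y) → _root_.ConnectedComponents _) := by
    refine ⟨fun a b h => ?_, _root_.ConnectedComponents.surjective_coe⟩
    rw [_root_.ConnectedComponents.coe_eq_coe', connectedComponent_eq_singleton] at h
    exact h
  unfold MoreMor.nGeomConnComp
  rw [← ENat.card_congr (Equiv.ofBijective _ hbij), ENat.card_eq_coe_natCard]
  have h1 : Nat.card ↥(MoreMor.geomFiber f y) = geomN f y :=
    (Nat.card_congr e.toEquiv).trans hcard
  rw [h1]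

end Groth.Agent.H80.GeomPts
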