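import Mathlib
import Groth.Prelude.Def_MoreMor
import Groth.Agent.H80.GeomPts2

/-!
# Fibres of a base change, residue maps of `Spec A`, and generization in stalks (helper80)
-/

set_option autoImplicit false
set_option linter.style.haveILetI false
set_option linter.unusedSectionVars false

universe u

open CategoryTheory CategoryTheory.Limits AlgebraicGeometry TensorProduct IsLocalRing

namespace Groth.Agent.H80.GeomPts

section Count

variable {X Y : Scheme.{u}} (f : X ⟶ Y) [LocallyQuasiFinite f] [QuasiCompact f]

/-- `ENat` version of the count. -/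
theorem encard_pullback_eq_geomN (y : Y) (F : Type u) [Field F]
    (φ : Y.residueField y ⟶ CommRingCat.of F)
    (E : IntermediateField (Y.residueField y) (AlgebraicClosure (Y.residueField y)))
    (hE : letI := (fibHom f y).hom.toAlgebra
      ∀ (σ : Γ(f.fiber y, ⊤) →ₐ[Y.residueField y] AlgebraicClosure (Y.residueField y))
        (c : Γ(f.fiber y, ⊤)), σ c ∈ E)
    (j : E →+* F) (hj : ∀ a : Y.residueField y, j (algebraMap _ E a) = φ.hom a) :
    ENat.card ↥(pullback f (Spec.map φ ≫ Y.fromSpecResidueField y)) = (geomN f y : ℕ∞) := by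
  letI := (fibHom f y).hom.toAlgebra
  letI := φ.hom.toAlgebra
  haveI : Module.Finite (Y.residueField y) Γ(f.fiber y, ⊤) := fibHom_finite f y
  have e0 : pullback (f.fiberToSpecResidueField y) (Spec.map φ) ≅
      pullback f (Spec.map φ ≫ Y.fromSpecResidueField y) :=
    pullbackLeftPullbackSndIso f (Y.fromSpecResidueField y) (Spec.map φ)
  obtain ⟨e⟩ := nonempty_homeomorph_pullback_fiber f y F φ
  obtain ⟨hfin, -⟩ := card_primeSpectrum_le (Y.residueField y) Γ(f.fiber y, ⊤) F
  haveI : Finite ↥(pullback f (Spec.map φ ≫ Y.fromSpecResidueField y)) :=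
    Finite.of_equiv _ ((Scheme.homeoOfIso e0).symm.trans e).symm.toEquiv
  rw [ENat.card_eq_coe_natCard, card_pullback_eq_geomN f y F φ E hE j hj]

/-- The count for a fibre of a base change of `f`. -/
theorem encard_fiber_eq_geomN {T : Scheme.{u}} (g : T ⟶ Y) (p : T) (y : Y)
    (φ : Y.residueField y ⟶ T.residueField p)
    (hφ : T.fromSpecResidueField p ≫ g = Spec.map φ ≫ Y.fromSpecResidueField y)
    (E : IntermediateField (Y.residueField y) (AlgebraicClosure (Y.residueField y)))
    (hE : letI := (fibHom f y).hom.toAlgebra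
      ∀ (σ : Γ(f.fiber y, ⊤) →ₐ[Y.residueField y] AlgebraicClosure (Y.residueField y))
        (c : Γ(f.fiber y, ⊤)), σ c ∈ E)
    (j : E →+* T.residueField p) (hj : ∀ a : Y.residueField y, j (algebraMap _ E a) = φ.hom a) :
    ENat.card ↥((pullback.snd f g).fiber p) = (geomN f y : ℕ∞) := by
  have e1 : (pullback.snd f g).fiber p ≅ pullback f (T.fromSpecResidueField p ≫ g) :=
    pullbackLeftPullbackSndIso f g (T.fromSpecResidueField p)
  rw [ENat.card_congr (Scheme.homeoOfIso e1).toEquiv, hφ]
  exact encard_pullback_eq_geomN f y (T.residueField p) φ E hE j hj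

end Count

section SpecA

/-- The canonical map `A → κ(p)` for a point `p` of `Spec A`. -/
theorem exists_residue_hom (A : Type u) [CommRing A] (p : Spec (CommRingCat.of A)) :
    ∃ ρ : A →+* (Spec (CommRingCat.of A)).residueField p,
      Spec.map (CommRingCat.ofHom ρ) = (Spec (CommRingCat.of A)).fromSpecResidueField p ∧
      RingHom.ker ρ = p.asIdeal := by
  let iso := Scheme.Spec.residueFieldIso (CommRingCat.of A) p
  refine ⟨iso.inv.hom.comp (algebraMap A p.asIdeal.ResidueField), ?_, ?_⟩
  · rw [← Scheme.Spec.map_residueFieldIso_inv_eq_fromSpecResidueField, ← Spec.map_comp]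
    rfl
  · ext a
    rw [RingHom.mem_ker, RingHom.comp_apply, map_eq_zero_iff _ iso.inv.hom.injective,
      Ideal.algebraMap_residueField_eq_zero]

end SpecA

end Groth.Agent.H80.GeomPts
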