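import Mathlib
import Groth.Agent.H80.GeomPts3

/-!
# The specialization map `O_{Y,y} → κ(y')` for a generization `y' ⤳ y` (helper80)
-/

set_option autoImplicit false
set_option linter.style.haveILetI false
set_option linter.unusedSectionVars false

universe u

open CategoryTheory CategoryTheory.Limits AlgebraicGeometry TensorProduct IsLocalRing

namespace Groth.Agent.H80.GeomPts

section Stalk

variable {Y : Scheme.{u}} {y y' : Y} (hgen : y' ⤳ y)

/-- the specialization map to the residue field of a generization. -/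
noncomputable def theta : Y.presheaf.stalk y →+* Y.residueField y' :=
  (Y.residue y').hom.comp (Y.presheaf.stalkSpecializes hgen).hom

lemma SpecMap_theta :
    Spec.map (CommRingCat.ofHom (theta hgen)) ≫ Y.fromSpecStalk y =
      Y.fromSpecResidueField y' := by
  have h1 : CommRingCat.ofHom (theta hgen) = Y.presheaf.stalkSpecializes hgen ≫ Y.residue y' := rfl
  rw [h1, Spec.map_comp, Category.assoc, Scheme.SpecMap_stalkSpecializes_fromSpecStalk]
  rfl

lemma theta_germ {W : Y.Opens} (hyW : y ∈ W) (s : Γ(Y, W)) :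
    theta hgen (Y.presheaf.germ W y hyW s) =
      Y.residue y' (Y.presheaf.germ W y' (hgen.mem_open W.isOpen hyW) s) := by
  have := congrArg (fun φ => φ.hom s) (TopCat.Presheaf.germ_stalkSpecializes Y.presheaf hyW hgen)
  change (Y.residue y').hom ((Y.presheaf.stalkSpecializes hgen).hom
    ((Y.presheaf.germ W y hyW).hom s)) = _
  exact congrArg (Y.residue y').hom this

/-- the image of `theta` generates the residue field. -/
lemma theta_frac (a : Y.residueField y') :
    ∃ o₁ o₂ : Y.presheaf.stalk y, theta hgen o₂ ≠ 0 ∧ a * theta hgen o₂ = theta hgen o₁ := by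
  obtain ⟨W, hW, hyW, -⟩ := exists_isAffineOpen_mem_and_subset (x := y) (U := ⊤) trivial
  have hy'W : y' ∈ W := hgen.mem_open W.isOpen hyW
  obtain ⟨b, rfl⟩ := Y.residue_surjective y' a
  letI : Algebra Γ(Y, W) (Y.presheaf.stalk y') :=
    TopCat.Presheaf.algebra_section_stalk Y.presheaf ⟨y', hy'W⟩
  haveI : IsLocalization.AtPrime (Y.presheaf.stalk y') (hW.primeIdealOf ⟨y', hy'W⟩).asIdeal :=
    hW.isLocalization_stalk ⟨y', hy'W⟩
  obtain ⟨⟨s₁, s₂⟩, h⟩ :=
    IsLocalization.surj (hW.primeIdealOf ⟨y', hy'W⟩).asIdeal.primeCompl b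
  have h' : b * (Y.presheaf.germ W y' hy'W s₂.1) = Y.presheaf.germ W y' hy'W s₁ := h
  have hu : IsUnit (Y.presheaf.germ W y' hy'W s₂.1) :=
    IsLocalization.map_units (M := (hW.primeIdealOf ⟨y', hy'W⟩).asIdeal.primeCompl)
      (Y.presheaf.stalk y') s₂
  refine ⟨Y.presheaf.germ W y hyW s₁, Y.presheaf.germ W y hyW s₂.1, ?_, ?_⟩
  · rw [theta_germ]
    exact (hu.map (Y.residue y').hom).ne_zero
  · rw [theta_germ, theta_germ, ← h']
    exact (map_mul (Y.residue y').hom _ _).symm

/-- `theta` does not kill the maximal ideal when `y' ≠ y`. -/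
lemma theta_exists_nonunit (hne : y' ≠ y) :
    ∃ t ∈ maximalIdeal (Y.presheaf.stalk y), theta hgen t ≠ 0 := by
  obtain ⟨W, hW, hyW, -⟩ := exists_isAffineOpen_mem_and_subset (x := y) (U := ⊤) trivial
  have hy'W : y' ∈ W := hgen.mem_open W.isOpen hyW
  set q := hW.primeIdealOf ⟨y, hyW⟩ with hq
  set q' := hW.primeIdealOf ⟨y', hy'W⟩ with hq'
  have hqq' : q' ≠ q := by
    intro h
    apply hne
    have h1 := hW.fromSpec_primeIdealOf ⟨y', hy'W⟩
    have h2 := hW.fromSpec_primeIdealOf ⟨y, hyW⟩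
    rw [← hq'] at h1
    rw [← hq] at h2
    rw [h] at h1
    exact h1.symm.trans h2
  have hspec : q' ⤳ q := by
    have h1 : (⟨y', hy'W⟩ : W) ⤳ ⟨y, hyW⟩ :=
      (Topology.IsInducing.subtypeVal.specializes_iff).mp hgen
    exact h1.map hW.isoSpec.hom.continuous
  have hle : q'.asIdeal ≤ q.asIdeal := (PrimeSpectrum.le_iff_specializes q' q).mpr hspec
  have hex : ∃ s, s ∈ q.asIdeal ∧ s ∉ q'.asIdeal := by
    by_contra hcon
    push Not at hcon
    exact hqq' (PrimeSpectrum.ext (le_antisymm hle hcon))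
  obtain ⟨s, hs, hs'⟩ := hex
  refine ⟨Y.presheaf.germ W y hyW s, ?_, ?_⟩
  · letI : Algebra Γ(Y, W) (Y.presheaf.stalk y) :=
      TopCat.Presheaf.algebra_section_stalk Y.presheaf ⟨y, hyW⟩
    haveI : IsLocalization.AtPrime (Y.presheaf.stalk y) q.asIdeal :=
      hW.isLocalization_stalk ⟨y, hyW⟩
    exact (IsLocalization.AtPrime.to_map_mem_maximal_iff (Y.presheaf.stalk y) q.asIdeal s).mpr hs
  · rw [theta_germ]
    letI : Algebra Γ(Y, W) (Y.presheaf.stalk y') :=
      TopCat.Presheaf.algebra_section_stalk Y.presheaf ⟨y', hy'W⟩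
    haveI : IsLocalization.AtPrime (Y.presheaf.stalk y') q'.asIdeal :=
      hW.isLocalization_stalk ⟨y', hy'W⟩
    have hu : IsUnit (Y.presheaf.germ W y' hy'W s) :=
      IsLocalization.map_units (M := q'.asIdeal.primeCompl) (Y.presheaf.stalk y') ⟨s, hs'⟩
    exact (hu.map (Y.residue y').hom).ne_zero

end Stalk

end Groth.Agent.H80.GeomPts
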