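import Mathlib
import Groth.Agent.H80.ResExtIter
import Groth.Agent.H80.DvrOfPrincipal

/-!
# Complete DVR extensions with prescribed residue field (helper80)

Every discrete valuation ring `A₀` with a local homomorphism `φ₀ : A₀ → Ω` to a field admits an
injective local homomorphism into a complete discrete valuation ring `A` whose residue field is
`Ω` (compatibly with `φ₀`).
-/

set_option autoImplicit false
set_option linter.style.haveILetI false

universe u

open IsLocalRing

namespace Groth.Agent.H80.UnivOpenLift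

theorem exists_complete_ext (A₀ : Type u) [CommRing A₀] [IsDomain A₀]
    [IsDiscreteValuationRing A₀] (Ω : Type u) [Field Ω] (φ₀ : A₀ →+* Ω) [IsLocalHom φ₀] :
    ∃ (A : Type u) (_ : CommRing A) (_ : IsDomain A) (_ : IsDiscreteValuationRing A)
      (ψ : A₀ →+* A) (χ : ResidueField A ≃+* Ω),
      IsAdicComplete (maximalIdeal A) A ∧ Function.Injective ψ ∧ IsLocalHom ψ ∧
      ∀ a, χ (residue A (ψ a)) = φ₀ a := by
  classical
  obtain ⟨ϖ, hϖ⟩ := IsDiscreteValuationRing.exists_irreducible A₀
  have hϖ0 : ϖ ≠ 0 := hϖ.ne_zero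
  have hmax₀ : maximalIdeal A₀ = Ideal.span {ϖ} := hϖ.maximalIdeal_eq
  obtain ⟨R', _, f, φ', hW, ⟨hloc, hlh⟩, hcomp, hsurj, hN⟩ :=
    Groth.Agent.H80.ResExt.main A₀ φ₀
  haveI : IsNoetherianRing R' := hN inferInstance
  have hmaxR' : maximalIdeal R' = Ideal.span {f ϖ} := by
    rw [← hW.map_maximalIdeal, hmax₀, Ideal.map_span, Set.image_singleton]
  let Λ := AdicCompletion (maximalIdeal R') R'
  let ι : R' →+* Λ := algebraMap R' Λ
  have hmaxΛ : maximalIdeal Λ = Ideal.span {ι (f ϖ)} := by
    have h1 : (maximalIdeal R').map (algebraMap R' Λ) = Ideal.span {ι (f ϖ)} := by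
      refine (congrArg (Ideal.map (algebraMap R' Λ)) hmaxR').trans ?_
      rw [Ideal.map_span, Set.image_singleton]
    rw [← h1]
    exact AdicCompletion.maximalIdeal_eq_map
  letI algRR' : Algebra A₀ R' := f.toAlgebra
  haveI : Module.Flat A₀ R' := hW.flat
  haveI : Module.Flat A₀ Λ := Module.Flat.trans A₀ R' Λ
  have halg : algebraMap A₀ Λ ϖ = ι (f ϖ) := IsScalarTower.algebraMap_apply A₀ R' Λ ϖ
  have hreg : ι (f ϖ) ∈ nonZeroDivisors Λ := by
    have h1 : IsSMulRegular A₀ ϖ := by
      intro a b hab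
      exact mul_left_cancel₀ hϖ0 hab
    have h2 : IsSMulRegular Λ (algebraMap A₀ Λ ϖ) := IsSMulRegular.of_flat h1
    rw [halg] at h2
    rw [mem_nonZeroDivisors_iff_right]
    intro z hz
    apply h2
    simp only [smul_eq_mul, mul_zero]
    rw [mul_comm]
    exact hz
  haveI : IsNoetherianRing Λ :=
    Groth.Agent.H20.isNoetherianRing_adicCompletion_of_fg (maximalIdeal R')
      (IsNoetherian.noetherian _)
  haveI hdom : IsDomain Λ := Groth.Agent.H80.DvrOfPrincipal.isDomain (ι (f ϖ)) hmaxΛ hreg
  have hdvr : IsDiscreteValuationRing Λ :=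
    Groth.Agent.H80.DvrOfPrincipal.isDiscreteValuationRing (ι (f ϖ)) hmaxΛ hreg hdom
  -- the residue field
  have hbij := AdicCompletion.residueField_map_bijective R'
  let e1 : ResidueField R' ≃+* ResidueField Λ := RingEquiv.ofBijective _ hbij
  haveI : IsLocalHom φ' := hlh
  let ψ' : ResidueField R' →+* Ω := ResidueField.lift φ'
  have hψbij : Function.Bijective ψ' := by
    refine ⟨ψ'.injective, fun y => ?_⟩
    obtain ⟨x, rfl⟩ := hsurj y
    exact ⟨residue R' x, ResidueField.lift_residue_apply φ' x⟩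
  let e2 : ResidueField R' ≃+* Ω := RingEquiv.ofBijective ψ' hψbij
  let χ : ResidueField Λ ≃+* Ω := e1.symm.trans e2
  -- injectivity
  have hfinj : Function.Injective f := by
    haveI : IsLocalHom (algebraMap A₀ R') := hW.isLocalHom
    haveI : Module.FaithfullyFlat A₀ R' := Module.FaithfullyFlat.of_flat_of_isLocalHom
    exact FaithfulSMul.algebraMap_injective A₀ R'
  have hιinj : Function.Injective ι := by
    intro a b hab
    change algebraMap R' Λ a = algebraMap R' Λ b at hab
    rw [AdicCompletion.algebraMap_apply, AdicCompletion.algebraMap_apply] at hab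
    exact AdicCompletion.of_injective (maximalIdeal R') R' hab
  haveI hιloc : IsLocalHom ι := inferInstanceAs (IsLocalHom (algebraMap R' Λ))
  haveI hfloc : IsLocalHom f := hW.isLocalHom
  refine ⟨Λ, inferInstance, hdom, hdvr, ι.comp f, χ, inferInstance, hιinj.comp hfinj,
    RingHom.isLocalHom_comp ι f, fun a => ?_⟩
  change e2 (e1.symm (residue Λ (ι (f a)))) = φ₀ a
  have h1 : e1.symm (residue Λ (ι (f a))) = residue R' (f a) := by
    rw [RingEquiv.symm_apply_eq]
    rfl
  rw [h1]
  change ψ' (residue R' (f a)) = φ₀ a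
  rw [ResidueField.lift_residue_apply, ← hcomp]
  rfl

end Groth.Agent.H80.UnivOpenLift
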