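import Mathlib
import Groth.Agent.H22.DVRDom
import Groth.Agent.H80.UnivOpenLift2

/-!
# A discrete valuation ring dominating a local ring inside a finite extension, with
algebraically closed residue field (helper80)
-/

set_option autoImplicit false
set_option linter.style.haveILetI false
set_option linter.unusedSectionVars false

universe u

open IsLocalRing

namespace Groth.Agent.H80.GeomPts

theorem exists_dvr_of_theta (O : Type u) [CommRing O] [IsLocalRing O] [IsNoetherianRing O]
    (k' : Type u) [Field k'] (θ : O →+* k')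
    (hfrac : ∀ a : k', ∃ o₁ o₂ : O, θ o₂ ≠ 0 ∧ a * θ o₂ = θ o₁)
    (hnon : ∃ t ∈ maximalIdeal O, θ t ≠ 0)
    (S' : Finset (AlgebraicClosure k')) :
    ∃ (A : Type u) (_ : CommRing A) (_ : IsDomain A) (_ : IsDiscreteValuationRing A)
      (φA : O →+* A) (ι : IntermediateField.adjoin k' (S' : Set (AlgebraicClosure k')) →+*
        FractionRing A),
      IsLocalHom φA ∧ IsAlgClosed (ResidueField A) ∧
      ∀ o : O, ι (algebraMap k' _ (θ o)) = algebraMap A (FractionRing A) (φA o) := by
  classical
  let E' : IntermediateField k' (AlgebraicClosure k') :=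
    IntermediateField.adjoin k' (S' : Set (AlgebraicClosure k'))
  let θ' : O →+* E' := (algebraMap k' E').comp θ
  let I : Ideal O := RingHom.ker θ'
  haveI hIprime : I.IsPrime := RingHom.ker_isPrime θ'
  let P := O ⧸ I
  let κ : P →+* E' := RingHom.kerLift θ'
  have hκinj : Function.Injective κ := RingHom.kerLift_injective θ'
  letI : Algebra P E' := κ.toAlgebra
  haveI : FaithfulSMul P E' := (faithfulSMul_iff_algebraMap_injective P E').mpr hκinj
  haveI : IsLocalRing P :=
    IsLocalRing.of_surjective' (Ideal.Quotient.mk I) Ideal.Quotient.mk_surjective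
  have hIle : I ≤ maximalIdeal O := IsLocalRing.le_maximalIdeal hIprime.ne_top
  -- nonunits of `O` map to nonunits of `P`
  have hnonunit : ∀ o ∈ maximalIdeal O, Ideal.Quotient.mk I o ∈ maximalIdeal P := by
    intro o ho
    rw [mem_maximalIdeal, mem_nonunits_iff]
    intro hu
    obtain ⟨u, hu⟩ := hu.exists_right_inv
    obtain ⟨u', rfl⟩ := Ideal.Quotient.mk_surjective u
    have h1 : o * u' - 1 ∈ I := by
      rw [← Ideal.Quotient.eq_zero_iff_mem, map_sub, map_mul, map_one, hu, sub_self]
    have h2 : o * u' ∈ maximalIdeal O := Ideal.mul_mem_right _ _ ho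
    have h3 : (1 : O) ∈ maximalIdeal O := by
      have := (maximalIdeal O).sub_mem h2 (hIle h1)
      simpa using this
    exact (maximalIdeal.isMaximal O).ne_top ((Ideal.eq_top_iff_one _).mpr h3)
  -- `P` is not a field
  obtain ⟨t, htm, htθ⟩ := hnon
  have hP : ¬ IsField P := by
    intro hf
    have hmk : Ideal.Quotient.mk I t ≠ 0 := by
      rw [Ne, Ideal.Quotient.eq_zero_iff_mem, RingHom.mem_ker]
      change algebraMap k' E' (θ t) ≠ 0
      rwa [Ne, map_eq_zero_iff _ (algebraMap k' E').injective]
    obtain ⟨u, hu⟩ := hf.mul_inv_cancel hmk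
    have h1 := hnonunit t htm
    rw [mem_maximalIdeal, mem_nonunits_iff] at h1
    exact h1 (IsUnit.of_mul_eq_one u hu)
  -- generators
  let s : Finset E' := S'.attach.image
    (fun x => ⟨x.1, IntermediateField.subset_adjoin k' _ (Finset.mem_coe.mpr x.2)⟩)
  have hs : Subfield.closure (Set.range (algebraMap P E') ∪ (s : Set E')) = ⊤ := by
    rw [eq_top_iff]
    rintro ⟨x, hx⟩ -
    have key : ∀ z (hz : z ∈ IntermediateField.adjoin k' (S' : Set (AlgebraicClosure k'))),
        (⟨z, hz⟩ : E') ∈ Subfield.closure (Set.range (algebraMap P E') ∪ (s : Set E')) := by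
      intro z hz
      induction hz using IntermediateField.adjoin_induction with
      | mem z hz =>
        apply Subfield.subset_closure
        right
        rw [Finset.mem_coe, Finset.mem_image]
        exact ⟨⟨z, Finset.mem_coe.mp hz⟩, Finset.mem_attach _ _, rfl⟩
      | algebraMap a =>
        obtain ⟨o₁, o₂, h0, h⟩ := hfrac a
        have hmem : ∀ o : O, θ' o ∈
            Subfield.closure (Set.range (algebraMap P E') ∪ (s : Set E')) := fun o =>
          Subfield.subset_closure (Or.inl ⟨Ideal.Quotient.mk I o, rfl⟩)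
        have h0' : θ' o₂ ≠ 0 := by
          change algebraMap k' E' (θ o₂) ≠ 0
          rwa [Ne, map_eq_zero_iff _ (algebraMap k' E').injective]
        have heq : (⟨algebraMap k' (AlgebraicClosure k') a, IntermediateField.algebraMap_mem _ a⟩ :
            E') = θ' o₁ * (θ' o₂)⁻¹ := by
          rw [eq_mul_inv_iff_mul_eq₀ h0']
          change algebraMap k' E' a * algebraMap k' E' (θ o₂) = algebraMap k' E' (θ o₁)
          rw [← map_mul, h]
        rw [heq]
        exact Subfield.mul_mem _ (hmem o₁) (Subfield.inv_mem _ (hmem o₂))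
      | add z w hz hw ihz ihw => exact Subfield.add_mem _ ihz ihw
      | inv z hz ih => exact Subfield.inv_mem _ ih
      | mul z w hz hw ihz ihw => exact Subfield.mul_mem _ ihz ihw
    exact key x hx
  obtain ⟨R, hRdvr, hRmem, hRlt⟩ := Groth.Agent.H22.DVRDom.exists_dvr_dominating hP s hs
  haveI := hRdvr
  -- the map `O → R`
  let φ₁ : O →+* R := θ'.codRestrict R (fun o => hRmem (Ideal.Quotient.mk I o))
  have hφ₁ : ∀ o, ((φ₁ o : R) : E') = θ' o := fun o => rfl
  haveI hφ₁loc : IsLocalHom φ₁ := by
    constructor
    intro o ho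
    by_contra hnu
    have hom : o ∈ maximalIdeal O := (mem_maximalIdeal o).mpr hnu
    have hlt := hRlt _ (hnonunit o hom)
    have hmem : φ₁ o ∈ maximalIdeal R := (R.valuation_lt_one_iff (φ₁ o)).mpr hlt
    exact (mem_maximalIdeal _).mp hmem ho
  -- enlarge the residue field
  let Ω := AlgebraicClosure (ResidueField R)
  let φ₀ : R →+* Ω := (algebraMap (ResidueField R) Ω).comp (residue R)
  haveI : IsLocalHom φ₀ := by
    constructor
    intro a ha
    have h1 : residue R a ≠ 0 := by
      intro h
      have : φ₀ a = 0 := by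
        change algebraMap (ResidueField R) Ω (residue R a) = 0
        rw [h, map_zero]
      rw [this] at ha
      exact not_isUnit_zero ha
    by_contra hnu
    exact h1 ((residue_eq_zero_iff a).mpr ((mem_maximalIdeal a).mpr hnu))
  obtain ⟨A, _, _, _, ψ, χ, -, hψinj, hψloc, -⟩ :=
    Groth.Agent.H80.UnivOpenLift.exists_complete_ext R Ω φ₀
  haveI := hψloc
  have hginj : Function.Injective ((algebraMap A (FractionRing A)).comp ψ) :=
    (IsFractionRing.injective A (FractionRing A)).comp hψinj
  let ι : E' →+* FractionRing A := IsFractionRing.lift (A := R) (K := E') hginj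
  refine ⟨A, inferInstance, inferInstance, inferInstance, ψ.comp φ₁, ι,
    RingHom.isLocalHom_comp ψ φ₁, ?_, ?_⟩
  · haveI : IsAlgClosed Ω := inferInstance
    exact IsAlgClosed.of_ringEquiv Ω (ResidueField A) χ.symm
  · intro o
    have h1 : algebraMap k' E' (θ o) = algebraMap R E' (φ₁ o) := rfl
    rw [h1]
    exact IsFractionRing.lift_algebraMap hginj (φ₁ o)

end Groth.Agent.H80.GeomPts
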