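import Mathlib
import Groth.Agent.H80.GeomPts4
import Groth.Agent.H80.GeomPts5

/-!
# A discrete valuation ring realizing the geometric numbers of points of two fibres (helper80)
-/

set_option autoImplicit false
set_option linter.style.haveILetI false
set_option linter.unusedSectionVars false
set_option maxHeartbeats 400000

universe u

open CategoryTheory CategoryTheory.Limits AlgebraicGeometry TensorProduct IsLocalRing

namespace Groth.Agent.H80.GeomPts

/-- generic point: the residue map at a point factors. -/
theorem fromSpecResidueField_comp_eq {Y : Scheme.{u}} {y y' : Y} (hgen : y' ⤳ y)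
    (A : Type u) [CommRing A] (φA : Y.presheaf.stalk y →+* A)
    (p : Spec (CommRingCat.of A))
    (ρ : A →+* (Spec (CommRingCat.of A)).residueField p)
    (hρ : Spec.map (CommRingCat.ofHom ρ) = (Spec (CommRingCat.of A)).fromSpecResidueField p)
    (φ : Y.residueField y' →+* (Spec (CommRingCat.of A)).residueField p)
    (h : ∀ o, φ (theta hgen o) = ρ (φA o)) :
    (Spec (CommRingCat.of A)).fromSpecResidueField p ≫
        (Spec.map (CommRingCat.ofHom φA) ≫ Y.fromSpecStalk y) =
      Spec.map (CommRingCat.ofHom φ) ≫ Y.fromSpecResidueField y' := by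
  rw [← hρ, ← SpecMap_theta hgen, ← Category.assoc, ← Category.assoc, ← Spec.map_comp,
    ← Spec.map_comp]
  congr 2
  ext o
  exact (h o).symm

/-- closed point version. -/
theorem fromSpecResidueField_comp_eq' {Y : Scheme.{u}} {y : Y}
    (A : Type u) [CommRing A] (φA : Y.presheaf.stalk y →+* A)
    (p : Spec (CommRingCat.of A))
    (ρ : A →+* (Spec (CommRingCat.of A)).residueField p)
    (hρ : Spec.map (CommRingCat.ofHom ρ) = (Spec (CommRingCat.of A)).fromSpecResidueField p)
    (φ : Y.residueField y →+* (Spec (CommRingCat.of A)).residueField p)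
    (h : ∀ o, φ (Y.residue y o) = ρ (φA o)) :
    (Spec (CommRingCat.of A)).fromSpecResidueField p ≫
        (Spec.map (CommRingCat.ofHom φA) ≫ Y.fromSpecStalk y) =
      Spec.map (CommRingCat.ofHom φ) ≫ Y.fromSpecResidueField y := by
  rw [← hρ]
  unfold Scheme.fromSpecResidueField
  rw [← Category.assoc, ← Category.assoc, ← Spec.map_comp, ← Spec.map_comp]
  congr 2
  ext o
  exact (h o).symm

/-- the image of a point, from the factorization of its residue map. -/
theorem image_eq_of_factor {T Y : Scheme.{u}} (g : T ⟶ Y) (p : T) (y : Y)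
    (φ : Y.residueField y ⟶ T.residueField p)
    (h : T.fromSpecResidueField p ≫ g = Spec.map φ ≫ Y.fromSpecResidueField y) :
    g.base p = y := by
  let pt : Spec (T.residueField p) := closedPoint (T.residueField p)
  have h1 : (T.fromSpecResidueField p).base pt = p := Scheme.fromSpecResidueField_apply _ _
  have h2 : g.base p = (T.fromSpecResidueField p ≫ g).base pt := by
    rw [Scheme.Hom.comp_base, TopCat.comp_app, h1]
  rw [h2, h, Scheme.Hom.comp_base, TopCat.comp_app]
  exact Scheme.fromSpecResidueField_apply _ _

section Count'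

variable {X Y : Scheme.{u}} (f : X ⟶ Y) [LocallyQuasiFinite f] [QuasiCompact f]

/-- ring-hom form of `encard_fiber_eq_geomN`. -/
theorem encard_fiber_eq_geomN' {T : Scheme.{u}} (g : T ⟶ Y) (p : T) (y : Y)
    (φ : Y.residueField y →+* T.residueField p)
    (hφ : T.fromSpecResidueField p ≫ g =
      Spec.map (CommRingCat.ofHom φ) ≫ Y.fromSpecResidueField y)
    (E : IntermediateField (Y.residueField y) (AlgebraicClosure (Y.residueField y)))
    (hE : letI := (fibHom f y).hom.toAlgebra
      ∀ (σ : Γ(f.fiber y, ⊤) →ₐ[Y.residueField y] AlgebraicClosure (Y.residueField y))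
        (c : Γ(f.fiber y, ⊤)), σ c ∈ E)
    (j : E →+* T.residueField p) (hj : ∀ a : Y.residueField y, j (algebraMap _ E a) = φ a) :
    ENat.card ↥((pullback.snd f g).fiber p) = (geomN f y : ℕ∞) :=
  encard_fiber_eq_geomN f g p y (CommRingCat.ofHom φ) hφ E hE j hj

/-- the case of a field containing an algebraic closure. -/
theorem encard_fiber_eq_geomN_top {T : Scheme.{u}} (g : T ⟶ Y) (p : T) (y : Y)
    (φ : Y.residueField y →+* T.residueField p)
    (hφ : T.fromSpecResidueField p ≫ g =
      Spec.map (CommRingCat.ofHom φ) ≫ Y.fromSpecResidueField y)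
    (j : AlgebraicClosure (Y.residueField y) →+* T.residueField p)
    (hj : ∀ a : Y.residueField y, j (algebraMap _ _ a) = φ a) :
    ENat.card ↥((pullback.snd f g).fiber p) = (geomN f y : ℕ∞) :=
  encard_fiber_eq_geomN' f g p y φ hφ ⊤ (fun _ _ => IntermediateField.mem_top)
    (j.comp (IntermediateField.val ⊤).toRingHom) (fun a => hj a)

end Count'

/-- extending a ring map to a field along `E' → Frac A`. -/
theorem exists_extend {A : Type u} [CommRing A] [IsDomain A] {E' : Type u} [Field E']
    (ι : E' →+* FractionRing A) {L : Type u} [Field L] (ρ : A →+* L)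
    (hρ : Function.Injective ρ) :
    ∃ J : E' →+* L, ∀ (x : E') (a : A), ι x = algebraMap A (FractionRing A) a → J x = ρ a := by
  refine ⟨(IsFractionRing.lift hρ : FractionRing A →+* L).comp ι, fun x a h => ?_⟩
  rw [RingHom.comp_apply, h, IsFractionRing.lift_algebraMap]

theorem main {X Y : Scheme.{u}} [IsLocallyNoetherian Y] (f : X ⟶ Y)
    [LocallyQuasiFinite f] [QuasiCompact f] (y y' : Y) (hne : y' ≠ y) (hgen : y' ⤳ y) :
    ∃ (A : Type u) (_ : CommRing A) (_ : IsDomain A) (_ : IsDiscreteValuationRing A)
      (g : Spec (CommRingCat.of A) ⟶ Y),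
      g.base (IsLocalRing.closedPoint A) = y ∧
      g.base (genericPoint (Spec (CommRingCat.of A))) = y' ∧
      MoreMor.nGeomConnComp f y =
        ENat.card ↥((pullback.snd f g).fiber (IsLocalRing.closedPoint A)) ∧
      MoreMor.nGeomConnComp f y' =
        ENat.card ↥((pullback.snd f g).fiber (genericPoint (Spec (CommRingCat.of A)))) := by
  classical
  letI algC' : Algebra (Y.residueField y') Γ(f.fiber y', ⊤) := (fibHom f y').hom.toAlgebra
  haveI : Module.Finite (Y.residueField y') Γ(f.fiber y', ⊤) := fibHom_finite f y'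
  obtain ⟨S', hS'⟩ := exists_splitting (Y.residueField y') Γ(f.fiber y', ⊤)
  obtain ⟨A, _, _, _, φA, ι, hφAloc, hAC, hι⟩ :=
    exists_dvr_of_theta (Y.presheaf.stalk y) (Y.residueField y') (theta hgen) (theta_frac hgen)
      (theta_exists_nonunit hgen hne) S'
  haveI := hφAloc
  haveI := hAC
  -- the generic point
  obtain ⟨ρη, hρη, hkerη⟩ := exists_residue_hom A (genericPoint (Spec (CommRingCat.of A)))
  have hη : (genericPoint (Spec (CommRingCat.of A))).asIdeal = ⊥ := by
    rw [genericPoint_eq_bot_of_affine]
    rfl
  have hρηinj : Function.Injective ρη :=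
    (RingHom.injective_iff_ker_eq_bot _).mpr (hkerη.trans hη)
  obtain ⟨Jη, hJη⟩ := exists_extend ι ρη hρηinj
  let φη : Y.residueField y' →+*
      (Spec (CommRingCat.of A)).residueField (genericPoint (Spec (CommRingCat.of A))) :=
    Jη.comp (algebraMap (Y.residueField y') _)
  have hSη := fromSpecResidueField_comp_eq hgen A φA _ ρη hρη φη (fun o => hJη _ _ (hι o))
  -- the closed point
  obtain ⟨ρs, hρs, hkers⟩ := exists_residue_hom A (closedPoint A)
  have hkers' : RingHom.ker ρs = maximalIdeal A := hkers
  haveI hρsloc : IsLocalHom ρs := by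
    constructor
    intro a ha
    by_contra hnu
    have : a ∈ RingHom.ker ρs := by rw [hkers']; exact (mem_maximalIdeal a).mpr hnu
    rw [RingHom.mem_ker] at this
    rw [this] at ha
    exact not_isUnit_zero ha
  haveI hcomploc : IsLocalHom (ρs.comp φA) := RingHom.isLocalHom_comp ρs φA
  let φs : Y.residueField y →+* (Spec (CommRingCat.of A)).residueField (closedPoint A) :=
    ResidueField.lift (ρs.comp φA)
  have hSs := fromSpecResidueField_comp_eq' A φA _ ρs hρs φs
    (fun o => ResidueField.lift_residue_apply _ _)
  refine ⟨A, inferInstance, inferInstance, inferInstance,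
    Spec.map (CommRingCat.ofHom φA) ≫ Y.fromSpecStalk y, ?_, ?_, ?_, ?_⟩
  · exact image_eq_of_factor (T := Spec (CommRingCat.of A))
      (Spec.map (CommRingCat.ofHom φA) ≫ Y.fromSpecStalk y) (closedPoint A) y
      (CommRingCat.ofHom φs) hSs
  · exact image_eq_of_factor (T := Spec (CommRingCat.of A))
      (Spec.map (CommRingCat.ofHom φA) ≫ Y.fromSpecStalk y)
      (genericPoint (Spec (CommRingCat.of A))) y' (CommRingCat.ofHom φη) hSη
  · -- closed fibre
    rw [nGeomConnComp_eq]
    symm
    letI : Algebra (Y.residueField y) (ResidueField A) := (ResidueField.map φA).toAlgebra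
    let ιk : AlgebraicClosure (Y.residueField y) →ₐ[Y.residueField y] ResidueField A :=
      IsAlgClosed.lift
    refine encard_fiber_eq_geomN_top f (T := Spec (CommRingCat.of A))
      (Spec.map (CommRingCat.ofHom φA) ≫ Y.fromSpecStalk y) (closedPoint A) y φs hSs
      ((ResidueField.lift ρs).comp ιk.toRingHom) ?_
    intro a
    change ResidueField.lift ρs (ιk (algebraMap (Y.residueField y) _ a)) = φs a
    rw [ιk.commutes]
    obtain ⟨o, rfl⟩ := residue_surjective a
    change ResidueField.lift ρs (ResidueField.map φA (residue _ o)) =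
      ResidueField.lift (ρs.comp φA) (residue _ o)
    rw [ResidueField.map_residue, ResidueField.lift_residue_apply,
      ResidueField.lift_residue_apply]
    rfl
  · -- generic fibre
    rw [nGeomConnComp_eq]
    symm
    exact encard_fiber_eq_geomN' f (T := Spec (CommRingCat.of A))
      (Spec.map (CommRingCat.ofHom φA) ≫ Y.fromSpecStalk y)
      (genericPoint (Spec (CommRingCat.of A))) y' φη hSη _ hS' Jη (fun a => rfl)

end Groth.Agent.H80.GeomPts
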