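import Groth.Agent.H80.HensMLSum
import Groth.Agent.H36.KapDecomp

/-!
# Associated primes of `N ⊗ M` for `N` countably generated Mittag-Leffler over a henselian local ring
-/

set_option autoImplicit false
universe u
open scoped Classical
open TensorProduct IsLocalRing

namespace Groth.Agent.H80.HensMLAss

open Groth.Agent.H36

section
variable {R S : Type u} [CommRing R] [CommRing S] [Algebra R S]
variable {N : Type u} [AddCommGroup N] [Module S N] [Module R N] [IsScalarTower R S N]
variable {M : Type u} [AddCommGroup M] [Module R M]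

/-- multiplication by `c : S` as an `R`-linear endomorphism of `N` -/
def cmul (c : S) : N →ₗ[R] N where
  toFun x := c • x
  map_add' := smul_add c
  map_smul' r x := smul_comm c r x

theorem cmul_rTensor (c : S) (w : N ⊗[R] M) : (cmul (R := R) c).rTensor M w = c • w := by
  induction w using TensorProduct.induction_on with
  | zero => simp
  | tmul n m => rw [LinearMap.rTensor_tmul, TensorProduct.smul_tmul']; rfl
  | add x y hx hy => rw [map_add, hx, hy, smul_add]

/-- elements of `I S` act through `I` after any `R`-linear map -/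
theorem map_smul_mem_smul_top (I : Ideal R) {P : Type u} [AddCommGroup P] [Module R P]
    (π : N →ₗ[R] P) (c : S) (hc : c ∈ I.map (algebraMap R S)) (x : N) :
    π (c • x) ∈ I • (⊤ : Submodule R P) := by
  induction hc using Submodule.span_induction generalizing x with
  | mem c hc =>
    obtain ⟨r, hr, rfl⟩ := hc
    rw [algebraMap_smul, map_smul]
    exact Submodule.smul_mem_smul hr Submodule.mem_top
  | zero => rw [zero_smul, map_zero]; exact Submodule.zero_mem _
  | add c d _ _ hc hd => rw [add_smul, map_add]; exact Submodule.add_mem _ (hc x) (hd x)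
  | smul s c _ hc =>
    rw [smul_eq_mul, mul_comm, mul_smul]
    exact hc (s • x)

omit [Module S N] [IsScalarTower R S N] in
/-- every tensor comes from a finite partial sum -/
theorem exists_finset_mem_range {ι : Type u} (Ni : ι → Submodule R N) (hsup : ⨆ i, Ni i = ⊤)
    (z : N ⊗[R] M) :
    ∃ F : Finset ι, z ∈ LinearMap.range ((setSup Ni (F : Set ι)).subtype.rTensor M) := by
  have hmono : ∀ F F' : Finset ι, F ⊆ F' →
      LinearMap.range ((setSup Ni (F : Set ι)).subtype.rTensor M) ≤
        LinearMap.range ((setSup Ni (F' : Set ι)).subtype.rTensor M) := by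
    intro F F' h
    have hle : setSup Ni (F : Set ι) ≤ setSup Ni (F' : Set ι) :=
      setSup_mono Ni (Finset.coe_subset.2 h)
    rintro _ ⟨w, rfl⟩
    refine ⟨(Submodule.inclusion hle).rTensor M w, ?_⟩
    rw [← LinearMap.comp_apply, ← LinearMap.rTensor_comp, Submodule.subtype_comp_inclusion]
  induction z using TensorProduct.induction_on with
  | zero => exact ⟨∅, Submodule.zero_mem _⟩
  | tmul n m =>
    have hn : n ∈ ⨆ i, Ni i := by rw [hsup]; trivial
    obtain ⟨F, hF⟩ := Submodule.exists_finset_of_mem_iSup Ni hn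
    exact ⟨F, ⟨(⟨n, hF⟩ : setSup Ni (F : Set ι)) ⊗ₜ m, LinearMap.rTensor_tmul _ _ _ _⟩⟩
  | add x y hx hy =>
    obtain ⟨F, hF⟩ := hx
    obtain ⟨F', hF'⟩ := hy
    exact ⟨F ∪ F', Submodule.add_mem _ (hmono _ _ Finset.subset_union_left hF)
      (hmono _ _ Finset.subset_union_right hF')⟩

end

theorem main {R S : Type u} [CommRing R] [HenselianLocalRing R] [CommRing S] [Algebra R S]
    (N : Type u) [AddCommGroup N] [Module S N] [Module R N] [IsScalarTower R S N]
    (hcg : CAlg.IsCountablyGenerated R N) (hML : CAlg.IsMittagLeffler R N) (M : Type u)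
    [AddCommGroup M] [Module R M] (q : Ideal S) [q.IsPrime]
    (hq : q ∈ associatedPrimes S (N ⊗[R] M)) :
    q ⊔ (maximalIdeal R).map (algebraMap R S) ≠ ⊤ := by
  intro htop
  obtain ⟨hqp, z, hz⟩ := hq
  have hmem : ∀ s : S, s ∈ Submodule.colon (⊥ : Submodule S (N ⊗[R] M)) {z} ↔ s • z = 0 := by
    intro s
    rw [Submodule.mem_colon_singleton, Submodule.mem_bot]
  have hz0 : z ≠ 0 := by
    rintro rfl
    apply hqp.ne_top
    rw [hz, Ideal.radical_eq_top, eq_top_iff]
    intro s _
    rw [hmem, smul_zero]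
  have h1 : (1 : S) ∈ q ⊔ (maximalIdeal R).map (algebraMap R S) := by rw [htop]; trivial
  obtain ⟨g, hg, a, ha, hga⟩ := Submodule.mem_sup.1 h1
  have hgrad : g ∈ (Submodule.colon (⊥ : Submodule S (N ⊗[R] M)) {z}).radical := hz ▸ hg
  obtain ⟨n, hn⟩ := hgrad
  have hgn : g ^ n • z = 0 := (hmem _).1 hn
  set mS := (maximalIdeal R).map (algebraMap R S) with hmS
  have hc : 1 - g ^ n ∈ mS := by
    rw [← Ideal.Quotient.eq]
    have h2 : Ideal.Quotient.mk mS 1 = Ideal.Quotient.mk mS g := by
      rw [Ideal.Quotient.eq, ← hga, add_sub_cancel_left]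
      exact ha
    rw [map_pow, ← h2, map_one, one_pow]
  set c := 1 - g ^ n with hcdef
  have hcz : c • z = z := by rw [hcdef, sub_smul, one_smul, hgn, sub_zero]
  -- decomposition of `N`
  obtain ⟨ι, Ni, hint, hfp⟩ := Groth.Agent.H80.HensMLSum.main R N hcg hML
  have hind := hint.submodule_iSupIndep
  have hsup := hint.submodule_iSup_eq_top
  obtain ⟨F, hzmem⟩ := exists_finset_mem_range (M := M) Ni hsup z
  set NF := setSup Ni (F : Set ι) with hNF
  obtain ⟨zF, hzF⟩ := hzmem
  have hNFfin : Module.Finite R NF := by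
    rw [Module.Finite.iff_fg]
    exact Submodule.fg_biSup F Ni fun i _ => Module.Finite.iff_fg.1 inferInstance
  have hcompl : IsCompl NF (setSup Ni (F : Set ι)ᶜ) := (isCompl_setSup_compl Ni hind hsup _).symm
  let π : N →ₗ[R] NF := NF.projectionOnto _ hcompl
  have hπ : π ∘ₗ NF.subtype = LinearMap.id := Submodule.projectionOnto_comp_subtype hcompl
  let φ : NF →ₗ[R] NF := π ∘ₗ cmul (R := R) c ∘ₗ NF.subtype
  have hφz : φ.rTensor M zF = zF := by
    change ((π ∘ₗ cmul (R := R) c ∘ₗ NF.subtype).rTensor M) zF = zF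
    rw [LinearMap.rTensor_comp, LinearMap.rTensor_comp, LinearMap.comp_apply,
      LinearMap.comp_apply, hzF, cmul_rTensor, hcz, ← hzF, ← LinearMap.comp_apply,
      ← LinearMap.rTensor_comp, hπ, LinearMap.rTensor_id, LinearMap.id_apply]
  have hφm : ∀ x : NF, φ x ∈ (maximalIdeal R) • (⊤ : Submodule R NF) := fun x =>
    map_smul_mem_smul_top (maximalIdeal R) π c hc (x : N)
  let ψ : NF →ₗ[R] NF := LinearMap.id - φ
  have hψsurj : Function.Surjective ψ := by
    rw [← LinearMap.range_eq_top, eq_top_iff]
    apply Submodule.le_of_le_smul_of_le_jacobson_bot (I := maximalIdeal R)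
      (Module.Finite.fg_top)
    · rw [jacobson_eq_maximalIdeal ⊥ bot_ne_top]
    · intro x _
      have : x = ψ x + φ x := by simp [ψ]
      rw [this]
      exact Submodule.add_mem_sup ⟨x, rfl⟩ (hφm x)
  have hψinj : Function.Injective ψ :=
    OrzechProperty.injective_of_surjective_endomorphism ψ hψsurj
  let e : NF ≃ₗ[R] NF := LinearEquiv.ofBijective ψ ⟨hψinj, hψsurj⟩
  have h3 : (e.rTensor M) zF = 0 := by
    change (ψ.rTensor M) zF = 0
    change ((LinearMap.id - φ).rTensor M) zF = 0
    rw [LinearMap.rTensor_sub, LinearMap.sub_apply, LinearMap.rTensor_id, LinearMap.id_apply,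
      hφz, sub_self]
  have hzF0 : zF = 0 := by
    apply (e.rTensor M).injective
    rw [h3, map_zero]
  apply hz0
  rw [← hzF, hzF0, map_zero]

end Groth.Agent.H80.HensMLAss
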