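import Groth.Agent.H80.MLCountEndo
import Groth.Agent.H32.ML2
import Groth.Agent.H3.FactorLiftMain
import Groth.Agent.H3.PairFactorMain

/-!
# Countably generated Mittag-Leffler modules over a henselian local ring

They are direct sums of finitely presented modules.
-/

set_option autoImplicit false
universe u
open scoped Classical
open TensorProduct Polynomial

namespace Groth.Agent.H80.HensMLDecomp

open Groth.Agent.H32 Groth.Agent.H80.MLCountEndo

section basics
variable (R : Type u) [CommRing R]

/-- a retract of a finitely presented module is finitely presented -/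
theorem fp_of_retract {P N : Type u} [AddCommGroup P] [Module R P]
    [AddCommGroup N] [Module R N] [Module.FinitePresentation R P]
    (φ : N →ₗ[R] P) (p : P →ₗ[R] N) (h : ∀ n, p (φ n) = n) : Module.FinitePresentation R N := by
  refine Module.finitePresentation_of_surjective p (fun n => ⟨φ n, h n⟩) ?_
  have hker : LinearMap.ker p = LinearMap.range (LinearMap.id - φ ∘ₗ p) := by
    ext x
    rw [LinearMap.mem_ker, LinearMap.mem_range]
    constructor
    · intro hx
      exact ⟨x, by simp [hx]⟩
    · rintro ⟨y, rfl⟩
      simp [h]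
  rw [hker, LinearMap.range_eq_map]
  exact Module.Finite.fg_top.map _

/-- finitely generated modules are countably generated -/
theorem isCountablyGenerated_of_finite (N : Type u) [AddCommGroup N] [Module R N]
    [Module.Finite R N] : CAlg.IsCountablyGenerated R N := by
  obtain ⟨s, hs⟩ := (Module.Finite.fg_top : (⊤ : Submodule R N).FG)
  exact ⟨s, s.countable_toSet, hs⟩

/-- **A finitely generated Mittag-Leffler module is finitely presented.** -/
theorem finitePresentation_of_finite_of_isMittagLeffler (N : Type u) [AddCommGroup N] [Module R N]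
    [Module.Finite R N] (hML : CAlg.IsMittagLeffler R N) : Module.FinitePresentation R N := by
  obtain ⟨ι, _, _, _, _, G, _, _, t, _, hfp, ⟨e⟩⟩ := Groth.Agent.H77.FPLim.main28 R N
  have hML' : CAlg.IsMittagLeffler R (Module.DirectLimit G t) :=
    isMittagLeffler_of_equiv R e.symm hML
  have hc' : CAlg.IsCountablyGenerated R (Module.DirectLimit G t) :=
    isCountablyGenerated_of_surjective e.symm.toLinearMap e.symm.surjective
      (isCountablyGenerated_of_finite R N)
  have hfin : Module.Finite R (Module.DirectLimit G t) := Module.Finite.equiv e.symm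
  -- a surjective stage
  obtain ⟨gens, hgens⟩ := (Module.Finite.fg_top : (⊤ : Submodule R (Module.DirectLimit G t)).FG)
  choose idx x hx using fun p : Module.DirectLimit G t => Module.DirectLimit.exists_of p
  obtain ⟨i₀, hi₀⟩ := Finset.exists_le (gens.image idx)
  have hrange : ∀ p : Module.DirectLimit G t, ∃ y : G i₀, Module.DirectLimit.of R ι G t i₀ y = p := by
    have hle : (⊤ : Submodule R (Module.DirectLimit G t)) ≤
        LinearMap.range (Module.DirectLimit.of R ι G t i₀) := by
      rw [← hgens]
      apply Submodule.span_le.2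
      intro p hp
      have hle : idx p ≤ i₀ := hi₀ _ (Finset.mem_image_of_mem idx hp)
      refine ⟨t (idx p) i₀ hle (x p), ?_⟩
      rw [Module.DirectLimit.of_f]
      exact hx p
    intro p
    exact hle (Submodule.mem_top : p ∈ ⊤)
  obtain ⟨i₁, h01, z, hz⟩ := exists_retract_of_directLimit G t hML' hc' i₀
  have hretr : ∀ p : Module.DirectLimit G t, Module.DirectLimit.of R ι G t i₁ (z p) = p := by
    intro p
    obtain ⟨y, rfl⟩ := hrange p
    rw [← LinearMap.comp_apply z, hz, Module.DirectLimit.of_f]
  have := hfp i₁
  have h1 : Module.FinitePresentation R (Module.DirectLimit G t) :=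
    fp_of_retract R z (Module.DirectLimit.of R ι G t i₁) hretr
  exact Module.FinitePresentation.of_equiv e

/-- intertwining passes to polynomials -/
theorem aeval_comp_intertwine {Q M : Type u} [AddCommGroup Q] [Module R Q] [AddCommGroup M]
    [Module R M] (c : Q →ₗ[R] M) (a : Module.End R Q) (α : Module.End R M)
    (h : α ∘ₗ c = c ∘ₗ a) (q : R[X]) :
    (aeval α q) ∘ₗ c = c ∘ₗ (aeval a q) := by
  induction q using Polynomial.induction_on' with
  | add p q hp hq => rw [map_add, map_add, LinearMap.add_comp, LinearMap.comp_add, hp, hq]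
  | monomial n r =>
    rw [aeval_monomial, aeval_monomial]
    ext y
    have h1 := LinearMap.congr_fun (Module.End.commute_pow_left_of_commute h n) y
    simp only [LinearMap.comp_apply] at h1
    simp only [LinearMap.comp_apply, Module.End.mul_apply, Module.algebraMap_end_apply, h1,
      map_smul]

/-- polynomials in an endomorphism act on fixed vectors through evaluation at `1` -/
theorem aeval_apply_of_fixed {M : Type u} [AddCommGroup M] [Module R M] (α : Module.End R M)
    {x : M} (hx : α x = x) (q : R[X]) : aeval α q x = q.eval 1 • x := by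
  have hpow : ∀ n : ℕ, (α ^ n) x = x := by
    intro n
    induction n with
    | zero => simp
    | succ n ih => rw [pow_succ, Module.End.mul_apply, hx, ih]
  induction q using Polynomial.induction_on' with
  | add p q hp hq => rw [map_add, LinearMap.add_apply, hp, hq, eval_add, add_smul]
  | monomial n r =>
    rw [aeval_monomial, Module.End.mul_apply, hpow, Module.algebraMap_end_apply, eval_monomial,
      one_pow, mul_one]

end basics

section claim
variable (R : Type u) [CommRing R] [HenselianLocalRing R]

open IsLocalRing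

/-- The splitting claim: every element of a countably generated Mittag-Leffler module over a
henselian local ring lies in a finitely presented direct summand. -/
theorem exists_isCompl_finitePresentation (M : Type u) [AddCommGroup M] [Module R M]
    (hML : CAlg.IsMittagLeffler R M) (hc : CAlg.IsCountablyGenerated R M) (x : M) :
    ∃ N K : Submodule R M, IsCompl N K ∧ x ∈ N ∧ Module.FinitePresentation R N := by
  by_cases hx0 : x = 0
  · refine ⟨⊥, ⊤, isCompl_bot_top, hx0 ▸ Submodule.zero_mem _, ?_⟩
    exact inferInstance
  -- the endomorphism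
  let P : Submodule R M := Submodule.span R {x}
  have hPfin : Module.Finite R P := Module.Finite.span_singleton R x
  obtain ⟨Q, _, _, _, b, c, hbc⟩ := MLCountEndo.main R M hML hc P.subtype
  have hαx : c (b x) = x := by
    have := LinearMap.congr_fun hbc ⟨x, Submodule.mem_span_singleton_self x⟩
    simpa using this
  let α : Module.End R M := c ∘ₗ b
  let a : Module.End R Q := b ∘ₗ c
  have hαx' : α x = x := hαx
  obtain ⟨p, hp, hpa⟩ := LinearMap.exists_monic_and_aeval_eq_zero R a
  have hint := aeval_comp_intertwine R c a α (by rfl)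
  let F : R[X] := p * X
  have hFmonic : F.Monic := hp.mul monic_X
  have hF0 : aeval α F = 0 := by
    change aeval α (p * X) = 0
    rw [map_mul, aeval_X, Module.End.mul_eq_comp]
    change aeval α p ∘ₗ (c ∘ₗ b) = 0
    rw [← LinearMap.comp_assoc, hint, hpa, LinearMap.comp_zero, LinearMap.zero_comp]
  -- `1` is a root of the reduction
  have hF1 : F.eval 1 • x = 0 := by
    rw [← aeval_apply_of_fixed R α hαx', hF0, LinearMap.zero_apply]
  have hF1m : F.eval 1 ∈ maximalIdeal R := by
    by_contra hnot
    have hu : IsUnit (F.eval 1) := by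
      by_contra h
      exact hnot ((mem_maximalIdeal _).2 h)
    obtain ⟨u, hu⟩ := hu
    apply hx0
    have hvu : (↑u⁻¹ : R) * F.eval 1 = 1 := by rw [← hu]; exact u.inv_mul
    have : (↑u⁻¹ : R) • (F.eval 1 • x) = x := by
      rw [smul_smul, hvu, one_smul]
    rw [← this, hF1, smul_zero]
  let Fb : (ResidueField R)[X] := F.map (residue R)
  have hFbne : Fb ≠ 0 := (hFmonic.map (residue R)).ne_zero
  have hroot : Fb.IsRoot 1 := by
    change Fb.eval 1 = 0
    rw [← map_one (residue R), eval_map_apply]
    exact (residue_eq_zero_iff _).2 hF1m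
  obtain ⟨q₀, hq₀, hnd⟩ := exists_eq_pow_rootMultiplicity_mul_and_not_dvd Fb hFbne 1
  set e := Fb.rootMultiplicity 1 with he
  let g₀ : (ResidueField R)[X] := (X - C 1) ^ e
  have hg₀m : g₀.Monic := (monic_X_sub_C 1).pow e
  have hcop₀ : IsCoprime g₀ q₀ :=
    IsCoprime.pow_left ((irreducible_X_sub_C (1 : ResidueField R)).coprime_iff_not_dvd.2 hnd)
  obtain ⟨g, h, hFgh, hgm, hg0, hh0⟩ := Groth.Agent.H3.factor_lift R F g₀ q₀ hg₀m hcop₀ hq₀
  have hcop : IsCoprime g h := by
    apply Groth.Agent.H3.isCoprime_of_map_of_ker_le_jacobson (residue R) residue_surjective _ hgm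
    · rw [hg0, hh0]; exact hcop₀
    · rw [ker_residue, jacobson_eq_maximalIdeal ⊥ bot_ne_top]
  let N : Submodule R M := LinearMap.ker (aeval α g)
  let K : Submodule R M := LinearMap.ker (aeval α h)
  have hcompl : IsCompl N K := by
    refine ⟨disjoint_ker_aeval_of_isCoprime α hcop, codisjoint_iff.2 ?_⟩
    rw [sup_ker_aeval_eq_ker_aeval_mul_of_coprime α hcop, ← hFgh, hF0, LinearMap.ker_zero]
  -- units
  have hunit_of_residue : ∀ r : R, residue R r ≠ 0 → IsUnit r := by
    intro r hr
    by_contra hnu
    exact hr ((residue_eq_zero_iff _).2 ((mem_maximalIdeal _).2 hnu))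
  have hh1 : IsUnit (h.eval 1) := by
    apply hunit_of_residue
    rw [← eval_map_apply, hh0, map_one]
    intro h0
    exact hnd (dvd_iff_isRoot.2 h0)
  have hg00 : IsUnit (g.coeff 0) := by
    apply hunit_of_residue
    rw [← coeff_map, hg0, coeff_zero_eq_eval_zero]
    simp only [g₀, eval_pow, eval_sub, eval_X, eval_C, zero_sub]
    exact pow_ne_zero _ (neg_ne_zero.2 one_ne_zero)
  -- `x ∈ N`
  have hxN : x ∈ N := by
    change aeval α g x = 0
    rw [aeval_apply_of_fixed R α hαx']
    obtain ⟨u, hu⟩ := hh1
    have hvu : (↑u⁻¹ : R) * h.eval 1 = 1 := by rw [← hu]; exact u.inv_mul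
    have h2 : (g.eval 1 * h.eval 1) • x = 0 := by
      rw [← eval_mul, ← hFgh]; exact hF1
    have : g.eval 1 • x = (↑u⁻¹ : R) • ((g.eval 1 * h.eval 1) • x) := by
      rw [smul_smul, mul_comm (g.eval 1), ← mul_assoc, hvu, one_mul]
    rw [this, h2, smul_zero]
  -- `N ⊆ range c`
  have hNc : ∀ n ∈ N, ∃ y : Q, c y = n := by
    intro n hn
    have h1 : aeval α g n = 0 := hn
    rw [← X_mul_divX_add g, map_add, map_mul, aeval_X, aeval_C, LinearMap.add_apply,
      Module.End.mul_apply, Module.algebraMap_end_apply] at h1
    obtain ⟨u, hu⟩ := hg00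
    have hvu : (↑u⁻¹ : R) * g.coeff 0 = 1 := by rw [← hu]; exact u.inv_mul
    refine ⟨b ((-(↑u⁻¹ : R)) • (aeval α g.divX n)), ?_⟩
    have h2 : g.coeff 0 • n = -(α (aeval α g.divX n)) := eq_neg_of_add_eq_zero_right h1
    change α ((-(↑u⁻¹ : R)) • (aeval α g.divX n)) = n
    rw [map_smul, neg_smul, ← smul_neg, ← h2, smul_smul, hvu, one_smul]
  let pr : M →ₗ[R] N := Submodule.linearProjOfIsCompl N K hcompl
  have hpr : ∀ n : N, pr n = n := fun n => Submodule.linearProjOfIsCompl_apply_left hcompl n
  have hNfin : Module.Finite R N := by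
    apply Module.Finite.of_surjective (pr ∘ₗ c)
    rintro ⟨n, hn⟩
    obtain ⟨y, hy⟩ := hNc n hn
    refine ⟨y, ?_⟩
    rw [LinearMap.comp_apply, hy]
    exact hpr ⟨n, hn⟩
  have hNML : CAlg.IsMittagLeffler R N :=
    isMittagLeffler_of_universallyInjective R N.subtype
      (universallyInjective_of_leftInverse R _ pr (by ext n; simp [hpr])) hML
  exact ⟨N, K, hcompl, hxN, finitePresentation_of_finite_of_isMittagLeffler R N hNML⟩

end claim

end Groth.Agent.H80.HensMLDecomp
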