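import Groth.Agent.H80.HensMLDecomp

/-!
# Countably generated Mittag-Leffler modules over a henselian local ring: the direct sum
-/

set_option autoImplicit false
universe u
open scoped Classical
open TensorProduct

namespace Groth.Agent.H80.HensMLSum

open Groth.Agent.H32 Groth.Agent.H80.MLCountEndo Groth.Agent.H80.HensMLDecomp

variable (R : Type u) [CommRing R] [HenselianLocalRing R]
variable (M : Type u) [AddCommGroup M] [Module R M]

/-- a decomposition `M = A ⊕ K` -/
structure St where
  A : Submodule R M
  K : Submodule R M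
  compl : IsCompl A K

variable {R M}

/-- one step of the exhaustion -/
theorem exists_step (hML : CAlg.IsMittagLeffler R M) (hc : CAlg.IsCountablyGenerated R M)
    (s : St R M) (x : M) :
    ∃ (s' : St R M) (N : Submodule R M), s'.A = s.A ⊔ N ∧ N ≤ s.K ∧ s'.K ≤ s.K ∧ x ∈ s'.A ∧
      Module.FinitePresentation R N := by
  obtain ⟨A, K, hAK⟩ := s
  let pr : M →ₗ[R] K := K.projectionOnto A hAK.symm
  have hpr : ∀ k : K, pr k = k := fun k => Submodule.projectionOnto_apply_left hAK.symm k
  have hKML : CAlg.IsMittagLeffler R K :=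
    isMittagLeffler_of_universallyInjective R K.subtype
      (universallyInjective_of_leftInverse R _ pr (by ext k; simp [hpr])) hML
  have hKc : CAlg.IsCountablyGenerated R K :=
    isCountablyGenerated_of_surjective pr (fun k => ⟨k, hpr k⟩) hc
  obtain ⟨N', K', hcompl', hxN', hfp'⟩ := exists_isCompl_finitePresentation R K hKML hKc (pr x)
  let Nn : Submodule R M := N'.map K.subtype
  let Kn : Submodule R M := K'.map K.subtype
  have hNK : Nn ⊔ Kn = K := by
    rw [← Submodule.map_sup, hcompl'.sup_eq_top, Submodule.map_top, Submodule.range_subtype]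
  have hdisj : Disjoint Nn Kn := by
    rw [disjoint_iff, ← Submodule.map_inf _ K.injective_subtype, hcompl'.inf_eq_bot,
      Submodule.map_bot]
  have hNle : Nn ≤ K := hNK ▸ le_sup_left
  have hKle : Kn ≤ K := hNK ▸ le_sup_right
  have hcompl : IsCompl (A ⊔ Nn) Kn := by
    constructor
    · apply Disjoint.disjoint_sup_left_of_disjoint_sup_right hdisj
      rw [hNK]; exact hAK.disjoint
    · rw [codisjoint_iff, sup_assoc, hNK]
      exact hAK.sup_eq_top
  refine ⟨⟨A ⊔ Nn, Kn, hcompl⟩, Nn, rfl, hNle, hKle, ?_, ?_⟩
  · -- `x = (x - pr x) + pr x`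
    have h1 : x - (pr x : M) ∈ A :=
      (Submodule.projectionOnto_apply_eq_zero_iff hAK.symm).1
        (by change pr (x - (pr x : M)) = 0; rw [map_sub, hpr, sub_self])
    have h2 : (pr x : M) ∈ Nn := ⟨pr x, hxN', rfl⟩
    have : x = (x - (pr x : M)) + (pr x : M) := by abel
    rw [this]
    exact Submodule.add_mem_sup h1 h2
  · exact Module.FinitePresentation.of_equiv
      ((Submodule.equivMapOfInjective K.subtype K.injective_subtype N'))

variable (R M)

/-- **Over a henselian local ring, a countably generated Mittag-Leffler module is an internal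
direct sum of finitely presented submodules.** -/
theorem main (hc : CAlg.IsCountablyGenerated R M) (hML : CAlg.IsMittagLeffler R M) :
    ∃ (ι : Type u) (N : ι → Submodule R M), DirectSum.IsInternal N ∧
      ∀ i, Module.FinitePresentation R (N i) := by
  obtain ⟨gs, hgs, hspan⟩ := hc
  have hgs' : (gs ∪ {0}).Countable := hgs.union (Set.countable_singleton 0)
  obtain ⟨e, he⟩ := hgs'.exists_eq_range ⟨0, Or.inr rfl⟩
  have hc : CAlg.IsCountablyGenerated R M := ⟨gs, hgs, hspan⟩
  choose nxt Nn h1 h2 h3 h4 h5 using exists_step (R := R) (M := M) hML hc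
  let s : ℕ → St R M := fun n => Nat.rec ⟨⊥, ⊤, isCompl_bot_top⟩ (fun n st => nxt st (e n)) n
  have hs : ∀ n, s (n + 1) = nxt (s n) (e n) := fun n => rfl
  let N : ℕ → Submodule R M := fun n => Nn (s n) (e n)
  have hA : ∀ n, (s (n + 1)).A = (s n).A ⊔ N n := fun n => by rw [hs]; exact h1 _ _
  have hNK : ∀ n, N n ≤ (s n).K := fun n => h2 _ _
  have hK : ∀ n, (s (n + 1)).K ≤ (s n).K := fun n => by rw [hs]; exact h3 _ _
  have hmem : ∀ n, e n ∈ (s (n + 1)).A := fun n => by rw [hs]; exact h4 _ _
  have hAmono : Monotone fun n => (s n).A :=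
    monotone_nat_of_le_succ fun n => by rw [hA]; exact le_sup_left
  have hKanti : Antitone fun n => (s n).K := antitone_nat_of_succ_le hK
  have hNA : ∀ n, N n ≤ (s (n + 1)).A := fun n => by rw [hA]; exact le_sup_right
  have hAsup : ∀ n, (s n).A ≤ ⨆ j, N j := by
    intro n
    induction n with
    | zero => exact bot_le
    | succ n ih => rw [hA]; exact sup_le ih (le_iSup N n)
  have key : ∀ (ι : Type u) (eq : ι ≃ ℕ), DirectSum.IsInternal (fun i : ι => N (eq i)) := by
    intro ι eq
    rw [DirectSum.isInternal_submodule_iff_iSupIndep_and_iSup_eq_top]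
    constructor
    · rw [iSupIndep_def]
      intro i
      have hle : (⨆ (j : ι) (_ : j ≠ i), N (eq j)) ≤ (s (eq i)).A ⊔ (s (eq i + 1)).K := by
        refine iSup₂_le ?_
        intro j hj
        have hjn : eq j ≠ eq i := fun h => hj (eq.injective h)
        rcases lt_or_gt_of_ne hjn with hlt | hgt
        · exact le_sup_of_le_left ((hNA (eq j)).trans (hAmono (Nat.succ_le_of_lt hlt)))
        · exact le_sup_of_le_right ((hNK (eq j)).trans (hKanti (Nat.succ_le_of_lt hgt)))
      refine Disjoint.mono_right hle ?_
      apply Disjoint.disjoint_sup_right_of_disjoint_sup_left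
      · exact ((s (eq i)).compl.disjoint.mono_right (hNK (eq i))).symm
      · rw [sup_comm, ← hA]
        exact (s (eq i + 1)).compl.disjoint
    · rw [eq_top_iff, ← hspan]
      apply Submodule.span_le.2
      intro m hm
      have : m ∈ Set.range e := he ▸ Or.inl hm
      obtain ⟨n, rfl⟩ := this
      have h6 : (⨆ j, N j) ≤ ⨆ i : ι, N (eq i) := by
        refine iSup_le fun j => ?_
        have := le_iSup (fun i : ι => N (eq i)) (eq.symm j)
        simpa using this
      exact h6 (hAsup (n + 1) (hmem n))
  exact ⟨ULift.{u} ℕ, fun i => N (Equiv.ulift i), key _ Equiv.ulift, fun i => h5 _ _⟩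

end Groth.Agent.H80.HensMLSum
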