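import Mathlib

/-! Descent of the Henselian property to invariants: if `A → A'` is an injective local homomorphism
of local rings with `A'` Henselian, and `S` is a set of endomorphisms of `A'` fixing `A` and
preserving the maximal ideal such that every `S`-invariant element of `A'` integral over `A` comes
from `A`, then `A` is Henselian. -/

set_option autoImplicit false
set_option linter.style.haveILetI false
universe u

namespace Groth.Agent.H80.HenselInv

open Polynomial IsLocalRing

/-- uniqueness of simple roots in a residue class -/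
theorem root_unique {B : Type*} [CommRing B] [IsLocalRing B] (f : B[X]) (a b : B)
    (ha : f.eval a = 0) (hb : f.eval b = 0) (hab : b - a ∈ maximalIdeal B)
    (hu : IsUnit (f.derivative.eval a)) : b = a := by
  obtain ⟨k, hk⟩ := f.binomExpansion a (b - a)
  rw [add_sub_cancel, hb, ha, zero_add] at hk
  have h1 : (b - a) * (f.derivative.eval a + k * (b - a)) = 0 := by
    rw [hk]; ring
  have h2 : IsUnit (f.derivative.eval a + k * (b - a)) := by
    by_contra hnu
    have h3 : f.derivative.eval a + k * (b - a) ∈ maximalIdeal B := (mem_maximalIdeal _).mpr hnu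
    have h4 : f.derivative.eval a ∈ maximalIdeal B := by
      have := (maximalIdeal B).sub_mem h3 ((maximalIdeal B).mul_mem_left k hab)
      rwa [add_sub_cancel_right] at this
    exact ((mem_maximalIdeal _).mp h4) hu
  have h5 : b - a = 0 := (h2.mul_left_eq_zero).mp h1
  exact sub_eq_zero.mp h5

theorem henselianLocalRing_of_invariants {A A' : Type*} [CommRing A] [IsLocalRing A]
    [CommRing A'] [HenselianLocalRing A'] (ι : A →+* A') (hι : Function.Injective ι)
    [IsLocalHom ι] (S : Set (A' →+* A'))
    (hS : ∀ σ ∈ S, (∀ x ∈ maximalIdeal A', σ x ∈ maximalIdeal A') ∧ ∀ a, σ (ι a) = ι a)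
    (hinv : ∀ a' : A', (∀ σ ∈ S, σ a' = a') → (∃ p : A[X], p.Monic ∧ p.eval₂ ι a' = 0) →
      a' ∈ ι.range) :
    HenselianLocalRing A where
  is_henselian := by
    intro f hf a₀ h₁ h₂
    have hev : ∀ (g : A[X]) (a : A), (g.map ι).eval (ι a) = ι (g.eval a) := fun g a => by
      rw [Polynomial.eval_map, Polynomial.eval₂_hom]
    have h₁' : (f.map ι).eval (ι a₀) ∈ maximalIdeal A' := by
      rw [hev]
      exact map_nonunit ι _ h₁
    have h₂' : IsUnit ((f.map ι).derivative.eval (ι a₀)) := by
      rw [Polynomial.derivative_map, hev]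
      exact h₂.map ι
    obtain ⟨a', ha', haa'⟩ := HenselianLocalRing.is_henselian (f.map ι) (hf.map ι) (ι a₀) h₁' h₂'
    -- the derivative at a' is a unit
    have hu : IsUnit ((f.map ι).derivative.eval a') := by
      by_contra hnu
      have h3 : (f.map ι).derivative.eval a' ∈ maximalIdeal A' := (mem_maximalIdeal _).mpr hnu
      have h4 : (f.map ι).derivative.eval a' - (f.map ι).derivative.eval (ι a₀) ∈
          maximalIdeal A' := by
        obtain ⟨c, hc⟩ := Polynomial.sub_dvd_eval_sub a' (ι a₀) (f.map ι).derivative
        rw [hc]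
        exact (maximalIdeal A').mul_mem_right c haa'
      have h5 : (f.map ι).derivative.eval (ι a₀) ∈ maximalIdeal A' := by
        have := (maximalIdeal A').sub_mem h3 h4
        rwa [sub_sub_cancel] at this
      exact ((mem_maximalIdeal _).mp h5) h₂'
    -- invariance
    have hfix : ∀ σ ∈ S, σ a' = a' := by
      intro σ hσ
      obtain ⟨hm, hfixι⟩ := hS σ hσ
      have hσι : σ.comp ι = ι := RingHom.ext hfixι
      have hroot : (f.map ι).eval (σ a') = 0 := by
        have h6 : ((f.map ι).map σ).eval (σ a') = σ ((f.map ι).eval a') := by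
          rw [Polynomial.eval_map, Polynomial.eval₂_hom]
        rw [Polynomial.map_map, hσι] at h6
        rw [h6, ha'.eq_zero, map_zero]
      apply root_unique (f.map ι) a' (σ a') ha'.eq_zero hroot _ hu
      have h7 : σ a' - a' = σ (a' - ι a₀) - (a' - ι a₀) := by
        rw [map_sub, hfixι]; ring
      rw [h7]
      exact (maximalIdeal A').sub_mem (hm _ haa') haa'
    obtain ⟨a, rfl⟩ := hinv a' hfix ⟨f, hf, by
      rw [← Polynomial.eval_map]; exact ha'.eq_zero⟩
    refine ⟨a, ?_, ?_⟩
    · apply hι
      rw [← hev, map_zero]
      exact ha'.eq_zero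
    · by_contra hnu
      have h8 : IsUnit (a - a₀) := by
        by_contra h9
        exact hnu ((mem_maximalIdeal _).mpr h9)
      have h9 : IsUnit (ι a - ι a₀) := by
        rw [← map_sub]; exact h8.map ι
      exact ((mem_maximalIdeal _).mp haa') h9

end Groth.Agent.H80.HenselInv
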