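import Mathlib
import Groth.Agent.H2.SepClosedNormal

/-! The localization of a domain `D` (with fraction field `F`) at a prime, mapped into `F`:
injectivity, integral closedness, and the Henselian property when `F` is separably closed. -/

set_option autoImplicit false
set_option linter.style.haveILetI false
set_option linter.unusedSectionVars false
universe u

namespace Groth.Agent.H80.LocField

open Polynomial IsLocalRing

theorem isSepClosed_of_ringEquiv {k k' : Type*} [Field k] [Field k'] (e : k ≃+* k')
    [IsSepClosed k] : IsSepClosed k' := by
  apply IsSepClosed.of_exists_root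
  intro p hp hirr hsep
  have hdeg : (p.map (e.symm : k' →+* k)).degree ≠ 0 := by
    rw [Polynomial.degree_map]
    exact (Polynomial.degree_pos_of_irreducible hirr).ne'
  obtain ⟨x, hx⟩ := IsSepClosed.exists_root (p.map (e.symm : k' →+* k)) hdeg hsep.map
  refine ⟨e x, ?_⟩
  have h1 : (p.map (e.symm : k' →+* k)).eval x = 0 := hx
  have h2 : ((p.map (e.symm : k' →+* k)).map (e : k →+* k')).eval (e x) = 0 := by
    rw [Polynomial.eval_map]
    change Polynomial.eval₂ (e : k →+* k') ((e : k →+* k') x) _ = 0
    rw [Polynomial.eval₂_hom, h1, map_zero]
  rw [Polynomial.map_map] at h2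
  have h3 : (e : k →+* k').comp (e.symm : k' →+* k) = RingHom.id k' := by
    ext y
    simp
  rwa [h3, Polynomial.map_id] at h2

theorem henselianLocalRing_of_isSepClosed {A F : Type u} [CommRing A] [IsDomain A]
    [IsLocalRing A] [IsIntegrallyClosed A] [Field F] [Algebra A F] [IsFractionRing A F]
    [IsSepClosed F] : HenselianLocalRing A := by
  haveI : IsSepClosed (FractionRing A) :=
    isSepClosed_of_ringEquiv ((FractionRing.algEquiv A F).symm : F ≃+* _)
  exact Groth.Agent.H2.henselianLocalRing_of_isSepClosed_fractionRing

section

variable {D F : Type*} [CommRing D] [IsDomain D] [Field F] [Algebra D F] [IsFractionRing D F]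
  (P : Ideal D) [P.IsPrime]

theorem isUnit_algebraMap_of_primeCompl (y : P.primeCompl) : IsUnit (algebraMap D F y) := by
  apply IsUnit.mk0
  intro h
  have h0 : (y : D) = 0 := (IsFractionRing.to_map_eq_zero_iff (K := F)).mp h
  exact y.2 (h0 ▸ P.zero_mem)

/-- the map of the localization at a prime to the fraction field -/
noncomputable def toField : Localization.AtPrime P →+* F :=
  IsLocalization.lift (M := P.primeCompl) (g := algebraMap D F)
    (isUnit_algebraMap_of_primeCompl P)

@[simp]
theorem toField_algebraMap (d : D) :
    toField (F := F) P (algebraMap D (Localization.AtPrime P) d) = algebraMap D F d :=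
  IsLocalization.lift_eq _ d

theorem toField_injective : Function.Injective (toField (F := F) P) := by
  unfold toField
  rw [IsLocalization.lift_injective_iff]
  intro x y
  constructor
  · intro h
    have := congrArg (toField (F := F) P) h
    simpa using this
  · intro h
    rw [(IsFractionRing.injective D F) h]

end

section

variable {D F : Type u} [CommRing D] [IsDomain D] [Field F] [Algebra D F] [IsFractionRing D F]
  (P : Ideal D) [P.IsPrime]

theorem isIntegrallyClosed_atPrime [IsIntegrallyClosed D] :
    IsIntegrallyClosed (Localization.AtPrime P) :=
  isIntegrallyClosed_of_isLocalization _ P.primeCompl P.primeCompl_le_nonZeroDivisors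

/-- an element of `F` integral over the localization lies in it -/
theorem mem_range_of_integral [IsIntegrallyClosed D] (x : F)
    (p : (Localization.AtPrime P)[X]) (hp : p.Monic) (h : p.eval₂ (toField (F := F) P) x = 0) :
    x ∈ (toField (F := F) P).range := by
  letI : Algebra (Localization.AtPrime P) F := (toField (F := F) P).toAlgebra
  haveI : IsScalarTower D (Localization.AtPrime P) F :=
    IsScalarTower.of_algebraMap_eq fun d => (toField_algebraMap P d).symm
  haveI : IsFractionRing (Localization.AtPrime P) F :=
    IsFractionRing.isFractionRing_of_isDomain_of_isLocalization P.primeCompl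
      (Localization.AtPrime P) F
  haveI := isIntegrallyClosed_atPrime P
  have hint : IsIntegral (Localization.AtPrime P) x := ⟨p, hp, h⟩
  obtain ⟨y, hy⟩ := IsIntegrallyClosed.algebraMap_eq_of_integral hint
  exact ⟨y, hy⟩

theorem henselianLocalRing_atPrime [IsIntegrallyClosed D] [IsSepClosed F] :
    HenselianLocalRing (Localization.AtPrime P) := by
  letI : Algebra (Localization.AtPrime P) F := (toField (F := F) P).toAlgebra
  haveI : IsScalarTower D (Localization.AtPrime P) F :=
    IsScalarTower.of_algebraMap_eq fun d => (toField_algebraMap P d).symm
  haveI : IsFractionRing (Localization.AtPrime P) F :=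
    IsFractionRing.isFractionRing_of_isDomain_of_isLocalization P.primeCompl
      (Localization.AtPrime P) F
  haveI := isIntegrallyClosed_atPrime P
  exact henselianLocalRing_of_isSepClosed (A := Localization.AtPrime P) (F := F)

end

end Groth.Agent.H80.LocField
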