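import Mathlib
import Groth.Agent.H80.HenselInvariants
import Groth.Agent.H80.LocAtPrimeField

/-! The localization of the integral closure of `R` in the fixed field `L ⊆ K^s` of a set of
automorphisms preserving a maximal ideal `P^s` of the integral closure of `R` in `K^s`, at the prime
below `P^s`, is Henselian. Covers both the decomposition field (henselization) and the inertia field
(strict henselization). -/

set_option autoImplicit false
set_option linter.style.haveILetI false
set_option linter.unusedSectionVars false
universe u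

namespace Groth.Agent.H80.HenselFixed

open Polynomial IsLocalRing Groth.Agent.H80.LocField

theorem main (R K Ks : Type u) [CommRing R] [IsDomain R] [Field K] [Algebra R K]
    [IsFractionRing R K] [Field Ks] [Algebra K Ks] [IsSepClosure K Ks] [Algebra R Ks]
    [IsScalarTower R K Ks]
    (Ps : Ideal (integralClosure R Ks)) [Ps.IsMaximal]
    (S : Set (Ks ≃ₐ[K] Ks))
    (hS : ∀ σ ∈ S, ∀ x : integralClosure R Ks, x ∈ Ps →
      ∃ h : σ (x : Ks) ∈ integralClosure R Ks, (⟨σ (x : Ks), h⟩ : integralClosure R Ks) ∈ Ps)
    (L : IntermediateField K Ks) (hL : L = IntermediateField.fixedField (Subgroup.closure S))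
    (Q : Ideal (integralClosure R L)) [Q.IsPrime]
    (hQ : ∀ y : integralClosure R L, y ∈ Q ↔
      ∃ x : integralClosure R Ks, x ∈ Ps ∧ (x : Ks) = ((y : L) : Ks)) :
    HenselianLocalRing (Localization.AtPrime Q) := by
  classical
  haveI : IsSepClosed Ks := IsSepClosure.sep_closed K
  haveI : Algebra.IsSeparable K Ks := IsSepClosure.separable
  haveI : Algebra.IsAlgebraic K Ks := Algebra.IsSeparable.isAlgebraic K Ks
  haveI : Algebra.IsAlgebraic K L := Algebra.IsAlgebraic.of_injective L.val L.val.injective
  haveI algRKs : Algebra.IsAlgebraic R Ks :=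
    (IsFractionRing.comap_isAlgebraic_iff (A := R) (K := K) (C := Ks)).mpr inferInstance
  haveI algRL : Algebra.IsAlgebraic R L :=
    (IsFractionRing.comap_isAlgebraic_iff (A := R) (K := K) (C := L)).mpr inferInstance
  have injKs : ∀ x : R, algebraMap R Ks x = 0 → x = 0 := by
    intro x hx
    rw [IsScalarTower.algebraMap_apply R K Ks, map_eq_zero] at hx
    exact (IsFractionRing.to_map_eq_zero_iff (K := K)).mp hx
  have injL : ∀ x : R, algebraMap R L x = 0 → x = 0 := by
    intro x hx
    rw [IsScalarTower.algebraMap_apply R K L, map_eq_zero] at hx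
    exact (IsFractionRing.to_map_eq_zero_iff (K := K)).mp hx
  haveI fracKs : IsFractionRing (integralClosure R Ks) Ks :=
    integralClosure.isFractionRing_of_algebraic injKs
  haveI fracL : IsFractionRing (integralClosure R L) L :=
    integralClosure.isFractionRing_of_algebraic injL
  haveI : IsIntegrallyClosed (integralClosure R Ks) :=
    (IsIntegrallyClosed.integralClosure_eq_bot_iff Ks).mp integralClosure_idem
  haveI : IsIntegrallyClosed (integralClosure R L) :=
    (IsIntegrallyClosed.integralClosure_eq_bot_iff L).mp integralClosure_idem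
  haveI : IsScalarTower R L Ks := IsScalarTower.of_algebraMap_eq fun _ => rfl
  -- the inclusion of integral closures
  let j : integralClosure R L →+* integralClosure R Ks :=
    ((IsScalarTower.toAlgHom R L Ks).mapIntegralClosure : _ →+* _)
  have hj : ∀ y : integralClosure R L, ((j y : integralClosure R Ks) : Ks) = ((y : L) : Ks) :=
    fun y => rfl
  have hQ' : Q = Ps.comap j := by
    ext y
    rw [hQ, Ideal.mem_comap]
    constructor
    · rintro ⟨x, hx, hxy⟩
      have : x = j y := Subtype.ext (by rw [hxy, hj])
      rwa [← this]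
    · intro h
      exact ⟨j y, h, hj y⟩
  let ι : Localization.AtPrime Q →+* Localization.AtPrime Ps := Localization.localRingHom Q Ps j hQ'
  haveI : IsLocalHom ι := Localization.isLocalHom_localRingHom Q Ps j hQ'
  haveI : HenselianLocalRing (Localization.AtPrime Ps) := henselianLocalRing_atPrime (F := Ks) Ps
  let κ : Localization.AtPrime Q →+* L := toField (F := L) Q
  let κ' : Localization.AtPrime Ps →+* Ks := toField (F := Ks) Ps
  have hκinj : Function.Injective κ := toField_injective Q
  have hκ'inj : Function.Injective κ' := toField_injective Ps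
  have hκι : ∀ a, κ' (ι a) = algebraMap L Ks (κ a) := by
    have h1 : κ'.comp ι = (algebraMap L Ks).comp κ := by
      apply IsLocalization.ringHom_ext Q.primeCompl
      ext y
      simp only [RingHom.comp_apply, ι, κ, κ', Localization.localRingHom_to_map,
        toField_algebraMap]
      exact hj y
    exact fun a => congrArg (fun g => g a) h1
  have hιinj : Function.Injective ι := by
    intro a b hab
    apply hκinj
    apply (algebraMap L Ks).injective
    rw [← hκι, ← hκι, hab]
  -- the set of endomorphisms
  let S' : Set (Localization.AtPrime Ps →+* Localization.AtPrime Ps) :=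
    {τ | (∀ x ∈ maximalIdeal (Localization.AtPrime Ps), τ x ∈ maximalIdeal _) ∧
      (∀ a, τ (ι a) = ι a) ∧ ∃ σ ∈ S, ∀ a', κ' (τ a') = σ (κ' a')}
  have hex : ∀ σ ∈ S, ∃ τ ∈ S', ∀ a', κ' (τ a') = σ (κ' a') := by
    intro σ hσ
    let σR : integralClosure R Ks →+* integralClosure R Ks :=
      ((((σ : Ks →ₐ[K] Ks).restrictScalars R).mapIntegralClosure) : _ →+* _)
    have hσR : ∀ x : integralClosure R Ks, ((σR x : integralClosure R Ks) : Ks) = σ (x : Ks) :=
      fun x => rfl
    have hle : Ps ≤ Ps.comap σR := by
      intro x hx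
      obtain ⟨h, hmem⟩ := hS σ hσ x hx
      rw [Ideal.mem_comap]
      have : σR x = ⟨σ (x : Ks), h⟩ := Subtype.ext (hσR x)
      rwa [this]
    have heq : Ps = Ps.comap σR :=
      Ideal.IsMaximal.eq_of_le inferInstance (Ideal.comap_ne_top _ (Ideal.IsPrime.ne_top')) hle
    let τ : Localization.AtPrime Ps →+* Localization.AtPrime Ps :=
      Localization.localRingHom Ps Ps σR heq
    haveI : IsLocalHom τ := Localization.isLocalHom_localRingHom Ps Ps σR heq
    have hτκ : ∀ a', κ' (τ a') = σ (κ' a') := by
      have h1 : κ'.comp τ = ((σ : Ks ≃+* Ks) : Ks →+* Ks).comp κ' := by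
        apply IsLocalization.ringHom_ext Ps.primeCompl
        ext x
        simp only [RingHom.comp_apply, τ, κ', Localization.localRingHom_to_map,
          toField_algebraMap]
        exact hσR x
      exact fun a' => congrArg (fun g => g a') h1
    refine ⟨τ, ⟨fun x hx => map_nonunit τ x hx, fun a => ?_, σ, hσ, hτκ⟩, hτκ⟩
    apply hκ'inj
    rw [hτκ, hκι]
    have hmem : ((κ a : L) : Ks) ∈ IntermediateField.fixedField (Subgroup.closure S) := by
      rw [← hL]
      exact (κ a).2
    exact (IntermediateField.mem_fixedField_iff _ _).mp hmem σ (Subgroup.subset_closure hσ)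
  apply Groth.Agent.H80.HenselInv.henselianLocalRing_of_invariants ι hιinj S'
  · intro τ hτ
    exact ⟨hτ.1, hτ.2.1⟩
  · intro a' hfix hint
    -- κ' a' is fixed by S, hence lies in L
    have hfixS : ∀ σ ∈ S, σ (κ' a') = κ' a' := by
      intro σ hσ
      obtain ⟨τ, hτ, hτκ⟩ := hex σ hσ
      rw [← hτκ, hfix τ hτ]
    have hmemL : κ' a' ∈ L := by
      rw [hL, IntermediateField.mem_fixedField_iff]
      intro σ hσ
      induction hσ using Subgroup.closure_induction with
      | mem σ hσ => exact hfixS σ hσ
      | one => rfl
      | mul σ τ _ _ h1 h2 => rw [AlgEquiv.mul_apply, h2, h1]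
      | inv σ _ h1 =>
        have := congrArg (σ⁻¹ : Ks ≃ₐ[K] Ks) h1
        rw [← AlgEquiv.mul_apply, inv_mul_cancel, AlgEquiv.one_apply] at this
        exact this.symm
    obtain ⟨p, hp, hpe⟩ := hint
    let l : L := ⟨κ' a', hmemL⟩
    have hl : p.eval₂ κ l = 0 := by
      apply (algebraMap L Ks).injective
      rw [map_zero, Polynomial.hom_eval₂]
      have h1 : (algebraMap L Ks).comp κ = κ'.comp ι := by
        ext a
        exact (hκι a).symm
      rw [h1]
      have h2 : algebraMap L Ks l = κ' a' := rfl
      rw [h2, ← Polynomial.hom_eval₂, hpe, map_zero]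
    obtain ⟨a, ha⟩ := mem_range_of_integral (F := L) Q l p hp hl
    refine ⟨a, ?_⟩
    apply hκ'inj
    rw [hκι]
    have : κ a = l := ha
    rw [this]
    rfl

end Groth.Agent.H80.HenselFixed
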