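import Mathlib

/-!
# Henselian valuation rings: quotients and localizations at primes (helper80)
-/

set_option autoImplicit false
universe u

namespace Groth.Agent.H80.HenselVal

open Polynomial IsLocalRing

/-- A proper quotient of a Henselian local ring is Henselian. -/
theorem henselian_quotient (V : Type u) [CommRing V] [HenselianLocalRing V] (I : Ideal V)
    (hI : I ≠ ⊤) : HenselianLocalRing (V ⧸ I) := by
  have hnt : Nontrivial (V ⧸ I) := Ideal.Quotient.nontrivial_iff.mpr hI
  have hloc : IsLocalRing (V ⧸ I) :=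
    IsLocalRing.of_surjective' (Ideal.Quotient.mk I) Ideal.Quotient.mk_surjective
  have hlh : IsLocalHom (Ideal.Quotient.mk I) := by
    apply isLocalHom_of_le_jacobson_bot
    rw [IsLocalRing.jacobson_eq_maximalIdeal ⊥ bot_ne_top]
    exact IsLocalRing.le_maximalIdeal hI
  refine { hloc with is_henselian := ?_ }
  intro fbar hfbar abar h1 h2
  obtain ⟨f, hf1, -, hfm⟩ := Polynomial.lifts_and_natDegree_eq_and_monic
    ((Polynomial.mem_lifts (f := Ideal.Quotient.mk I) fbar).mpr
      (Polynomial.map_surjective _ Ideal.Quotient.mk_surjective fbar)) hfbar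
  obtain ⟨a₀, rfl⟩ := Ideal.Quotient.mk_surjective abar
  have hev : ∀ (g : V[X]) (a : V), (g.map (Ideal.Quotient.mk I)).eval (Ideal.Quotient.mk I a) =
      Ideal.Quotient.mk I (g.eval a) := by
    intro g a
    rw [Polynomial.eval_map, Polynomial.eval₂_at_apply]
  subst hf1
  rw [hev] at h1
  rw [Polynomial.derivative_map, hev] at h2
  have h1' : f.eval a₀ ∈ maximalIdeal V := by
    rw [IsLocalRing.mem_maximalIdeal, mem_nonunits_iff]
    intro hu
    have := hu.map (Ideal.Quotient.mk I)
    rw [IsLocalRing.mem_maximalIdeal, mem_nonunits_iff] at h1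
    exact h1 this
  have h2' : IsUnit (f.derivative.eval a₀) := hlh.map_nonunit _ h2
  obtain ⟨a, ha1, ha2⟩ := HenselianLocalRing.is_henselian f hfm a₀ h1' h2'
  refine ⟨Ideal.Quotient.mk I a, ?_, ?_⟩
  · rw [Polynomial.IsRoot.def, hev, ha1.eq_zero, map_zero]
  · rw [← map_sub, IsLocalRing.mem_maximalIdeal, mem_nonunits_iff]
    intro hu
    have := hlh.map_nonunit _ hu
    rw [IsLocalRing.mem_maximalIdeal, mem_nonunits_iff] at ha2
    exact ha2 this

section Loc

variable (V : Type u) [CommRing V] [IsDomain V] [ValuationRing V] (p : Ideal V) [p.IsPrime]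

/-- For a valuation ring, the maximal ideal of `V_p` is the image of `p`. -/
theorem exists_mem_of_mem_maximalIdeal (s : Localization.AtPrime p)
    (hs : s ∈ maximalIdeal (Localization.AtPrime p)) :
    ∃ v ∈ p, algebraMap V (Localization.AtPrime p) v = s := by
  obtain ⟨x, u, rfl⟩ := IsLocalization.exists_mk'_eq p.primeCompl s
  rw [IsLocalization.AtPrime.mk'_mem_maximal_iff (Localization.AtPrime p) p] at hs
  obtain ⟨c, hc | hc⟩ := ValuationRing.cond x (u : V)
  · exfalso
    exact u.2 (hc ▸ p.mul_mem_right c hs)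
  · refine ⟨c, ?_, ?_⟩
    · have : (u : V) * c ∈ p := hc ▸ hs
      exact (Ideal.IsPrime.mem_or_mem inferInstance this).resolve_left u.2
    · symm
      rw [IsLocalization.mk'_eq_iff_eq_mul, ← map_mul, ← hc, mul_comm]

end Loc

section Main

variable (V : Type u) [CommRing V] [IsDomain V] [ValuationRing V] [HenselianLocalRing V]
  (p : Ideal V) [p.IsPrime]

local notation "S" => Localization.AtPrime p
local notation "ι" => algebraMap V (Localization.AtPrime p)

theorem p_le_maximalIdeal : p ≤ maximalIdeal V :=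
  IsLocalRing.le_maximalIdeal (Ideal.IsPrime.ne_top inferInstance)

/-- Key case: a monic polynomial over `V_p` with `g(0)` in the maximal ideal and `g'(0)` a unit has a
root in the maximal ideal. -/
theorem root_near_zero (g : (Localization.AtPrime p)[X]) (hg : g.Monic)
    (h0 : g.eval 0 ∈ maximalIdeal (Localization.AtPrime p)) (h1 : IsUnit (g.derivative.eval 0)) :
    ∃ a ∈ maximalIdeal (Localization.AtPrime p), g.eval a = 0 := by
  classical
  by_cases hc0 : g.eval 0 = 0
  · exact ⟨0, Ideal.zero_mem _, hc0⟩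
  set n := g.natDegree with hn
  have hn1 : 1 ≤ n := by
    by_contra hlt
    have hn0 : g.natDegree = 0 := by omega
    have : g = 1 := (Polynomial.Monic.natDegree_eq_zero hg).mp hn0
    rw [this, eval_one] at h0
    exact (Ideal.ne_top_iff_one _).mp (Ideal.IsPrime.ne_top inferInstance) h0
  obtain ⟨m, hm⟩ : ∃ m, n = m + 1 := ⟨n - 1, by omega⟩
  -- coefficients
  have hcoeff0 : g.coeff 0 = g.eval 0 := coeff_zero_eq_eval_zero g
  have hcoeff1 : g.coeff 1 = g.derivative.eval 0 := by
    rw [← coeff_zero_eq_eval_zero, coeff_derivative]; simp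
  obtain ⟨u1, hu1⟩ := h1
  set t : S := g.coeff 0 * ↑u1⁻¹ with ht
  have htm : t ∈ maximalIdeal S := by
    rw [ht, hcoeff0]; exact Ideal.mul_mem_right _ _ h0
  have hc1t : g.coeff 1 * t = g.coeff 0 := by
    rw [ht, hcoeff1, ← hu1]
    rw [mul_comm, mul_assoc, Units.inv_mul, mul_one]
  -- the descended coefficients
  have hd : ∀ j : ℕ, 2 ≤ j → ∃ v ∈ p, ι v = g.coeff j * t ^ (j - 1) * ↑u1⁻¹ := by
    intro j hj
    apply exists_mem_of_mem_maximalIdeal
    apply Ideal.mul_mem_right
    apply Ideal.mul_mem_left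
    exact Ideal.pow_mem_of_mem _ htm _ (by omega)
  choose! δ hδp hδ using hd
  let ρ : ℕ → V := fun j => if 2 ≤ j then δ j else 1
  have hρ : ∀ j : ℕ, g.coeff 0 * ι (ρ j) = g.coeff j * t ^ j := by
    intro j
    by_cases hj : 2 ≤ j
    · simp only [ρ, if_pos hj]
      rw [hδ j hj]
      obtain ⟨i, rfl⟩ : ∃ i, j = i + 1 := ⟨j - 1, by omega⟩
      rw [Nat.add_sub_cancel, pow_succ]
      calc g.coeff 0 * (g.coeff (i + 1) * t ^ i * ↑u1⁻¹)
          = g.coeff (i + 1) * t ^ i * (g.coeff 0 * ↑u1⁻¹) := by ring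
        _ = g.coeff (i + 1) * (t ^ i * t) := by rw [← ht]; ring
    · simp only [ρ, if_neg hj, map_one, mul_one]
      interval_cases j
      · rw [pow_zero, mul_one]
      · rw [pow_one, hc1t]
  have hρp : ∀ j : ℕ, 2 ≤ j → ρ j ∈ p := by
    intro j hj
    simp only [ρ, if_pos hj]
    exact hδp j hj
  -- the reversed polynomial over `V`
  let q : V[X] := ∑ j ∈ Finset.range m, C (ρ (j + 2)) * X ^ (m + 1 - (j + 2))
  let r : V[X] := ∑ j ∈ Finset.range (n + 1), C (ρ j) * X ^ (n - j)
  have hr_split : r = q + X ^ m + X ^ (m + 1) := by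
    simp only [r, q]
    rw [hm, Finset.sum_range_succ', Finset.sum_range_succ']
    simp only [ρ]
    simp
  have hr_monic : r.Monic := by
    apply monic_of_natDegree_le_of_coeff_eq_one n
    · apply natDegree_sum_le_of_forall_le
      intro j _
      exact (natDegree_C_mul_X_pow_le _ _).trans (Nat.sub_le _ _)
    · simp only [r]
      rw [finsetSum_coeff, Finset.sum_eq_single 0]
      · simp [ρ]
      · intro j hj hj0
        rw [Finset.mem_range] at hj
        rw [coeff_C_mul, coeff_X_pow, if_neg (by omega), mul_zero]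
      · intro h; exact absurd (Finset.mem_range.mpr (by omega)) h
  have hq_eval : ∀ x : V, q.eval x ∈ p := by
    intro x
    simp only [q]
    rw [eval_finsetSum]
    refine Ideal.sum_mem _ fun j _ => ?_
    rw [eval_mul, eval_C]
    exact Ideal.mul_mem_right _ _ (hρp _ (by omega))
  have hq_deriv : ∀ x : V, q.derivative.eval x ∈ p := by
    intro x
    simp only [q]
    rw [derivative_sum, eval_finsetSum]
    refine Ideal.sum_mem _ fun j _ => ?_
    rw [derivative_C_mul, eval_mul, eval_C]
    exact Ideal.mul_mem_right _ _ (hρp _ (by omega))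
  have hr_eval : r.eval (-1) ∈ maximalIdeal V := by
    rw [hr_split]
    simp only [eval_add, eval_pow, eval_X]
    have : q.eval (-1) + (-1 : V) ^ m + (-1) ^ (m + 1) = q.eval (-1) := by
      rw [pow_succ]; ring
    rw [this]
    exact p_le_maximalIdeal V p (hq_eval _)
  have hr_deriv : IsUnit (r.derivative.eval (-1)) := by
    rw [hr_split]
    simp only [derivative_add, derivative_X_pow, eval_add, eval_mul, eval_pow, eval_X, eval_C]
    have hsum : q.derivative.eval (-1) + (m : V) * (-1) ^ (m - 1) + ((m + 1 : ℕ) : V) * (-1) ^ (m + 1 - 1) =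
        q.derivative.eval (-1) + (-1) ^ m := by
      rw [Nat.add_sub_cancel]
      rcases Nat.eq_zero_or_pos m with h | h
      · subst h; simp
      · obtain ⟨i, rfl⟩ : ∃ i, m = i + 1 := ⟨m - 1, by omega⟩
        rw [Nat.add_sub_cancel]
        push_cast
        ring
    rw [hsum]
    by_contra hnu
    have h1 : q.derivative.eval (-1) + (-1) ^ m ∈ maximalIdeal V := by
      rw [IsLocalRing.mem_maximalIdeal]; exact hnu
    have h2 : q.derivative.eval (-1) ∈ maximalIdeal V := p_le_maximalIdeal V p (hq_deriv _)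
    have h3 : (-1 : V) ^ m ∈ maximalIdeal V := by
      have := Ideal.sub_mem _ h1 h2
      rwa [add_sub_cancel_left] at this
    rw [IsLocalRing.mem_maximalIdeal, mem_nonunits_iff] at h3
    exact h3 ((isUnit_one.neg).pow m)
  obtain ⟨y, hy1, hy2⟩ := HenselianLocalRing.is_henselian r hr_monic (-1) hr_eval hr_deriv
  have hyu : IsUnit y := by
    by_contra hnu
    have h1 : y ∈ maximalIdeal V := by rw [IsLocalRing.mem_maximalIdeal]; exact hnu
    have h2 : (-1 : V) ∈ maximalIdeal V := by
      have := Ideal.sub_mem _ h1 hy2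
      rwa [sub_sub_cancel] at this
    rw [IsLocalRing.mem_maximalIdeal, mem_nonunits_iff] at h2
    exact h2 isUnit_one.neg
  obtain ⟨yu, hyu'⟩ := hyu.map ι
  refine ⟨t * ↑yu⁻¹, Ideal.mul_mem_right _ _ htm, ?_⟩
  have hkey : g.eval (t * ↑yu⁻¹) * (yu : S) ^ n = g.coeff 0 * ι (r.eval y) := by
    rw [eval_eq_sum_range, Finset.sum_mul, ← hn]
    simp only [r]
    rw [eval_finsetSum, map_sum, Finset.mul_sum]
    refine Finset.sum_congr rfl fun j hj => ?_
    rw [Finset.mem_range] at hj
    have hjn : j ≤ n := by omega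
    rw [eval_mul, eval_C, eval_pow, eval_X, map_mul, map_pow, ← mul_assoc, hρ j, ← hyu']
    have : (yu : S) ^ n = (yu : S) ^ (n - j) * (yu : S) ^ j := (pow_sub_mul_pow _ hjn).symm
    rw [this, mul_pow]
    calc g.coeff j * (t ^ j * (↑yu⁻¹ : S) ^ j) * ((yu : S) ^ (n - j) * (yu : S) ^ j)
        = g.coeff j * t ^ j * (yu : S) ^ (n - j) * (((↑yu⁻¹ : S) * (yu : S)) ^ j) := by ring
      _ = g.coeff j * t ^ j * (yu : S) ^ (n - j) := by rw [Units.inv_mul, one_pow, mul_one]
  rw [hy1.eq_zero, map_zero, mul_zero] at hkey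
  exact (IsUnit.mul_left_eq_zero ((Units.isUnit yu).pow n)).mp hkey

/-- The localization of a Henselian valuation ring at a prime is Henselian. -/
theorem henselian_localization : HenselianLocalRing (Localization.AtPrime p) := by
  refine { (inferInstance : IsLocalRing (Localization.AtPrime p)) with is_henselian := ?_ }
  intro f hf a₀ h1 h2
  have hg := root_near_zero V p (f.comp (X + C a₀)) (hf.comp_X_add_C a₀)
    (by rw [eval_comp]; simpa using h1)
    (by
      rw [derivative_comp, eval_mul, eval_comp]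
      simpa using h2)
  obtain ⟨a, ha, hroot⟩ := hg
  refine ⟨a + a₀, ?_, ?_⟩
  · rw [eval_comp] at hroot
    simpa [Polynomial.IsRoot.def] using hroot
  · rwa [add_sub_cancel_right]

end Main

end Groth.Agent.H80.HenselVal
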