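import Groth.Agent.H80.LinChar2
import Groth.Agent.H93.DualMod

/-!
# Invariant rational functions on a factorial affine variety (character-free connected group)

Algebraic form.  `A` a commutative Hopf algebra of finite type over an algebraically closed field,
a domain, with `1` as only group-like element; `B` a factorial domain of finite type with a
multiplicative coaction.  If `f / g` is invariant under all rational points then `f / g = f' / g'`
with `f'`, `g'` invariant.
-/

set_option autoImplicit false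
set_option linter.style.haveILetI false
universe u

namespace Groth.Agent.H80.InvFrac

open TensorProduct WithConv Groth.Agent.H80.UnitsVal Groth.Agent.H80.LinChar

section action

variable {k : Type u} [Field k] {A : Type u} [CommRing A] [HopfAlgebra k A]
  {B : Type u} [CommRing B] [Algebra k B] [HopfRep.Comod k A B] [GLin.IsCoactAlg k A B]

/-- the action of a rational point of the group, as an algebra endomorphism -/
noncomputable def σ (φ : A →ₐ[k] k) : B →ₐ[k] B :=
  (evalRight φ).comp (GLin.coactAlgHom k A B)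

theorem σ_def (φ : A →ₐ[k] k) (b : B) :
    σ φ b = evalRight φ (HopfRep.Comod.coact (k := k) (A := A) b) := rfl

omit [HopfRep.Comod k A B] [GLin.IsCoactAlg k A B] in
theorem evalRight_eq (φ : A →ₐ[k] k) (t : B ⊗[k] A) :
    evalRight φ t = Groth.Agent.H93.slice B φ.toLinearMap t := by
  induction t with
  | zero => simp
  | tmul b a => simp
  | add x y hx hy => simp only [map_add, hx, hy]

theorem σ_apply (φ : A →ₐ[k] k) (b : B) : σ φ b = HopfRep.Comod.act k A B φ b := by
  rw [σ_def, evalRight_eq]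
  rfl

theorem σ_eq_dualAct (φ : A →ₐ[k] k) (b : B) :
    σ φ b = Groth.Agent.H93.dualAct B φ.toLinearMap b := by
  rw [σ_def, evalRight_eq]
  rfl

theorem σ_mul (φ ψ : WithConv (A →ₐ[k] k)) (b : B) :
    σ (φ * ψ).ofConv b = σ φ.ofConv (σ ψ.ofConv b) := by
  rw [σ_eq_dualAct, σ_eq_dualAct, σ_eq_dualAct]
  have h : (φ * ψ).ofConv.toLinearMap =
      (toConv φ.ofConv.toLinearMap * toConv ψ.ofConv.toLinearMap).ofConv := rfl
  rw [h, Groth.Agent.H93.dualAct_mul]
  rfl

theorem σ_one (b : B) : σ (1 : WithConv (A →ₐ[k] k)).ofConv b = b := by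
  rw [σ_eq_dualAct]
  have h : (1 : WithConv (A →ₐ[k] k)).ofConv.toLinearMap =
      (1 : WithConv (A →ₗ[k] k)).ofConv := rfl
  rw [h, Groth.Agent.H93.dualAct_one]
  rfl

theorem σ_inv_σ (φ : WithConv (A →ₐ[k] k)) (b : B) : σ φ⁻¹.ofConv (σ φ.ofConv b) = b := by
  rw [← σ_mul, inv_mul_cancel, σ_one]

theorem σ_σ_inv (φ : WithConv (A →ₐ[k] k)) (b : B) : σ φ.ofConv (σ φ⁻¹.ofConv b) = b := by
  rw [← σ_mul, mul_inv_cancel, σ_one]

theorem σ_injective (φ : A →ₐ[k] k) : Function.Injective (σ (B := B) φ) := by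
  intro b b' h
  have := congrArg (σ (toConv φ)⁻¹.ofConv) h
  exact (σ_inv_σ (toConv φ) b).symm.trans (this.trans (σ_inv_σ (toConv φ) b'))

end action

section divisibility

variable {k : Type u} [Field k] [IsAlgClosed k] {A : Type u} [CommRing A] [Algebra k A]
  [Algebra.FiniteType k A] {B : Type u} [CommRing B] [Algebra k B]

omit [IsAlgClosed k] [Algebra.FiniteType k A] in
theorem evalRight_map {B' : Type u} [CommRing B'] [Algebra k B'] (π : B →ₐ[k] B')
    (y : A →ₐ[k] k) (t : B ⊗[k] A) :
    evalRight y (Algebra.TensorProduct.map π (AlgHom.id k A) t) = π (evalRight y t) := by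
  induction t with
  | zero => simp
  | tmul b a => simp
  | add x y hx hy => simp only [map_add, hx, hy]

/-- an element of `B ⊗ A` all of whose specialisations at points of `A` are divisible by `p` is
divisible by `p ⊗ 1` -/
theorem exists_eq_tmul_one_mul [IsReduced A] (p : B) (t : B ⊗[k] A)
    (h : ∀ y : A →ₐ[k] k, p ∣ evalRight y t) : ∃ θ : B ⊗[k] A, t = (p ⊗ₜ[k] (1 : A)) * θ := by
  let I : Ideal B := Ideal.span {p}
  have hsurj : Function.Surjective (Ideal.Quotient.mkₐ k I) := Ideal.Quotient.mkₐ_surjective k I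
  have hker : t ∈ RingHom.ker (Algebra.TensorProduct.map (Ideal.Quotient.mkₐ k I)
      (AlgHom.id k A)) := by
    rw [RingHom.mem_ker]
    apply eq_zero_of_forall_evalRight
    intro y
    rw [evalRight_map]
    change Ideal.Quotient.mk I (evalRight y t) = 0
    rw [Ideal.Quotient.eq_zero_iff_mem]
    exact Ideal.mem_span_singleton.2 (h y)
  have hk : RingHom.ker (Ideal.Quotient.mkₐ k I) = I := by
    ext x
    rw [RingHom.mem_ker]
    exact Ideal.Quotient.eq_zero_iff_mem
  rw [Algebra.TensorProduct.rTensor_ker _ hsurj, hk, Ideal.map_span,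
    Set.image_singleton] at hker
  obtain ⟨θ, hθ⟩ := Ideal.mem_span_singleton'.1 hker
  refine ⟨θ, ?_⟩
  rw [← hθ, mul_comm]
  rfl

omit [IsAlgClosed k] [Algebra.FiniteType k A] in
theorem algHom_eq_comp_evalRight (z : B ⊗[k] A →ₐ[k] k) (t : B ⊗[k] A) :
    z t = (z.comp Algebra.TensorProduct.includeLeft)
      (evalRight (z.comp Algebra.TensorProduct.includeRight) t) := by
  induction t with
  | zero => simp
  | tmul b a =>
    rw [evalRight_tmul, map_smul, AlgHom.comp_apply, AlgHom.comp_apply,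
      Algebra.TensorProduct.includeLeft_apply, Algebra.TensorProduct.includeRight_apply,
      smul_eq_mul, ← map_mul, Algebra.TensorProduct.tmul_mul_tmul, one_mul, mul_one]
  | add x y hx hy => simp only [map_add, hx, hy]

/-- an element of `B ⊗ A` all of whose specialisations at points of `A` are units is a unit -/
theorem isUnit_of_forall_evalRight [Algebra.FiniteType k B] (θ : B ⊗[k] A)
    (h : ∀ y : A →ₐ[k] k, IsUnit (evalRight y θ)) : IsUnit θ := by
  by_contra hθ
  obtain ⟨m, hm, hθm⟩ := exists_max_ideal_of_mem_nonunits (mem_nonunits_iff.2 hθ)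
  haveI : Algebra.FiniteType k (B ⊗[k] A) :=
    Algebra.FiniteType.trans (inferInstance : Algebra.FiniteType k B) inferInstance
  obtain ⟨z, hz⟩ := exists_algHom_ker_eq k (B ⊗[k] A) m
  have h1 : z θ = 0 := by
    have : θ ∈ RingHom.ker (z : B ⊗[k] A →+* k) := by rw [hz]; exact hθm
    exact this
  rw [algHom_eq_comp_evalRight] at h1
  have h2 := (h (z.comp Algebra.TensorProduct.includeRight)).map
    (z.comp Algebra.TensorProduct.includeLeft)
  rw [h1] at h2
  exact not_isUnit_zero h2

end divisibility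

section main

variable {k : Type u} [Field k] [IsAlgClosed k] {A : Type u} [CommRing A] [HopfAlgebra k A]
  [Algebra.FiniteType k A] [IsDomain A]
  {B : Type u} [CommRing B] [Algebra k B] [Algebra.FiniteType k B] [IsDomain B]
  [HopfRep.Comod k A B] [GLin.IsCoactAlg k A B]

/-- a nonzero element which is a semi-invariant up to units is an invariant, when the group has no
nontrivial characters -/
theorem σ_eq_self_of_associated (hchar : ∀ a : A, IsGroupLikeElem k a → a = 1) (p : B)
    (hp : p ≠ 0) (h : ∀ φ : A →ₐ[k] k, Associated (σ φ p) p) (φ : A →ₐ[k] k) : σ φ p = p := by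
  have hdvd : ∀ y : A →ₐ[k] k, p ∣ evalRight y (HopfRep.Comod.coact (k := k) (A := A) p) :=
    fun y => (h y).symm.dvd
  obtain ⟨θ, hθ⟩ := exists_eq_tmul_one_mul p _ hdvd
  have heval : ∀ y : A →ₐ[k] k, σ y p = p * evalRight y θ := by
    intro y
    rw [σ_def, hθ, map_mul, evalRight_tmul, map_one, one_smul]
  have hunit : IsUnit θ := by
    apply isUnit_of_forall_evalRight
    intro y
    obtain ⟨u, hu⟩ := (h y).symm
    have : p * (u : B) = p * evalRight y θ := by rw [hu, heval]
    rw [← mul_left_cancel₀ hp this]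
    exact u.isUnit
  obtain ⟨θ', hθ'⟩ := hunit.exists_right_inv
  obtain ⟨b, a, hb, ha, hba⟩ := rosenlicht k B A θ θ' hθ'
  -- the counit
  have h1 : p * evalRight (Bialgebra.counitAlgHom k A) θ = p := by
    rw [← heval]
    exact σ_one p
  have h2 : Coalgebra.counit (R := k) a • b = 1 := by
    have := mul_left_cancel₀ hp (h1.trans (mul_one p).symm)
    rw [hba, evalRight_tmul] at this
    exact this
  have hε : Coalgebra.counit (R := k) a ≠ 0 := by
    intro h0
    rw [h0, zero_smul] at h2
    exact zero_ne_one h2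
  set c := Coalgebra.counit (R := k) a with hc
  have hb' : b = c⁻¹ • (1 : B) := by
    rw [← h2, smul_smul, inv_mul_cancel₀ hε, one_smul]
  set a' := c⁻¹ • a with ha'
  have hρ : HopfRep.Comod.coact (k := k) (A := A) p = p ⊗ₜ[k] a' := by
    rw [hθ, hba, Algebra.TensorProduct.tmul_mul_tmul, one_mul, hb', mul_smul_comm, mul_one,
      ha', TensorProduct.smul_tmul]
  -- `a'` is group-like
  obtain ⟨l₀, hl₀⟩ := Module.Projective.exists_dual_eq_one k hp
  have hl₀' : (l₀ : B →ₗ[k] k) p = 1 := hl₀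
  have hgl : IsGroupLikeElem k a' := by
    constructor
    · rw [ha', map_smul, ← hc, smul_eq_mul, inv_mul_cancel₀ hε]
    · have h3 := LinearMap.congr_fun (HopfRep.Comod.coassoc (k := k) (A := A) (V := B)) p
      rw [LinearMap.comp_apply, LinearMap.comp_apply, LinearMap.comp_apply, hρ,
        LinearMap.rTensor_tmul, hρ, LinearMap.lTensor_tmul] at h3
      have h4 := congrArg (slice (l₀ : B →ₗ[k] k)) h3
      rw [LinearEquiv.coe_coe, TensorProduct.assoc_tmul, slice_tmul, slice_tmul, hl₀', one_smul,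
        one_smul] at h4
      exact h4.symm
  rw [hchar a' hgl] at hρ
  rw [σ_def, hρ, evalRight_tmul, map_one, one_smul]

variable [UniqueFactorizationMonoid B]

theorem exists_invariant_fraction (hchar : ∀ a : A, IsGroupLikeElem k a → a = 1)
    (f g : B) (hg : g ≠ 0) (hinv : ∀ φ : A →ₐ[k] k, σ φ f * g = f * σ φ g) :
    ∃ f' g' : B, (∀ φ : A →ₐ[k] k, σ φ f' = f') ∧ (∀ φ : A →ₐ[k] k, σ φ g' = g') ∧ g' ≠ 0 ∧
      f * g' = f' * g := by
  by_cases hf : f = 0
  · refine ⟨0, 1, fun φ => map_zero _, fun φ => map_one _, one_ne_zero, ?_⟩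
    rw [hf, zero_mul, zero_mul]
  obtain ⟨g₁, f₁, d, hrel, hdg, hdf⟩ := UniqueFactorizationMonoid.exists_reduced_factors g hg f
  have hd : d ≠ 0 := by
    rintro rfl
    rw [zero_mul] at hdg
    exact hg hdg.symm
  have hg₁ : g₁ ≠ 0 := by
    rintro rfl
    rw [mul_zero] at hdg
    exact hg hdg.symm
  have hf₁ : f₁ ≠ 0 := by
    rintro rfl
    rw [mul_zero] at hdf
    exact hf hdf.symm
  -- the reduced relation
  have hred : ∀ φ : A →ₐ[k] k, σ φ f₁ * g₁ = f₁ * σ φ g₁ := by
    intro φ
    have h1 := hinv φ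
    rw [← hdf, ← hdg, map_mul, map_mul] at h1
    have hσd : σ φ d ≠ 0 := fun h0 => hd (σ_injective φ (h0.trans (map_zero _).symm))
    have h2 : (σ φ d * d) * (σ φ f₁ * g₁) = (σ φ d * d) * (f₁ * σ φ g₁) := by
      rw [show (σ φ d * d) * (σ φ f₁ * g₁) = σ φ d * σ φ f₁ * (d * g₁) by ring, h1]
      ring
    exact mul_left_cancel₀ (mul_ne_zero hσd hd) h2
  have hdvdf : ∀ φ : A →ₐ[k] k, f₁ ∣ σ φ f₁ := by
    intro φ
    exact hrel.symm.dvd_of_dvd_mul_right ⟨σ φ g₁, hred φ⟩
  have hdvdg : ∀ φ : A →ₐ[k] k, g₁ ∣ σ φ g₁ := by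
    intro φ
    exact hrel.dvd_of_dvd_mul_left ⟨σ φ f₁, by rw [← hred φ, mul_comm]⟩
  have hassoc : ∀ (p : B), (∀ φ : A →ₐ[k] k, p ∣ σ φ p) → ∀ φ : A →ₐ[k] k,
      Associated (σ φ p) p := by
    intro p hp φ
    refine associated_of_dvd_dvd ?_ (hp φ)
    have h1 := map_dvd (σ (B := B) φ) (hp (toConv φ)⁻¹.ofConv)
    rw [σ_σ_inv (toConv φ) p] at h1
    exact h1
  refine ⟨f₁, g₁, σ_eq_self_of_associated hchar f₁ hf₁ (hassoc f₁ hdvdf),
    σ_eq_self_of_associated hchar g₁ hg₁ (hassoc g₁ hdvdg), hg₁, ?_⟩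
  rw [← hdf, ← hdg]
  ring

end main

end Groth.Agent.H80.InvFrac
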