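import Groth.Agent.H80.UnitsFG4

/-!
# Units of a finitely generated domain over a field: main statement and group-theoretic corollaries
-/

set_option autoImplicit false
set_option linter.style.haveILetI false
universe u v w

namespace Groth.Agent.H80.UnitsFG

open MvPolynomial

/-- **Units theorem for affine domains.** For a domain `A` of finite type over a field `k` there
are `n` and a group homomorphism `Aˣ → ℤⁿ` whose kernel consists exactly of the units of `A`
which are integral (= algebraic) over `k`. -/
theorem exists_units_hom (k : Type u) (A : Type v) [Field k] [CommRing A] [IsDomain A]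
    [Algebra k A] [Algebra.FiniteType k A] :
    ∃ (n : ℕ) (φ : Aˣ →* Multiplicative (Fin n → ℤ)),
      ∀ u : Aˣ, φ u = 1 ↔ IsIntegral k (u : A) := by
  obtain ⟨d, g, hinj, hfin⟩ := exists_finite_inj_algHom_of_fg k A
  letI : Algebra (MvPolynomial (Fin d) k) A := g.toRingHom.toAlgebra
  haveI : Module.Finite (MvPolynomial (Fin d) k) A := hfin
  haveI : IsScalarTower k (MvPolynomial (Fin d) k) A :=
    IsScalarTower.of_algebraMap_eq' g.comp_algebraMap.symm
  have hcomp : (algebraMap (MvPolynomial (Fin d) k) A).comp C = algebraMap k A := by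
    rw [← MvPolynomial.algebraMap_eq]
    exact g.comp_algebraMap
  rcases isEmpty_or_nonempty (Fin d) with hd | hd
  · -- everything is integral over `k`
    haveI : Algebra.IsIntegral k (MvPolynomial (Fin d) k) := ⟨fun p => by
      rw [MvPolynomial.eq_C_of_isEmpty p, ← MvPolynomial.algebraMap_eq]
      exact isIntegral_algebraMap⟩
    haveI : Algebra.IsIntegral (MvPolynomial (Fin d) k) A := Algebra.IsIntegral.of_finite _ _
    haveI : Algebra.IsIntegral k A := Algebra.IsIntegral.trans (MvPolynomial (Fin d) k)
    exact ⟨0, 1, fun u => ⟨fun _ => Algebra.IsIntegral.isIntegral _, fun _ => rfl⟩⟩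
  · obtain ⟨n, φ, hφ⟩ := exists_units_hom_aux (Fin d) k A hinj
      (FractionRing (MvPolynomial (Fin d) k)) (FractionRing A)
    refine ⟨n, φ, fun u => ?_⟩
    rw [hφ, hcomp]
    rfl

/-- A commutative group embedding into a finitely generated free abelian group is finitely
generated. -/
theorem group_fg_of_injective {G : Type*} [CommGroup G] {M : Type*} [AddCommGroup M]
    [Module.Finite ℤ M] (φ : G →* Multiplicative M) (hφ : Function.Injective φ) : Group.FG G := by
  rw [GroupFG.iff_add_fg, ← Module.Finite.iff_addGroup_fg]
  let ψ : Additive G →+ M := MonoidHom.toAdditiveLeft φ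
  have hψ : Function.Injective ψ.toIntLinearMap := fun a b h => by
    apply Additive.toMul.injective
    exact hφ (Multiplicative.toAdd.injective h)
  exact Module.Finite.of_injective ψ.toIntLinearMap hψ

/-- Replace a homomorphism to `ℤ^{n₀}` by a surjective one onto some `ℤⁿ` with the same kernel. -/
theorem exists_surjective_hom {G : Type*} [CommGroup G] {n₀ : ℕ}
    (Ψ : G →* Multiplicative (Fin n₀ → ℤ)) :
    ∃ (n : ℕ) (v : G →* Multiplicative (Fin n → ℤ)), Function.Surjective v ∧ v.ker = Ψ.ker := by
  let ψ : Additive G →+ (Fin n₀ → ℤ) := MonoidHom.toAdditiveLeft Ψ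
  let L : Additive G →ₗ[ℤ] (Fin n₀ → ℤ) := ψ.toIntLinearMap
  let R : Submodule ℤ (Fin n₀ → ℤ) := LinearMap.range L
  let n := Module.finrank ℤ R
  let e : R ≃ₗ[ℤ] (Fin n → ℤ) := (Module.finBasis ℤ R).equivFun
  let v' : Additive G →ₗ[ℤ] (Fin n → ℤ) := e.toLinearMap.comp L.rangeRestrict
  have hv'surj : Function.Surjective v' := e.surjective.comp L.surjective_rangeRestrict
  have hv'ker : ∀ a : Additive G, v' a = 0 ↔ L a = 0 := by
    intro a
    change e (L.rangeRestrict a) = 0 ↔ _
    rw [LinearEquiv.map_eq_zero_iff]
    constructor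
    · intro h; exact congrArg Subtype.val h
    · intro h; exact Subtype.ext h
  let v : G →* Multiplicative (Fin n → ℤ) :=
    { toFun := fun g => Multiplicative.ofAdd (v' (Additive.ofMul g))
      map_one' := by
        change Multiplicative.ofAdd (v' 0) = _
        rw [map_zero]; rfl
      map_mul' := fun g h => by
        change Multiplicative.ofAdd (v' (Additive.ofMul g + Additive.ofMul h)) = _
        rw [map_add]; rfl }
  refine ⟨n, v, ?_, ?_⟩
  · intro y
    obtain ⟨a, ha⟩ := hv'surj (Multiplicative.toAdd y)
    exact ⟨Additive.toMul a, by change Multiplicative.ofAdd (v' a) = y; rw [ha]; rfl⟩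
  · ext g
    rw [MonoidHom.mem_ker, MonoidHom.mem_ker]
    change Multiplicative.ofAdd (v' (Additive.ofMul g)) = Multiplicative.ofAdd 0 ↔ _
    rw [Multiplicative.ofAdd.injective.eq_iff, hv'ker]
    constructor
    · intro h; exact Multiplicative.toAdd.injective h
    · intro h; exact congrArg Multiplicative.toAdd h

end Groth.Agent.H80.UnitsFG
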