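import Groth.Agent.H80.InvFrac1
import Groth.Agent.H80.UnitsFG5

/-!
# The character group of an affine algebraic group is finitely generated

For a reduced commutative Hopf algebra `A` of finite type over an algebraically closed field, the
group of group-like elements of `A` is a Noetherian `ℤ`-module (written additively).
-/

set_option autoImplicit false
set_option linter.style.haveILetI false
universe u

namespace Groth.Agent.H80.InvFrac

open TensorProduct Groth.Agent.H80.UnitsVal Groth.Agent.H80.UnitsFG

section groupLikeFG

variable (k : Type u) [Field k] [IsAlgClosed k] (A : Type u) [CommRing A] [HopfAlgebra k A]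
  [Algebra.FiniteType k A] [IsReduced A]

theorem isNoetherian_groupLike : IsNoetherian ℤ (Additive (GroupLike k A)) := by
  classical
  haveI : IsNoetherianRing A := Algebra.FiniteType.isNoetherianRing k A
  have hfin : (minimalPrimes A).Finite := minimalPrimes.finite_of_isNoetherianRing A
  haveI : Fintype (minimalPrimes A) := hfin.fintype
  haveI hprime : ∀ p : minimalPrimes A, p.1.IsPrime := fun p => Ideal.IsMinimalPrime.isPrime p.2
  -- per-prime data
  have hdata : ∀ p : minimalPrimes A, ∃ (n : ℕ) (φ : (A ⧸ p.1)ˣ →* Multiplicative (Fin n → ℤ)),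
      ∀ u : (A ⧸ p.1)ˣ, φ u = 1 ↔ IsIntegral k (u : A ⧸ p.1) := fun p =>
    exists_units_hom k (A ⧸ p.1)
  choose n φ hφ using hdata
  have hpt : ∀ p : minimalPrimes A, ∃ y : A →ₐ[k] k, p.1 ≤ RingHom.ker (y : A →+* k) := by
    intro p
    haveI : Algebra.FiniteType k (A ⧸ p.1) :=
      Algebra.FiniteType.of_surjective (Ideal.Quotient.mkₐ k p.1)
        (Ideal.Quotient.mkₐ_surjective k p.1)
    obtain ⟨y'⟩ := exists_algHom k (A ⧸ p.1)
    refine ⟨y'.comp (Ideal.Quotient.mkₐ k p.1), fun a ha => ?_⟩
    rw [RingHom.mem_ker]
    change y' (Ideal.Quotient.mk p.1 a) = 0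
    rw [Ideal.Quotient.eq_zero_iff_mem.2 ha, map_zero]
  choose y hy using hpt
  -- the homomorphism
  let ψ : ∀ p : minimalPrimes A, Additive (GroupLike k A) →+ (Fin (n p) → ℤ) := fun p =>
    MonoidHom.toAdditiveLeft ((φ p).comp ((Units.map (Ideal.Quotient.mk p.1 : A →* A ⧸ p.1)).comp
      (GroupLike.toUnits k)))
  let L : Additive (GroupLike k A) →ₗ[ℤ] (∀ p : minimalPrimes A, Fin (n p) → ℤ) :=
    LinearMap.pi fun p => (ψ p).toIntLinearMap
  -- the kernel consists of locally constant characters
  have hker : ∀ x : Additive (GroupLike k A), x ∈ LinearMap.ker L →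
      ∀ p : minimalPrimes A, IsIntegral k (Ideal.Quotient.mk p.1 (Additive.toMul x).val) := by
    intro x hx p
    rw [LinearMap.mem_ker] at hx
    have h1 : ψ p x = 0 := congrFun hx p
    have h2 : φ p (Units.map (Ideal.Quotient.mk p.1 : A →* A ⧸ p.1)
        (GroupLike.toUnits k (Additive.toMul x))) = 1 := by
      apply Multiplicative.toAdd.injective
      exact h1
    exact (hφ p _).1 h2
  -- the set of locally constant characters is finite
  let S : Set (GroupLike k A) :=
    {χ | ∀ p : minimalPrimes A, IsIntegral k (Ideal.Quotient.mk p.1 χ.val)}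
  have hSfin : Finite S := by
    let v : S → A := fun χ => χ.1.val
    have hv : LinearIndependent k v := by
      have hli : LinearIndependent k (fun x : {a : A | IsGroupLikeElem k a} => id (x : A)) :=
        linearIndepOn_isGroupLikeElem
      let f : S → {a : A | IsGroupLikeElem k a} := fun χ => ⟨χ.1.val, χ.1.2⟩
      have hf : Function.Injective f := fun χ χ' h =>
        Subtype.ext (GroupLike.val_injective (congrArg Subtype.val h))
      exact hli.comp f hf
    let E : A →ₗ[k] (minimalPrimes A → k) := LinearMap.pi fun p => (y p).toLinearMap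
    let A₀ : Submodule k A :=
      { carrier := {a | ∀ p : minimalPrimes A, ∃ c : k, a - algebraMap k A c ∈ p.1}
        add_mem' := by
          intro a b ha hb p
          obtain ⟨c, hc⟩ := ha p
          obtain ⟨c', hc'⟩ := hb p
          refine ⟨c + c', ?_⟩
          have : a + b - algebraMap k A (c + c') =
              (a - algebraMap k A c) + (b - algebraMap k A c') := by
            rw [map_add]; ring
          rw [this]
          exact Ideal.add_mem _ hc hc'
        zero_mem' := fun p => ⟨0, by simp⟩
        smul_mem' := by
          intro r a ha p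
          obtain ⟨c, hc⟩ := ha p
          refine ⟨r * c, ?_⟩
          have : r • a - algebraMap k A (r * c) = algebraMap k A r * (a - algebraMap k A c) := by
            rw [Algebra.smul_def, map_mul]; ring
          rw [this]
          exact Ideal.mul_mem_left _ _ hc }
    have hrange : Submodule.span k (Set.range v) ≤ A₀ := by
      rw [Submodule.span_le]
      rintro _ ⟨χ, rfl⟩ p
      obtain ⟨c, hc⟩ := mem_range_of_isIntegral (χ.2 p)
      refine ⟨c, ?_⟩
      rw [← Ideal.Quotient.eq_zero_iff_mem, map_sub, sub_eq_zero]
      exact hc.symm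
    have hdisj : Disjoint (Submodule.span k (Set.range v)) (LinearMap.ker E) := by
      rw [Submodule.disjoint_def]
      intro a ha hE
      have ha₀ := hrange ha
      rw [LinearMap.mem_ker] at hE
      have hmem : ∀ p : minimalPrimes A, a ∈ p.1 := by
        intro p
        obtain ⟨c, hc⟩ := ha₀ p
        have h1 : y p (a - algebraMap k A c) = 0 := hy p hc
        have h2 : y p a = 0 := congrFun hE p
        rw [map_sub, h2, zero_sub, neg_eq_zero, AlgHom.commutes] at h1
        have h3 : c = 0 := h1
        rw [h3, map_zero, sub_zero] at hc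
        exact hc
      have hnil : a ∈ nilradical A := by
        rw [nilradical, ← Ideal.sInf_minimalPrimes, Ideal.mem_sInf]
        intro p hp
        exact hmem ⟨p, hp⟩
      rw [nilradical_eq_zero A] at hnil
      exact hnil
    have hv' := hv.map hdisj
    exact hv'.finite
  haveI : Finite (LinearMap.ker L) := by
    let g : LinearMap.ker L → S := fun x => ⟨Additive.toMul x.1, hker x.1 x.2⟩
    have hg : Function.Injective g := fun x x' h => by
      have h1 : (g x).1 = (g x').1 := congrArg Subtype.val h
      exact Subtype.ext (Additive.toMul.injective h1)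
    exact Finite.of_injective g hg
  haveI : IsNoetherian ℤ (LinearMap.ker L) := isNoetherian_of_isNoetherianRing_of_finite ℤ _
  exact isNoetherian_of_range_eq_ker (LinearMap.ker L).subtype L (Submodule.range_subtype _)

end groupLikeFG

end Groth.Agent.H80.InvFrac
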