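import Groth.Agent.H80.InvFrac2

/-!
# Invariant rational functions on a factorial affine `G`-variety with constant units

`B` a factorial domain of finite type with `Bˣ = kˣ` and a multiplicative coaction of a reduced
commutative Hopf algebra `A` of finite type over an algebraically closed field.  There is a
semi-invariant `h ≠ 0` such that every invariant fraction `a / b` is a quotient of two invariant
elements of `B[1/h]`.
-/

set_option autoImplicit false
set_option linter.style.haveILetI false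
universe u

namespace Groth.Agent.H80.InvFrac

open TensorProduct WithConv Groth.Agent.H80.UnitsVal Groth.Agent.H80.LinChar

section group

/-- In a commutative group which is Noetherian as a `ℤ`-module, every subset `Λ` contains a finite
subset `s` such that every element of `Λ` times a product of powers of elements of `s` is a power
of the product of `s`. -/
theorem exists_finset_generating {G : Type*} [CommGroup G] [IsNoetherian ℤ (Additive G)]
    (Λ : Set G) : ∃ s : Finset G, (↑s : Set G) ⊆ Λ ∧ ∀ x ∈ Λ, ∃ (r : ℕ) (n : G → ℕ),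
      x * ∏ i ∈ s, i ^ n i = (∏ i ∈ s, i) ^ r := by
  classical
  let Λ' : Set (Additive G) := Additive.toMul ⁻¹' Λ
  have hfg : (Submodule.span ℤ Λ').FG := IsNoetherian.noetherian _
  obtain ⟨s', hs'Λ, hspan⟩ := (Submodule.fg_span_iff_fg_span_finset_subset Λ').1 hfg
  refine ⟨s'.map ⟨Additive.toMul, Additive.toMul.injective⟩, ?_, ?_⟩
  · intro g hg
    rw [Finset.mem_coe, Finset.mem_map] at hg
    obtain ⟨i, hi, rfl⟩ := hg
    exact hs'Λ hi
  · intro x hx
    have hx' : -(Additive.ofMul x) ∈ Submodule.span ℤ (↑s' : Set (Additive G)) := by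
      rw [← hspan]
      exact Submodule.neg_mem _ (Submodule.subset_span hx)
    obtain ⟨f, -, hf⟩ := Submodule.mem_span_finset.1 hx'
    let r : ℕ := ∑ i ∈ s', (f i).natAbs
    let n : Additive G → ℕ := fun i => ((r : ℤ) + f i).toNat
    have hn : ∀ i ∈ s', ((n i : ℕ) : ℤ) = (r : ℤ) + f i := by
      intro i hi
      apply Int.toNat_of_nonneg
      have h1 : (f i).natAbs ≤ r := Finset.single_le_sum (f := fun i => (f i).natAbs)
        (fun _ _ => Nat.zero_le _) hi
      have h2 : -(f i) ≤ ((f i).natAbs : ℤ) := by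
        rw [Int.natCast_natAbs]; exact neg_le_abs _
      have h3 : ((f i).natAbs : ℤ) ≤ (r : ℤ) := by exact_mod_cast h1
      linarith
    refine ⟨r, fun g => n (Additive.ofMul g), ?_⟩
    have hadd : Additive.ofMul x + ∑ i ∈ s', n i • i = r • ∑ i ∈ s', i := by
      have h1 : ∑ i ∈ s', n i • i = ∑ i ∈ s', ((r : ℤ) • i + f i • i) := by
        refine Finset.sum_congr rfl fun i hi => ?_
        rw [← natCast_zsmul, hn i hi, add_smul]
      rw [h1, Finset.sum_add_distrib, hf, ← Finset.smul_sum, natCast_zsmul]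
      abel
    have hmul := congrArg Additive.toMul hadd
    rw [toMul_add, toMul_ofMul, toMul_sum, toMul_nsmul, toMul_sum] at hmul
    rw [Finset.prod_map, Finset.prod_map]
    simp only [Function.Embedding.coeFn_mk]
    rw [← hmul]
    congr 1

end group

section semiinv

variable (k : Type u) [Field k] {A : Type u} [CommRing A] [HopfAlgebra k A]
  {B : Type u} [CommRing B] [Algebra k B] [HopfRep.Comod k A B] [GLin.IsCoactAlg k A B]

/-- `p` is a semi-invariant of weight `χ` -/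
def IsSemiInv (p : B) (χ : A) : Prop :=
  HopfRep.Comod.coact (k := k) (A := A) p = p ⊗ₜ[k] χ

variable {k}

theorem IsSemiInv.one : IsSemiInv k (1 : B) (1 : A) := by
  unfold IsSemiInv
  rw [GLin.IsCoactAlg.coact_one (k := k) (A := A) (R := B)]
  rfl

theorem IsSemiInv.mul {p q : B} {χ η : A} (hp : IsSemiInv k p χ) (hq : IsSemiInv k q η) :
    IsSemiInv k (p * q) (χ * η) := by
  unfold IsSemiInv at *
  rw [GLin.IsCoactAlg.coact_mul, hp, hq, Algebra.TensorProduct.tmul_mul_tmul]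

theorem IsSemiInv.pow {p : B} {χ : A} (hp : IsSemiInv k p χ) (n : ℕ) :
    IsSemiInv k (p ^ n) (χ ^ n) := by
  induction n with
  | zero =>
    rw [pow_zero, pow_zero]
    exact IsSemiInv.one
  | succ n ih =>
    rw [pow_succ, pow_succ]
    exact ih.mul hp

theorem IsSemiInv.prod {ι : Type*} (s : Finset ι) (p : ι → B) (χ : ι → A)
    (h : ∀ i ∈ s, IsSemiInv k (p i) (χ i)) :
    IsSemiInv k (∏ i ∈ s, p i) (∏ i ∈ s, χ i) := by
  classical
  induction s using Finset.induction_on with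
  | empty =>
    rw [Finset.prod_empty, Finset.prod_empty]
    exact IsSemiInv.one
  | insert a s ha ih =>
    rw [Finset.prod_insert ha, Finset.prod_insert ha]
    exact (h a (Finset.mem_insert_self a s)).mul
      (ih fun i hi => h i (Finset.mem_insert_of_mem hi))

theorem IsSemiInv.σ_eq {p : B} {χ : A} (hp : IsSemiInv k p χ) (φ : A →ₐ[k] k) :
    σ φ p = φ χ • p := by
  rw [σ_def, hp, evalRight_tmul]

end semiinv

section weight

variable {k : Type u} [Field k] [IsAlgClosed k] {A : Type u} [CommRing A] [HopfAlgebra k A]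
  [Algebra.FiniteType k A] [IsReduced A]
  {B : Type u} [CommRing B] [Algebra k B] [IsDomain B] [HopfRep.Comod k A B]
  [GLin.IsCoactAlg k A B]

omit [HopfRep.Comod k A B] [GLin.IsCoactAlg k A B] in
theorem eq_one_tmul_of_forall_evalRight_scalar (θ : B ⊗[k] A)
    (h : ∀ y : A →ₐ[k] k, evalRight y θ ∈ Set.range (algebraMap k B)) :
    ∃ χ : A, θ = (1 : B) ⊗ₜ[k] χ := by
  obtain ⟨l₀, hl₀⟩ := Module.Projective.exists_dual_eq_one k (one_ne_zero : (1 : B) ≠ 0)
  have hl₀' : (l₀ : B →ₗ[k] k) 1 = 1 := hl₀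
  refine ⟨slice (l₀ : B →ₗ[k] k) θ, ?_⟩
  rw [← sub_eq_zero]
  apply eq_zero_of_forall_evalRight
  intro y
  obtain ⟨c, hc⟩ := h y
  rw [map_sub, evalRight_tmul, algHom_slice, ← hc, Algebra.algebraMap_eq_smul_one, map_smul,
    hl₀', smul_eq_mul, mul_one, sub_self]

/-- an element which is a semi-invariant up to units has a weight, when all units are scalars -/
theorem exists_weight (hunits : ∀ u : Bˣ, ∃ c : k, algebraMap k B c = u) (p : B) (hp : p ≠ 0)
    (h : ∀ φ : A →ₐ[k] k, Associated (σ φ p) p) :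
    ∃ χ : A, IsGroupLikeElem k χ ∧ IsSemiInv k p χ := by
  have hdvd : ∀ y : A →ₐ[k] k, p ∣ evalRight y (HopfRep.Comod.coact (k := k) (A := A) p) :=
    fun y => (h y).symm.dvd
  obtain ⟨θ, hθ⟩ := exists_eq_tmul_one_mul p _ hdvd
  have heval : ∀ y : A →ₐ[k] k, σ y p = p * evalRight y θ := by
    intro y
    rw [σ_def, hθ, map_mul, evalRight_tmul, map_one, one_smul]
  have hscalar : ∀ y : A →ₐ[k] k, evalRight y θ ∈ Set.range (algebraMap k B) := by
    intro y
    obtain ⟨u, hu⟩ := (h y).symm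
    have h1 : p * (u : B) = p * evalRight y θ := by rw [hu, heval]
    obtain ⟨c, hc⟩ := hunits u
    exact ⟨c, by rw [hc, mul_left_cancel₀ hp h1]⟩
  obtain ⟨χ, hχ⟩ := eq_one_tmul_of_forall_evalRight_scalar θ hscalar
  have hρ : HopfRep.Comod.coact (k := k) (A := A) p = p ⊗ₜ[k] χ := by
    rw [hθ, hχ, Algebra.TensorProduct.tmul_mul_tmul, mul_one, one_mul]
  obtain ⟨l₀, hl₀⟩ := Module.Projective.exists_dual_eq_one k hp
  have hl₀' : (l₀ : B →ₗ[k] k) p = 1 := hl₀
  refine ⟨χ, ⟨?_, ?_⟩, hρ⟩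
  · have h3 := LinearMap.congr_fun (HopfRep.Comod.counit_comp (k := k) (A := A) (V := B)) p
    rw [LinearMap.comp_apply, hρ, LinearMap.lTensor_tmul] at h3
    have h4 := congrArg (slice (l₀ : B →ₗ[k] k)) h3
    rw [slice_tmul, hl₀', one_smul] at h4
    rw [h4]
    change slice (l₀ : B →ₗ[k] k) (p ⊗ₜ[k] (1 : k)) = 1
    rw [slice_tmul, hl₀', one_smul]
  · have h3 := LinearMap.congr_fun (HopfRep.Comod.coassoc (k := k) (A := A) (V := B)) p
    rw [LinearMap.comp_apply, LinearMap.comp_apply, LinearMap.comp_apply, hρ,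
      LinearMap.rTensor_tmul, hρ, LinearMap.lTensor_tmul] at h3
    have h4 := congrArg (slice (l₀ : B →ₗ[k] k)) h3
    rw [LinearEquiv.coe_coe, TensorProduct.assoc_tmul, slice_tmul, slice_tmul, hl₀', one_smul,
      one_smul] at h4
    exact h4.symm

end weight

section main

variable {k : Type u} [Field k] [IsAlgClosed k] {A : Type u} [CommRing A] [HopfAlgebra k A]
  [Algebra.FiniteType k A] [IsReduced A]
  {B : Type u} [CommRing B] [Algebra k B] [IsDomain B] [UniqueFactorizationMonoid B]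
  [HopfRep.Comod k A B] [GLin.IsCoactAlg k A B]

omit [IsAlgClosed k] [Algebra.FiniteType k A] [IsReduced A] in
/-- lowest terms of an invariant fraction: numerator and denominator are semi-invariants up to
units -/
theorem exists_reduced_associated (f g : B) (hf : f ≠ 0) (hg : g ≠ 0)
    (hinv : ∀ φ : A →ₐ[k] k, σ φ f * g = f * σ φ g) :
    ∃ f₁ g₁ d : B, f₁ ≠ 0 ∧ g₁ ≠ 0 ∧ d * f₁ = f ∧ d * g₁ = g ∧
      (∀ φ : A →ₐ[k] k, σ φ f₁ * g₁ = f₁ * σ φ g₁) ∧
      (∀ φ : A →ₐ[k] k, Associated (σ φ f₁) f₁) ∧ (∀ φ : A →ₐ[k] k, Associated (σ φ g₁) g₁) := by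
  obtain ⟨g₁, f₁, d, hrel, hdg, hdf⟩ := UniqueFactorizationMonoid.exists_reduced_factors g hg f
  have hd : d ≠ 0 := by
    rintro rfl
    rw [zero_mul] at hdg
    exact hg hdg.symm
  have hg₁ : g₁ ≠ 0 := by
    rintro rfl
    rw [mul_zero] at hdg
    exact hg hdg.symm
  have hf₁ : f₁ ≠ 0 := by
    rintro rfl
    rw [mul_zero] at hdf
    exact hf hdf.symm
  have hred : ∀ φ : A →ₐ[k] k, σ φ f₁ * g₁ = f₁ * σ φ g₁ := by
    intro φ
    have h1 := hinv φ
    rw [← hdf, ← hdg, map_mul, map_mul] at h1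
    have hσd : σ φ d ≠ 0 := fun h0 => hd (σ_injective φ (h0.trans (map_zero _).symm))
    have h2 : (σ φ d * d) * (σ φ f₁ * g₁) = (σ φ d * d) * (f₁ * σ φ g₁) := by
      rw [show (σ φ d * d) * (σ φ f₁ * g₁) = σ φ d * σ φ f₁ * (d * g₁) by ring, h1]
      ring
    exact mul_left_cancel₀ (mul_ne_zero hσd hd) h2
  have hdvdf : ∀ φ : A →ₐ[k] k, f₁ ∣ σ φ f₁ := by
    intro φ
    exact hrel.symm.dvd_of_dvd_mul_right ⟨σ φ g₁, hred φ⟩
  have hdvdg : ∀ φ : A →ₐ[k] k, g₁ ∣ σ φ g₁ := by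
    intro φ
    exact hrel.dvd_of_dvd_mul_left ⟨σ φ f₁, by rw [← hred φ, mul_comm]⟩
  have hassoc : ∀ (p : B), (∀ φ : A →ₐ[k] k, p ∣ σ φ p) → ∀ φ : A →ₐ[k] k,
      Associated (σ φ p) p := by
    intro p hp φ
    refine associated_of_dvd_dvd ?_ (hp φ)
    have h1 := map_dvd (σ (B := B) φ) (hp (toConv φ)⁻¹.ofConv)
    rw [σ_σ_inv (toConv φ) p] at h1
    exact h1
  exact ⟨f₁, g₁, d, hf₁, hg₁, hdf, hdg, hred, hassoc f₁ hdvdf, hassoc g₁ hdvdg⟩

theorem exists_invariant_localization (hunits : ∀ u : Bˣ, ∃ c : k, algebraMap k B c = u) :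
    ∃ h : B, h ≠ 0 ∧ (∀ φ : A →ₐ[k] k, ∃ (N : ℕ) (u : B), σ φ h * u = h ^ N) ∧
      ∀ a b : B, b ≠ 0 → (∀ φ : A →ₐ[k] k, σ φ a * b = a * σ φ b) →
        ∃ (c d : B) (r t : ℕ), d ≠ 0 ∧
          (∀ φ : A →ₐ[k] k, σ φ c * h ^ r = c * (σ φ h) ^ r) ∧
          (∀ φ : A →ₐ[k] k, σ φ d * h ^ t = d * (σ φ h) ^ t) ∧
          a * d * h ^ r = b * c * h ^ t := by
  classical
  haveI := isNoetherian_groupLike k A
  let Λ : Set (GroupLike k A) := {x | ∃ p : B, p ≠ 0 ∧ IsSemiInv k p x.val}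
  obtain ⟨s, hsΛ, hgen⟩ := exists_finset_generating Λ
  have hchoose : ∀ i : GroupLike k A, ∃ p : B, i ∈ s → p ≠ 0 ∧ IsSemiInv k p i.val := by
    intro i
    by_cases hi : i ∈ s
    · obtain ⟨p, hp0, hp⟩ := hsΛ hi
      exact ⟨p, fun _ => ⟨hp0, hp⟩⟩
    · exact ⟨0, fun h => absurd h hi⟩
  choose P hP using hchoose
  set h : B := ∏ i ∈ s, P i with hh
  set ηG : GroupLike k A := ∏ i ∈ s, i with hηG
  have hηval : ηG.val = ∏ i ∈ s, i.val := map_prod (GroupLike.valMonoidHom k A) _ s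
  have hh0 : h ≠ 0 := Finset.prod_ne_zero_iff.2 fun i hi => (hP i hi).1
  have hhη : IsSemiInv k h ηG.val := by
    rw [hηval]
    exact IsSemiInv.prod s P _ fun i hi => (hP i hi).2
  have hφη : ∀ φ : A →ₐ[k] k, φ ηG.val ≠ 0 := fun φ =>
    ((ηG.2.isUnit).map φ).ne_zero
  refine ⟨h, hh0, ?_, ?_⟩
  · intro φ
    refine ⟨1, algebraMap k B (φ ηG.val)⁻¹, ?_⟩
    rw [hhη.σ_eq, pow_one, Algebra.smul_def, mul_comm (algebraMap k B _) h, mul_assoc, ← map_mul,
      mul_inv_cancel₀ (hφη φ), map_one, mul_one]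
  · intro a b hb hinv
    by_cases ha : a = 0
    · refine ⟨0, 1, 0, 0, one_ne_zero, fun φ => ?_, fun φ => ?_, ?_⟩
      · simp
      · simp
      · simp [ha]
    obtain ⟨a₁, b₁, e, ha₁, hb₁, hea, heb, hred, hassa, hassb⟩ :=
      exists_reduced_associated a b ha hb hinv
    obtain ⟨χa, hχa, hsa⟩ := exists_weight hunits a₁ ha₁ hassa
    obtain ⟨χb, hχb, hsb⟩ := exists_weight hunits b₁ hb₁ hassb
    -- the two weights agree
    have hχ : χa = χb := by
      by_contra hne
      obtain ⟨y, hy⟩ := exists_algHom_ne_zero k A (sub_ne_zero.2 hne)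
      apply hy
      have h1 := hred y
      rw [hsa.σ_eq, hsb.σ_eq, Algebra.smul_def, Algebra.smul_def] at h1
      have h2 : (algebraMap k B (y χa) - algebraMap k B (y χb)) * (a₁ * b₁) = 0 := by
        rw [sub_mul, sub_eq_zero]
        calc algebraMap k B (y χa) * (a₁ * b₁) = algebraMap k B (y χa) * a₁ * b₁ := by ring
          _ = a₁ * (algebraMap k B (y χb) * b₁) := h1
          _ = algebraMap k B (y χb) * (a₁ * b₁) := by ring
      rcases mul_eq_zero.1 h2 with h3 | h3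
      · rw [map_sub]
        rw [← map_sub] at h3
        exact (map_eq_zero_iff _ (FaithfulSMul.algebraMap_injective k B)).1 h3
      · exact absurd h3 (mul_ne_zero ha₁ hb₁)
    subst hχ
    obtain ⟨r, n, hrn⟩ := hgen ⟨χa, hχa⟩ ⟨a₁, ha₁, hsa⟩
    have hrn' : χa * ∏ i ∈ s, i.val ^ n i = ηG.val ^ r := by
      have := congrArg (GroupLike.valMonoidHom k A) hrn
      rw [map_mul, map_prod, map_pow] at this
      simpa using this
    set q : B := ∏ i ∈ s, P i ^ n i with hq
    have hq0 : q ≠ 0 := Finset.prod_ne_zero_iff.2 fun i hi => pow_ne_zero _ (hP i hi).1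
    have hqω : IsSemiInv k q (∏ i ∈ s, i.val ^ n i) :=
      IsSemiInv.prod s _ _ fun i hi => (hP i hi).2.pow (n i)
    have hc : IsSemiInv k (a₁ * q) (ηG.val ^ r) := by
      rw [← hrn']
      exact hsa.mul hqω
    have hd : IsSemiInv k (b₁ * q) (ηG.val ^ r) := by
      rw [← hrn']
      exact hsb.mul hqω
    have key : ∀ (c : B), IsSemiInv k c (ηG.val ^ r) → ∀ φ : A →ₐ[k] k,
        σ φ c * h ^ r = c * (σ φ h) ^ r := by
      intro c hc φ
      rw [hc.σ_eq, hhη.σ_eq, smul_pow, map_pow, smul_mul_assoc, mul_smul_comm]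
    refine ⟨a₁ * q, b₁ * q, r, r, mul_ne_zero hb₁ hq0, key _ hc, key _ hd, ?_⟩
    rw [← hea, ← heb]
    ring

end main

end Groth.Agent.H80.InvFrac
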