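import Mathlib

/-! Generic lemmas on additive monoid algebras: coefficientwise ideals, units over a domain. -/

set_option autoImplicit false
set_option linter.unusedSectionVars false
universe u v w

namespace Groth.Agent.H80.LaurentUnits

open AddMonoidAlgebra

section CoI

variable {A : Type u} [CommRing A] {G : Type v} [AddCommGroup G] {H : Type w} [AddCommGroup H]

/-- elements of `A[G]` all of whose coefficients lie in the ideal `J`. -/
def coI (J : Ideal A) : AddSubgroup A[G] where
  carrier := {x | ∀ g, x.coeff g ∈ J}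
  zero_mem' := by
    show ∀ g, (0 : A[G]).coeff g ∈ J
    intro g
    rw [coeff_zero, Finsupp.zero_apply]
    exact J.zero_mem
  add_mem' := by
    intro x y hx hy
    show ∀ g, (x + y).coeff g ∈ J
    intro g
    rw [coeff_add, Finsupp.add_apply]
    exact J.add_mem (hx g) (hy g)
  neg_mem' := by
    intro x hx
    show ∀ g, (-x).coeff g ∈ J
    intro g
    rw [coeff_neg, Finsupp.neg_apply]
    exact J.neg_mem (hx g)

lemma mem_coI {J : Ideal A} {x : A[G]} : x ∈ coI J ↔ ∀ g, x.coeff g ∈ J := Iff.rfl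

lemma single_mem_coI {J : Ideal A} (g : G) {r : A} (hr : r ∈ J) : single g r ∈ coI J := by
  classical
  rw [mem_coI]
  intro g'
  rw [coeff_single, Finsupp.single_apply]
  split_ifs
  · exact hr
  · exact J.zero_mem

lemma coI_mono {I J : Ideal A} (h : I ≤ J) {x : A[G]} (hx : x ∈ coI I) : x ∈ coI J :=
  fun g => h (hx g)

lemma mem_coI_top (x : A[G]) : x ∈ coI (⊤ : Ideal A) := fun _ => Submodule.mem_top

lemma eq_zero_of_mem_coI_bot {x : A[G]} (hx : x ∈ coI (⊥ : Ideal A)) : x = 0 := by
  apply AddMonoidAlgebra.ext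
  apply Finsupp.ext
  intro g
  rw [coeff_zero, Finsupp.zero_apply]
  exact (Submodule.mem_bot A).1 (hx g)

lemma mul_mem_coI {I J : Ideal A} {x y : A[G]} (hx : x ∈ coI I) (hy : y ∈ coI J) :
    x * y ∈ coI (I * J) := by
  rw [mul_def, Finsupp.sum]
  refine sum_mem fun a _ => ?_
  rw [Finsupp.sum]
  refine sum_mem fun b _ => ?_
  exact single_mem_coI _ (Ideal.mul_mem_mul (hx a) (hy b))

lemma mul_mem_coI_right {J : Ideal A} {x : A[G]} (hx : x ∈ coI J) (y : A[G]) :
    x * y ∈ coI J := by
  have h := mul_mem_coI hx (mem_coI_top y)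
  rwa [Ideal.mul_top] at h

lemma pow_mem_coI {J : Ideal A} {x : A[G]} (hx : x ∈ coI J) (n : ℕ) : x ^ n ∈ coI (J ^ n) := by
  induction n with
  | zero =>
    rw [pow_zero, pow_zero, Ideal.one_eq_top]
    exact mem_coI_top _
  | succ n ih =>
    rw [pow_succ, pow_succ]
    exact mul_mem_coI ih hx

lemma isNilpotent_of_mem_coI {J : Ideal A} {m : ℕ} (hJ : J ^ m = ⊥) {x : A[G]}
    (hx : x ∈ coI J) : IsNilpotent x := by
  have h := pow_mem_coI hx m
  rw [hJ] at h
  exact ⟨m, eq_zero_of_mem_coI_bot h⟩

lemma mapDomain_mem_coI (f : G → H) {J : Ideal A} {x : A[G]} (hx : x ∈ coI J) :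
    mapDomain f x ∈ coI J := by
  have h : mapDomain f x = x.coeff.sum fun a r => single (f a) r := by
    conv_lhs => rw [← sum_coeff_single x]
    rw [mapDomain_sum]
    simp only [mapDomain_single]
  rw [h, Finsupp.sum]
  exact sum_mem fun a _ => single_mem_coI _ (hx a)

lemma mapDomainRingHom_mem_coI (f : G →+ H) {J : Ideal A} {x : A[G]} (hx : x ∈ coI J) :
    mapDomainRingHom A f x ∈ coI J := by
  rw [mapDomainRingHom_apply]
  exact mapDomain_mem_coI _ hx

lemma comapDomain_mem_coI (f : G → H) (hf : Function.Injective f) {J : Ideal A} {x : A[H]}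
    (hx : x ∈ coI J) : comapDomain f hf x ∈ coI J := by
  rw [mem_coI]
  intro g
  rw [coeff_comapDomain, Finsupp.comapDomain_apply]
  exact hx (f g)

lemma comapDomain_single_of_not_range (f : G → H) (hf : Function.Injective f) {n : H}
    (hn : n ∉ Set.range f) (r : A) : comapDomain f hf (single n r) = 0 := by
  classical
  apply AddMonoidAlgebra.ext
  apply Finsupp.ext
  intro m
  rw [coeff_comapDomain, Finsupp.comapDomain_apply, coeff_single, coeff_zero, Finsupp.zero_apply,
    Finsupp.single_apply, if_neg]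
  intro h
  exact hn ⟨m, h.symm⟩

end CoI

section Domain

/-- Over a domain, a unit of the group algebra of a group with two unique sums is a monomial. -/
theorem exists_single_of_mul_eq_one {K : Type u} [CommRing K] [IsDomain K] {G : Type v}
    [AddCommGroup G] [TwoUniqueSums G] {x y : K[G]} (h : x * y = 1) :
    ∃ (a : G) (c : K), x = single a c := by
  classical
  have h10 : (1 : K[G]) ≠ 0 := one_ne_zero
  have hx0 : x ≠ 0 := by
    rintro rfl
    rw [zero_mul] at h
    exact h10 h.symm
  have hy0 : y ≠ 0 := by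
    rintro rfl
    rw [mul_zero] at h
    exact h10 h.symm
  have hS : x.coeff.support.Nonempty := by
    rw [Finsupp.support_nonempty_iff]
    intro h0
    exact hx0 (coeff_eq_zero.1 h0)
  have hT : y.coeff.support.Nonempty := by
    rw [Finsupp.support_nonempty_iff]
    intro h0
    exact hy0 (coeff_eq_zero.1 h0)
  have hz : ∀ g : G, (x * y).coeff g ≠ 0 → g = 0 := by
    intro g hg
    rw [h, one_def, coeff_single, Finsupp.single_apply] at hg
    by_contra hne0
    exact hg (if_neg (Ne.symm hne0))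
  have hcard : ¬ 1 < x.coeff.support.card * y.coeff.support.card := by
    intro hc
    obtain ⟨p1, hp1, p2, hp2, hne, hu1, hu2⟩ := TwoUniqueSums.uniqueAdd_of_one_lt_card hc
    rw [Finset.mem_product] at hp1 hp2
    have h1 : (x * y).coeff (p1.1 + p1.2) = x.coeff p1.1 * y.coeff p1.2 :=
      coeff_mul_add_of_uniqueAdd hu1
    have h2 : (x * y).coeff (p2.1 + p2.2) = x.coeff p2.1 * y.coeff p2.2 :=
      coeff_mul_add_of_uniqueAdd hu2
    have hn1 : x.coeff p1.1 * y.coeff p1.2 ≠ 0 :=
      mul_ne_zero (Finsupp.mem_support_iff.1 hp1.1) (Finsupp.mem_support_iff.1 hp1.2)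
    have hn2 : x.coeff p2.1 * y.coeff p2.2 ≠ 0 :=
      mul_ne_zero (Finsupp.mem_support_iff.1 hp2.1) (Finsupp.mem_support_iff.1 hp2.2)
    have e1 : p1.1 + p1.2 = 0 := hz _ (by rw [h1]; exact hn1)
    have e2 : p2.1 + p2.2 = 0 := hz _ (by rw [h2]; exact hn2)
    have h3 := hu1 hp2.1 hp2.2 (e2.trans e1.symm)
    exact hne (Prod.ext h3.1.symm h3.2.symm)
  have hS1 : 0 < x.coeff.support.card := Finset.card_pos.2 hS
  have hT1 : 0 < y.coeff.support.card := Finset.card_pos.2 hT
  have hle : x.coeff.support.card ≤ x.coeff.support.card * y.coeff.support.card :=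
    Nat.le_mul_of_pos_right _ hT1
  have hone : x.coeff.support.card = 1 := by omega
  obtain ⟨a, _, ha⟩ := Finsupp.card_support_eq_one.1 hone
  refine ⟨a, x.coeff a, ?_⟩
  apply AddMonoidAlgebra.ext
  rw [coeff_single]
  exact ha

end Domain

end Groth.Agent.H80.LaurentUnits
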