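import Mathlib
import Groth.Agent.H80.LaurentUnits1

/-! The 2-cocycles of the complex of units of Laurent polynomial rings are coboundaries. -/

set_option autoImplicit false
set_option linter.unusedSectionVars false
universe u

namespace Groth.Agent.H80.LaurentUnits

open AddMonoidAlgebra

section Maps

/-- `(a, b) ↦ (0, a, b)`. -/
def m0 : (Fin 2 → ℤ) →+ (Fin 3 → ℤ) :=
  (Matrix.mulVecLin (!![0, 0; 1, 0; 0, 1] : Matrix (Fin 3) (Fin 2) ℤ)).toAddMonoidHom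
/-- `(a, b) ↦ (a, a, b)`. -/
def m1 : (Fin 2 → ℤ) →+ (Fin 3 → ℤ) :=
  (Matrix.mulVecLin (!![1, 0; 1, 0; 0, 1] : Matrix (Fin 3) (Fin 2) ℤ)).toAddMonoidHom
/-- `(a, b) ↦ (a, b, b)`. -/
def m2 : (Fin 2 → ℤ) →+ (Fin 3 → ℤ) :=
  (Matrix.mulVecLin (!![1, 0; 0, 1; 0, 1] : Matrix (Fin 3) (Fin 2) ℤ)).toAddMonoidHom
/-- `(a, b) ↦ (a, b, 0)`. -/
def m3 : (Fin 2 → ℤ) →+ (Fin 3 → ℤ) :=
  (Matrix.mulVecLin (!![1, 0; 0, 1; 0, 0] : Matrix (Fin 3) (Fin 2) ℤ)).toAddMonoidHom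
/-- `c ↦ (0, c)`. -/
def n0 : (Fin 1 → ℤ) →+ (Fin 2 → ℤ) :=
  (Matrix.mulVecLin (!![0; 1] : Matrix (Fin 2) (Fin 1) ℤ)).toAddMonoidHom
/-- `c ↦ (c, c)`. -/
def n1 : (Fin 1 → ℤ) →+ (Fin 2 → ℤ) :=
  (Matrix.mulVecLin (!![1; 1] : Matrix (Fin 2) (Fin 1) ℤ)).toAddMonoidHom
/-- `c ↦ (c, 0)`. -/
def n2 : (Fin 1 → ℤ) →+ (Fin 2 → ℤ) :=
  (Matrix.mulVecLin (!![1; 0] : Matrix (Fin 2) (Fin 1) ℤ)).toAddMonoidHom

lemma m0_apply (v : Fin 2 → ℤ) : m0 v = ![0, v 0, v 1] := by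
  ext i; fin_cases i <;> simp [m0, Matrix.mulVec, dotProduct, Fin.sum_univ_two]
lemma m1_apply (v : Fin 2 → ℤ) : m1 v = ![v 0, v 0, v 1] := by
  ext i; fin_cases i <;> simp [m1, Matrix.mulVec, dotProduct, Fin.sum_univ_two]
lemma m2_apply (v : Fin 2 → ℤ) : m2 v = ![v 0, v 1, v 1] := by
  ext i; fin_cases i <;> simp [m2, Matrix.mulVec, dotProduct, Fin.sum_univ_two]
lemma m3_apply (v : Fin 2 → ℤ) : m3 v = ![v 0, v 1, 0] := by
  ext i; fin_cases i <;> simp [m3, Matrix.mulVec, dotProduct, Fin.sum_univ_two]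
lemma n0_apply (c : Fin 1 → ℤ) : n0 c = ![0, c 0] := by
  ext i; fin_cases i <;> simp [n0, Matrix.mulVec, dotProduct]
lemma n1_apply (c : Fin 1 → ℤ) : n1 c = ![c 0, c 0] := by
  ext i; fin_cases i <;> simp [n1, Matrix.mulVec, dotProduct]
lemma n2_apply (c : Fin 1 → ℤ) : n2 c = ![c 0, 0] := by
  ext i; fin_cases i <;> simp [n2, Matrix.mulVec, dotProduct]

lemma m0_vec (a b : ℤ) : m0 ![a, b] = ![0, a, b] := by rw [m0_apply]; rfl
lemma m1_vec (a b : ℤ) : m1 ![a, b] = ![a, a, b] := by rw [m1_apply]; rfl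
lemma m2_vec (a b : ℤ) : m2 ![a, b] = ![a, b, b] := by rw [m2_apply]; rfl
lemma m3_vec (a b : ℤ) : m3 ![a, b] = ![a, b, 0] := by rw [m3_apply]; rfl
lemma n0_vec (b : ℤ) : n0 ![b] = ![0, b] := by rw [n0_apply]; rfl
lemma n1_vec (b : ℤ) : n1 ![b] = ![b, b] := by rw [n1_apply]; rfl
lemma n2_vec (b : ℤ) : n2 ![b] = ![b, 0] := by rw [n2_apply]; rfl

lemma m1n0 : m1.comp n0 = m0.comp n0 := by
  apply AddMonoidHom.ext; intro c
  rw [AddMonoidHom.comp_apply, AddMonoidHom.comp_apply, n0_apply, m1_apply, m0_apply]; rfl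
lemma m2n0 : m2.comp n0 = m0.comp n1 := by
  apply AddMonoidHom.ext; intro c
  rw [AddMonoidHom.comp_apply, AddMonoidHom.comp_apply, n0_apply, n1_apply, m2_apply, m0_apply]; rfl
lemma m3n0 : m3.comp n0 = m0.comp n2 := by
  apply AddMonoidHom.ext; intro c
  rw [AddMonoidHom.comp_apply, AddMonoidHom.comp_apply, n0_apply, n2_apply, m3_apply, m0_apply]; rfl
lemma m2n1 : m2.comp n1 = m1.comp n1 := by
  apply AddMonoidHom.ext; intro c
  rw [AddMonoidHom.comp_apply, AddMonoidHom.comp_apply, n1_apply, m2_apply, m1_apply]; rfl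
lemma m3n1 : m3.comp n1 = m1.comp n2 := by
  apply AddMonoidHom.ext; intro c
  rw [AddMonoidHom.comp_apply, AddMonoidHom.comp_apply, n1_apply, n2_apply, m3_apply, m1_apply]; rfl
lemma m3n2 : m3.comp n2 = m2.comp n2 := by
  apply AddMonoidHom.ext; intro c
  rw [AddMonoidHom.comp_apply, AddMonoidHom.comp_apply, n2_apply, m3_apply, m2_apply]; rfl

lemma m0_inj : Function.Injective ⇑m0 := by
  intro v w h
  rw [m0_apply, m0_apply] at h
  ext i
  fin_cases i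
  · exact congr_fun h 1
  · exact congr_fun h 2

lemma n0_inj : Function.Injective ⇑n0 := by
  intro c c' h
  rw [n0_apply, n0_apply] at h
  ext i
  have h1 : c 0 = c' 0 := congr_fun h 1
  rw [Subsingleton.elim i 0]
  exact h1

end Maps

section Units

variable (A : Type u) [CommRing A]

lemma Φ_single {p q : ℕ} (φ : (Fin p → ℤ) →+ (Fin q → ℤ)) (v : Fin p → ℤ) (r : A) :
    mapDomainRingHom A φ (single v r) = single (φ v) r := by
  rw [mapDomainRingHom_apply, mapDomain_single]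

/-- the map on units induced by an additive map of exponent lattices. -/
noncomputable def U {p q : ℕ} (φ : (Fin p → ℤ) →+ (Fin q → ℤ)) :
    (A[Fin p → ℤ])ˣ →* (A[Fin q → ℤ])ˣ :=
  Units.map (mapDomainRingHom A φ).toMonoidHom

lemma U_val {p q : ℕ} (φ : (Fin p → ℤ) →+ (Fin q → ℤ)) (η : (A[Fin p → ℤ])ˣ) :
    ((U A φ η : (A[Fin q → ℤ])ˣ) : A[Fin q → ℤ]) = mapDomainRingHom A φ (η : A[Fin p → ℤ]) := rfl

lemma U_comp {p q r : ℕ} (φ : (Fin q → ℤ) →+ (Fin r → ℤ)) (ψ : (Fin p → ℤ) →+ (Fin q → ℤ))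
    (η : (A[Fin p → ℤ])ˣ) : U A φ (U A ψ η) = U A (φ.comp ψ) η := by
  apply Units.ext
  rw [U_val, U_val, U_val, mapDomainRingHom_comp]
  rfl

/-- first coboundary. -/
noncomputable def d1 : (A[Fin 1 → ℤ])ˣ →* (A[Fin 2 → ℤ])ˣ := U A n0 * (U A n1)⁻¹ * U A n2

/-- second coboundary. -/
noncomputable def d2 : (A[Fin 2 → ℤ])ˣ →* (A[Fin 3 → ℤ])ˣ :=
  U A m0 * (U A m1)⁻¹ * U A m2 * (U A m3)⁻¹

lemma d1_apply (η : (A[Fin 1 → ℤ])ˣ) : d1 A η = U A n0 η * (U A n1 η)⁻¹ * U A n2 η := rfl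

lemma d2_apply (ξ : (A[Fin 2 → ℤ])ˣ) :
    d2 A ξ = U A m0 ξ * (U A m1 ξ)⁻¹ * U A m2 ξ * (U A m3 ξ)⁻¹ := rfl

lemma comm_group_aux {Γ : Type*} [CommGroup Γ] (a b c d e f : Γ) :
    (a * b⁻¹ * c) * (a * d⁻¹ * e)⁻¹ * (b * d⁻¹ * f) * (c * e⁻¹ * f)⁻¹ = 1 := by
  apply Additive.ofMul.injective
  simp only [ofMul_mul, ofMul_inv, ofMul_one]
  abel

lemma comm_group_aux2 {Γ : Type*} [CommGroup Γ] (a b c d : Γ) (h : a * b⁻¹ * c * d⁻¹ = 1) :
    a * c = b * d := by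
  have e : a * c = (a * b⁻¹ * c * d⁻¹) * (b * d) := by
    apply Additive.ofMul.injective
    simp only [ofMul_mul, ofMul_inv]
    abel
  rw [e, h, one_mul]

lemma comm_group_aux3 {Γ : Type*} [CommGroup Γ] (x a b c : Γ) :
    x * (a * b⁻¹ * c)⁻¹ * (a * c) = x * b := by
  apply Additive.ofMul.injective
  simp only [ofMul_mul, ofMul_inv]
  abel

lemma d2_d1 (η : (A[Fin 1 → ℤ])ˣ) : d2 A (d1 A η) = 1 := by
  have e : ∀ φ : (Fin 2 → ℤ) →+ (Fin 3 → ℤ), U A φ (d1 A η) =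
      U A (φ.comp n0) η * (U A (φ.comp n1) η)⁻¹ * U A (φ.comp n2) η := by
    intro φ
    rw [d1_apply, map_mul, map_mul, map_inv, U_comp, U_comp, U_comp]
  rw [d2_apply, e, e, e, e, m1n0, m2n0, m3n0, m2n1, m3n1, m3n2]
  exact comm_group_aux _ _ _ _ _ _

lemma coc_elem {ξ : (A[Fin 2 → ℤ])ˣ} (h : d2 A ξ = 1) :
    mapDomainRingHom A m0 (ξ : A[Fin 2 → ℤ]) * mapDomainRingHom A m2 (ξ : A[Fin 2 → ℤ]) =
      mapDomainRingHom A m1 (ξ : A[Fin 2 → ℤ]) * mapDomainRingHom A m3 (ξ : A[Fin 2 → ℤ]) := by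
  rw [d2_apply] at h
  have h1 := congrArg Units.val (comm_group_aux2 _ _ _ _ h)
  rw [Units.val_mul, Units.val_mul] at h1
  exact h1

/-- constants as units. -/
noncomputable def kk (p : ℕ) : Aˣ →* (A[Fin p → ℤ])ˣ :=
  Units.map (singleZeroRingHom (R := A) (M := Fin p → ℤ)).toMonoidHom

lemma kk_val (p : ℕ) (c : Aˣ) : ((kk A p c : (A[Fin p → ℤ])ˣ) : A[Fin p → ℤ]) = single 0 (c : A) :=
  rfl

lemma U_kk {p q : ℕ} (φ : (Fin p → ℤ) →+ (Fin q → ℤ)) (c : Aˣ) : U A φ (kk A p c) = kk A q c := by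
  apply Units.ext
  rw [U_val, kk_val, kk_val, Φ_single, map_zero]

lemma d1_kk (c : Aˣ) : d1 A (kk A 1 c) = kk A 2 c := by
  rw [d1_apply, U_kk, U_kk, U_kk, mul_inv_cancel, one_mul]

lemma d2_kk (c : Aˣ) : d2 A (kk A 2 c) = 1 := by
  rw [d2_apply, U_kk, U_kk, U_kk, U_kk, mul_inv_cancel, one_mul, mul_inv_cancel]

end Units

section Homotopy

variable (A : Type u) [CommRing A]

/-- extraction of the part of degree `0` in the first variable. -/
noncomputable def hh : A[Fin 2 → ℤ] →+ A[Fin 1 → ℤ] := comapDomainAddMonoidHom (⇑n0) n0_inj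

/-- extraction of the part of degree `0` in the first variable. -/
noncomputable def hh' : A[Fin 3 → ℤ] →+ A[Fin 2 → ℤ] := comapDomainAddMonoidHom (⇑m0) m0_inj

lemma hh_apply (x : A[Fin 2 → ℤ]) : hh A x = comapDomain (⇑n0) n0_inj x := rfl
lemma hh'_apply (x : A[Fin 3 → ℤ]) : hh' A x = comapDomain (⇑m0) m0_inj x := rfl

lemma hh_zero (b : ℤ) (r : A) : hh A (single ![0, b] r) = single ![b] r := by
  rw [hh_apply, ← n0_vec b]
  exact comapDomain_single_map _ _ _ _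

lemma hh_ne (a b : ℤ) (r : A) (ha : a ≠ 0) : hh A (single ![a, b] r) = 0 := by
  rw [hh_apply]
  apply comapDomain_single_of_not_range
  rintro ⟨w, hw⟩
  rw [n0_apply] at hw
  exact ha (congr_fun hw 0).symm

lemma hh'_zero (j k : ℤ) (r : A) : hh' A (single ![0, j, k] r) = single ![j, k] r := by
  rw [hh'_apply, ← m0_vec j k]
  exact comapDomain_single_map _ _ _ _

lemma hh'_ne (i j k : ℤ) (r : A) (hi : i ≠ 0) : hh' A (single ![i, j, k] r) = 0 := by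
  rw [hh'_apply]
  apply comapDomain_single_of_not_range
  rintro ⟨w, hw⟩
  rw [m0_apply] at hw
  exact hi (congr_fun hw 0).symm

theorem homotopy (x : A[Fin 2 → ℤ]) :
    x - (mapDomainRingHom A n0 (hh A x) - mapDomainRingHom A n1 (hh A x) +
        mapDomainRingHom A n2 (hh A x)) =
      hh' A (mapDomainRingHom A m0 x - mapDomainRingHom A m1 x + mapDomainRingHom A m2 x -
        mapDomainRingHom A m3 x) := by
  induction x using AddMonoidAlgebra.induction_linear with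
  | zero => simp
  | add x y hx hy =>
    simp only [map_add, map_sub] at hx hy ⊢
    linear_combination hx + hy
  | single v r =>
    obtain ⟨a, b, rfl⟩ : ∃ a b, v = ![a, b] := ⟨v 0, v 1, by ext i; fin_cases i <;> rfl⟩
    rw [Φ_single A m0, Φ_single A m1, Φ_single A m2, Φ_single A m3, m0_vec, m1_vec, m2_vec,
      m3_vec]
    by_cases ha : a = 0
    · subst ha
      rw [hh_zero, Φ_single, Φ_single, Φ_single, n0_vec, n1_vec, n2_vec]
      simp only [map_sub, map_add, hh'_zero]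
      abel
    · rw [hh_ne A a b r ha]
      simp only [map_sub, map_add, map_zero, hh'_zero, hh'_ne A a a b r ha, hh'_ne A a b b r ha,
        hh'_ne A a b 0 r ha]
      abel

end Homotopy

section Approx

variable (A : Type u) [CommRing A]

theorem step (J : Ideal A) (m : ℕ) (hJ : J ^ m = ⊥) (j : ℕ) (hj : 1 ≤ j)
    (ξ : (A[Fin 2 → ℤ])ˣ) (hξ : d2 A ξ = 1)
    (hx : (ξ : A[Fin 2 → ℤ]) - 1 ∈ coI (J ^ j)) :
    ∃ η : (A[Fin 1 → ℤ])ˣ,
      ((ξ * (d1 A η)⁻¹ : (A[Fin 2 → ℤ])ˣ) : A[Fin 2 → ℤ]) - 1 ∈ coI (J ^ (j + 1)) := by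
  obtain ⟨x, hxdef⟩ : ∃ x : A[Fin 2 → ℤ], x = (ξ : A[Fin 2 → ℤ]) - 1 := ⟨_, rfl⟩
  rw [← hxdef] at hx
  have hξx : (ξ : A[Fin 2 → ℤ]) = 1 + x := by rw [hxdef]; ring
  obtain ⟨y, hydef⟩ : ∃ y : A[Fin 1 → ℤ], y = hh A x := ⟨_, rfl⟩
  have hy : y ∈ coI (J ^ j) := by
    rw [hydef, hh_apply]
    exact comapDomain_mem_coI _ _ hx
  have hyJ : y ∈ coI J := coI_mono (Ideal.pow_le_self (by omega)) hy
  have hunit : IsUnit (1 + y) := (isNilpotent_of_mem_coI hJ hyJ).isUnit_one_add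
  obtain ⟨η, hη⟩ := hunit
  refine ⟨η, ?_⟩
  have hN : ∀ φ : (Fin 1 → ℤ) →+ (Fin 2 → ℤ),
      ((U A φ η : (A[Fin 2 → ℤ])ˣ) : A[Fin 2 → ℤ]) = 1 + mapDomainRingHom A φ y := by
    intro φ
    rw [U_val, hη, map_add, map_one]
  have hc := coc_elem A hξ
  have hM : ∀ φ : (Fin 2 → ℤ) →+ (Fin 3 → ℤ),
      mapDomainRingHom A φ (ξ : A[Fin 2 → ℤ]) = 1 + mapDomainRingHom A φ x := by
    intro φ
    rw [hξx, map_add, map_one]
  rw [hM, hM, hM, hM] at hc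
  have hMx : ∀ φ : (Fin 2 → ℤ) →+ (Fin 3 → ℤ), mapDomainRingHom A φ x ∈ coI (J ^ j) :=
    fun φ => mapDomainRingHom_mem_coI φ hx
  have hNy : ∀ φ : (Fin 1 → ℤ) →+ (Fin 2 → ℤ), mapDomainRingHom A φ y ∈ coI (J ^ j) :=
    fun φ => mapDomainRingHom_mem_coI φ hy
  have hd : mapDomainRingHom A m0 x - mapDomainRingHom A m1 x + mapDomainRingHom A m2 x -
      mapDomainRingHom A m3 x =
      mapDomainRingHom A m1 x * mapDomainRingHom A m3 x -
        mapDomainRingHom A m0 x * mapDomainRingHom A m2 x := by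
    linear_combination hc
  have hJJ : J ^ j * J ^ j ≤ J ^ (j + 1) := by
    rw [← pow_add]
    exact Ideal.pow_le_pow_right (by omega)
  have hdmem : mapDomainRingHom A m0 x - mapDomainRingHom A m1 x + mapDomainRingHom A m2 x -
      mapDomainRingHom A m3 x ∈ coI (J ^ (j + 1)) := by
    rw [hd]
    exact sub_mem (coI_mono hJJ (mul_mem_coI (hMx m1) (hMx m3)))
      (coI_mono hJJ (mul_mem_coI (hMx m0) (hMx m2)))
  have hH := homotopy A x
  rw [← hydef] at hH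
  have h1 : x - (mapDomainRingHom A n0 y - mapDomainRingHom A n1 y + mapDomainRingHom A n2 y) ∈
      coI (J ^ (j + 1)) := by
    rw [hH, hh'_apply]
    exact comapDomain_mem_coI _ _ hdmem
  have h2 : x * mapDomainRingHom A n1 y - mapDomainRingHom A n0 y * mapDomainRingHom A n2 y ∈
      coI (J ^ (j + 1)) :=
    sub_mem (coI_mono hJJ (mul_mem_coI hx (hNy n1)))
      (coI_mono hJJ (mul_mem_coI (hNy n0) (hNy n2)))
  have hE : (ξ : A[Fin 2 → ℤ]) * (U A n1 η : (A[Fin 2 → ℤ])ˣ) -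
      (U A n0 η : (A[Fin 2 → ℤ])ˣ) * (U A n2 η : (A[Fin 2 → ℤ])ˣ) ∈ coI (J ^ (j + 1)) := by
    have e : (ξ : A[Fin 2 → ℤ]) * (U A n1 η : (A[Fin 2 → ℤ])ˣ) -
        (U A n0 η : (A[Fin 2 → ℤ])ˣ) * (U A n2 η : (A[Fin 2 → ℤ])ˣ) =
        (x - (mapDomainRingHom A n0 y - mapDomainRingHom A n1 y + mapDomainRingHom A n2 y)) +
          (x * mapDomainRingHom A n1 y - mapDomainRingHom A n0 y * mapDomainRingHom A n2 y) := by
      rw [hN, hN, hN, hξx]
      ring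
    rw [e]
    exact add_mem h1 h2
  obtain ⟨w, hw⟩ : ∃ w : (A[Fin 2 → ℤ])ˣ, w = ξ * (d1 A η)⁻¹ := ⟨_, rfl⟩
  rw [← hw]
  have e3 : w * (U A n0 η * U A n2 η) = ξ * U A n1 η := by
    rw [hw, d1_apply]
    exact comm_group_aux3 _ _ _ _
  have e4 := congrArg Units.val e3
  simp only [Units.val_mul] at e4
  have hfin : (w : A[Fin 2 → ℤ]) - 1 =
      ((ξ : A[Fin 2 → ℤ]) * (U A n1 η : (A[Fin 2 → ℤ])ˣ) -
        (U A n0 η : (A[Fin 2 → ℤ])ˣ) * (U A n2 η : (A[Fin 2 → ℤ])ˣ)) *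
        ((U A n0 η * U A n2 η)⁻¹ : (A[Fin 2 → ℤ])ˣ) := by
    rw [← e4, ← Units.val_mul (U A n0 η) (U A n2 η), sub_mul, Units.mul_inv_cancel_right,
      Units.mul_inv]
  rw [hfin]
  exact mul_mem_coI_right hE _

theorem approx (J : Ideal A) (m : ℕ) (hJ : J ^ m = ⊥) :
    ∀ (k j : ℕ), 1 ≤ j → m ≤ j + k → ∀ ξ : (A[Fin 2 → ℤ])ˣ, d2 A ξ = 1 →
      (ξ : A[Fin 2 → ℤ]) - 1 ∈ coI (J ^ j) → ∃ η : (A[Fin 1 → ℤ])ˣ, ξ = d1 A η := by
  intro k
  induction k with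
  | zero =>
    intro j hj hm ξ hξ hx
    have h1 : (ξ : A[Fin 2 → ℤ]) - 1 ∈ coI (⊥ : Ideal A) := by
      rw [← hJ]
      exact coI_mono (Ideal.pow_le_pow_right (by omega)) hx
    have h2 : (ξ : A[Fin 2 → ℤ]) = 1 := sub_eq_zero.1 (eq_zero_of_mem_coI_bot h1)
    refine ⟨1, ?_⟩
    rw [map_one]
    exact Units.ext h2
  | succ k ih =>
    intro j hj hm ξ hξ hx
    obtain ⟨η₁, hη₁⟩ := step A J m hJ j hj ξ hξ hx
    have hd : d2 A (ξ * (d1 A η₁)⁻¹) = 1 := by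
      rw [map_mul, map_inv, hξ, d2_d1, inv_one, mul_one]
    obtain ⟨η₂, hη₂⟩ := ih (j + 1) (by omega) (by omega) _ hd hη₁
    refine ⟨η₂ * η₁, ?_⟩
    rw [map_mul, ← hη₂, inv_mul_cancel_right]

end Approx

section Const

/-- over a domain, a unit cocycle is constant. -/
theorem const_of_domain (K : Type u) [CommRing K] [IsDomain K] (x : K[Fin 2 → ℤ])
    (hx : IsUnit x)
    (hc : mapDomainRingHom K m0 x * mapDomainRingHom K m2 x =
      mapDomainRingHom K m1 x * mapDomainRingHom K m3 x) : ∃ c : K, x = single 0 c := by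
  obtain ⟨y, hy⟩ := hx.exists_right_inv
  obtain ⟨a, c, rfl⟩ := exists_single_of_mul_eq_one hy
  have hc0 : c ≠ 0 := by
    intro h0
    rw [h0, single_zero, zero_mul] at hy
    exact zero_ne_one hy
  rw [Φ_single, Φ_single, Φ_single, Φ_single, single_mul_single, single_mul_single] at hc
  have h1 : m0 a + m2 a = m1 a + m3 a := (single_left_inj (mul_ne_zero hc0 hc0)).1 hc
  rw [m0_apply, m1_apply, m2_apply, m3_apply] at h1
  have h10 := congr_fun h1 0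
  have h12 := congr_fun h1 2
  simp at h10 h12
  have ha : a = 0 := by
    ext i
    fin_cases i
    · simpa using h10
    · simpa using h12
  exact ⟨c, by rw [ha]⟩

variable (A : Type u) [CommRing A]

theorem coeff_props (ξ : A[Fin 2 → ℤ]) (hu : IsUnit ξ)
    (hc : mapDomainRingHom A m0 ξ * mapDomainRingHom A m2 ξ =
      mapDomainRingHom A m1 ξ * mapDomainRingHom A m3 ξ) :
    IsUnit (ξ.coeff 0) ∧ ∀ g : Fin 2 → ℤ, g ≠ 0 → ξ.coeff g ∈ nilradical A := by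
  classical
  have key : ∀ P : Ideal A, P.IsPrime → ∃ c : A ⧸ P,
      mapRingHom (Fin 2 → ℤ) (Ideal.Quotient.mk P) ξ = single 0 c := by
    intro P hP
    haveI := hP
    apply const_of_domain
    · exact hu.map _
    · have e : ∀ φ : (Fin 2 → ℤ) →+ (Fin 3 → ℤ),
          mapDomainRingHom (A ⧸ P) φ (mapRingHom (Fin 2 → ℤ) (Ideal.Quotient.mk P) ξ) =
            mapRingHom (Fin 3 → ℤ) (Ideal.Quotient.mk P) (mapDomainRingHom A φ ξ) := fun φ =>
        (RingHom.congr_fun (mapRingHom_comp_mapDomainRingHom (Ideal.Quotient.mk P) φ) ξ).symm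
      rw [e, e, e, e, ← map_mul, ← map_mul, hc]
  constructor
  · by_contra hnu
    obtain ⟨P, hP, hmem⟩ := exists_max_ideal_of_mem_nonunits (mem_nonunits_iff.2 hnu)
    haveI := hP.isPrime
    obtain ⟨c, hcc⟩ := key P hP.isPrime
    have h0 : c = 0 := by
      have h1 := congrArg (fun z => z.coeff 0) hcc
      simp only [coeff_mapRingHom, coeff_single, Finsupp.single_eq_same] at h1
      rw [← h1, Ideal.Quotient.eq_zero_iff_mem]
      exact hmem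
    rw [h0, single_zero] at hcc
    exact (hu.map (mapRingHom (Fin 2 → ℤ) (Ideal.Quotient.mk P))).ne_zero hcc
  · intro g hg
    rw [mem_nilradical, nilpotent_iff_mem_prime]
    intro P hP
    obtain ⟨c, hcc⟩ := key P hP
    have h1 := congrArg (fun z => z.coeff g) hcc
    simp only [coeff_mapRingHom, coeff_single] at h1
    rw [Finsupp.single_apply, if_neg (Ne.symm hg)] at h1
    exact Ideal.Quotient.eq_zero_iff_mem.1 h1

end Const

section Main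

variable (A : Type u) [CommRing A]

theorem main (ξ : (A[Fin 2 → ℤ])ˣ) (hξ : d2 A ξ = 1) : ∃ η : (A[Fin 1 → ℤ])ˣ, ξ = d1 A η := by
  classical
  obtain ⟨hu0, hnil⟩ := coeff_props A (ξ : A[Fin 2 → ℤ]) ξ.isUnit (coc_elem A hξ)
  obtain ⟨cu, hcu⟩ := hu0
  -- normalise the constant term
  have hd : d2 A (ξ * (kk A 2 cu)⁻¹) = 1 := by
    rw [map_mul, map_inv, hξ, d2_kk, inv_one, mul_one]
  obtain ⟨x, hxdef⟩ : ∃ x : A[Fin 2 → ℤ],
      x = ((ξ * (kk A 2 cu)⁻¹ : (A[Fin 2 → ℤ])ˣ) : A[Fin 2 → ℤ]) - 1 := ⟨_, rfl⟩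
  have hcoeff : ∀ g, x.coeff g ∈ nilradical A := by
    intro g
    have e1 : ((ξ * (kk A 2 cu)⁻¹ : (A[Fin 2 → ℤ])ˣ) : A[Fin 2 → ℤ]) =
        (ξ : A[Fin 2 → ℤ]) * single 0 ((cu⁻¹ : Aˣ) : A) := by
      rw [Units.val_mul, ← map_inv, kk_val]
    rw [hxdef, e1, coeff_sub, Finsupp.sub_apply, coeff_mul_single_zero, one_def, coeff_single,
      Finsupp.single_apply]
    by_cases hg : g = 0
    · subst hg
      rw [if_pos rfl, ← hcu, Units.mul_inv, sub_self]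
      exact (nilradical A).zero_mem
    · rw [if_neg (Ne.symm hg), sub_zero]
      exact Ideal.mul_mem_right _ _ (hnil g hg)
  let J : Ideal A := Ideal.span (↑(Finset.image (fun g => x.coeff g) x.coeff.support) : Set A)
  have hfg : J.FG := ⟨_, rfl⟩
  have hle : J ≤ nilradical A := by
    apply Ideal.span_le.2
    intro r hr
    rw [Finset.mem_coe, Finset.mem_image] at hr
    obtain ⟨g, _, rfl⟩ := hr
    exact hcoeff g
  obtain ⟨m, hm⟩ := (Ideal.FG.isNilpotent_iff_le_nilradical hfg).2 hle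
  rw [Ideal.zero_eq_bot] at hm
  have hxJ : x ∈ coI J := by
    rw [mem_coI]
    intro g
    by_cases hg : g ∈ x.coeff.support
    · exact Ideal.subset_span (Finset.mem_coe.2 (Finset.mem_image_of_mem _ hg))
    · rw [Finsupp.notMem_support_iff.1 hg]
      exact J.zero_mem
  have hxJ1 : ((ξ * (kk A 2 cu)⁻¹ : (A[Fin 2 → ℤ])ˣ) : A[Fin 2 → ℤ]) - 1 ∈ coI (J ^ 1) := by
    rw [pow_one, ← hxdef]
    exact hxJ
  obtain ⟨η₁, hη₁⟩ := approx A J m hm m 1 le_rfl (by omega) _ hd hxJ1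
  refine ⟨η₁ * kk A 1 cu, ?_⟩
  rw [map_mul, d1_kk, ← hη₁, inv_mul_cancel_right]

end Main

end Groth.Agent.H80.LaurentUnits
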