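import Groth.Agent.H80.UnitsVal4

/-!
# Rosenlicht's lemma with a connected reduced second factor

Over an algebraically closed field `k`, every unit of `A ⊗[k] B`, where `A` is a domain of finite
type over `k` and `B` is a reduced `k`-algebra of finite type with connected spectrum, is a pure
tensor `a ⊗ b` of units.
-/

set_option autoImplicit false
set_option linter.style.haveILetI false
universe u v w

namespace Groth.Agent.H80.LinChar

open TensorProduct WithZero Groth.Agent.H80.UnitsVal

/-- a vector on which every functional killing `w` vanishes is a multiple of `w` -/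
theorem exists_smul_of_forall_dual {k V : Type*} [Field k] [AddCommGroup V] [Module k V]
    {w v : V} (hw : w ≠ 0) (h : ∀ l : V →ₗ[k] k, l w = 0 → l v = 0) : ∃ c : k, v = c • w := by
  obtain ⟨l₀, hl₀⟩ := Module.Projective.exists_dual_eq_one k hw
  have hl₀' : (l₀ : V →ₗ[k] k) w = 1 := hl₀
  refine ⟨(l₀ : V →ₗ[k] k) v, ?_⟩
  by_contra hne
  have hne' : v - (l₀ : V →ₗ[k] k) v • w ≠ 0 := sub_ne_zero.2 hne
  obtain ⟨l, hl⟩ := Module.Projective.exists_dual_eq_one k hne'
  have hl' : (l : V →ₗ[k] k) (v - (l₀ : V →ₗ[k] k) v • w) = 1 := hl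
  have h1 : ((l : V →ₗ[k] k) - (l : V →ₗ[k] k) w • (l₀ : V →ₗ[k] k)) w = 0 := by
    simp [hl₀']
  have h2 := h _ h1
  rw [map_sub, map_smul] at hl'
  simp only [LinearMap.sub_apply, LinearMap.smul_apply, smul_eq_mul] at h2
  rw [smul_eq_mul] at hl'
  have : (l : V →ₗ[k] k) v - (l₀ : V →ₗ[k] k) v * (l : V →ₗ[k] k) w = 0 := by
    rw [← h2]; ring
  rw [this] at hl'
  exact zero_ne_one hl'

theorem rosenlicht_connected (k : Type u) [Field k] [IsAlgClosed k]
    (A : Type v) [CommRing A] [IsDomain A] [Algebra k A] [Algebra.FiniteType k A]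
    (B : Type w) [CommRing B] [IsReduced B] [Algebra k B] [Algebra.FiniteType k B]
    [ConnectedSpace (PrimeSpectrum B)]
    (f g : A ⊗[k] B) (hfg : f * g = 1) :
    ∃ (a : A) (b : B), IsUnit a ∧ IsUnit b ∧ f = a ⊗ₜ[k] b := by
  classical
  haveI : Nontrivial B := by
    by_contra hB
    rw [not_nontrivial_iff_subsingleton] at hB
    exact (inferInstance : Nonempty (PrimeSpectrum B)).elim fun p => p.2.ne_top
      (Subsingleton.elim _ _)
  obtain ⟨n, w, hw0, hwk, hwint⟩ := exists_valuations k A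
  obtain ⟨y₀⟩ := exists_algHom k B
  obtain ⟨x₀⟩ := exists_algHom k A
  -- valuations are trivial on nonzero constants
  have hwk1 : ∀ i (c : k), c ≠ 0 → w i (algebraMap k A c) = 1 := by
    intro i c hc
    have h1 : w i (algebraMap k A c) * w i (algebraMap k A c⁻¹) = 1 := by
      rw [← map_mul, ← map_mul, mul_inv_cancel₀ hc, map_one, map_one]
    refine le_antisymm (hwk i c) ?_
    calc (1 : ℤᵐ⁰) = w i (algebraMap k A c) * w i (algebraMap k A c⁻¹) := h1.symm
      _ ≤ w i (algebraMap k A c) * 1 := by gcongr; exact hwk i _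
      _ = w i (algebraMap k A c) := mul_one _
  -- bounds
  have hbound : ∀ (z : A ⊗[k] B) (i : Fin n), ∃ M : ℤᵐ⁰, ∀ y : B →ₐ[k] k,
      w i (evalRight y z) ≤ M := by
    intro z i
    induction z with
    | zero => exact ⟨0, fun y => by simp⟩
    | tmul a b =>
      refine ⟨w i a, fun y => ?_⟩
      rw [evalRight_tmul, Algebra.smul_def, map_mul]
      calc w i (algebraMap k A (y b)) * w i a ≤ 1 * w i a := by
            gcongr
            exact hwk i _
        _ = w i a := one_mul _
    | add z₁ z₂ h₁ h₂ =>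
      obtain ⟨M₁, h₁⟩ := h₁
      obtain ⟨M₂, h₂⟩ := h₂
      refine ⟨max M₁ M₂, fun y => ?_⟩
      rw [map_add]
      exact (Valuation.map_add _ _ _).trans (max_le_max (h₁ y) (h₂ y))
  have huv : ∀ y : B →ₐ[k] k, evalRight y f * evalRight y g = 1 := fun y => by
    rw [← map_mul, hfg, map_one]
  have hu0 : ∀ y : B →ₐ[k] k, evalRight y f ≠ 0 := fun y h => by
    have := huv y
    rw [h, zero_mul] at this
    exact zero_ne_one this
  have hv0 : ∀ y : B →ₐ[k] k, evalRight y g ≠ 0 := fun y h => by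
    have := huv y
    rw [h, mul_zero] at this
    exact zero_ne_one this
  have hwuv : ∀ (y : B →ₐ[k] k) i, w i (evalRight y f) * w i (evalRight y g) = 1 := fun y i => by
    rw [← map_mul, huv, map_one]
  choose Mf hMf using hbound f
  choose Mg hMg using hbound g
  -- the value vector
  let τ : (B →ₐ[k] k) → (Fin n → ℤ) := fun y i => log (w i (evalRight y f))
  have hτrange : (Set.range τ).Finite := by
    refine Set.Finite.subset (Set.Finite.pi (t := fun i => Set.Icc (-log (Mg i)) (log (Mf i)))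
      fun i => Set.finite_Icc _ _) ?_
    rintro _ ⟨y, rfl⟩ i -
    have h1 : w i (evalRight y f) ≠ 0 := hw0 i _ (hu0 y)
    have h2 : w i (evalRight y g) ≠ 0 := hw0 i _ (hv0 y)
    have hMf0 : Mf i ≠ 0 := fun h => h1 (le_zero_iff.1 (h ▸ hMf i y))
    have hMg0 : Mg i ≠ 0 := fun h => h2 (le_zero_iff.1 (h ▸ hMg i y))
    constructor
    · have : log (w i (evalRight y f)) = -log (w i (evalRight y g)) := by
        have h3 := congrArg log (hwuv y i)
        rw [log_mul h1 h2, log_one] at h3
        linarith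
      change -log (Mg i) ≤ log (w i (evalRight y f))
      rw [this, neg_le_neg_iff, log_le_log h2 hMg0]
      exact hMg i y
    · change log (w i (evalRight y f)) ≤ log (Mf i)
      rw [log_le_log h1 hMf0]
      exact hMf i y
  -- representatives
  let r : (Fin n → ℤ) → (B →ₐ[k] k) := fun s =>
    if h : s ∈ Set.range τ then h.choose else y₀
  have hr : ∀ y, τ (r (τ y)) = τ y := fun y => by
    have h : τ y ∈ Set.range τ := ⟨y, rfl⟩
    simp only [r, dif_pos h]
    exact h.choose_spec
  have hprop : ∀ y : B →ₐ[k] k, ∃ c : k, evalRight y f = c • evalRight (r (τ y)) f := by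
    intro y
    set y' := r (τ y) with hy'
    have hval : ∀ i, w i (evalRight y' f) = w i (evalRight y f) := by
      intro i
      have := congrFun (hr y) i
      change log (w i (evalRight y' f)) = log (w i (evalRight y f)) at this
      rw [← exp_log (hw0 i _ (hu0 y')), ← exp_log (hw0 i _ (hu0 y)), this]
    have hint : IsIntegral k (evalRight y f * evalRight y' g) := by
      apply hwint
      intro i
      rw [map_mul, ← hval i, hwuv y' i]
    obtain ⟨c, hc⟩ := mem_range_of_isIntegral hint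
    refine ⟨c, ?_⟩
    rw [Algebra.smul_def, hc, mul_assoc, mul_comm (evalRight y' g), huv y', mul_one]
  -- the ideals
  let I : (Fin n → ℤ) → Ideal B := fun s =>
    Ideal.span {b : B | ∃ l : A →ₗ[k] k, l (evalRight (r s) f) = 0 ∧ slice l f = b}
  have hIker : ∀ y : B →ₐ[k] k, I (τ y) ≤ RingHom.ker (y : B →+* k) := by
    intro y
    refine Ideal.span_le.2 ?_
    rintro _ ⟨l, hl, rfl⟩
    obtain ⟨c, hc⟩ := hprop y
    change (y : B →+* k) (slice l f) = 0
    change y (slice l f) = 0
    rw [algHom_slice, hc, map_smul, hl, smul_zero]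
  -- converse: a point lying on `V(I (τ y'))` has the same value vector as `y'`
  have hconv : ∀ y y' : B →ₐ[k] k, I (τ y') ≤ RingHom.ker (y : B →+* k) → τ y = τ y' := by
    intro y y' hle
    set y'' := r (τ y') with hy''
    have h1 : ∀ l : A →ₗ[k] k, l (evalRight y'' f) = 0 → l (evalRight y f) = 0 := by
      intro l hl
      have hmem : slice l f ∈ I (τ y') := Ideal.subset_span ⟨l, hl, rfl⟩
      have := hle hmem
      rw [RingHom.mem_ker] at this
      change y (slice l f) = 0 at this
      rwa [algHom_slice] at this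
    obtain ⟨c, hc⟩ := exists_smul_of_forall_dual (hu0 y'') h1
    have hc0 : c ≠ 0 := by
      rintro rfl
      rw [zero_smul] at hc
      exact hu0 y hc
    have h2 : ∀ i, w i (evalRight y f) = w i (evalRight y'' f) := by
      intro i
      rw [hc, Algebra.smul_def, map_mul, hwk1 i c hc0, one_mul]
    have h3 : τ y = τ y'' := by
      funext i
      change log (w i (evalRight y f)) = log (w i (evalRight y'' f))
      rw [h2 i]
    rw [h3, hy'', hr y']
  -- the zero loci cover the spectrum
  have hprod : ∏ s ∈ hτrange.toFinset, I s = ⊥ := by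
    rw [eq_bot_iff]
    intro b hb
    rw [Ideal.mem_bot]
    by_contra hb0
    obtain ⟨y, hy⟩ := exists_algHom_ne_zero k B hb0
    have hmem : τ y ∈ hτrange.toFinset := (Set.Finite.mem_toFinset _).2 ⟨y, rfl⟩
    have h1 : ∏ s ∈ hτrange.toFinset, I s ≤ I (τ y) :=
      Ideal.prod_le_inf.trans (Finset.inf_le hmem)
    exact hy (hIker y (h1 hb))
  have hcover : ∀ p : PrimeSpectrum B, ∃ s ∈ hτrange.toFinset, I s ≤ p.asIdeal := by
    intro p
    have h1 : ∏ s ∈ hτrange.toFinset, I s ≤ p.asIdeal := by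
      rw [hprod]; exact bot_le
    exact (Ideal.IsPrime.prod_le p.2).1 h1
  -- pairwise disjointness
  have hdisj : ∀ (p : PrimeSpectrum B) (s s' : Fin n → ℤ), s ∈ Set.range τ → s' ∈ Set.range τ →
      I s ≤ p.asIdeal → I s' ≤ p.asIdeal → s = s' := by
    rintro p _ _ ⟨y₁, rfl⟩ ⟨y₂, rfl⟩ h1 h2
    obtain ⟨m, hm, hpm⟩ := Ideal.exists_le_maximal p.asIdeal p.2.ne_top
    obtain ⟨y, hy⟩ := exists_algHom_ker_eq k B m
    have e1 := hconv y y₁ (by rw [hy]; exact h1.trans hpm)
    have e2 := hconv y y₂ (by rw [hy]; exact h2.trans hpm)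
    rw [← e1, ← e2]
  -- the distinguished component
  set s₀ := τ y₀ with hs₀
  have hclopen : IsClopen (PrimeSpectrum.zeroLocus (I s₀ : Set B)) := by
    refine ⟨PrimeSpectrum.isClosed_zeroLocus _, ?_⟩
    have hcompl : (PrimeSpectrum.zeroLocus (I s₀ : Set B))ᶜ =
        ⋃ s ∈ (hτrange.toFinset.erase s₀ : Finset (Fin n → ℤ)),
          PrimeSpectrum.zeroLocus (I s : Set B) := by
      ext p
      simp only [Set.mem_compl_iff, PrimeSpectrum.mem_zeroLocus, SetLike.coe_subset_coe,
        Set.mem_iUnion, Finset.mem_erase, exists_prop]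
      constructor
      · intro hp
        obtain ⟨s, hs, hsp⟩ := hcover p
        refine ⟨s, ⟨?_, hs⟩, hsp⟩
        rintro rfl
        exact hp hsp
      · rintro ⟨s, ⟨hne, hs⟩, hsp⟩ hp
        exact hne (hdisj p s s₀ ((Set.Finite.mem_toFinset _).1 hs) ⟨y₀, rfl⟩ hsp hp)
    rw [← isClosed_compl_iff, hcompl]
    exact Set.Finite.isClosed_biUnion (Finset.finite_toSet _)
      fun s _ => PrimeSpectrum.isClosed_zeroLocus _
  have hne : (PrimeSpectrum.zeroLocus (I s₀ : Set B)).Nonempty := by
    obtain ⟨m, hm⟩ := Ideal.exists_maximal B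
    have hker : (RingHom.ker (y₀ : B →+* k)).IsPrime := RingHom.ker_isPrime _
    exact ⟨⟨RingHom.ker (y₀ : B →+* k), hker⟩, by
      rw [PrimeSpectrum.mem_zeroLocus, SetLike.coe_subset_coe]; exact hIker y₀⟩
  have huniv := hclopen.eq_univ hne
  have hs : I s₀ = ⊥ := by
    rw [eq_bot_iff]
    intro b hb
    rw [Ideal.mem_bot]
    have hnil : b ∈ nilradical B := by
      rw [nilradical_eq_sInf, Ideal.mem_sInf]
      intro p hp
      have hmem : (⟨p, hp⟩ : PrimeSpectrum B) ∈ PrimeSpectrum.zeroLocus (I s₀ : Set B) := by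
        rw [huniv]; exact Set.mem_univ _
      rw [PrimeSpectrum.mem_zeroLocus, SetLike.coe_subset_coe] at hmem
      exact hmem hb
    rw [nilradical_eq_zero B] at hnil
    exact hnil
  set w₀ := evalRight (r s₀) f with hw₀
  have hw₀0 : w₀ ≠ 0 := hu0 _
  have hkill : ∀ l : A →ₗ[k] k, l w₀ = 0 → slice l f = 0 := by
    intro l hl
    have : slice l f ∈ I s₀ := Ideal.subset_span ⟨l, hl, rfl⟩
    rw [hs, Ideal.mem_bot] at this
    exact this
  obtain ⟨l₀, hl₀⟩ := Module.Projective.exists_dual_eq_one k hw₀0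
  have hl₀' : (l₀ : A →ₗ[k] k) w₀ = 1 := hl₀
  have hf : f = w₀ ⊗ₜ[k] slice l₀ f := by
    rw [← sub_eq_zero]
    apply eq_zero_of_slice_eq_zero
    intro l
    have h1 : (l - l w₀ • (l₀ : A →ₗ[k] k)) w₀ = 0 := by
      simp [hl₀']
    have h2 := hkill _ h1
    rw [slice_sub_smul] at h2
    rw [map_sub, slice_tmul, h2]
  refine ⟨w₀, slice l₀ f, IsUnit.of_mul_eq_one _ (huv _), ?_, hf⟩
  have h3 : evalLeft x₀ f * evalLeft x₀ g = 1 := by
    rw [← map_mul, hfg, map_one]
  rw [hf, evalLeft_tmul, smul_mul_assoc, ← mul_smul_comm] at h3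
  exact IsUnit.of_mul_eq_one _ h3

end Groth.Agent.H80.LinChar
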