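import Groth.Agent.H80.LinChar1
import Groth.Agent.H82.ConnDomain
import Groth.Prelude.Def_GLin

/-!
# `G`-linearisations of the trivial line bundle on an affine `G`-scheme are characters

Algebraic form: `A` a commutative Hopf algebra of finite type over an algebraically closed field
`k` of characteristic zero, `R` a reduced `k`-algebra of finite type with connected spectrum and a
multiplicative `A`-coaction, `θ ∈ R ⊗ A` a cocycle.  Then `θ` is a unit; if the units of `R` are
scalars, or the units of `A` are scalar multiples of group-like elements, then `θ = 1 ⊗ χ` with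
`χ` group-like.
-/

set_option autoImplicit false
set_option linter.style.haveILetI false
universe u

namespace Groth.Agent.H80.LinChar

open TensorProduct Groth.Agent.H80.UnitsVal

section cocycle

variable {k : Type u} [Field k] {A : Type u} [CommRing A] [HopfAlgebra k A]
  {R : Type u} [CommRing R] [Algebra k R]

/-- `z ⊗ b ↦ z * (1 ⊗ S b)` -/
noncomputable def mS : (R ⊗[k] A) ⊗[k] A →ₐ[k] R ⊗[k] A :=
  Algebra.TensorProduct.lift (AlgHom.id k (R ⊗[k] A))
    ((Algebra.TensorProduct.includeRight : A →ₐ[k] R ⊗[k] A).comp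
      (HopfAlgebra.antipodeAlgHom k A))
    (fun _ _ => Commute.all _ _)

theorem mS_tmul (z : R ⊗[k] A) (b : A) :
    mS (z ⊗ₜ[k] b) = z * ((1 : R) ⊗ₜ[k] HopfAlgebra.antipode k b) := by
  simp [mS, Algebra.TensorProduct.lift_tmul]

theorem mS_assoc_symm (r : R) (w : A ⊗[k] A) :
    mS ((TensorProduct.assoc k R A A).symm (r ⊗ₜ[k] w)) =
      r ⊗ₜ[k] LinearMap.mul' k A ((HopfAlgebra.antipode k).lTensor A w) := by
  induction w with
  | zero => simp
  | tmul a b =>
    rw [TensorProduct.assoc_symm_tmul, mS_tmul, Algebra.TensorProduct.tmul_mul_tmul, mul_one,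
      LinearMap.lTensor_tmul, LinearMap.mul'_apply]
  | add w₁ w₂ h₁ h₂ => simp only [tmul_add, map_add, h₁, h₂]

theorem mS_comul (z : R ⊗[k] A) :
    mS ((TensorProduct.assoc k R A A).symm
      ((CoalgebraStruct.comul (R := k) (A := A)).lTensor R z)) =
      (Algebra.linearMap k A ∘ₗ CoalgebraStruct.counit (R := k) (A := A)).lTensor R z := by
  induction z with
  | zero => simp
  | tmul r a =>
    rw [LinearMap.lTensor_tmul, mS_assoc_symm, HopfAlgebra.mul_antipode_lTensor_comul_apply,
      LinearMap.lTensor_tmul]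
    rfl
  | add z₁ z₂ h₁ h₂ => simp only [map_add, h₁, h₂]

variable [HopfRep.Comod k A R] [GLin.IsCoactAlg k A R]

theorem rTensor_twist (θ z : R ⊗[k] A) :
    ((LinearMap.mulRight k θ) ∘ₗ HopfRep.Comod.coact (k := k) (A := A) (V := R)).rTensor A z =
      Algebra.TensorProduct.map (GLin.coactAlgHom k A R) (AlgHom.id k A) z *
        (θ ⊗ₜ[k] (1 : A)) := by
  induction z with
  | zero => simp
  | tmul r a =>
    rw [LinearMap.rTensor_tmul, LinearMap.comp_apply, LinearMap.mulRight_apply,
      Algebra.TensorProduct.map_tmul, GLin.coactAlgHom_apply, AlgHom.id_apply,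
      Algebra.TensorProduct.tmul_mul_tmul, mul_one]
  | add z₁ z₂ h₁ h₂ => simp only [map_add, h₁, h₂, add_mul]

theorem twist_one (θ : R ⊗[k] A) :
    ((LinearMap.mulRight k θ) ∘ₗ HopfRep.Comod.coact (k := k) (A := A) (V := R)) 1 = θ := by
  rw [LinearMap.comp_apply, LinearMap.mulRight_apply,
    GLin.IsCoactAlg.coact_one (k := k) (A := A) (R := R), one_mul]

/-- the counit condition at `1` -/
theorem counit_theta (θ : R ⊗[k] A)
    (hcounit : (CoalgebraStruct.counit (R := k) (A := A)).lTensor R ∘ₗ
        ((LinearMap.mulRight k θ) ∘ₗ HopfRep.Comod.coact (k := k) (A := A) (V := R)) =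
      (TensorProduct.mk k R k).flip 1) :
    (CoalgebraStruct.counit (R := k) (A := A)).lTensor R θ = (1 : R) ⊗ₜ[k] (1 : k) := by
  have h := LinearMap.congr_fun hcounit 1
  rw [LinearMap.comp_apply, twist_one] at h
  rw [h]
  rfl

/-- the cocycle condition at `1` -/
theorem cocycle_theta (θ : R ⊗[k] A)
    (hassoc : (TensorProduct.assoc k R A A).toLinearMap ∘ₗ
        ((LinearMap.mulRight k θ) ∘ₗ HopfRep.Comod.coact (k := k) (A := A) (V := R)).rTensor A ∘ₗ
          ((LinearMap.mulRight k θ) ∘ₗ HopfRep.Comod.coact (k := k) (A := A) (V := R)) =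
      (CoalgebraStruct.comul (R := k) (A := A)).lTensor R ∘ₗ
        ((LinearMap.mulRight k θ) ∘ₗ HopfRep.Comod.coact (k := k) (A := A) (V := R))) :
    TensorProduct.assoc k R A A
      (((LinearMap.mulRight k θ) ∘ₗ HopfRep.Comod.coact (k := k) (A := A) (V := R)).rTensor A θ) =
      (CoalgebraStruct.comul (R := k) (A := A)).lTensor R θ := by
  have h := LinearMap.congr_fun hassoc 1
  rw [LinearMap.comp_apply, LinearMap.comp_apply, LinearMap.comp_apply (f :=
    (CoalgebraStruct.comul (R := k) (A := A)).lTensor R), twist_one] at h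
  exact h

/-- a cocycle is a unit -/
theorem exists_mul_eq_one (θ : R ⊗[k] A)
    (hassoc : (TensorProduct.assoc k R A A).toLinearMap ∘ₗ
        ((LinearMap.mulRight k θ) ∘ₗ HopfRep.Comod.coact (k := k) (A := A) (V := R)).rTensor A ∘ₗ
          ((LinearMap.mulRight k θ) ∘ₗ HopfRep.Comod.coact (k := k) (A := A) (V := R)) =
      (CoalgebraStruct.comul (R := k) (A := A)).lTensor R ∘ₗ
        ((LinearMap.mulRight k θ) ∘ₗ HopfRep.Comod.coact (k := k) (A := A) (V := R)))
    (hcounit : (CoalgebraStruct.counit (R := k) (A := A)).lTensor R ∘ₗ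
        ((LinearMap.mulRight k θ) ∘ₗ HopfRep.Comod.coact (k := k) (A := A) (V := R)) =
      (TensorProduct.mk k R k).flip 1) :
    ∃ θ' : R ⊗[k] A, θ * θ' = 1 := by
  have h1 := cocycle_theta θ hassoc
  have h2 : ((LinearMap.mulRight k θ) ∘ₗ
      HopfRep.Comod.coact (k := k) (A := A) (V := R)).rTensor A θ =
      (TensorProduct.assoc k R A A).symm
        ((CoalgebraStruct.comul (R := k) (A := A)).lTensor R θ) := by
    rw [← h1, LinearEquiv.symm_apply_apply]
  have h3 := congrArg (mS (k := k) (A := A) (R := R)) h2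
  rw [rTensor_twist, map_mul, mS_tmul, HopfAlgebra.antipode_one, ← Algebra.TensorProduct.one_def,
    mul_one, mS_comul, LinearMap.lTensor_comp, LinearMap.comp_apply, counit_theta θ hcounit,
    LinearMap.lTensor_tmul] at h3
  refine ⟨mS (Algebra.TensorProduct.map (GLin.coactAlgHom k A R) (AlgHom.id k A) θ), ?_⟩
  rw [mul_comm, h3]
  simp [Algebra.TensorProduct.one_def]

/-- if `θ = 1 ⊗ χ` is a cocycle then `χ` is group-like -/
theorem isGroupLikeElem_of_one_tmul [Nontrivial R] (χ : A)
    (hassoc : (TensorProduct.assoc k R A A).toLinearMap ∘ₗ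
        ((LinearMap.mulRight k ((1 : R) ⊗ₜ[k] χ)) ∘ₗ
          HopfRep.Comod.coact (k := k) (A := A) (V := R)).rTensor A ∘ₗ
          ((LinearMap.mulRight k ((1 : R) ⊗ₜ[k] χ)) ∘ₗ
            HopfRep.Comod.coact (k := k) (A := A) (V := R)) =
      (CoalgebraStruct.comul (R := k) (A := A)).lTensor R ∘ₗ
        ((LinearMap.mulRight k ((1 : R) ⊗ₜ[k] χ)) ∘ₗ
          HopfRep.Comod.coact (k := k) (A := A) (V := R)))
    (hcounit : (CoalgebraStruct.counit (R := k) (A := A)).lTensor R ∘ₗ
        ((LinearMap.mulRight k ((1 : R) ⊗ₜ[k] χ)) ∘ₗ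
          HopfRep.Comod.coact (k := k) (A := A) (V := R)) =
      (TensorProduct.mk k R k).flip 1) :
    IsGroupLikeElem k χ := by
  obtain ⟨l₀, hl₀⟩ := Module.Projective.exists_dual_eq_one k (one_ne_zero : (1 : R) ≠ 0)
  have hl₀' : (l₀ : R →ₗ[k] k) 1 = 1 := hl₀
  have h1 := cocycle_theta _ hassoc
  have h2 := counit_theta _ hcounit
  rw [LinearMap.rTensor_tmul, twist_one, TensorProduct.assoc_tmul, LinearMap.lTensor_tmul] at h1
  rw [LinearMap.lTensor_tmul] at h2
  constructor
  · have := congrArg (slice (l₀ : R →ₗ[k] k)) h2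
    rw [slice_tmul, slice_tmul, hl₀', one_smul, one_smul] at this
    exact this
  · have := congrArg (slice (l₀ : R →ₗ[k] k)) h1
    rw [slice_tmul, slice_tmul, hl₀', one_smul, one_smul] at this
    exact this.symm

end cocycle

section scalar

variable {k : Type u} [Field k] [IsAlgClosed k] {A : Type u} [CommRing A] [Algebra k A]
  [Algebra.FiniteType k A] [IsReduced A] {R : Type u} [CommRing R] [Algebra k R]

theorem eq_zero_of_forall_evalRight (z : R ⊗[k] A) (h : ∀ y : A →ₐ[k] k, evalRight y z = 0) :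
    z = 0 := by
  apply eq_zero_of_slice_eq_zero
  intro l
  by_contra hne
  obtain ⟨y, hy⟩ := exists_algHom_ne_zero k A hne
  exact hy (by rw [algHom_slice, h y, map_zero])

theorem eq_one_tmul_of_units_scalar [Nontrivial R]
    (hR : ∀ u : Rˣ, (u : R) ∈ Set.range (algebraMap k R)) (θ θ' : R ⊗[k] A) (hθ : θ * θ' = 1) :
    ∃ χ : A, θ = (1 : R) ⊗ₜ[k] χ := by
  obtain ⟨l₀, hl₀⟩ := Module.Projective.exists_dual_eq_one k (one_ne_zero : (1 : R) ≠ 0)
  have hl₀' : (l₀ : R →ₗ[k] k) 1 = 1 := hl₀
  refine ⟨slice (l₀ : R →ₗ[k] k) θ, ?_⟩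
  rw [← sub_eq_zero]
  apply eq_zero_of_forall_evalRight
  intro y
  have hu : IsUnit (evalRight y θ) :=
    IsUnit.of_mul_eq_one (evalRight y θ') (by rw [← map_mul, hθ, map_one])
  obtain ⟨c, hc⟩ := hR hu.unit
  rw [IsUnit.unit_spec] at hc
  rw [map_sub, evalRight_tmul, algHom_slice, ← hc, Algebra.algebraMap_eq_smul_one, map_smul,
    hl₀', smul_eq_mul, mul_one, sub_self]

end scalar

section grouplike

variable {k : Type u} [Field k] {A : Type u} [CommRing A] [HopfAlgebra k A]

theorem coeff_eq_zero_of_groupLike {n : ℕ} (χ : Fin n → A) (hχ : ∀ i, IsGroupLikeElem k (χ i))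
    (hinj : Function.Injective χ) (c : Fin n → k) (h : ∑ i, c i • χ i = 0) : ∀ i, c i = 0 := by
  have hli : LinearIndependent k (fun x : {a : A | IsGroupLikeElem k a} => id (x : A)) :=
    linearIndepOn_isGroupLikeElem
  let f : Fin n → {a : A | IsGroupLikeElem k a} := fun i => ⟨χ i, hχ i⟩
  have hf : Function.Injective f := fun i j hij => hinj (congrArg Subtype.val hij)
  have h2 := hli.comp f hf
  rw [Fintype.linearIndependent_iff] at h2
  exact h2 c h

theorem idempotent_trivial [CharZero k]
    (hA : ∀ u : Aˣ, ∃ (c : k) (χ : A), IsGroupLikeElem k χ ∧ (u : A) = c • χ) (e : A)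
    (he : IsIdempotentElem e) : e = 0 ∨ e = 1 := by
  haveI : Nontrivial A := Groth.Agent.H82.ConnDomain.nontrivial_of_hopf k
  have he2 : e * e = e := he
  have h2 : (2 : k) ≠ 0 := two_ne_zero
  have hunit : (1 + e) * (1 - (2 : k)⁻¹ • e) = 1 := by
    have : (1 + e) * (1 - (2 : k)⁻¹ • e) = 1 + e - (2 : k)⁻¹ • e - (2 : k)⁻¹ • (e * e) := by
      rw [mul_sub, mul_one, mul_smul_comm, add_mul, one_mul, smul_add]
      abel
    rw [this, he2]
    have h3 : (2 : k)⁻¹ • e + (2 : k)⁻¹ • e = e := by
      rw [← add_smul, ← two_mul, mul_inv_cancel₀ h2, one_smul]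
    rw [sub_sub, h3]
    abel
  obtain ⟨c, χ, hχ, hc⟩ := hA (Units.mkOfMulEqOne _ _ hunit)
  rw [Units.val_mkOfMulEqOne] at hc
  have hc0 : c ≠ 0 := by
    rintro rfl
    rw [zero_smul] at hc
    have : (1 + e) * (1 - (2 : k)⁻¹ • e) = 0 := by rw [hc, zero_mul]
    rw [hunit] at this
    exact one_ne_zero this
  have hee : e = c • χ - 1 := by rw [← hc]; abel
  -- the relation `c² χ² - 3 c χ + 2 = 0`
  have hx : (c • χ) * (c • χ) - 3 * (c • χ) + 2 = 0 := by
    have h4 : (c • χ - 1) * (c • χ - 1) = c • χ - 1 := by rw [← hee]; exact he2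
    linear_combination h4
  have hrel : (c * c) • (χ * χ) + (-(3 * c)) • χ + (2 : k) • (1 : A) = 0 := by
    rw [← hx]
    simp only [Algebra.smul_def, map_mul, map_neg, map_ofNat, mul_one]
    ring
  by_cases h1 : χ = 1
  · -- `e` is a scalar idempotent
    subst h1
    have hinj : Function.Injective (algebraMap k A) := FaithfulSMul.algebraMap_injective k A
    have he3 : e = algebraMap k A (c - 1) := by
      rw [hee, map_sub, map_one, Algebra.algebraMap_eq_smul_one]
    have h4 : (c - 1) * (c - 1) = c - 1 := by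
      apply hinj
      rw [map_mul, ← he3]
      exact he2
    have h5 : (c - 1) * (c - 1 - 1) = 0 := by rw [mul_sub, h4, mul_one, sub_self]
    rcases mul_eq_zero.1 h5 with h6 | h6
    · left; rw [he3, h6, map_zero]
    · right
      rw [he3, sub_eq_zero.1 h6, map_one]
  · exfalso
    have hχ2 : IsGroupLikeElem k (χ * χ) := hχ.mul hχ
    by_cases h7 : χ * χ = 1
    · -- `(c² + 2) • 1 - 3 c • χ = 0`
      have h8 := coeff_eq_zero_of_groupLike ![1, χ]
        (fun i => by
          revert i
          rw [Fin.forall_fin_two]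
          exact ⟨IsGroupLikeElem.one, hχ⟩)
        (by
          intro i j hij
          fin_cases i <;> fin_cases j
          · rfl
          · exact absurd (hij.symm : χ = 1) h1
          · exact absurd (hij : χ = 1) h1
          · rfl)
        ![c * c + 2, -(3 * c)]
        (by
          rw [Fin.sum_univ_two]
          simp only [Matrix.cons_val_zero, Matrix.cons_val_one]
          rw [h7] at hrel
          rw [add_smul, ← hrel]
          abel) 1
      have h8' : -(3 * c) = 0 := h8
      rw [neg_eq_zero, mul_eq_zero] at h8'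
      rcases h8' with h8 | h8
      · exact (by norm_num : (3 : k) ≠ 0) h8
      · exact hc0 h8
    · have h9 : χ * χ ≠ χ := by
        intro h
        apply h1
        have hu := hχ.isUnit
        have := hu.mul_left_cancel (a := χ) (b := χ) (c := 1) (by rw [h, mul_one])
        exact this
      have h8 := coeff_eq_zero_of_groupLike ![χ * χ, χ, 1]
        (fun i => by
          revert i
          rw [Fin.forall_fin_succ, Fin.forall_fin_two]
          exact ⟨hχ2, hχ, IsGroupLikeElem.one⟩)
        (by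
          intro i j hij
          fin_cases i <;> fin_cases j
          · rfl
          · exact absurd (hij : χ * χ = χ) h9
          · exact absurd (hij : χ * χ = 1) h7
          · exact absurd (hij.symm : χ * χ = χ) h9
          · rfl
          · exact absurd (hij : χ = 1) h1
          · exact absurd (hij.symm : χ * χ = 1) h7
          · exact absurd (hij.symm : χ = 1) h1
          · rfl)
        ![c * c, -(3 * c), 2]
        (by
          rw [Fin.sum_univ_three]
          simpa using hrel) 2
      have h8' : (2 : k) = 0 := h8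
      exact two_ne_zero h8'

end grouplike

section main

variable {k : Type u} [Field k] [IsAlgClosed k] [CharZero k] {A : Type u} [CommRing A]
  [HopfAlgebra k A] [Algebra.FiniteType k A]
  {R : Type u} [CommRing R] [IsReduced R] [Algebra k R] [Algebra.FiniteType k R]
  [ConnectedSpace (PrimeSpectrum R)]

theorem eq_one_tmul_of_units_groupLike
    (hA : ∀ u : Aˣ, ∃ (c : k) (χ : A), IsGroupLikeElem k χ ∧ (u : A) = c • χ)
    (θ θ' : R ⊗[k] A) (hθ : θ * θ' = 1)
    (hε : (CoalgebraStruct.counit (R := k) (A := A)).lTensor R θ = (1 : R) ⊗ₜ[k] (1 : k)) :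
    ∃ χ : A, IsGroupLikeElem k χ ∧ θ = (1 : R) ⊗ₜ[k] χ := by
  haveI : IsReduced A := Groth.Agent.H82.Cartier.isReduced (k := k) (A := A)
  haveI : IsDomain A :=
    Groth.Agent.H82.ConnDomain.isDomain_of_connected k (idempotent_trivial hA)
  let cm := Algebra.TensorProduct.comm k R A
  have hfg : cm θ * cm θ' = 1 := by rw [← map_mul, hθ, map_one]
  obtain ⟨a, r, ha, hr, hf⟩ := rosenlicht_connected k A R (cm θ) (cm θ') hfg
  have hθ' : θ = r ⊗ₜ[k] a := by
    have := congrArg cm.symm hf
    rw [AlgEquiv.symm_apply_apply] at this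
    rw [this]
    rfl
  obtain ⟨c, χ, hχ, hc⟩ := hA ha.unit
  rw [IsUnit.unit_spec] at hc
  refine ⟨χ, hχ, ?_⟩
  rw [hθ', hc, LinearMap.lTensor_tmul, map_smul, hχ.counit_eq_one] at hε
  have h1 := congrArg (TensorProduct.rid k R) hε
  rw [TensorProduct.rid_tmul, TensorProduct.rid_tmul, one_smul, smul_eq_mul, mul_one] at h1
  rw [hθ', hc, TensorProduct.tmul_smul, TensorProduct.smul_tmul', h1]

end main

end Groth.Agent.H80.LinChar
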