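import Groth.Agent.H32.MLDirLim
import Groth.Agent.H32.MLfp
import Groth.Agent.H77.FPLim

/-!
# Countably generated Mittag-Leffler modules: maps back to a finite stage

`M = colim Gᵢ` (finitely presented `Gᵢ`, directed), `M` Mittag-Leffler and countably generated.
Then for each `i₀` there are `i₁ ≥ i₀` and `z : M → G i₁` with `z ∘ of i₀ = f i₀ i₁`.
-/

set_option autoImplicit false
universe u
open TensorProduct

namespace Groth.Agent.H80.MLCountEndo

open Groth.Agent.H32

section chain
variable {R : Type u} [CommRing R] {ι : Type u} [Preorder ι] [IsDirected ι (· ≤ ·)]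
  [DecidableEq ι] (G : ι → Type u) [∀ i, AddCommGroup (G i)] [∀ i, Module R (G i)]
  (f : ∀ i j, i ≤ j → G i →ₗ[R] G j) [DirectedSystem G fun i j h => f i j h]

/-- data of a chain in the index set -/
structure Chain where
  i : ℕ → ι
  mono : Monotone i
  /-- every transition `i n → i (n+1)` factors through all later transitions -/
  key : ∀ (n : ℕ) (k : ι) (hk : i n ≤ k),
    ∃ h : G k →ₗ[R] G (i (n + 1)), f (i n) (i (n + 1)) (mono (Nat.le_succ n)) = h ∘ₗ f (i n) k hk
  /-- the chain exhausts the colimit -/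
  surj : ∀ m : Module.DirectLimit G f, ∃ (n : ℕ) (x : G (i n)),
    Module.DirectLimit.of R ι G f (i n) x = m

variable {G f}
variable (c : Chain G f)

/-- the `ℕ`-indexed subsystem -/
abbrev Chain.G' (n : ℕ) : Type u := G (c.i n)

/-- transition maps of the subsystem -/
def Chain.f' (n m : ℕ) (h : n ≤ m) : c.G' n →ₗ[R] c.G' m := f (c.i n) (c.i m) (c.mono h)

instance : DirectedSystem c.G' fun n m h => c.f' n m h where
  map_self n x := DirectedSystem.map_self (f := fun i j h => f i j h) x
  map_map k j i hij hjk x :=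
    DirectedSystem.map_map (f := fun i j h => f i j h) (c.mono hij) (c.mono hjk) x

/-- comparison map from the colimit along the chain -/
noncomputable def Chain.Φ : Module.DirectLimit c.G' c.f' →ₗ[R] Module.DirectLimit G f :=
  Module.DirectLimit.lift R ℕ c.G' c.f' (fun n => Module.DirectLimit.of R ι G f (c.i n))
    (fun n m h x => Module.DirectLimit.of_f)

theorem Chain.Φ_of (n : ℕ) (x : c.G' n) :
    c.Φ (Module.DirectLimit.of R ℕ c.G' c.f' n x) = Module.DirectLimit.of R ι G f (c.i n) x :=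
  Module.DirectLimit.lift_of _ _ _

theorem Chain.Φ_bijective : Function.Bijective c.Φ := by
  constructor
  · rw [injective_iff_map_eq_zero]
    intro x hx
    obtain ⟨n, xn, rfl⟩ := Module.DirectLimit.exists_of x
    rw [Chain.Φ_of] at hx
    obtain ⟨k, hk, hk0⟩ := Module.DirectLimit.of.zero_exact hx
    obtain ⟨h, hh⟩ := c.key n k hk
    have h0 : c.f' n (n + 1) (Nat.le_succ n) xn = 0 := by
      change f (c.i n) (c.i (n + 1)) _ xn = 0
      rw [hh, LinearMap.comp_apply, hk0, map_zero]
    rw [← Module.DirectLimit.of_f (hij := Nat.le_succ n), h0, map_zero]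
  · intro m
    obtain ⟨n, x, rfl⟩ := c.surj m
    exact ⟨Module.DirectLimit.of R ℕ c.G' c.f' n x, c.Φ_of n x⟩

/-- the stable maps at stage `n` to a target `T` -/
def Chain.S (T : Type u) [AddCommGroup T] [Module R T] (n : ℕ) : Type u :=
  {φ : c.G' n →ₗ[R] T // ∃ ψ : c.G' (n + 1) →ₗ[R] T, φ = ψ ∘ₗ c.f' n (n + 1) (Nat.le_succ n)}

theorem Chain.exists_step (T : Type u) [AddCommGroup T] [Module R T] (n : ℕ) (s : c.S T n) :
    ∃ s' : c.S T (n + 1), s'.1 ∘ₗ c.f' n (n + 1) (Nat.le_succ n) = s.1 := by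
  obtain ⟨φ, ψ, rfl⟩ := s
  have hle : c.i n ≤ c.i (n + 2) := c.mono (by omega)
  obtain ⟨h, hh⟩ := c.key n (c.i (n + 2)) hle
  refine ⟨⟨(ψ ∘ₗ h) ∘ₗ c.f' (n + 1) (n + 2) (Nat.le_succ _), ψ ∘ₗ h, rfl⟩, ?_⟩
  change ((ψ ∘ₗ h) ∘ₗ c.f' (n + 1) (n + 2) _) ∘ₗ c.f' n (n + 1) _ = ψ ∘ₗ c.f' n (n + 1) _
  have hcomp : c.f' (n + 1) (n + 2) (Nat.le_succ _) ∘ₗ c.f' n (n + 1) (Nat.le_succ _) =
      f (c.i n) (c.i (n + 2)) hle := by
    ext x
    exact DirectedSystem.map_map (f := fun i j h => f i j h) _ _ x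
  rw [LinearMap.comp_assoc, hcomp, LinearMap.comp_assoc, ← hh]
  rfl

/-- main lemma along a chain -/
theorem Chain.exists_retract :
    ∃ z : Module.DirectLimit G f →ₗ[R] G (c.i 1),
      z ∘ₗ Module.DirectLimit.of R ι G f (c.i 0) = f (c.i 0) (c.i 1) (c.mono (Nat.le_succ 0)) := by
  classical
  let T := G (c.i 1)
  choose step hstep using c.exists_step T
  let s0 : c.S T 0 := ⟨c.f' 0 1 (Nat.le_succ 0), LinearMap.id, by
    rw [LinearMap.id_comp]⟩
  let s : ∀ n, c.S T n := fun n => Nat.rec (motive := c.S T) s0 (fun n sn => step n sn) n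
  have hs : ∀ n, (s (n + 1)).1 ∘ₗ c.f' n (n + 1) (Nat.le_succ n) = (s n).1 := fun n => hstep n (s n)
  have hcompat : ∀ (n m : ℕ) (h : n ≤ m) (x : c.G' n), (s m).1 (c.f' n m h x) = (s n).1 x := by
    intro n m h
    induction m, h using Nat.le_induction with
    | base =>
      intro x
      rw [show c.f' n n le_rfl x = x from
        DirectedSystem.map_self (f := fun n m h => c.f' n m h) x]
    | succ m hnm ih =>
      intro x
      have h1 : c.f' n (m + 1) (Nat.le_succ_of_le hnm) x =
          c.f' m (m + 1) (Nat.le_succ m) (c.f' n m hnm x) :=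
        (DirectedSystem.map_map (f := fun n m h => c.f' n m h) hnm (Nat.le_succ m) x).symm
      rw [h1, ← LinearMap.comp_apply, hs m, ih]
  let Ψ : Module.DirectLimit c.G' c.f' →ₗ[R] T :=
    Module.DirectLimit.lift R ℕ c.G' c.f' (fun n => (s n).1) (fun n m h x => hcompat n m h x)
  let e := LinearEquiv.ofBijective c.Φ c.Φ_bijective
  refine ⟨Ψ ∘ₗ e.symm.toLinearMap, ?_⟩
  ext x
  have h1 : e.symm (Module.DirectLimit.of R ι G f (c.i 0) x) =
      Module.DirectLimit.of R ℕ c.G' c.f' 0 x := by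
    rw [LinearEquiv.symm_apply_eq]
    exact (c.Φ_of 0 x).symm
  simp only [LinearMap.comp_apply, LinearEquiv.coe_coe]
  rw [h1]
  change Module.DirectLimit.lift R ℕ c.G' c.f' (fun n => (s n).1) _ _ = _
  rw [Module.DirectLimit.lift_of]
  rfl

end chain

section main
variable {R : Type u} [CommRing R] {ι : Type u} [Preorder ι] [IsDirected ι (· ≤ ·)]
  [DecidableEq ι] (G : ι → Type u) [∀ i, AddCommGroup (G i)] [∀ i, Module R (G i)]
  (f : ∀ i j, i ≤ j → G i →ₗ[R] G j) [DirectedSystem G fun i j h => f i j h]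

/-- existence of a chain starting at a given index -/
theorem exists_chain [Nonempty ι] [∀ i, Module.FinitePresentation R (G i)]
    (hML : CAlg.IsMittagLeffler R (Module.DirectLimit G f))
    (hc : CAlg.IsCountablyGenerated R (Module.DirectLimit G f)) (i₀ : ι) :
    ∃ c : Chain G f, c.i 0 = i₀ := by
  classical
  obtain ⟨s, hs, hspan⟩ := hc
  have hs' : (s ∪ {0}).Countable := hs.union (Set.countable_singleton 0)
  obtain ⟨e, he⟩ := hs'.exists_eq_range ⟨0, Or.inr rfl⟩
  choose b y hb using fun n => Module.DirectLimit.exists_of (e n)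
  choose J hJ hJ' using fun i => eventually_factors_of_isMittagLeffler_directLimit G f hML i
  choose U hU1 hU2 using fun i j : ι => exists_ge_ge i j
  let i : ℕ → ι := fun n => Nat.rec i₀ (fun n a => U (J a) (b n)) n
  have hi_succ : ∀ n, i (n + 1) = U (J (i n)) (b n) := fun n => rfl
  have hstep : ∀ n, i n ≤ i (n + 1) := fun n => by
    rw [hi_succ]; exact (hJ (i n)).trans (hU1 _ _)
  have hmono : Monotone i := monotone_nat_of_le_succ hstep
  refine ⟨⟨i, hmono, ?_, ?_⟩, rfl⟩
  · intro n k hk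
    obtain ⟨h, hh⟩ := hJ' (i n) k hk
    have hJi : J (i n) ≤ i (n + 1) := by rw [hi_succ]; exact hU1 _ _
    refine ⟨f (J (i n)) (i (n + 1)) hJi ∘ₗ h, ?_⟩
    rw [LinearMap.comp_assoc, ← hh]
    ext x
    exact (DirectedSystem.map_map (f := fun i j h => f i j h) (hJ (i n)) hJi x).symm
  · -- the union of the ranges is a submodule containing the generators
    have hrange_mono : Monotone fun n => LinearMap.range (Module.DirectLimit.of R ι G f (i n)) := by
      intro n m h
      rintro _ ⟨x, rfl⟩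
      exact ⟨f (i n) (i m) (hmono h) x, Module.DirectLimit.of_f⟩
    have htop : (⨆ n, LinearMap.range (Module.DirectLimit.of R ι G f (i n))) = ⊤ := by
      rw [eq_top_iff, ← hspan]
      apply Submodule.span_le.2
      intro m hm
      have : m ∈ Set.range e := he ▸ Or.inl hm
      obtain ⟨n, rfl⟩ := this
      apply Submodule.mem_iSup_of_mem (n + 1)
      have hbn : b n ≤ i (n + 1) := by rw [hi_succ]; exact hU2 _ _
      refine ⟨f (b n) (i (n + 1)) hbn (y n), ?_⟩
      rw [Module.DirectLimit.of_f]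
      exact hb n
    intro m
    have hm : m ∈ (⨆ n, LinearMap.range (Module.DirectLimit.of R ι G f (i n))) := by
      rw [htop]; trivial
    rw [Submodule.mem_iSup_of_directed _ hrange_mono.directed_le] at hm
    obtain ⟨n, x, hx⟩ := hm
    exact ⟨n, x, hx⟩

/-- Lemma A. -/
theorem exists_retract_of_directLimit [Nonempty ι] [∀ i, Module.FinitePresentation R (G i)]
    (hML : CAlg.IsMittagLeffler R (Module.DirectLimit G f))
    (hc : CAlg.IsCountablyGenerated R (Module.DirectLimit G f)) (i₀ : ι) :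
    ∃ (i₁ : ι) (h01 : i₀ ≤ i₁) (z : Module.DirectLimit G f →ₗ[R] G i₁),
      z ∘ₗ Module.DirectLimit.of R ι G f i₀ = f i₀ i₁ h01 := by
  obtain ⟨c, hc0⟩ := exists_chain G f hML hc i₀
  subst hc0
  obtain ⟨z, hz⟩ := c.exists_retract
  exact ⟨c.i 1, c.mono (Nat.le_succ 0), z, hz⟩

end main

/-- transfer of countable generation along a surjection -/
theorem isCountablyGenerated_of_surjective {R : Type u} [CommRing R] {M N : Type u}
    [AddCommGroup M] [Module R M] [AddCommGroup N] [Module R N] (g : M →ₗ[R] N)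
    (hg : Function.Surjective g) (hM : CAlg.IsCountablyGenerated R M) :
    CAlg.IsCountablyGenerated R N := by
  obtain ⟨s, hs, hspan⟩ := hM
  refine ⟨g '' s, hs.image g, ?_⟩
  rw [← Submodule.map_span, hspan, Submodule.map_top, LinearMap.range_eq_top]
  exact hg

/-- The main theorem. -/
theorem main (R : Type u) [CommRing R] (M : Type u) [AddCommGroup M] [Module R M]
    (hML : CAlg.IsMittagLeffler R M) (hc : CAlg.IsCountablyGenerated R M)
    {P : Type u} [AddCommGroup P] [Module R P] [Module.Finite R P] (f : P →ₗ[R] M) :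
    ∃ (Q : Type u) (_ : AddCommGroup Q) (_ : Module R Q) (_ : Module.FinitePresentation R Q)
      (b : M →ₗ[R] Q) (c : Q →ₗ[R] M), (c ∘ₗ b) ∘ₗ f = f := by
  classical
  obtain ⟨ι, _, _, _, _, G, _, _, t, _, hfp, ⟨e⟩⟩ := Groth.Agent.H77.FPLim.main28 R M
  have hML' : CAlg.IsMittagLeffler R (Module.DirectLimit G t) := isMittagLeffler_of_equiv R e.symm hML
  have hc' : CAlg.IsCountablyGenerated R (Module.DirectLimit G t) :=
    isCountablyGenerated_of_surjective e.symm.toLinearMap e.symm.surjective hc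
  -- the image of `f` lands in a finite stage
  obtain ⟨gens, hgens⟩ := (Module.Finite.fg_top : (⊤ : Submodule R P).FG)
  choose idx x hx using fun p : P => Module.DirectLimit.exists_of (e.symm (f p))
  obtain ⟨i₀, hi₀⟩ := Finset.exists_le (gens.image idx)
  have hrange : ∀ p : P, ∃ x : G i₀, Module.DirectLimit.of R ι G t i₀ x = e.symm (f p) := by
    have hle : (⊤ : Submodule R P) ≤
        Submodule.comap (e.symm.toLinearMap ∘ₗ f) (LinearMap.range (Module.DirectLimit.of R ι G t i₀)) := by
      rw [← hgens]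
      apply Submodule.span_le.2
      intro p hp
      have hle : idx p ≤ i₀ := hi₀ _ (Finset.mem_image_of_mem idx hp)
      refine ⟨t (idx p) i₀ hle (x p), ?_⟩
      rw [Module.DirectLimit.of_f]
      exact hx p
    intro p
    exact hle (Submodule.mem_top : p ∈ ⊤)
  obtain ⟨i₁, h01, z, hz⟩ := exists_retract_of_directLimit G t hML' hc' i₀
  refine ⟨G i₁, inferInstance, inferInstance, hfp i₁, z ∘ₗ e.symm.toLinearMap,
    e.toLinearMap ∘ₗ Module.DirectLimit.of R ι G t i₁, ?_⟩
  ext p
  obtain ⟨xp, hxp⟩ := hrange p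
  simp only [LinearMap.comp_apply, LinearEquiv.coe_coe]
  rw [← hxp, ← LinearMap.comp_apply z, hz, Module.DirectLimit.of_f, hxp, LinearEquiv.apply_symm_apply]

end Groth.Agent.H80.MLCountEndo
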