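import Groth.Agent.H80.MLCountEndo

/-!
# Countably generated flat Mittag-Leffler modules are projective
-/

set_option autoImplicit false
universe u
open TensorProduct

namespace Groth.Agent.H80.MLProj

open Groth.Agent.H32 Groth.Agent.H80.MLCountEndo

/-- Vanishing of `lim¹` for a tower of abelian groups with (one-step) stable images. -/
theorem tower_solve {A : ℕ → Type u} [∀ n, AddCommGroup (A n)] (r : ∀ n, A (n + 1) →+ A n)
    (H : ∀ (n : ℕ) (a : A (n + 1)), ∃ b : A (n + 2), r n (r (n + 1) b) = r n a) (d : ∀ n, A n) :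
    ∃ v : ∀ n, A n, ∀ n, r n (v (n + 1)) - v n = d n := by
  classical
  let S : ℕ → Type u := fun n => {w : A n // ∃ a : A (n + 1), r n a = w}
  have hstep : ∀ (n : ℕ) (s : S n), ∃ s' : S (n + 1), r n s'.1 = s.1 + r n (d (n + 1)) := by
    rintro n ⟨w, a, rfl⟩
    obtain ⟨b, hb⟩ := H n (a + d (n + 1))
    exact ⟨⟨r (n + 1) b, b, rfl⟩, by rw [hb, map_add]⟩
  choose step hstep' using hstep
  let w : ∀ n, S n := fun n => Nat.rec (motive := S) ⟨0, 0, map_zero _⟩ (fun n s => step n s) n
  have hw : ∀ n, r n (w (n + 1)).1 = (w n).1 + r n (d (n + 1)) := fun n => hstep' n (w n)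
  refine ⟨fun n => (w n).1 - d n, fun n => ?_⟩
  change r n ((w (n + 1)).1 - d (n + 1)) - ((w n).1 - d n) = d n
  rw [map_sub, hw n]
  abel

end Groth.Agent.H80.MLProj

namespace Groth.Agent.H80.MLCountEndo

open Groth.Agent.H32 Groth.Agent.H80.MLProj

section chain
variable {R : Type u} [CommRing R] {ι : Type u} [Preorder ι] [IsDirected ι (· ≤ ·)]
  [DecidableEq ι] {G : ι → Type u} [∀ i, AddCommGroup (G i)] [∀ i, Module R (G i)]
  {f : ∀ i j, i ≤ j → G i →ₗ[R] G j} [DirectedSystem G fun i j h => f i j h]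
  (c : Chain G f)

/-- maps out of the colimit from successor-compatible maps along a chain -/
theorem Chain.lift_of_succ {T : Type u} [AddCommGroup T] [Module R T]
    (φ : ∀ n, c.G' n →ₗ[R] T)
    (hφ : ∀ n, φ (n + 1) ∘ₗ c.f' n (n + 1) (Nat.le_succ n) = φ n) :
    ∃ Ψ : Module.DirectLimit G f →ₗ[R] T,
      ∀ n, Ψ ∘ₗ Module.DirectLimit.of R ι G f (c.i n) = φ n := by
  classical
  have hcompat : ∀ (n m : ℕ) (h : n ≤ m) (x : c.G' n), φ m (c.f' n m h x) = φ n x := by
    intro n m h
    induction m, h using Nat.le_induction with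
    | base =>
      intro x
      rw [show c.f' n n le_rfl x = x from
        DirectedSystem.map_self (f := fun n m h => c.f' n m h) x]
    | succ m hnm ih =>
      intro x
      have h1 : c.f' n (m + 1) (Nat.le_succ_of_le hnm) x =
          c.f' m (m + 1) (Nat.le_succ m) (c.f' n m hnm x) :=
        (DirectedSystem.map_map (f := fun n m h => c.f' n m h) hnm (Nat.le_succ m) x).symm
      rw [h1, ← LinearMap.comp_apply, hφ m, ih]
  let Ψ : Module.DirectLimit c.G' c.f' →ₗ[R] T :=
    Module.DirectLimit.lift R ℕ c.G' c.f' φ (fun n m h x => hcompat n m h x)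
  let e := LinearEquiv.ofBijective c.Φ c.Φ_bijective
  refine ⟨Ψ ∘ₗ e.symm.toLinearMap, fun n => ?_⟩
  ext x
  have h1 : e.symm (Module.DirectLimit.of R ι G f (c.i n) x) =
      Module.DirectLimit.of R ℕ c.G' c.f' n x := by
    rw [LinearEquiv.symm_apply_eq]
    exact (c.Φ_of n x).symm
  simp only [LinearMap.comp_apply, LinearEquiv.coe_coe]
  rw [h1]
  change Module.DirectLimit.lift R ℕ c.G' c.f' φ _ _ = _
  rw [Module.DirectLimit.lift_of]

include c in
/-- the lifting property of the colimit, from flatness and the chain -/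
theorem Chain.exists_lift [Module.Flat R (Module.DirectLimit G f)]
    [∀ i, Module.FinitePresentation R (G i)]
    {N N'' : Type u} [AddCommGroup N] [Module R N] [AddCommGroup N''] [Module R N'']
    (g : N →ₗ[R] N'') (hg : Function.Surjective g) (h : Module.DirectLimit G f →ₗ[R] N'') :
    ∃ h' : Module.DirectLimit G f →ₗ[R] N, g ∘ₗ h' = h := by
  classical
  -- stagewise lifts
  have hu : ∀ n, ∃ u : c.G' n →ₗ[R] N, g ∘ₗ u = h ∘ₗ Module.DirectLimit.of R ι G f (c.i n) := by
    intro n
    obtain ⟨k, a, y, hy⟩ := Module.Flat.exists_factorization_of_finitePresentation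
      (Module.DirectLimit.of R ι G f (c.i n))
    obtain ⟨ℓ, hℓ⟩ := Module.projective_lifting_property g (h ∘ₗ y) hg
    refine ⟨ℓ ∘ₗ a, ?_⟩
    rw [← LinearMap.comp_assoc, hℓ, LinearMap.comp_assoc, ← hy]
  choose u hu using hu
  let K := LinearMap.ker g
  let r : ∀ n, (c.G' (n + 1) →ₗ[R] K) →+ (c.G' n →ₗ[R] K) := fun n =>
    (LinearMap.lcomp R K (c.f' n (n + 1) (Nat.le_succ n))).toAddMonoidHom
  have hr : ∀ n (φ : c.G' (n + 1) →ₗ[R] K), r n φ = φ ∘ₗ c.f' n (n + 1) (Nat.le_succ n) :=
    fun n φ => rfl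
  have hd : ∀ n (x : c.G' n),
      (u (n + 1) ∘ₗ c.f' n (n + 1) (Nat.le_succ n) - u n) x ∈ K := by
    intro n x
    rw [LinearMap.mem_ker, LinearMap.sub_apply, map_sub, LinearMap.comp_apply,
      ← LinearMap.comp_apply g, hu, ← LinearMap.comp_apply g, hu, LinearMap.comp_apply,
      LinearMap.comp_apply, sub_eq_zero]
    congr 1
    exact Module.DirectLimit.of_f
  let d : ∀ n, c.G' n →ₗ[R] K := fun n =>
    LinearMap.codRestrict K (u (n + 1) ∘ₗ c.f' n (n + 1) (Nat.le_succ n) - u n) (hd n)
  have H : ∀ (n : ℕ) (a : c.G' (n + 1) →ₗ[R] K),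
      ∃ b : c.G' (n + 2) →ₗ[R] K, r n (r (n + 1) b) = r n a := by
    intro n a
    have hle : c.i n ≤ c.i (n + 2) := c.mono (by omega)
    obtain ⟨hh, hhh⟩ := c.key n (c.i (n + 2)) hle
    refine ⟨a ∘ₗ hh, ?_⟩
    rw [hr, hr, hr]
    have hcomp : c.f' (n + 1) (n + 2) (Nat.le_succ _) ∘ₗ c.f' n (n + 1) (Nat.le_succ _) =
        f (c.i n) (c.i (n + 2)) hle := by
      ext x
      exact DirectedSystem.map_map (f := fun i j h => f i j h) _ _ x
    rw [LinearMap.comp_assoc, hcomp, LinearMap.comp_assoc, ← hhh]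
    rfl
  obtain ⟨v, hv⟩ := tower_solve r H d
  let u' : ∀ n, c.G' n →ₗ[R] N := fun n => u n - K.subtype ∘ₗ v n
  have hu' : ∀ n, u' (n + 1) ∘ₗ c.f' n (n + 1) (Nat.le_succ n) = u' n := by
    intro n
    ext x
    have h1 := congrArg (fun φ : c.G' n →ₗ[R] K => ((φ x : K) : N)) (hv n)
    simp only [hr, LinearMap.sub_apply, LinearMap.comp_apply, Submodule.coe_sub, d,
      LinearMap.codRestrict_apply] at h1
    simp only [u', LinearMap.sub_apply, LinearMap.comp_apply, Submodule.subtype_apply]
    rw [sub_eq_sub_iff_sub_eq_sub]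
    exact h1.symm
  obtain ⟨Ψ, hΨ⟩ := c.lift_of_succ u' hu'
  refine ⟨Ψ, LinearMap.ext fun m => ?_⟩
  obtain ⟨n, x, rfl⟩ := c.surj m
  have h2 : Ψ (Module.DirectLimit.of R ι G f (c.i n) x) = u' n x := by
    rw [← hΨ n]; rfl
  rw [LinearMap.comp_apply, h2]
  simp only [u', LinearMap.sub_apply, LinearMap.comp_apply, Submodule.subtype_apply, map_sub]
  have h3 : g ((v n x : K) : N) = 0 := (v n x).2
  rw [h3, sub_zero, ← LinearMap.comp_apply g, hu]
  rfl

end chain

end Groth.Agent.H80.MLCountEndo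

namespace Groth.Agent.H80.MLProj

open Groth.Agent.H32 Groth.Agent.H80.MLCountEndo

/-- a Mittag-Leffler, flat, countably generated colimit of finitely presented modules is
projective -/
theorem projective_directLimit {R : Type u} [CommRing R] {ι : Type u} [Preorder ι]
    [IsDirected ι (· ≤ ·)] [DecidableEq ι] [Nonempty ι] (G : ι → Type u)
    [∀ i, AddCommGroup (G i)] [∀ i, Module R (G i)] [∀ i, Module.FinitePresentation R (G i)]
    (f : ∀ i j, i ≤ j → G i →ₗ[R] G j) [DirectedSystem G fun i j h => f i j h]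
    [Module.Flat R (Module.DirectLimit G f)]
    (hML : CAlg.IsMittagLeffler R (Module.DirectLimit G f))
    (hc : CAlg.IsCountablyGenerated R (Module.DirectLimit G f)) :
    Module.Projective R (Module.DirectLimit G f) := by
  obtain ⟨c, -⟩ := exists_chain G f hML hc (Classical.arbitrary ι)
  exact Module.Projective.of_lifting_property (fun g h hg => c.exists_lift g hg h)

/-- **Countably generated flat Mittag-Leffler modules are projective.** -/
theorem projective_of_flat_of_isMittagLeffler_of_isCountablyGenerated (R : Type u) [CommRing R]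
    (M : Type u) [AddCommGroup M] [Module R M] [Module.Flat R M]
    (hML : CAlg.IsMittagLeffler R M) (hc : CAlg.IsCountablyGenerated R M) :
    Module.Projective R M := by
  classical
  obtain ⟨ι, _, _, _, _, G, _, _, t, _, hfp, ⟨e⟩⟩ := Groth.Agent.H77.FPLim.main28 R M
  have hML' : CAlg.IsMittagLeffler R (Module.DirectLimit G t) :=
    isMittagLeffler_of_equiv R e.symm hML
  have hc' : CAlg.IsCountablyGenerated R (Module.DirectLimit G t) :=
    isCountablyGenerated_of_surjective e.symm.toLinearMap e.symm.surjective hc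
  have : Module.Flat R (Module.DirectLimit G t) := Module.Flat.of_linearEquiv e
  have := projective_directLimit G t hML' hc'
  exact Module.Projective.of_equiv e

end Groth.Agent.H80.MLProj
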