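import Groth.Agent.H80.DiffSmBasis2
import Groth.Agent.S3820

/-!
# Principal parts of the fraction field of a polynomial ring
-/

set_option autoImplicit false

namespace Groth.Agent.H80.PPFrac

open TensorProduct MvPolynomial Groth.Agent.H80.DiffSm PP16

universe u

section General

variable (A B : Type u) [CommRing A] [CommRing B] [Algebra A B]
  (hB : PP16.IsDiffSmooth A B) {ι : Type} [Fintype ι] [DecidableEq ι] (z : ι → B)
  (b : Module.Basis ι B Ω[B⁄A]) (hb : ∀ i, b i = KaehlerDifferential.D A B (z i)) (n : ℕ)

/-- The map `B[U] → P^n`, `U_i ↦ ζ_i`. -/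
noncomputable def evP : MvPolynomial ι B →ₐ[B] P n A B :=
  aeval (fun i => dn n A B (z i) - algebraMap B (P n A B) (z i))

omit [DecidableEq ι] in
lemma evP_monomial (s : ι →₀ ℕ) :
    evP A B z n (monomial s 1) = zetaMon A B ι z n (fun i => s i) := by
  rw [evP, aeval_monomial, map_one, one_mul, Finsupp.prod_fintype _ _ (fun i => pow_zero _)]
  rfl

lemma zetaMon_eq_zero (p : ι → ℕ) (hp : n < ∑ i, p i) : zetaMon A B ι z n p = 0 := by
  rw [zetaMon_eq, Ideal.Quotient.eq_zero_iff_mem]
  have h := ev_monomial_mem (KaehlerDifferential.ideal A B) (fun i => gen A B (z i)) (expS ι p)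
  rw [expS_sum] at h
  exact Ideal.pow_le_pow_right (by omega) h

include hB hb in
theorem evP_surjective : Function.Surjective (evP A B z n) := by
  classical
  obtain ⟨bas, hbas⟩ := exists_monomialBasis A B hB ι z b hb n
  have hrange : (⊤ : Submodule B (P n A B)) ≤ LinearMap.range (evP A B z n).toLinearMap := by
    rw [← bas.span_eq, Submodule.span_le]
    rintro _ ⟨p, rfl⟩
    refine ⟨monomial (expS ι p.1) 1, ?_⟩
    rw [AlgHom.toLinearMap_apply, evP_monomial, hbas]
    rfl
  intro y
  exact hrange (Submodule.mem_top (x := y))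

include hB hb in
theorem ker_evP :
    RingHom.ker (evP A B z n).toRingHom = (Ideal.span (Set.range (X : ι → MvPolynomial ι B))) ^ (n + 1) := by
  classical
  obtain ⟨bas, hbas⟩ := exists_monomialBasis A B hB ι z b hb n
  have hI : Ideal.span (Set.range (X : ι → MvPolynomial ι B)) = idealOfVars ι B := rfl
  have hbas' : ∀ p : {p : ι → ℕ // ∑ i, p i ≤ n}, zetaMon A B ι z n p.1 = bas p :=
    fun p => (hbas p).symm
  rw [hI]
  ext f
  rw [RingHom.mem_ker, mem_pow_idealOfVars_iff]
  have hf : (evP A B z n).toRingHom f =
      ∑ s ∈ f.support, coeff s f • zetaMon A B ι z n (fun i => s i) := by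
    conv_lhs => rw [← support_sum_monomial_coeff f]
    change evP A B z n (∑ s ∈ f.support, monomial s (coeff s f)) = _
    rw [map_sum]
    refine Finset.sum_congr rfl fun s _ => ?_
    have h1 : monomial s (coeff s f) = coeff s f • monomial s (1 : B) := by
      rw [smul_monomial, smul_eq_mul, mul_one]
    rw [h1, map_smul, evP_monomial]
  constructor
  · intro h0 s hs
    by_contra hdeg
    push Not at hdeg
    have hs' : ∑ i, s i ≤ n := by
      have : s.degree = ∑ i, s i := by
        rw [Finsupp.degree_eq_sum]
      omega
    -- apply the coordinate functional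
    have h2 := congrArg (bas.coord ⟨fun i => s i, hs'⟩) (hf.symm.trans h0)
    rw [map_sum, map_zero] at h2
    rw [Finset.sum_eq_single s] at h2
    · rw [map_smul, show zetaMon A B ι z n (fun i => s i) = bas ⟨fun i => s i, hs'⟩ from
          hbas' ⟨_, hs'⟩, Module.Basis.coord_apply,
        Module.Basis.repr_self, Finsupp.single_eq_same, smul_eq_mul, mul_one] at h2
      exact (mem_support_iff.mp hs) h2
    · intro t ht hts
      rw [map_smul]
      by_cases htn : ∑ i, t i ≤ n
      · rw [show zetaMon A B ι z n (fun i => t i) = bas ⟨fun i => t i, htn⟩ from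
            hbas' ⟨_, htn⟩, Module.Basis.coord_apply, Module.Basis.repr_self,
          Finsupp.single_eq_of_ne, smul_zero]
        intro e
        apply hts
        ext i
        exact (congrFun (congrArg Subtype.val e) i).symm
      · rw [zetaMon_eq_zero A B z n _ (by omega), map_zero, smul_zero]
    · intro h; exact absurd hs h
  · intro h
    rw [hf]
    refine Finset.sum_eq_zero fun s hs => ?_
    have := h s hs
    rw [zetaMon_eq_zero A B z n, smul_zero]
    have : s.degree = ∑ i, s i := by
      rw [Finsupp.degree_eq_sum]
    omega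

end General

section Frac

variable (k : Type u) [Field k] (r : ℕ)

local notation "Sr" => MvPolynomial (Fin r) k
local notation "Kr" => FractionRing (MvPolynomial (Fin r) k)

instance formallyEtale_frac : Algebra.FormallyEtale Sr Kr :=
  Algebra.FormallyEtale.of_isLocalization (Rₘ := Kr) (nonZeroDivisors Sr)

instance formallySmooth_frac : Algebra.FormallySmooth k Kr :=
  Algebra.FormallySmooth.comp k Sr Kr

theorem isDiffSmooth_frac : PP16.IsDiffSmooth k Kr :=
  Groth.Agent.S3820.result k Kr

/-- The basis `dT_i` of the differentials of the fraction field. -/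
noncomputable def basisFrac : Module.Basis (Fin r) Kr Ω[Kr⁄k] :=
  ((KaehlerDifferential.mvPolynomialBasis k (Fin r)).baseChange Kr).map
    (KaehlerDifferential.tensorKaehlerEquivOfFormallyEtale k Sr Kr)

lemma basisFrac_apply (i : Fin r) :
    basisFrac k r i = KaehlerDifferential.D k Kr (algebraMap Sr Kr (X i)) := by
  simp [basisFrac, KaehlerDifferential.mvPolynomialBasis_apply]

end Frac

end Groth.Agent.H80.PPFrac
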