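import Mathlib.AlgebraicGeometry.ProjectiveSpectrum.Functor

/-!
# Degree-scaling homomorphisms of graded rings: algebra

`DHom 𝒜 ℬ d` : a ring hom `A →+* B` with `f (𝒜 n) ⊆ ℬ (n * d)`, `d > 0`, such that relevant homogeneous
primes of `ℬ` pull back to relevant primes of `𝒜`.  We develop the analogue of
`HomogeneousLocalization.map`, `Away.map`, `localRingHom` for such maps.
-/

set_option autoImplicit false

open HomogeneousIdeal HomogeneousLocalization DirectSum

namespace Groth.Agent.H80.ProjD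

variable {A B σ τ : Type*} [CommRing A] [SetLike σ A] [AddSubgroupClass σ A]
  [CommRing B] [SetLike τ B] [AddSubgroupClass τ B]

/-- A ring hom `A →+* B` multiplying degrees by `d > 0`, pulling back relevant primes to relevant
primes. -/
structure DHom (𝒜 : ℕ → σ) (ℬ : ℕ → τ) [GradedRing 𝒜] [GradedRing ℬ] (d : ℕ) where
  hom : A →+* B
  pos : 0 < d
  map_mem : ∀ {n : ℕ} {a : A}, a ∈ 𝒜 n → hom a ∈ ℬ (n * d)
  rel : ∀ p : ProjectiveSpectrum ℬ,
    ¬ (HomogeneousIdeal.irrelevant 𝒜).toIdeal ≤ p.asHomogeneousIdeal.toIdeal.comap hom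

variable {𝒜 : ℕ → σ} {ℬ : ℕ → τ} [GradedRing 𝒜] [GradedRing ℬ] {d : ℕ}

namespace DHom

variable (f : DHom 𝒜 ℬ d)

theorem decompose_map (a : A) (n : ℕ) :
    (decompose ℬ (f.hom a) (n * d) : B) = f.hom (decompose 𝒜 a n) := by
  classical
  induction a using DirectSum.Decomposition.inductionOn 𝒜 with
  | zero => simp
  | @homogeneous i a =>
    by_cases h : i = n
    · subst h
      rw [decompose_of_mem_same ℬ (f.map_mem a.2), decompose_of_mem_same 𝒜 a.2]
    · have h' : i * d ≠ n * d := fun e => h (Nat.eq_of_mul_eq_mul_right f.pos e)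
      rw [decompose_of_mem_ne ℬ (f.map_mem a.2) h', decompose_of_mem_ne 𝒜 a.2 h, map_zero]
  | add a b ha hb =>
    simp only [map_add, decompose_add, DirectSum.add_apply, AddMemClass.coe_add, ha, hb]

/-- Pull back a homogeneous ideal along a degree-scaling homomorphism. -/
def comapHI (I : HomogeneousIdeal ℬ) : HomogeneousIdeal 𝒜 where
  __ := I.toIdeal.comap f.hom
  is_homogeneous' n a ha := by
    rw [Ideal.mem_comap, ← f.decompose_map]
    exact I.2 _ ha

@[simp] lemma toIdeal_comapHI (I : HomogeneousIdeal ℬ) :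
    (f.comapHI I).toIdeal = I.toIdeal.comap f.hom := rfl

@[simp] lemma mem_comapHI (I : HomogeneousIdeal ℬ) (a : A) :
    a ∈ f.comapHI I ↔ f.hom a ∈ I := Iff.rfl

variable {P : Submonoid A} {Q : Submonoid B}

/-- The underlying function of `hlMap`. -/
def hlMapFun (comap_le : P ≤ Q.comap f.hom) :
    HomogeneousLocalization 𝒜 P → HomogeneousLocalization ℬ Q :=
  Quotient.map'
    (fun x ↦ ⟨x.1 * d, ⟨_, f.map_mem x.2.2⟩, ⟨_, f.map_mem x.3.2⟩, comap_le x.4⟩)
    fun x y (e : x.embedding = y.embedding) ↦ by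
      apply_fun IsLocalization.map (Localization Q) f.hom comap_le at e
      simp_rw [HomogeneousLocalization.NumDenSameDeg.embedding, Localization.mk_eq_mk',
        IsLocalization.map_mk', ← Localization.mk_eq_mk'] at e
      exact e

lemma hlMapFun_mk (comap_le : P ≤ Q.comap f.hom) (x : NumDenSameDeg 𝒜 P) :
    f.hlMapFun comap_le (HomogeneousLocalization.mk x) =
      HomogeneousLocalization.mk ⟨x.1 * d, ⟨_, f.map_mem x.2.2⟩, ⟨_, f.map_mem x.3.2⟩, comap_le x.4⟩ :=
  rfl

lemma val_hlMapFun (comap_le : P ≤ Q.comap f.hom) (x : HomogeneousLocalization 𝒜 P) :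
    (f.hlMapFun comap_le x).val = IsLocalization.map (Localization Q) f.hom comap_le x.val := by
  obtain ⟨c, rfl⟩ := x.mk_surjective
  rw [hlMapFun_mk, val_mk, val_mk, Localization.mk_eq_mk', Localization.mk_eq_mk',
    IsLocalization.map_mk']

/-- The map on homogeneous localizations induced by a degree-scaling homomorphism. -/
def hlMap (comap_le : P ≤ Q.comap f.hom) :
    HomogeneousLocalization 𝒜 P →+* HomogeneousLocalization ℬ Q where
  toFun := f.hlMapFun comap_le
  map_add' x y := val_injective _ (by simp only [val_hlMapFun, val_add, map_add])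
  map_mul' x y := val_injective _ (by simp only [val_hlMapFun, val_mul, map_mul])
  map_zero' := val_injective _ (by simp only [val_hlMapFun, val_zero, map_zero])
  map_one' := val_injective _ (by simp only [val_hlMapFun, val_one, map_one])

lemma hlMap_mk (comap_le : P ≤ Q.comap f.hom) (x : NumDenSameDeg 𝒜 P) :
    f.hlMap comap_le (HomogeneousLocalization.mk x) =
      HomogeneousLocalization.mk ⟨x.1 * d, ⟨_, f.map_mem x.2.2⟩, ⟨_, f.map_mem x.3.2⟩, comap_le x.4⟩ :=
  rfl

@[simp] lemma val_hlMap (comap_le : P ≤ Q.comap f.hom) (x : HomogeneousLocalization 𝒜 P) :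
    (f.hlMap comap_le x).val = IsLocalization.map (Localization Q) f.hom comap_le x.val :=
  f.val_hlMapFun comap_le x

/-- The induced map `Away 𝒜 s →+* Away ℬ (f s)`. -/
def awayMap (s : A) : Away 𝒜 s →+* Away ℬ (f.hom s) :=
  f.hlMap <| by rintro _ ⟨n, rfl⟩; exact ⟨n, by simp⟩

lemma awayMap_mk {i : ℕ} (s : A) (hs : s ∈ 𝒜 i) (n : ℕ) (x : A) (hx : x ∈ 𝒜 (n • i))
    (hx' : f.hom x ∈ ℬ (n • (i * d))) :
    f.awayMap s (.mk 𝒜 hs n x hx) = .mk ℬ (f.map_mem hs) n (f.hom x) hx' := by
  apply val_injective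
  simp only [awayMap, val_hlMap, Away.val_mk, Localization.mk_eq_mk', IsLocalization.map_mk',
    map_pow]

lemma val_awayMap (s : A) (x : Away 𝒜 s) :
    (f.awayMap s x).val = Localization.awayMap f.hom s x.val := by
  simp only [awayMap, val_hlMap]
  rfl

section AtPrime

variable (I : Ideal A) [I.IsPrime] (J : Ideal B) [J.IsPrime] (hIJ : I = J.comap f.hom)

/-- The induced local ring hom on homogeneous localizations at primes. -/
noncomputable def localRingHom : AtPrime 𝒜 I →+* AtPrime ℬ J :=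
  f.hlMap <| Localization.le_comap_primeCompl_iff.mpr <| hIJ ▸ le_rfl

variable {I J hIJ}

@[simp] lemma val_localRingHom (x : AtPrime 𝒜 I) :
    (f.localRingHom I J hIJ x).val = Localization.localRingHom _ _ f.hom hIJ x.val := by
  simp only [localRingHom, val_hlMap]
  rfl

instance : IsLocalHom (f.localRingHom I J hIJ) where
  map_nonunit x hx := by
    rw [← isUnit_iff_isUnit_val] at hx ⊢
    rw [val_localRingHom] at hx
    exact IsLocalHom.map_nonunit _ hx

end AtPrime


section Veronese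

variable (hinj : Function.Injective f.hom)
  (hsurj : ∀ (n : ℕ) (b : B), b ∈ ℬ (n * d) → ∃ a ∈ 𝒜 n, f.hom a = b)

include hinj in
theorem awayMap_injective {i : ℕ} {s : A} (hs : s ∈ 𝒜 i) :
    Function.Injective (f.awayMap s) := by
  rw [injective_iff_map_eq_zero]
  intro x hx
  obtain ⟨n, a, ha, rfl⟩ := Away.mk_surjective 𝒜 hs x
  have hx' : f.hom a ∈ ℬ (n • (i * d)) := by
    have := f.map_mem ha
    rwa [smul_eq_mul, mul_assoc] at this
  rw [f.awayMap_mk s hs n a ha hx'] at hx
  have h1 := congrArg HomogeneousLocalization.val hx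
  rw [Away.val_mk, val_zero, Localization.mk_eq_mk', IsLocalization.mk'_eq_zero_iff] at h1
  obtain ⟨⟨_, k, rfl⟩, hk⟩ := h1
  simp only at hk
  rw [← map_pow, ← map_mul] at hk
  have h2 : s ^ k * a = 0 := hinj (by rw [hk, map_zero])
  apply val_injective
  rw [Away.val_mk, val_zero, Localization.mk_eq_mk', IsLocalization.mk'_eq_zero_iff]
  exact ⟨⟨s ^ k, k, rfl⟩, h2⟩

include hsurj in
theorem awayMap_surjective {i : ℕ} {s : A} (hs : s ∈ 𝒜 i) :
    Function.Surjective (f.awayMap s) := by
  intro y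
  obtain ⟨n, b, hb, rfl⟩ := Away.mk_surjective ℬ (f.map_mem hs) y
  have hb' : b ∈ ℬ ((n • i) * d) := by
    rwa [smul_eq_mul, mul_assoc, ← smul_eq_mul]
  obtain ⟨a, ha, rfl⟩ := hsurj _ b hb'
  exact ⟨Away.mk 𝒜 hs n a ha, f.awayMap_mk s hs n a ha hb⟩

include hinj hsurj in
theorem awayMap_bijective {i : ℕ} {s : A} (hs : s ∈ 𝒜 i) :
    Function.Bijective (f.awayMap s) :=
  ⟨f.awayMap_injective hinj hs, f.awayMap_surjective hsurj hs⟩

end Veronese

end DHom

end Groth.Agent.H80.ProjD
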