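import Groth.Agent.H80.ProjDMap1

/-!
# Degree-scaling homomorphisms of graded rings: the induced morphism of `Proj`

Adapted from `Mathlib.AlgebraicGeometry.ProjectiveSpectrum.Functor`.
-/

set_option autoImplicit false

universe u

open HomogeneousIdeal HomogeneousLocalization TopologicalSpace CategoryTheory
open AlgebraicGeometry ProjectiveSpectrum Proj

namespace Groth.Agent.H80.ProjD

section universe_polymorphic

variable {A B σ τ : Type*} [CommRing A] [SetLike σ A] [AddSubgroupClass σ A]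
  [CommRing B] [SetLike τ B] [AddSubgroupClass τ B]
  {𝒜 : ℕ → σ} {ℬ : ℕ → τ} [GradedRing 𝒜] [GradedRing ℬ] {d : ℕ}
  (f : DHom 𝒜 ℬ d)

/-- The underlying function of `Proj ℬ ⟶ Proj 𝒜` on the level of points. -/
@[simps] def comapFun (p : ProjectiveSpectrum ℬ) : ProjectiveSpectrum 𝒜 where
  asHomogeneousIdeal := f.comapHI p.1
  isPrime := p.2.comap f.hom
  not_irrelevant_le le := f.rel p le

/-- The underlying continuous function of `Proj ℬ ⟶ Proj 𝒜` on the level of points. -/
def comap : C(ProjectiveSpectrum ℬ, ProjectiveSpectrum 𝒜) where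
  toFun := comapFun f
  continuous_toFun := by
    simp_rw [continuous_iff_isClosed, isClosed_iff_zeroLocus, exists_imp, forall_eq_apply_imp_iff]
    exact fun s ↦ ⟨f.hom '' s, by ext; simp [ProjectiveSpectrum.mem_zeroLocus, Set.subset_def]⟩

open StructureSheaf

variable (U : Opens (ProjectiveSpectrum 𝒜)) (V : Opens (ProjectiveSpectrum ℬ))
  (hUV : V.1 ⊆ comap f ⁻¹' U.1)

/-- The underlying function of `Proj ℬ ⟶ Proj 𝒜` on the level of structure sheaves. -/
noncomputable def comapStructureSheafFun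
    (s : ∀ x : U, AtPrime 𝒜 x.1.1.1) (y : V) : AtPrime ℬ y.1.1.1 :=
  f.localRingHom _ y.1.1.1 rfl <| s ⟨comap f y.1, hUV y.2⟩

set_option backward.isDefEq.respectTransparency false in
lemma isLocallyFraction_comapStructureSheafFun
    (s : ∀ x : U, AtPrime 𝒜 x.1.1.1) (hs : (isLocallyFraction 𝒜).pred s) :
    (isLocallyFraction ℬ).pred (comapStructureSheafFun f U V hUV s) := by
  rintro ⟨p, hpV⟩
  rcases hs ⟨comap f p, hUV hpV⟩ with ⟨W, m, iWU, i, a, b, hb, h_frac⟩
  refine ⟨W.comap (comap f) ⊓ V, ⟨m, hpV⟩, Opens.infLERight _ _, i * d,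
    ⟨f.hom a, f.map_mem a.2⟩, ⟨f.hom b, f.map_mem b.2⟩, fun ⟨q, ⟨hqW, hqV⟩⟩ ↦ hb ⟨_, hqW⟩,
    fun ⟨q, ⟨hqW, hqV⟩⟩ ↦ ?_⟩
  ext
  specialize h_frac ⟨_, hqW⟩
  simp_all [comapStructureSheafFun]

set_option backward.isDefEq.respectTransparency false in
/-- The underlying ring hom of `Proj ℬ ⟶ Proj 𝒜` on the level of structure sheaves. -/
noncomputable def comapStructureSheaf :
    (Proj.structureSheaf 𝒜).1.obj (.op U) →+* (Proj.structureSheaf ℬ).1.obj (.op V) where
  toFun s := ⟨comapStructureSheafFun _ _ _ hUV s.1,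
      isLocallyFraction_comapStructureSheafFun _ _ _ hUV _ s.2⟩
  map_one' := by ext; simp [comapStructureSheafFun]
  map_zero' := by ext; simp [comapStructureSheafFun]
  map_add' x y := by ext; simp [comapStructureSheafFun]
  map_mul' x y := by ext; simp [comapStructureSheafFun]

end universe_polymorphic

section universe_monomorphic

variable {A B σ τ : Type u} [CommRing A] [SetLike σ A] [AddSubgroupClass σ A]
  [CommRing B] [SetLike τ B] [AddSubgroupClass τ B]
  {𝒜 : ℕ → σ} {ℬ : ℕ → τ} [GradedRing 𝒜] [GradedRing ℬ] {d : ℕ}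
  (f : DHom 𝒜 ℬ d)

set_option backward.isDefEq.respectTransparency.types false in
/-- The underlying map of `Proj ℬ ⟶ Proj 𝒜` on the level of sheafed spaces. -/
@[simps! (isSimp := false)] noncomputable def sheafedSpaceMap :
    Proj.toSheafedSpace ℬ ⟶ Proj.toSheafedSpace 𝒜 where
  hom :=
    { base := TopCat.ofHom <| comap f
      c := { app U := CommRingCat.ofHom <| comapStructureSheaf f _ _ Set.Subset.rfl } }

/-- The image of a `NumDenSameDeg` under a degree-scaling hom. -/
def ndMap {p : ProjectiveSpectrum ℬ}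
    (c : NumDenSameDeg 𝒜 (comap f p).1.toIdeal.primeCompl) :
    NumDenSameDeg ℬ p.1.toIdeal.primeCompl :=
  ⟨c.1 * d, ⟨_, f.map_mem c.2.2⟩, ⟨_, f.map_mem c.3.2⟩, c.4⟩

set_option backward.isDefEq.respectTransparency.types false in
lemma germ_map_sectionInBasicOpen {p : ProjectiveSpectrum ℬ}
    (c : NumDenSameDeg 𝒜 (comap f p).1.toIdeal.primeCompl) :
    (toSheafedSpace ℬ).presheaf.germ
      ((Opens.map (sheafedSpaceMap f).hom.base).obj _) p (mem_basicOpen_den _ _ _)
      ((sheafedSpaceMap f).hom.c.app _ (sectionInBasicOpen 𝒜 _ c)) =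
    (toSheafedSpace ℬ).presheaf.germ
      (ProjectiveSpectrum.basicOpen _ (f.hom c.den)) p c.4
      (sectionInBasicOpen ℬ p (ndMap f c)) :=
  rfl

set_option backward.isDefEq.respectTransparency.types false in
@[elementwise] theorem localRingHom_comp_stalkIso (p : ProjectiveSpectrum ℬ) :
    (stalkIso 𝒜 (comap f p)).hom ≫
      CommRingCat.ofHom (f.localRingHom _ _ rfl) ≫
        (stalkIso ℬ p).inv =
      (sheafedSpaceMap f).hom.stalkMap p := by
  rw [← Iso.eq_inv_comp, Iso.comp_inv_eq]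
  ext : 1
  simp only [CommRingCat.hom_ofHom, stalkIso, RingEquiv.toCommRingCatIso_inv,
    RingEquiv.toCommRingCatIso_hom, CommRingCat.hom_comp]
  ext x : 2
  obtain ⟨c, rfl⟩ := x.mk_surjective
  simp only [DHom.val_localRingHom, val_mk, RingHom.comp_apply]
  simp only [Localization.localRingHom_mk]
  erw [stalkIso'_symm_mk]
  erw [PresheafedSpace.stalkMap_germ_apply]
  erw [germ_map_sectionInBasicOpen]
  erw [stalkIso'_germ]
  simp [ndMap]

set_option backward.isDefEq.respectTransparency false in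
/-- The morphism `Proj ℬ ⟶ Proj 𝒜` induced by a degree-scaling homomorphism. -/
noncomputable def dmap : Proj ℬ ⟶ Proj 𝒜 where
  __ := (sheafedSpaceMap f).hom
  prop p := .mk fun x hx ↦ by
    rw [← localRingHom_comp_stalkIso] at hx
    simp only [CommRingCat.hom_comp, CommRingCat.hom_ofHom, RingHom.coe_comp,
      Function.comp_apply] at hx
    have : IsLocalHom (stalkIso ℬ p).inv.hom := isLocalHom_of_isIso _
    replace hx := (isUnit_map_iff _ _).mp hx
    replace hx := IsLocalHom.map_nonunit _ hx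
    have : IsLocalHom (stalkIso 𝒜 (comap f p)).hom.hom := isLocalHom_of_isIso _
    exact (isUnit_map_iff _ _).mp hx

@[simp] theorem dmap_preimage_basicOpen (s : A) :
    dmap f ⁻¹ᵁ AlgebraicGeometry.Proj.basicOpen 𝒜 s = AlgebraicGeometry.Proj.basicOpen ℬ (f.hom s) := rfl

theorem dmap_base_apply (p : Proj ℬ) :
    ((dmap f).base p).asHomogeneousIdeal.toIdeal = p.asHomogeneousIdeal.toIdeal.comap f.hom := rfl

set_option backward.isDefEq.respectTransparency.types false in
theorem ι_comp_dmap (s : A) : (AlgebraicGeometry.Proj.basicOpen ℬ (f.hom s)).ι ≫ dmap f =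
    (dmap f).resLE _ _ le_rfl ≫ (AlgebraicGeometry.Proj.basicOpen 𝒜 s).ι := by simp

set_option backward.isDefEq.respectTransparency.types false in
@[reassoc] lemma awayToSection_comp_appLE {i : ℕ} {s : A} (hs : s ∈ 𝒜 i) :
    AlgebraicGeometry.Proj.awayToSection 𝒜 s ≫
      Scheme.Hom.appLE (dmap f) (AlgebraicGeometry.Proj.basicOpen 𝒜 s) (AlgebraicGeometry.Proj.basicOpen ℬ (f.hom s)) (by rfl) =
    CommRingCat.ofHom (f.awayMap s : Away 𝒜 s →+* Away ℬ (f.hom s)) ≫
      AlgebraicGeometry.Proj.awayToSection ℬ (f.hom s) := by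
  ext x
  obtain ⟨n, x, hx, rfl⟩ := x.mk_surjective _ hs
  have hx' : f.hom x ∈ ℬ (n • (i * d)) := by
    have := f.map_mem hx
    rwa [smul_eq_mul, mul_assoc] at this
  simp only [CommRingCat.hom_comp, RingHom.coe_comp, Function.comp_apply, CommRingCat.hom_ofHom,
    f.awayMap_mk s hs n x hx hx']
  refine Subtype.ext <| funext fun p ↦ ?_
  change HomogeneousLocalization.mk _ = .mk _
  ext
  simp

set_option backward.isDefEq.respectTransparency false in
/-- The chart square of `dmap` commutes. -/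
@[reassoc] theorem awayι_comp_dmap {i : ℕ} (hi : 0 < i) (s : A) (hs : s ∈ 𝒜 i) :
    awayι ℬ (f.hom s) (f.map_mem hs) (Nat.mul_pos hi f.pos) ≫ dmap f =
    Spec.map (CommRingCat.ofHom (f.awayMap s)) ≫ awayι 𝒜 s hs hi := by
  rw [awayι, awayι, Category.assoc, ι_comp_dmap, ← Category.assoc, ← Category.assoc]
  congr 1
  rw [Iso.inv_comp_eq, ← Category.assoc, Iso.eq_comp_inv]
  refine ext_to_Spec <| (cancel_mono (AlgebraicGeometry.Proj.basicOpen ℬ (f.hom s)).topIso.hom).mp ?_
  simp [basicOpenIsoSpec_hom, basicOpenToSpec_app_top, awayToSection_comp_appLE _ hs]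

end universe_monomorphic

end Groth.Agent.H80.ProjD
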