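import Groth.Agent.H80.ProjDMap2
import Mathlib.AlgebraicGeometry.Morphisms.IsIso

/-!
# Degree-scaling homomorphisms of graded rings: the Veronese isomorphism
-/

set_option autoImplicit false

universe u

open HomogeneousIdeal HomogeneousLocalization TopologicalSpace CategoryTheory CategoryTheory.Limits
open AlgebraicGeometry

namespace Groth.Agent.H80.ProjD

section

variable {A B σ τ : Type u} [CommRing A] [SetLike σ A] [AddSubgroupClass σ A]
  [CommRing B] [SetLike τ B] [AddSubgroupClass τ B]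
  {𝒜 : ℕ → σ} {ℬ : ℕ → τ} [GradedRing 𝒜] [GradedRing ℬ] {d : ℕ}
  (f : DHom 𝒜 ℬ d)

/-- The chart square of `dmap` is cartesian. -/
theorem isPullback_awayι_dmap {i : ℕ} (hi : 0 < i) {s : A} (hs : s ∈ 𝒜 i) :
    IsPullback (Spec.map (CommRingCat.ofHom (f.awayMap s)))
      (Proj.awayι ℬ (f.hom s) (f.map_mem hs) (Nat.mul_pos hi f.pos))
      (Proj.awayι 𝒜 s hs hi) (dmap f) :=
  IsOpenImmersion.isPullback _ _ _ _ (awayι_comp_dmap f hi s hs)
    (by rw [Proj.opensRange_awayι, Proj.opensRange_awayι, dmap_preimage_basicOpen])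

/-- `dmap f` is an isomorphism as soon as all the maps of degree-zero localizations are
bijective. -/
theorem isIso_dmap
    (hbij : ∀ {i : ℕ} (_ : 0 < i) {s : A} (_ : s ∈ 𝒜 i), Function.Bijective (f.awayMap s)) :
    IsIso (dmap f) := by
  change MorphismProperty.isomorphisms Scheme (dmap f)
  rw [IsZariskiLocalAtTarget.iff_of_openCover (P := .isomorphisms Scheme)
    (Proj.affineOpenCover 𝒜).openCover]
  intro i
  have hpb := (isPullback_awayι_dmap f i.1.2 i.2.2).flip
  change MorphismProperty.isomorphisms Scheme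
    (pullback.snd (dmap f) ((Proj.affineOpenCover 𝒜).openCover.f i))
  have e : hpb.isoPullback.hom ≫ pullback.snd (dmap f) (Proj.awayι 𝒜 (i.2 : A) i.2.2 i.1.2) =
      Spec.map (CommRingCat.ofHom (f.awayMap (i.2 : A))) := hpb.isoPullback_hom_snd
  have h : MorphismProperty.isomorphisms Scheme
      (Spec.map (CommRingCat.ofHom (f.awayMap (i.2 : A)))) := by
    rw [MorphismProperty.isomorphisms.iff, isIso_SpecMap_iff]
    exact hbij i.1.2 i.2.2
  rw [← e] at h
  exact ((MorphismProperty.isomorphisms Scheme).cancel_left_of_respectsIso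
    hpb.isoPullback.hom _).mp h

end

section Veronese

variable {R A : Type u} [CommRing R] [CommRing A] [Algebra R A] (𝒜 : ℕ → Submodule R A)
  [GradedAlgebra 𝒜] {B : Type u} [CommRing B] [Algebra R B] (ℬ : ℕ → Submodule R B) [GradedAlgebra ℬ]
  (d : ℕ) (hd : 0 < d) (φ : B →ₐ[R] A)
  (hdeg : ∀ n : ℕ, Submodule.map φ.toLinearMap (ℬ n) = 𝒜 (n * d))

/-- The degree-scaling homomorphism attached to a Veronese-type inclusion. -/
def verDHom : DHom ℬ 𝒜 d where
  hom := φ.toRingHom
  pos := hd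
  map_mem {n a} ha := (hdeg n).le (Submodule.mem_map_of_mem ha)
  rel p hle := by
    refine p.not_irrelevant_le ((toIdeal_irrelevant_le 𝒜).mpr fun i hi a ha => ?_)
    have ha' : a ∈ 𝒜 i := ha
    have h1 : a ^ d ∈ 𝒜 (i * d) := by
      have := SetLike.pow_mem_graded d ha'
      rwa [smul_eq_mul, mul_comm] at this
    rw [← hdeg i] at h1
    obtain ⟨b, hb, hba⟩ := h1
    have h2 : b ∈ (HomogeneousIdeal.irrelevant ℬ).toIdeal :=
      HomogeneousIdeal.mem_irrelevant_of_mem ℬ hi hb
    have h3 : φ b ∈ p.asHomogeneousIdeal.toIdeal := hle h2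
    have h4 : a ^ d ∈ p.asHomogeneousIdeal.toIdeal := by rw [← hba]; exact h3
    exact p.isPrime.mem_of_pow_mem d h4

@[simp] lemma verDHom_hom : (verDHom 𝒜 ℬ d hd φ hdeg).hom = φ.toRingHom := rfl

theorem isIso_dmap_verDHom (hφ : Function.Injective φ) :
    IsIso (dmap (verDHom 𝒜 ℬ d hd φ hdeg)) := by
  refine isIso_dmap _ fun {i} _ {s} hs => ?_
  refine DHom.awayMap_bijective _ hφ (fun n b hb => ?_) hs
  rw [← hdeg n] at hb
  obtain ⟨a, ha, hab⟩ := hb
  exact ⟨a, ha, hab⟩

end Veronese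

end Groth.Agent.H80.ProjD
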