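import Mathlib

/-!
# Finiteness of the integral closure in a radicial extension of degree `p`

`R` a normal Noetherian domain with fraction field `K` of characteristic `p`, `D` a derivation of
`K` preserving `R`, `a ∈ K` with `D a ≠ 0`, `L = K(x)` with `x ^ p = a`.  Then the integral closure
of `R` in `L` is a finite `R`-module (Stacks 0AE0-style argument).
-/

set_option autoImplicit false
universe u

namespace Groth.Agent.H80.PthRootFinite

open Polynomial

theorem D_pow_p {K : Type*} [Field K] (p : ℕ) [CharP K p] (D : Derivation ℤ K K) (c : K) :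
    D (c ^ p) = 0 := by
  rw [Derivation.leibniz_pow]
  have : (p : K) = 0 := CharP.cast_eq_zero K p
  rw [← Nat.cast_smul_eq_nsmul K, this, zero_smul]

/-- `(q(x))^p = q^{(p)}(a)` where `x^p = a`. -/
theorem aeval_pow_p {K L : Type*} [Field K] [Field L] [Algebra K L] (p : ℕ) [Fact p.Prime]
    [CharP K p] (a : K) (x : L) (hx : x ^ p = algebraMap K L a) (q : K[X]) :
    (aeval x q) ^ p = algebraMap K L (eval a (q.map (frobenius K p))) := by
  haveI : CharP L p := charP_of_injective_algebraMap (algebraMap K L).injective p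
  induction q using Polynomial.induction_on' with
  | add u v hu hv =>
    rw [map_add, add_pow_char, hu, hv, Polynomial.map_add, eval_add, map_add]
  | monomial n c =>
    rw [aeval_monomial, mul_pow, ← pow_mul, mul_comm n p, pow_mul, hx, map_monomial,
      eval_monomial, frobenius_def, map_mul, map_pow, map_pow]

theorem D_eval_frob {K : Type*} [Field K] (p : ℕ) [Fact p.Prime] [CharP K p]
    (D : Derivation ℤ K K) (a : K) (q : K[X]) :
    D (eval a (q.map (frobenius K p))) = eval a (derivative (q.map (frobenius K p))) * D a := by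
  induction q using Polynomial.induction_on' with
  | add u v hu hv =>
    rw [Polynomial.map_add, eval_add, map_add, hu, hv, derivative_add, eval_add, add_mul]
  | monomial n c =>
    rw [map_monomial, eval_monomial, derivative_monomial, eval_monomial, frobenius_def,
      Derivation.leibniz, D_pow_p p D c, smul_zero, add_zero, Derivation.leibniz_pow,
      smul_eq_mul, ← Nat.cast_smul_eq_nsmul K, smul_eq_mul, smul_eq_mul]
    ring

theorem exists_intCast_inv {K : Type*} [Field K] (p : ℕ) [hp : Fact p.Prime] [CharP K p] (j : ℕ)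
    (hj0 : 0 < j) (hjp : j < p) : ∃ m : ℤ, (m : K) * (j : K) = 1 := by
  have hcop : Nat.Coprime j p :=
    (Nat.Coprime.symm ((Nat.Prime.coprime_iff_not_dvd hp.out).mpr
      (Nat.not_dvd_of_pos_of_lt hj0 hjp)))
  have h := Nat.gcd_eq_gcd_ab j p
  rw [hcop.gcd_eq_one] at h
  refine ⟨Nat.gcdA j p, ?_⟩
  have h2 := congrArg (Int.cast : ℤ → K) h
  push_cast at h2
  rw [CharP.cast_eq_zero K p, zero_mul, add_zero] at h2
  rw [mul_comm]
  exact h2.symm

theorem key {R K L : Type*} [CommRing R] [IsDomain R] [IsIntegrallyClosed R] [Field K] [Algebra R K]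
    [IsFractionRing R K] (p : ℕ) [hp : Fact p.Prime] [CharP K p] (D : Derivation ℤ K K)
    (hD : ∀ r : R, ∃ s : R, D (algebraMap R K r) = algebraMap R K s)
    [Field L] [Algebra K L] [Algebra R L] [IsScalarTower R K L]
    (a₀ : R) (x : L) (hx : x ^ p = algebraMap K L (algebraMap R K a₀)) :
    ∀ i, i < p → ∀ q : K[X], q.natDegree ≤ i → IsIntegral R (aeval x q) →
      ∀ j, (D (algebraMap R K a₀)) ^ i * q.coeff j ∈ (algebraMap R K).range := by
  set a := algebraMap R K a₀ with ha
  obtain ⟨d₀, hd₀⟩ := hD a₀
  have hppos : 0 < p := hp.out.pos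
  have hxint : IsIntegral R x := by
    apply IsIntegral.of_pow hppos
    rw [hx, ← IsScalarTower.algebraMap_apply]
    exact isIntegral_algebraMap
  have hinj : Function.Injective (algebraMap K L) := (algebraMap K L).injective
  have hmemR : ∀ c : K, IsIntegral R (algebraMap K L c) → c ∈ (algebraMap R K).range := by
    intro c hc
    have := (isIntegral_algebraMap_iff hinj).mp hc
    obtain ⟨r, hr⟩ := IsIntegrallyClosed.isIntegral_iff.mp this
    exact ⟨r, hr⟩
  intro i
  induction i with
  | zero =>
    intro _ q hq hint j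
    rw [pow_zero, one_mul]
    have hqC := eq_C_of_natDegree_le_zero hq
    rw [hqC, aeval_C] at hint
    have h0 := hmemR _ hint
    rcases Nat.eq_zero_or_pos j with rfl | hj
    · exact h0
    · rw [hqC, coeff_C, if_neg hj.ne']
      exact zero_mem _
  | succ i ih =>
    intro hip q hq hint j
    have hi' : i < p := by omega
    set w := eval a (q.map (frobenius K p)) with hw
    have hyp : (aeval x q) ^ p = algebraMap K L w := aeval_pow_p p a x hx q
    obtain ⟨rw_, hrw⟩ := hmemR w (hyp ▸ hint.pow p)
    obtain ⟨s, hs⟩ := hD rw_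
    rw [hrw, hw, D_eval_frob] at hs
    set q₁ : K[X] := C (D a) * derivative q with hq₁
    have hq₁deg : q₁.natDegree ≤ i := by
      calc q₁.natDegree ≤ (derivative q).natDegree := natDegree_C_mul_le _ _
        _ ≤ q.natDegree - 1 := natDegree_derivative_le q
        _ ≤ i := by omega
    have hzp : (aeval x q₁) ^ p = algebraMap K L (algebraMap R K (d₀ ^ (p - 1) * s)) := by
      rw [aeval_pow_p p a x hx q₁, hq₁, Polynomial.map_mul, map_C, ← derivative_map, eval_mul,
        eval_C, frobenius_def, map_mul (algebraMap R K), map_pow (algebraMap R K), ← hd₀, ← hs]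
      congr 1
      have hpow : D a ^ p = D a ^ (p - 1) * D a := by
        rw [← pow_succ, Nat.sub_add_cancel hppos]
      rw [hpow]
      ring
    have hzint : IsIntegral R (aeval x q₁) := by
      apply IsIntegral.of_pow hppos
      rw [hzp, ← IsScalarTower.algebraMap_apply]
      exact isIntegral_algebraMap
    have ih1 := ih hi' q₁ hq₁deg hzint
    have hpos : ∀ j, (D a) ^ (i + 1) * q.coeff (j + 1) ∈ (algebraMap R K).range := by
      intro j
      by_cases hj : j + 1 ≤ i + 1
      · obtain ⟨m, hm⟩ := exists_intCast_inv (K := K) p (j + 1) (Nat.succ_pos j) (by omega)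
        obtain ⟨r, hr⟩ := ih1 j
        rw [hq₁, coeff_C_mul, coeff_derivative] at hr
        refine ⟨(m : R) * r, ?_⟩
        rw [map_mul, map_intCast, hr, pow_succ]
        push_cast at hm ⊢
        linear_combination ((D a) ^ i * D a * q.coeff (j + 1)) * hm
      · rw [coeff_eq_zero_of_natDegree_lt (by omega), mul_zero]
        exact zero_mem _
    rcases Nat.eq_zero_or_pos j with rfl | hj
    · apply hmemR
      have hP : (C ((D a) ^ (i + 1)) * divX q) ∈ lifts (algebraMap R K) := by
        rw [lifts_iff_coeff_lifts]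
        intro n
        rw [coeff_C_mul, coeff_divX]
        exact hpos n
      obtain ⟨P₀, hP₀⟩ := hP
      have hPint : IsIntegral R (aeval x (C ((D a) ^ (i + 1)) * divX q)) := by
        rw [← hP₀]
        have hle : Algebra.adjoin R {x} ≤ integralClosure R L :=
          Algebra.adjoin_le (Set.singleton_subset_iff.mpr hxint)
        have : aeval x (mapRingHom (algebraMap R K) P₀) = aeval x P₀ := by
          rw [coe_mapRingHom, aeval_map_algebraMap]
        rw [this]
        exact hle (aeval_mem_adjoin_singleton R x)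
      have hq_eq : aeval x q = aeval x (divX q) * x + algebraMap K L (q.coeff 0) := by
        conv_lhs => rw [← divX_mul_X_add q]
        simp
      have hsplit : algebraMap K L ((D a) ^ (i + 1) * q.coeff 0) =
          algebraMap K L (algebraMap R K (d₀ ^ (i + 1))) * aeval x q -
            aeval x (C ((D a) ^ (i + 1)) * divX q) * x := by
        rw [hq_eq]
        have e1 : aeval x (C ((D a) ^ (i + 1)) * divX q) =
            algebraMap K L ((D a) ^ (i + 1)) * aeval x (divX q) := by rw [map_mul, aeval_C]
        have e2 : algebraMap R K (d₀ ^ (i + 1)) = (D a) ^ (i + 1) := by rw [map_pow, ← hd₀]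
        rw [e1, e2, map_mul]
        ring
      rw [hsplit]
      refine (IsIntegral.mul ?_ hint).sub (hPint.mul hxint)
      rw [← IsScalarTower.algebraMap_apply]
      exact isIntegral_algebraMap
    · obtain ⟨j', rfl⟩ := Nat.exists_eq_succ_of_ne_zero hj.ne'
      exact hpos j'

theorem finite_of_mem {R K L : Type*} [CommRing R] [IsDomain R] [IsIntegrallyClosed R]
    [IsNoetherianRing R] [Field K] [Algebra R K]
    [IsFractionRing R K] (p : ℕ) [hp : Fact p.Prime] [CharP K p] (D : Derivation ℤ K K)
    (hD : ∀ r : R, ∃ s : R, D (algebraMap R K r) = algebraMap R K s)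
    [Field L] [Algebra K L] [Algebra R L] [IsScalarTower R K L]
    (a₀ : R) (ha : D (algebraMap R K a₀) ≠ 0) (x : L)
    (hx : x ^ p = algebraMap K L (algebraMap R K a₀))
    (hspan : ∀ y : L, ∃ q : K[X], q.natDegree < p ∧ aeval x q = y) :
    Module.Finite R (integralClosure R L) := by
  have hppos : 0 < p := hp.out.pos
  set δ := D (algebraMap R K a₀) with hδ
  set e : L := algebraMap K L (δ ^ (p - 1))⁻¹ with he
  set M : Submodule R L := Submodule.span R (Set.range (fun j : Fin p => e * x ^ (j : ℕ))) with hM
  have hMfg : M.FG := Submodule.fg_span (Set.finite_range _)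
  have hle : Subalgebra.toSubmodule (integralClosure R L) ≤ M := by
    intro y hy
    have hint : IsIntegral R y := hy
    obtain ⟨q, hqdeg, rfl⟩ := hspan y
    have hk := key p D hD a₀ x hx (p - 1) (by omega) q (by omega) hint
    choose r hr using hk
    rw [aeval_eq_sum_range' hqdeg]
    refine Submodule.sum_mem _ fun j hj => ?_
    have hjp : j < p := Finset.mem_range.mp hj
    have : q.coeff j • x ^ j = r j • (e * x ^ j) := by
      rw [Algebra.smul_def, Algebra.smul_def, IsScalarTower.algebraMap_apply R K L, hr j, he,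
        ← mul_assoc, ← map_mul]
      congr 2
      have hne : δ ^ (p - 1) ≠ 0 := pow_ne_zero _ ha
      field_simp
      rfl
    rw [this]
    exact Submodule.smul_mem _ _ (Submodule.subset_span ⟨⟨j, hjp⟩, rfl⟩)
  haveI : IsNoetherian R M := isNoetherian_of_fg_of_noetherian M hMfg
  haveI : IsNoetherian R (Subalgebra.toSubmodule (integralClosure R L)) := isNoetherian_of_le hle
  exact Module.Finite.equiv (Subalgebra.toSubmoduleEquiv (integralClosure R L))

open IntermediateField in
theorem main {R K L : Type*} [CommRing R] [IsDomain R] [IsIntegrallyClosed R]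
    [IsNoetherianRing R] [Field K] [Algebra R K]
    [IsFractionRing R K] (p : ℕ) [hp : Fact p.Prime] [CharP K p] (D : Derivation ℤ K K)
    (hD : ∀ r : R, ∃ s : R, D (algebraMap R K r) = algebraMap R K s)
    [Field L] [Algebra K L] [Algebra R L] [IsScalarTower R K L]
    (a : K) (ha : D a ≠ 0) (x : L) (hx : x ^ p = algebraMap K L a)
    (hgen : IntermediateField.adjoin K {x} = ⊤) :
    Module.Finite R (integralClosure R L) := by
  have hppos : 0 < p := hp.out.pos
  obtain ⟨b, c, hc, rfl⟩ := IsFractionRing.div_surjective (A := R) a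
  have hcK : algebraMap R K c ≠ 0 := by
    intro h
    exact nonZeroDivisors.ne_zero hc ((map_eq_zero_iff _ (IsFractionRing.injective R K)).mp h)
  set cK := algebraMap R K c with hcK_def
  set bK := algebraMap R K b with hbK_def
  have hcpow : cK ^ p = cK ^ (p - 1) * cK := by rw [← pow_succ, Nat.sub_add_cancel hppos]
  have ha₀ : algebraMap R K (c ^ (p - 1) * b) = cK ^ p * (bK / cK) := by
    rw [map_mul, map_pow, hcpow]
    field_simp
    rfl
  refine finite_of_mem p D hD (c ^ (p - 1) * b) ?_ (algebraMap K L cK * x) ?_ ?_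
  · rw [ha₀, Derivation.leibniz, D_pow_p p D cK, smul_zero, add_zero, smul_eq_mul]
    exact mul_ne_zero (pow_ne_zero _ hcK) ha
  · rw [ha₀, mul_pow, hx, ← map_pow, ← map_mul]
  · intro y
    have hxalg : IsAlgebraic K x := by
      refine ⟨X ^ p - C (bK / cK), ?_, ?_⟩
      · exact (monic_X_pow_sub_C _ hppos.ne').ne_zero
      · rw [map_sub, map_pow, aeval_X, aeval_C, hx, sub_self]
    have hy : y ∈ (K⟮x⟯).toSubalgebra := by
      rw [hgen]
      trivial
    rw [adjoin_simple_toSubalgebra_of_isAlgebraic hxalg,
      Algebra.adjoin_singleton_eq_range_aeval] at hy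
    obtain ⟨q₀, rfl⟩ := hy
    have hmonic : (X ^ p - C (bK / cK) : K[X]).Monic := monic_X_pow_sub_C _ hppos.ne'
    have hroot : aeval x (X ^ p - C (bK / cK) : K[X]) = 0 := by
      rw [map_sub, map_pow, aeval_X, aeval_C, hx, sub_self]
    have hne1 : (X ^ p - C (bK / cK) : K[X]) ≠ 1 := by
      intro h
      have := congrArg natDegree h
      rw [natDegree_X_pow_sub_C, natDegree_one] at this
      omega
    refine ⟨(q₀ %ₘ (X ^ p - C (bK / cK))).comp (C cK⁻¹ * X), ?_, ?_⟩
    · have h1 := natDegree_modByMonic_lt q₀ hmonic hne1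
      rw [natDegree_X_pow_sub_C] at h1
      calc ((q₀ %ₘ (X ^ p - C (bK / cK))).comp (C cK⁻¹ * X)).natDegree
          ≤ (q₀ %ₘ (X ^ p - C (bK / cK))).natDegree * (C cK⁻¹ * X).natDegree := natDegree_comp_le
        _ ≤ (q₀ %ₘ (X ^ p - C (bK / cK))).natDegree * 1 :=
            Nat.mul_le_mul_left _ (natDegree_C_mul_X _ (inv_ne_zero hcK)).le
        _ < p := by rw [mul_one]; exact h1
    · rw [aeval_comp, map_mul, aeval_C, aeval_X, ← mul_assoc, ← map_mul,
        inv_mul_cancel₀ hcK, map_one, one_mul]
      exact aeval_modByMonic_eq_self_of_root hroot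

end Groth.Agent.H80.PthRootFinite
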