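import Mathlib

/-!
# Purity, reduction to the Galois case (helper80), part 1: descent of projectivity

`G` a finite group acting on an `A`-algebra `S` by `A`-algebra automorphisms.  If some element of
`S` has trace one, then for every subgroup `H` the ring of `H`-invariants is an `A`-linear retract
of `S`; hence an `A`-algebra `B` identified with the `H`-invariants of a projective `S` is
projective.
-/

set_option autoImplicit false
set_option linter.unusedSectionVars false
set_option linter.style.haveILetI false

open Module

namespace Groth.Agent.H80.PurRed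

variable (A : Type*) [CommRing A] {S : Type*} [CommRing S] [Algebra A S]
  {G : Type*} [Group G] [Fintype G] [MulSemiringAction G S] [SMulCommClass G A S]

/-- If every functional is a trace functional and `S` is free and nontrivial, some element has
trace one. -/
theorem exists_trace_eq_one [Module.Free A S] [Nontrivial S]
    (hsurj : ∀ l : S →ₗ[A] A, ∃ y : S, ∀ t : S, algebraMap A S (l t) = ∑ g : G, g • (y * t)) :
    ∃ c : S, ∑ g : G, g • c = 1 := by
  let b := Module.Free.chooseBasis A S
  have hne : Nonempty (Module.Free.ChooseBasisIndex A S) := by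
    by_contra hemp
    rw [not_nonempty_iff] at hemp
    have : Subsingleton S := b.repr.toEquiv.subsingleton
    exact not_subsingleton S this
  obtain ⟨i⟩ := hne
  obtain ⟨y, hy⟩ := hsurj (b.coord i)
  refine ⟨y * b i, ?_⟩
  rw [← hy (b i)]
  simp

/-- From trace one for `G` to trace one for a subgroup. -/
theorem exists_subgroup_trace_eq_one (H : Subgroup G) [Fintype H] (c : S)
    (hc : ∑ g : G, g • c = 1) : ∃ c' : S, ∑ h : H, (h : G) • c' = 1 := by
  classical
  obtain ⟨T, hT, -⟩ := Subgroup.exists_isComplement_right H 1
  haveI : Fintype T := Fintype.ofFinite T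
  let e : (H × T) ≃ G := hT.equiv.symm
  have he : ∀ x : H × T, e x = (x.1 : G) * (x.2 : G) := fun x => rfl
  refine ⟨∑ t : T, (t : G) • c, ?_⟩
  rw [← hc, ← Equiv.sum_comp e, Fintype.sum_prod_type]
  refine Finset.sum_congr rfl fun h _ => ?_
  rw [Finset.smul_sum]
  refine Finset.sum_congr rfl fun t _ => ?_
  rw [← mul_smul, he]

variable {A}

/-- The retraction onto the `H`-invariants defined by an element of `H`-trace one. -/
noncomputable def retr (H : Subgroup G) [Fintype H] (c' : S) : S →ₗ[A] S where
  toFun s := ∑ h : H, (h : G) • (c' * s)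
  map_add' s t := by
    rw [← Finset.sum_add_distrib]
    refine Finset.sum_congr rfl fun h _ => ?_
    rw [mul_add, smul_add]
  map_smul' a s := by
    rw [Finset.smul_sum]
    refine Finset.sum_congr rfl fun h _ => ?_
    rw [RingHom.id_apply, mul_smul_comm, smul_comm]

theorem retr_apply (H : Subgroup G) [Fintype H] (c' s : S) :
    retr (A := A) H c' s = ∑ h : H, (h : G) • (c' * s) := rfl

theorem smul_retr (H : Subgroup G) [Fintype H] (c' s : S) (h₀ : H) :
    (h₀ : G) • retr (A := A) H c' s = retr (A := A) H c' s := by
  rw [retr_apply, Finset.smul_sum]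
  simp only [← mul_smul]
  exact Fintype.sum_equiv (Equiv.mulLeft h₀) _ _ fun h => rfl

theorem retr_of_fixed (H : Subgroup G) [Fintype H] (c' : S) (hc' : ∑ h : H, (h : G) • c' = 1)
    (s : S) (hs : ∀ h : H, (h : G) • s = s) : retr (A := A) H c' s = s := by
  rw [retr_apply]
  simp only [smul_mul', hs]
  rw [← Finset.sum_mul, hc', one_mul]

/-- **Descent**: an `A`-algebra `B` embedded in `S` as the ring of invariants of a subgroup is an
`A`-linear retract of `S`; so it is projective if `S` is. -/
theorem projective_of_fixed [Module.Projective A S] (c : S) (hc : ∑ g : G, g • c = 1)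
    {B : Type*} [CommRing B] [Algebra A B] (j : B →ₐ[A] S) (hj : Function.Injective j)
    (H : Subgroup G) (hfix : ∀ (h : H) (b : B), (h : G) • j b = j b)
    (hH : ∀ s : S, (∀ h : H, (h : G) • s = s) → s ∈ j.range) :
    Module.Projective A B := by
  classical
  haveI : Fintype H := Fintype.ofFinite H
  obtain ⟨c', hc'⟩ := exists_subgroup_trace_eq_one H c hc
  -- `B ≃ range j`
  let e : B ≃ₗ[A] LinearMap.range j.toLinearMap := LinearEquiv.ofInjective j.toLinearMap hj
  have hmem : ∀ s : S, retr (A := A) H c' s ∈ LinearMap.range j.toLinearMap := by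
    intro s
    obtain ⟨b, hb⟩ := hH _ (fun h => smul_retr (A := A) H c' s h)
    exact ⟨b, hb⟩
  let r : S →ₗ[A] B := e.symm.toLinearMap.comp ((retr (A := A) H c').codRestrict _ hmem)
  refine Module.Projective.of_split j.toLinearMap r ?_
  ext b
  simp only [LinearMap.comp_apply, LinearMap.id_apply, r, LinearEquiv.coe_coe]
  rw [LinearEquiv.symm_apply_eq]
  apply Subtype.ext
  simp only [LinearMap.codRestrict_apply, e, LinearEquiv.ofInjective_apply]
  exact retr_of_fixed H c' hc' _ fun h => hfix h b

end Groth.Agent.H80.PurRed
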