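import Mathlib

/-!
# Purity, reduction to the Galois case (helper80), part 2: rigidity at unramified primes

Two `A`-algebra maps `α β : B → S` into a Noetherian domain which agree modulo a prime `Q` of `S`
are equal as soon as `B` is unramified over `A` at the prime `α⁻¹ Q`.
-/

set_option autoImplicit false
set_option linter.unusedSectionVars false
set_option linter.style.haveILetI false

open IsLocalRing

namespace Groth.Agent.H80.PurRed

theorem algHom_eq_of_isUnramifiedAt {A B S : Type*} [CommRing A] [CommRing B] [CommRing S]
    [Algebra A B] [Algebra A S] [IsDomain S] [IsNoetherianRing S]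
    (Q : Ideal S) [Q.IsPrime] (α β : B →ₐ[A] S) (hαβ : ∀ b, α b - β b ∈ Q)
    (q : Ideal B) [q.IsPrime] (hq : q = Q.comap (α : B →+* S)) [Algebra.IsUnramifiedAt A q] :
    α = β := by
  let f : B →+* S := α
  let g : B →+* S := β
  have hf : ∀ b, f b = α b := fun b => rfl
  have hg : ∀ b, g b = β b := fun b => rfl
  have hfg : ∀ b, f b - g b ∈ Q := hαβ
  have hqf : q = Q.comap f := hq
  have hqg : q = Q.comap g := by
    rw [hqf]
    ext b
    simp only [Ideal.mem_comap]
    constructor
    · intro hb
      have := Q.sub_mem hb (hfg b)
      simpa using this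
    · intro hb
      have := Q.add_mem (hfg b) hb
      simpa using this
  let Bq := Localization.AtPrime q
  let SQ := Localization.AtPrime Q
  let α0 : Bq →+* SQ := Localization.localRingHom q Q f hqf
  let β0 : Bq →+* SQ := Localization.localRingHom q Q g hqg
  let α' : Bq →ₐ[A] SQ :=
    { α0 with
      commutes' := fun a => by
        change α0 (algebraMap A Bq a) = algebraMap A SQ a
        rw [IsScalarTower.algebraMap_apply A B Bq, Localization.localRingHom_to_map,
          IsScalarTower.algebraMap_apply A S SQ]
        congr 1
        exact α.commutes a }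
  let β' : Bq →ₐ[A] SQ :=
    { β0 with
      commutes' := fun a => by
        change β0 (algebraMap A Bq a) = algebraMap A SQ a
        rw [IsScalarTower.algebraMap_apply A B Bq, Localization.localRingHom_to_map,
          IsScalarTower.algebraMap_apply A S SQ]
        congr 1
        exact β.commutes a }
  have hα' : ∀ x, α' x = α0 x := fun x => rfl
  have hβ' : ∀ x, β' x = β0 x := fun x => rfl
  have key : α' = β' := by
    apply Algebra.FormallyUnramified.ext_of_iInf (I := maximalIdeal SQ)
      (Ideal.iInf_pow_eq_bot_of_isLocalRing _ (Ideal.IsPrime.ne_top inferInstance))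
    intro x
    rw [Ideal.Quotient.eq, hα', hβ']
    obtain ⟨b, s, rfl⟩ := IsLocalization.exists_mk'_eq q.primeCompl x
    have hsα : f s ∈ Q.primeCompl := by
      intro hmem
      apply s.2
      have h2 : (s : B) ∈ Q.comap f := hmem
      rwa [← hqf] at h2
    have hsβ : g s ∈ Q.primeCompl := by
      intro hmem
      apply s.2
      have h2 : (s : B) ∈ Q.comap g := hmem
      rwa [← hqg] at h2
    have hunit : IsUnit (algebraMap S SQ (f s * g s)) :=
      IsLocalization.map_units SQ (⟨f s * g s, mul_mem hsα hsβ⟩ : Q.primeCompl)
    rw [← Ideal.unit_mul_mem_iff_mem _ hunit]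
    have hcalc : algebraMap S SQ (f s * g s) * (α0 (IsLocalization.mk' Bq b s) -
        β0 (IsLocalization.mk' Bq b s)) =
        algebraMap S SQ (g s * (f b - g b) - g b * (f s - g s)) := by
      rw [Localization.localRingHom_mk', Localization.localRingHom_mk', mul_sub, map_mul]
      have e1 : algebraMap S SQ (f s) * algebraMap S SQ (g s) *
          IsLocalization.mk' SQ (f b) (⟨f s, hsα⟩ : Q.primeCompl) =
          algebraMap S SQ (g s) * algebraMap S SQ (f b) := by
        rw [mul_comm (algebraMap S SQ (f s)), mul_assoc, IsLocalization.mk'_spec'_mk]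
      have e2 : algebraMap S SQ (f s) * algebraMap S SQ (g s) *
          IsLocalization.mk' SQ (g b) (⟨g s, hsβ⟩ : Q.primeCompl) =
          algebraMap S SQ (f s) * algebraMap S SQ (g b) := by
        rw [mul_assoc, IsLocalization.mk'_spec'_mk]
      rw [e1, e2]
      simp only [map_sub, map_mul]
      ring
    rw [hcalc, IsLocalization.AtPrime.to_map_mem_maximal_iff SQ Q]
    exact Q.sub_mem (Q.mul_mem_left _ (hfg b)) (Q.mul_mem_left _ (hfg s))
  apply AlgHom.ext
  intro b
  apply IsLocalization.injective SQ Q.primeCompl_le_nonZeroDivisors
  have h1 : α' (algebraMap B Bq b) = β' (algebraMap B Bq b) := by rw [key]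
  rw [hα', hβ', Localization.localRingHom_to_map, Localization.localRingHom_to_map] at h1
  exact h1

end Groth.Agent.H80.PurRed
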