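import Mathlib
import Groth.Agent.H80.PurGal6
import Groth.Agent.H80.PurRed1
import Groth.Agent.H80.PurRed2

/-!
# Purity, reduction to the Galois case (helper80), part 3: the abstract reduction

`A` a Noetherian normal local domain of dimension `≥ 2` with fraction field `K`, `E / K` a finite
Galois extension, `S` the integral closure of `A` in `E`, `B` an `A`-algebra embedded in `E`,
unramified over `A` outside the closed point, such that `E` is generated by the conjugates of `B`
and `B` is the set of integral elements fixed by the stabiliser of `B`.  Assuming Auslander's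
freeness criterion (`thmA`), `B` is a projective `A`-module.
-/

set_option autoImplicit false
set_option linter.unusedSectionVars false
set_option linter.style.haveILetI false

open Module IsLocalRing

universe u

namespace Groth.Agent.H80.PurRed

open Groth.Agent.H80.PurGal

section abstract

variable (A : Type u) [CommRing A] [IsLocalRing A] [IsNoetherianRing A] [IsDomain A]
  [IsIntegrallyClosed A]
  (B : Type u) [CommRing B] [Algebra A B]
  (K E : Type u) [Field K] [Field E] [Algebra A K] [IsFractionRing A K] [Algebra K E]
  [Algebra A E] [IsScalarTower A K E] [FiniteDimensional K E] [IsGalois K E]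

/-- The Galois group commutes with the scalar action of `A`. -/
instance smulCommClass_gal : SMulCommClass Gal(E/K) A E where
  smul_comm σ a x := by
    rw [AlgEquiv.smul_def, AlgEquiv.smul_def, ← IsScalarTower.algebraMap_smul K a x, map_smul,
      IsScalarTower.algebraMap_smul]

theorem projective_of_galois_closure (hA : (2 : WithBot ℕ∞) ≤ ringKrullDim A)
    (hunr : ∀ (q : Ideal B) (_ : q.IsPrime), q.comap (algebraMap A B) ≠ maximalIdeal A →
      Algebra.IsUnramifiedAt A q)
    (ι : B →ₐ[A] E) (hι : Function.Injective ι) (hint : ∀ b, IsIntegral A (ι b))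
    (hgen : ∀ σ : Gal(E/K), (∀ (τ : Gal(E/K)) (b : B), σ (τ (ι b)) = τ (ι b)) → σ = 1)
    (hfix : ∀ x : E, IsIntegral A x → (∀ σ : Gal(E/K), (∀ b, σ (ι b) = ι b) → σ x = x) →
      x ∈ ι.range)
    (thmA : ∀ (M : Type u) [AddCommGroup M] [Module A M] [Module.Finite A M],
      Nonempty (M ≃ₗ[A] (M →ₗ[A] A)) →
      (∃ n : ℕ, Nonempty ((Fin n → M) ≃ₗ[A] Module.End A M)) → Module.Free A M) :
    Module.Projective A B := by
  classical
  let G := Gal(E/K)
  let S := integralClosure A E
  haveI : Fintype G := Fintype.ofFinite G
  haveI : IsIntegrallyClosed S := integralClosure.isIntegrallyClosedOfFiniteExtension K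
  haveI : Module.Finite A S := IsIntegralClosure.finite A K E S
  haveI : IsNoetherianRing S := IsNoetherianRing.of_finite A S
  haveI : IsFractionRing S E := integralClosure.isFractionRing_of_finite_extension K E
  haveI : FaithfulSMul A E := by
    rw [faithfulSMul_iff_algebraMap_injective, IsScalarTower.algebraMap_eq A K E]
    exact (algebraMap K E).injective.comp (IsFractionRing.injective A K)
  haveI : FaithfulSMul A S := by
    rw [faithfulSMul_iff_algebraMap_injective]
    intro a a' haa
    apply FaithfulSMul.algebraMap_injective A E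
    have := congrArg (algebraMap S E) haa
    rwa [← IsScalarTower.algebraMap_apply, ← IsScalarTower.algebraMap_apply] at this
  haveI hGal : IsGaloisGroup G A S := IsGaloisGroup.of_isFractionRing G A S K E
  haveI : FaithfulSMul G S := hGal.faithful
  haveI : Algebra.IsInvariant A S G := hGal.isInvariant
  -- the embedding of `B` in `S`
  let j : B →ₐ[A] S := ι.codRestrict S hint
  have hj : Function.Injective j := fun b b' hbb => hι (congrArg Subtype.val hbb)
  have hjval : ∀ b, ((j b : S) : E) = ι b := fun b => rfl
  have hsmul : ∀ (σ : G) (s : S), ((σ • s : S) : E) = σ (s : E) := fun σ s => rfl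
  -- trivial inertia in codimension one
  have hσ : ∀ Q : Ideal S, Q.IsPrime → Q.height ≤ 1 → ∀ σ : G,
      (∀ u : S, σ • u - u ∈ Q) → σ = 1 := by
    intro Q hQp hQ σ hσ
    haveI := hQp
    have hQm := comap_ne_maximalIdeal_of_height_le_one A hA Q hQ
    apply hgen
    intro τ b
    let α : B →ₐ[A] S := (MulSemiringAction.toAlgHom A S τ).comp j
    let β : B →ₐ[A] S := (MulSemiringAction.toAlgHom A S (σ * τ)).comp j
    have hαβ : ∀ b, α b - β b ∈ Q := by
      intro b
      have h1 := hσ (τ • j b)
      have h2 : α b - β b = -(σ • (τ • j b) - τ • j b) := by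
        simp only [α, β, AlgHom.comp_apply, MulSemiringAction.toAlgHom_apply, mul_smul]
        ring
      rw [h2]
      exact Q.neg_mem h1
    let q : Ideal B := Q.comap (α : B →+* S)
    haveI : q.IsPrime := Ideal.comap_isPrime _ _
    have hqm : q.comap (algebraMap A B) ≠ maximalIdeal A := by
      have : q.comap (algebraMap A B) = Q.comap (algebraMap A S) := by
        rw [Ideal.comap_comap]
        congr 1
        ext a
        simp
      rw [this]
      exact hQm
    haveI : Algebra.IsUnramifiedAt A q := hunr q inferInstance hqm
    have hab := algHom_eq_of_isUnramifiedAt Q α β hαβ q rfl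
    have h3 := congrArg (fun f : B →ₐ[A] S => ((f b : S) : E)) hab
    simp only [α, β, AlgHom.comp_apply, MulSemiringAction.toAlgHom_apply, mul_smul, hsmul,
      hjval] at h3
    exact h3.symm
  have hin : ∀ Q : Ideal S, Q.IsPrime → Q.height ≤ 1 →
      ∀ g h : G, (∀ t : S, g • t - h • t ∈ Q) → g = h := by
    intro Q hQp hQ g h hgh
    have h1 : g * h⁻¹ = 1 := by
      apply hσ Q hQp hQ
      intro u
      have := hgh (h⁻¹ • u)
      rwa [← mul_smul, ← mul_smul, mul_inv_cancel, one_smul] at this
    exact mul_inv_eq_one.mp h1
  -- freeness of `S`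
  haveI : Module.Free A S := by
    refine thmA S (nonempty_linearEquiv_dual A hin) ⟨Fintype.card G, ?_⟩
    obtain ⟨e⟩ := nonempty_linearEquiv_end (A := A) (S := S) (G := G) hin
    exact ⟨(LinearEquiv.funCongrLeft A S (Fintype.equivFin G)).trans e⟩
  -- an element of trace one
  obtain ⟨c, hc⟩ := exists_trace_eq_one (G := G) A (S := S) (fun l => by
    obtain ⟨y, hy⟩ := traceForm_surjective (G := G) A hin l
    exact ⟨y, fun t => by rw [← hy, algebraMap_traceForm]⟩)
  -- descent
  let H : Subgroup G :=
    { carrier := {σ | ∀ b, σ (ι b) = ι b}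
      one_mem' := fun b => rfl
      mul_mem' := fun {σ τ} hσ hτ b => by
        change σ (τ (ι b)) = ι b
        rw [hτ b, hσ b]
      inv_mem' := fun {σ} hσ b => by
        change σ⁻¹ (ι b) = ι b
        conv_lhs => rw [← hσ b]
        exact σ.symm_apply_apply (ι b) }
  refine projective_of_fixed (A := A) (S := S) (G := G) c hc j hj H ?_ ?_
  · intro h b
    apply Subtype.ext
    rw [hsmul, hjval]
    exact h.2 b
  · intro s hs
    obtain ⟨b, hb⟩ := hfix (s : E) s.2 (fun σ hσ' => by
      have := hs ⟨σ, hσ'⟩
      exact congrArg Subtype.val this)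
    exact ⟨b, Subtype.ext hb⟩

end abstract

end Groth.Agent.H80.PurRed
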