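import Mathlib

/-!
# Purity, reduction to the Galois case (helper80), part 4: the Galois closure of a field extension

For a finite separable extension `L / K` we produce a finite Galois extension `E / K` containing
`L`, generated by the conjugates of `L`, together with the two facts of Galois theory used in the
reduction.
-/

set_option autoImplicit false
set_option linter.unusedSectionVars false
set_option linter.style.haveILetI false

open IntermediateField

universe u

namespace Groth.Agent.H80.PurRed

section

variable (K L : Type u) [Field K] [Field L] [Algebra K L] [FiniteDimensional K L]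
  [Algebra.IsSeparable K L]

/-- In a Galois extension, an element fixed by every automorphism fixing `L` lies in `L`. -/
theorem mem_range_of_fixed (E : Type u) [Field E] [Algebra K E] [Algebra L E]
    [IsScalarTower K L E] [FiniteDimensional K E] [IsGalois K E] (x : E)
    (hx : ∀ σ : Gal(E/K), (∀ y : L, σ (algebraMap L E y) = algebraMap L E y) → σ x = x) :
    x ∈ Set.range (algebraMap L E) := by
  let L' : IntermediateField K E := (IsScalarTower.toAlgHom K L E).fieldRange
  have h1 : x ∈ IntermediateField.fixedField (IntermediateField.fixingSubgroup L') := by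
    rw [IntermediateField.mem_fixedField_iff]
    intro σ hσ
    rw [IntermediateField.mem_fixingSubgroup_iff] at hσ
    apply hx
    intro y
    exact hσ _ ⟨y, rfl⟩
  rw [IsGalois.fixedField_fixingSubgroup] at h1
  obtain ⟨y, hy⟩ := h1
  exact ⟨y, hy⟩

/-- The Galois closure. -/
theorem exists_galois_closure :
    ∃ (E : Type u) (_ : Field E) (_ : Algebra K E) (_ : Algebra L E) (_ : IsScalarTower K L E)
      (_ : FiniteDimensional K E) (_ : IsGalois K E),
      ∀ σ : Gal(E/K), (∀ (τ : Gal(E/K)) (y : L),
        σ (τ (algebraMap L E y)) = τ (algebraMap L E y)) → σ = 1 := by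
  let Ω := AlgebraicClosure L
  haveI : IsAlgClosure K Ω := IsAlgClosure.ofAlgebraic K L Ω
  haveI : Normal K Ω := IsAlgClosure.normal K Ω
  let E := normalClosure K L Ω
  haveI : Nonempty (L →ₐ[K] Ω) := ⟨IsScalarTower.toAlgHom K L Ω⟩
  haveI hNC : IsNormalClosure K L E := isNormalClosure_normalClosure K L Ω
  haveI : Normal K E := normalClosure.normal K L Ω
  haveI hsep : Algebra.IsSeparable K E := by
    haveI : ∀ f : L →ₐ[K] Ω, Algebra.IsSeparable K f.fieldRange := fun f =>
      AlgEquiv.Algebra.isSeparable (AlgEquiv.ofInjectiveField f)
    change Algebra.IsSeparable K ↥(⨆ f : L →ₐ[K] Ω, f.fieldRange)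
    infer_instance
  haveI : IsGalois K E := { }
  refine ⟨E, inferInstance, inferInstance, inferInstance, inferInstance, inferInstance,
    inferInstance, ?_⟩
  intro σ hσ
  -- the fixed field of `σ`
  let F : IntermediateField K E :=
    { carrier := {x | σ x = x}
      mul_mem' := fun {a b} ha hb => by
        change σ (a * b) = a * b
        rw [map_mul, ha, hb]
      one_mem' := map_one σ
      add_mem' := fun {a b} ha hb => by
        change σ (a + b) = a + b
        rw [map_add, ha, hb]
      zero_mem' := map_zero σ
      algebraMap_mem' := fun r => σ.commutes r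
      inv_mem' := fun a ha => by
        change σ a⁻¹ = a⁻¹
        rw [map_inv₀, ha] }
  have hF : ∀ x, x ∈ F ↔ σ x = x := fun x => Iff.rfl
  have htop : (⊤ : IntermediateField K E) ≤ F := by
    rw [← hNC.adjoin_rootSet]
    refine iSup_le fun y => ?_
    rw [IntermediateField.adjoin_le_iff]
    intro z hz
    have hy : IsIntegral K y := Algebra.IsIntegral.isIntegral y
    have hz' : Polynomial.aeval z (minpoly K y) = 0 :=
      (Polynomial.mem_rootSet.mp hz).2
    have h1 : minpoly K y = minpoly K z :=
      (minpoly.eq_iff_aeval_minpoly_eq_zero hy).mpr hz'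
    have h2 : minpoly K (algebraMap L E y) = minpoly K y :=
      minpoly.algebraMap_eq (algebraMap L E).injective y
    have h3 : minpoly K z = minpoly K (algebraMap L E y) := by rw [h2, h1]
    obtain ⟨τ, hτ⟩ := (_root_.Normal.minpoly_eq_iff_mem_orbit (F := K) (E := E)).mp h3
    change σ z = z
    rw [← hτ]
    exact hσ τ y
  apply AlgEquiv.ext
  intro x
  exact (hF x).mp (htop (IntermediateField.mem_top))

end

end Groth.Agent.H80.PurRed
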