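import Mathlib
import Groth.Agent.H80.PurRed3
import Groth.Agent.H80.PurRed4
import Groth.Agent.H97.PurityFlat

/-!
# Purity, reduction to the Galois case (helper80), part 5: the reduction

Zariski–Nagata purity for a finite normal domain `B` over a Noetherian normal local domain `A` of
dimension `≥ 2`, assuming Auslander's freeness criterion `thmA` for `A`.
-/

set_option autoImplicit false
set_option linter.unusedSectionVars false
set_option linter.style.haveILetI false

open Module IsLocalRing

universe u

namespace Groth.Agent.H80.PurRed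

variable (A : Type u) [CommRing A] [IsLocalRing A] [IsNoetherianRing A] [IsDomain A]
  [IsIntegrallyClosed A]
  (B : Type u) [CommRing B] [IsDomain B] [IsIntegrallyClosed B] [Algebra A B] [Module.Finite A B]
  [FaithfulSMul A B]

theorem maximalIdeal_ne_bot (hA : (2 : WithBot ℕ∞) ≤ ringKrullDim A) : maximalIdeal A ≠ ⊥ := by
  intro h
  have hf : IsField A := IsLocalRing.isField_iff_maximalIdeal_eq.mpr h
  have h0 : ringKrullDim A = 0 := ringKrullDim_eq_zero_of_isField hf
  rw [h0] at hA
  exact absurd hA (by decide)

/-- Generic separability from unramifiedness at the generic point. -/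
theorem isSeparable_fractionRing (hA : (2 : WithBot ℕ∞) ≤ ringKrullDim A)
    (hunr : ∀ (q : Ideal B) (_ : q.IsPrime), q.comap (algebraMap A B) ≠ maximalIdeal A →
      Algebra.IsUnramifiedAt A q) :
    letI : Algebra (FractionRing A) (FractionRing B) := FractionRing.liftAlgebra A (FractionRing B)
    Algebra.IsSeparable (FractionRing A) (FractionRing B) := by
  letI : Algebra (FractionRing A) (FractionRing B) := FractionRing.liftAlgebra A (FractionRing B)
  haveI : (⊥ : Ideal B).IsPrime := Ideal.isPrime_bot
  have hbot : (⊥ : Ideal B).comap (algebraMap A B) ≠ maximalIdeal A := by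
    rw [Ideal.comap_bot_of_injective _ (FaithfulSMul.algebraMap_injective A B)]
    exact (maximalIdeal_ne_bot A hA).symm
  haveI h0 : Algebra.IsUnramifiedAt A (⊥ : Ideal B) := hunr ⊥ inferInstance hbot
  let L' := Localization.AtPrime (⊥ : Ideal B)
  haveI : IsFractionRing B L' := by
    simpa [Ideal.primeCompl_bot] using Localization.isLocalization (M := (⊥ : Ideal B).primeCompl)
  let e : L' ≃ₐ[A] FractionRing B := ((FractionRing.algEquiv B L').symm).restrictScalars A
  haveI : Algebra.FormallyUnramified A (FractionRing B) := Algebra.FormallyUnramified.of_equiv e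
  haveI : Algebra.FormallyUnramified (FractionRing A) (FractionRing B) :=
    Algebra.FormallyUnramified.of_restrictScalars A (FractionRing A) (FractionRing B)
  exact Algebra.FormallyUnramified.isSeparable (FractionRing A) (FractionRing B)

theorem projective_of_thmA (hA : (2 : WithBot ℕ∞) ≤ ringKrullDim A)
    (hunr : ∀ (q : Ideal B) (_ : q.IsPrime), q.comap (algebraMap A B) ≠ maximalIdeal A →
      Algebra.IsUnramifiedAt A q)
    (thmA : ∀ (M : Type u) [AddCommGroup M] [Module A M] [Module.Finite A M],
      Nonempty (M ≃ₗ[A] (M →ₗ[A] A)) →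
      (∃ n : ℕ, Nonempty ((Fin n → M) ≃ₗ[A] Module.End A M)) → Module.Free A M) :
    Module.Projective A B := by
  let K := FractionRing A
  let L := FractionRing B
  letI : Algebra K L := FractionRing.liftAlgebra A L
  haveI : IsScalarTower A K L := FractionRing.isScalarTower_liftAlgebra A L
  haveI : FiniteDimensional K L := inferInstance
  haveI : Algebra.IsSeparable K L := isSeparable_fractionRing A B hA hunr
  obtain ⟨E, _, _, _, _, _, _, hgenF⟩ := exists_galois_closure K L
  letI : Algebra A E := ((algebraMap K E).comp (algebraMap A K)).toAlgebra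
  haveI : IsScalarTower A K E := IsScalarTower.of_algebraMap_eq' rfl
  haveI : IsScalarTower A L E := by
    refine IsScalarTower.of_algebraMap_eq fun a => ?_
    change algebraMap K E (algebraMap A K a) = algebraMap L E (algebraMap A L a)
    rw [IsScalarTower.algebraMap_apply A K L, ← IsScalarTower.algebraMap_apply K L E]
  let ι : B →ₐ[A] E := (IsScalarTower.toAlgHom A L E).comp (IsScalarTower.toAlgHom A B L)
  have hιv : ∀ b, ι b = algebraMap L E (algebraMap B L b) := fun b => rfl
  have hι : Function.Injective ι := by
    intro b b' hbb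
    rw [hιv, hιv] at hbb
    exact IsFractionRing.injective B L ((algebraMap L E).injective hbb)
  have hint : ∀ b, IsIntegral A (ι b) := fun b =>
    (Algebra.IsIntegral.isIntegral (R := A) b).map ι
  have hgen : ∀ σ : Gal(E/K), (∀ (τ : Gal(E/K)) (b : B), σ (τ (ι b)) = τ (ι b)) → σ = 1 := by
    intro σ hσ
    apply hgenF
    intro τ y
    obtain ⟨b, b', -, rfl⟩ := IsFractionRing.div_surjective (A := B) y
    rw [map_div₀, map_div₀, map_div₀, ← hιv, ← hιv, hσ τ b, hσ τ b']
  have hfix : ∀ x : E, IsIntegral A x → (∀ σ : Gal(E/K), (∀ b, σ (ι b) = ι b) → σ x = x) →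
      x ∈ ι.range := by
    intro x hxint hx
    obtain ⟨y, rfl⟩ := mem_range_of_fixed K L E x (fun σ hσ => hx σ fun b => hσ _)
    have hy : IsIntegral A y := (isIntegral_algebraMap_iff (algebraMap L E).injective).mp hxint
    have hyB : IsIntegral B y := hy.tower_top
    obtain ⟨b, rfl⟩ := IsIntegrallyClosed.isIntegral_iff.mp hyB
    exact ⟨b, rfl⟩
  exact projective_of_galois_closure A B K E hA hunr ι hι hint hgen hfix thmA

/-- **Zariski–Nagata purity, modulo Auslander's freeness criterion.** -/
theorem etale_of_thmA (hA : (2 : WithBot ℕ∞) ≤ ringKrullDim A)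
    (h : ∀ (q : Ideal B) (_ : q.IsPrime), q.comap (algebraMap A B) ≠ maximalIdeal A →
      Algebra.IsEtaleAt A q)
    (thmA : ∀ (M : Type u) [AddCommGroup M] [Module A M] [Module.Finite A M],
      Nonempty (M ≃ₗ[A] (M →ₗ[A] A)) →
      (∃ n : ℕ, Nonempty ((Fin n → M) ≃ₗ[A] Module.End A M)) → Module.Free A M) :
    Algebra.Etale A B := by
  haveI : Module.Projective A B := projective_of_thmA A B hA (fun q hq hqm => by
    haveI := hq
    haveI : Algebra.FormallyEtale A (Localization.AtPrime q) := h q hq hqm
    infer_instance) thmA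
  exact Groth.Agent.H97.PurityFlat.etale_of_punctured A B hA
    (fun q hq => h q.asIdeal q.isPrime hq)

end Groth.Agent.H80.PurRed
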