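import Mathlib
import Groth.Agent.H59.LocFree

/-!
# Local bases of finite projective modules: the maps `a`, `b` with `ab = t^N`, `ba = t^N`
-/

set_option autoImplicit false

namespace Groth.Agent.H80.QReg

open Groth.Agent.H59.LocFree

universe u v

variable {Λ : Type u} [CommRing Λ] {M : Type v} [AddCommGroup M] [Module Λ M]

theorem isLocBasis_mul_right {t : Λ} (u : Λ) {c : ℕ} {m : Fin c → M}
    (h : IsLocBasis (Submonoid.powers t) m) : IsLocBasis (Submonoid.powers (t * u)) m where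
  span x := by
    obtain ⟨_, ⟨e, rfl⟩, hx⟩ := h.span x
    refine ⟨(t * u) ^ e, ⟨e, rfl⟩, ?_⟩
    rw [mul_pow, mul_comm, mul_smul]
    exact Submodule.smul_mem _ _ hx
  indep r hr := by
    obtain ⟨_, ⟨e, rfl⟩, hx⟩ := h.indep r hr
    refine ⟨(t * u) ^ e, ⟨e, rfl⟩, fun i => ?_⟩
    rw [mul_pow, mul_comm (t ^ e), mul_assoc, hx i, mul_zero]

/-- For a finite projective module with a local basis `m` on `D(t)` there is `b : M → Λ^r` with
`a ∘ b = t^N` and `b ∘ a = t^N`, where `a e_i = m_i`. -/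
theorem exists_ab [Module.Finite Λ M] [Module.Projective Λ M] (t : Λ) {r : ℕ} (m : Fin r → M)
    (h : IsLocBasis (Submonoid.powers t) m) :
    ∃ (N : ℕ) (b : M →ₗ[Λ] (Fin r → Λ)), (∀ x, ∑ i, b x i • m i = t ^ N • x) ∧
      ∀ i, b (m i) = t ^ N • (Pi.single i 1 : Fin r → Λ) := by
  classical
  obtain ⟨k, π, s, -, -, hπs⟩ := Module.Finite.exists_comp_eq_id_of_projective Λ M
  -- the images of the standard basis
  have hp : ∀ l : Fin k, ∃ (e : ℕ) (γ : Fin r → Λ), ∑ i, γ i • m i = t ^ e • π (Pi.single l 1) := by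
    intro l
    obtain ⟨_, ⟨e, rfl⟩, hx⟩ := h.span (π (Pi.single l 1))
    obtain ⟨γ, hγ⟩ := (Submodule.mem_span_range_iff_exists_fun Λ).mp hx
    exact ⟨e, γ, hγ⟩
  choose e γ hγ using hp
  set N₀ := ∑ l, e l with hN₀
  have hle : ∀ l, e l ≤ N₀ := fun l => Finset.single_le_sum (fun _ _ => Nat.zero_le _)
    (Finset.mem_univ l)
  let γ' : Fin k → Fin r → Λ := fun l i => t ^ (N₀ - e l) * γ l i
  have hγ' : ∀ l, ∑ i, γ' l i • m i = t ^ N₀ • π (Pi.single l 1) := by
    intro l
    have h1 : t ^ N₀ = t ^ (N₀ - e l) * t ^ e l := by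
      rw [← pow_add, Nat.sub_add_cancel (hle l)]
    rw [h1, mul_smul, ← hγ l, Finset.smul_sum]
    refine Finset.sum_congr rfl fun i _ => ?_
    rw [mul_smul]
  let b₀ : M →ₗ[Λ] (Fin r → Λ) := (Fintype.linearCombination Λ γ') ∘ₗ s
  have hb₀ : ∀ x, b₀ x = ∑ l, s x l • γ' l := fun x => by
    simp [b₀, Fintype.linearCombination_apply]
  have hab₀ : ∀ x, ∑ i, b₀ x i • m i = t ^ N₀ • x := by
    intro x
    have hx : x = π (s x) := (LinearMap.congr_fun hπs x).symm
    have hsx : s x = ∑ l, s x l • (Pi.single l 1 : Fin k → Λ) := by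
      funext j
      simp [Finset.sum_apply, Pi.single_apply]
    calc ∑ i, b₀ x i • m i = ∑ i, ∑ l, (s x l * γ' l i) • m i := by
          refine Finset.sum_congr rfl fun i _ => ?_
          rw [hb₀, Finset.sum_apply, Finset.sum_smul]
          rfl
      _ = ∑ l, s x l • ∑ i, γ' l i • m i := by
          rw [Finset.sum_comm]
          refine Finset.sum_congr rfl fun l _ => ?_
          rw [Finset.smul_sum]
          refine Finset.sum_congr rfl fun i _ => ?_
          rw [mul_smul]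
      _ = ∑ l, s x l • (t ^ N₀ • π (Pi.single l 1)) := by
          refine Finset.sum_congr rfl fun l _ => ?_
          rw [hγ']
      _ = t ^ N₀ • π (∑ l, s x l • (Pi.single l 1 : Fin k → Λ)) := by
          rw [map_sum, Finset.smul_sum]
          refine Finset.sum_congr rfl fun l _ => ?_
          rw [map_smul, smul_comm]
      _ = t ^ N₀ • x := by rw [← hsx, ← hx]
  -- correct `b₀` on the `m i`
  have hv : ∀ i, ∃ d : ℕ, ∀ j, t ^ d * (b₀ (m i) j - (t ^ N₀ • (Pi.single i 1 : Fin r → Λ)) j) = 0 := by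
    intro i
    have h0 : ∑ j, (b₀ (m i) j - (t ^ N₀ • (Pi.single i 1 : Fin r → Λ)) j) • m j = 0 := by
      simp only [sub_smul, Finset.sum_sub_distrib, hab₀]
      rw [sub_eq_zero]
      rw [Finset.sum_eq_single i]
      · simp
      · intro j _ hj
        simp [hj]
      · intro hi; exact absurd (Finset.mem_univ i) hi
    obtain ⟨_, ⟨d, rfl⟩, hd⟩ := h.indep _ h0
    exact ⟨d, hd⟩
  choose d hd using hv
  set N₁ := ∑ i, d i with hN₁
  have hle₁ : ∀ i, d i ≤ N₁ := fun i => Finset.single_le_sum (fun _ _ => Nat.zero_le _)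
    (Finset.mem_univ i)
  refine ⟨N₁ + N₀, t ^ N₁ • b₀, fun x => ?_, fun i => ?_⟩
  · simp only [LinearMap.smul_apply, Pi.smul_apply, smul_eq_mul, mul_smul]
    rw [← Finset.smul_sum, hab₀, ← mul_smul, ← pow_add]
  · funext j
    have h1 := hd i j
    have h2 : t ^ N₁ * (b₀ (m i) j - (t ^ N₀ • (Pi.single i 1 : Fin r → Λ)) j) = 0 := by
      have : t ^ N₁ = t ^ (N₁ - d i) * t ^ d i := by
        rw [← pow_add, Nat.sub_add_cancel (hle₁ i)]
      rw [this, mul_assoc, h1, mul_zero]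
    rw [mul_sub, sub_eq_zero] at h2
    simp only [LinearMap.smul_apply, Pi.smul_apply, smul_eq_mul] at h2 ⊢
    rw [h2, pow_add, mul_assoc]

end Groth.Agent.H80.QReg
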