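import Groth.Agent.H80.QReg1
import Groth.Agent.H80.DiffSmDesc
import Groth.Agent.H91.SymCompare
import Groth.Agent.H91.AdicGrBij

/-!
# Comparison of `Sym^n(J/J²)` with polynomials through a local basis
-/

set_option autoImplicit false

namespace Groth.Agent.H80.QReg

open TensorProduct Groth.Agent.H91 Groth.Agent.H91.SymGr Groth.Agent.H80.DiffSm MvPolynomial

universe u

section LinForm

variable (R : Type u) [CommRing R] (n : ℕ)

lemma linForm_apply (v : Fin n → R) : linForm R n v = ∑ i, C (v i) * X i := by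
  have hv : v = ∑ i, v i • (Pi.single i 1 : Fin n → R) := by
    funext j
    simp [Finset.sum_apply, Pi.single_apply]
  conv_lhs => rw [hv]
  rw [map_sum]
  refine Finset.sum_congr rfl fun i _ => ?_
  rw [map_smul, linForm_single, smul_eq_C_mul]

end LinForm

section Sym

variable {R : Type u} [CommRing R] {ι : Type u} {M : Type u} [AddCommGroup M] [Module R M]

lemma symMap_comp {M' M'' : Type u} [AddCommGroup M'] [Module R M'] [AddCommGroup M'']
    [Module R M''] (f : M →ₗ[R] M') (g : M' →ₗ[R] M'') (x : Sym[R] ι M) :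
    SymPow.map g (SymPow.map f x) = SymPow.map (g ∘ₗ f) x := by
  have : (SymPow.map (ι := ι) g) ∘ₗ (SymPow.map f) = SymPow.map (g ∘ₗ f) := by
    apply SymPow.hom_ext
    intro m
    simp only [LinearMap.comp_apply, SymPow.map_tprod]
  exact LinearMap.congr_fun this x

lemma symMap_smul_id [Fintype ι] (t : R) (x : Sym[R] ι M) :
    SymPow.map (t • (LinearMap.id : M →ₗ[R] M)) x = t ^ Fintype.card ι • x := by
  have : SymPow.map (ι := ι) (t • (LinearMap.id : M →ₗ[R] M)) =
      t ^ Fintype.card ι • (LinearMap.id : Sym[R] ι M →ₗ[R] Sym[R] ι M) := by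
    apply SymPow.hom_ext
    intro m
    simp only [SymPow.map_tprod, LinearMap.smul_apply, LinearMap.id_apply]
    rw [MultilinearMap.map_smul_univ, Finset.prod_const, Finset.card_univ]
  exact LinearMap.congr_fun this x

end Sym

section Tb

variable {R : Type u} [CommRing R] (J : Ideal R) {ι : Type u} [Fintype ι] [Nonempty ι] {r : ℕ}
  (b : J.Cotangent →ₗ[R ⧸ J] (Fin r → R ⧸ J))

/-- The comparison `Sym_R → Sym_{R/J}`. -/
noncomputable def cmp : Sym[R] ι J.Cotangent →+ Sym[R ⧸ J] ι J.Cotangent :=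
  symComp (R' := R ⧸ J) (LinearMap.id : J.Cotangent →ₗ[R] J.Cotangent)

omit [Fintype ι] [Nonempty ι] in
lemma cmp_tprod (m : ι → J.Cotangent) :
    cmp J (SymmetricPower.tprod R m) = SymmetricPower.tprod (R ⧸ J) m :=
  symComp_tprod _ m

omit [Fintype ι] [Nonempty ι] in
lemma cmp_smul (a : R) (x : Sym[R] ι J.Cotangent) :
    cmp J (a • x) = Ideal.Quotient.mk J a • cmp J x :=
  symComp_smul _ a x

omit [Fintype ι] in
lemma cmp_injective : Function.Injective (cmp (ι := ι) J) := by
  obtain ⟨c, d, hc, hd, hdc, hcd⟩ := SymCompare.exists_compare (ι := ι) (M := J.Cotangent) J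
  have : cmp (ι := ι) J = c := by
    apply SymCompare.addHom_ext
    intro m
    rw [cmp_tprod, hc]
  rw [this]
  exact Function.LeftInverse.injective hdc

/-- The map `Sym_R^ι(J/J²) → (R/J)[X_1..X_r]` attached to `b : J/J² → (R/J)^r`. -/
noncomputable def Tb : Sym[R] ι J.Cotangent →+ MvPolynomial (Fin r) (R ⧸ J) :=
  ((toPoly (Pi.basisFun (R ⧸ J) (Fin r)) ι) ∘ₗ (SymPow.map b)).toAddMonoidHom.comp (cmp J)

omit [Nonempty ι] in
lemma Tb_apply (x : Sym[R] ι J.Cotangent) :
    Tb J b x = toPoly (Pi.basisFun (R ⧸ J) (Fin r)) ι (SymPow.map b (cmp J x)) := rfl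

omit [Nonempty ι] in
lemma Tb_tprod (m : ι → J.Cotangent) :
    Tb J b (SymmetricPower.tprod R m) = ∏ k, linForm (R ⧸ J) r (b (m k)) := by
  rw [Tb_apply, cmp_tprod, SymPow.map_tprod, toPoly_tprod]

omit [Nonempty ι] in
lemma Tb_smul (a : R) (x : Sym[R] ι J.Cotangent) :
    Tb J b (a • x) = Ideal.Quotient.mk J a • Tb J b x := by
  rw [Tb_apply, Tb_apply, cmp_smul, map_smul, map_smul]

variable (g : R) (j : Fin r → J) (N : ℕ)
  (hab : ∀ x, ∑ i, b x i • J.toCotangent (j i) = (Ideal.Quotient.mk J g) ^ N • x)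
  (hba : ∀ i, b (J.toCotangent (j i)) =
    (Ideal.Quotient.mk J g) ^ N • (Pi.single i 1 : Fin r → R ⧸ J))

include hab in
/-- **K1**: `Tb x = 0` implies that `x` is killed by a power of `g`. -/
theorem smul_eq_zero_of_Tb_eq_zero (x : Sym[R] ι J.Cotangent) (hx : Tb J b x = 0) :
    g ^ (N * Fintype.card ι) • x = 0 := by
  let a : (Fin r → R ⧸ J) →ₗ[R ⧸ J] J.Cotangent :=
    Fintype.linearCombination (R ⧸ J) (fun i => J.toCotangent (j i))
  have hcomp : a ∘ₗ b = (Ideal.Quotient.mk J g) ^ N • LinearMap.id := by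
    ext y
    simp only [LinearMap.comp_apply, a, Fintype.linearCombination_apply, LinearMap.smul_apply,
      LinearMap.id_apply]
    exact hab y
  rw [Tb_apply] at hx
  have h1 : SymPow.map b (cmp J x) = 0 := toPoly_injective r (by rw [hx, map_zero])
  have h2 := congrArg (SymPow.map a) h1
  rw [symMap_comp, hcomp, symMap_smul_id, map_zero, ← pow_mul, ← map_pow, ← cmp_smul] at h2
  exact cmp_injective J (by rw [h2, map_zero])

omit [Nonempty ι] in
include hba in
/-- **K3**: the value of `Tb` on words in the `j i`. -/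
theorem Tb_word (σ : ι → Fin r) :
    Tb J b (SymmetricPower.tprod R (fun k => J.toCotangent (j (σ k)))) =
      C ((Ideal.Quotient.mk J g) ^ (N * Fintype.card ι)) * ∏ k, X (σ k) := by
  rw [Tb_tprod]
  have h1 : ∀ k, linForm (R ⧸ J) r (b (J.toCotangent (j (σ k)))) =
      C ((Ideal.Quotient.mk J g) ^ N) * X (σ k) := by
    intro k
    rw [hba, map_smul, linForm_single, smul_eq_C_mul]
  simp only [h1]
  rw [Finset.prod_mul_distrib, Finset.prod_const, Finset.card_univ, ← map_pow, ← pow_mul]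

omit [Nonempty ι] in
include hab in
/-- **K2**: `Tb x` lifts to a homogeneous polynomial whose value at `j` is `g^(Nn) • φ x`. -/
theorem exists_lift_Tb (φ : Sym[R] ι J.Cotangent →ₗ[R] PP16.grJ R J (Fintype.card ι))
    (hφ : ∀ x : ι → J, φ (SymmetricPower.tprod R (fun i => J.toCotangent (x i))) =
        PP16.zetaJ R J x) (x : Sym[R] ι J.Cotangent) :
    ∀ (y : R) (hy : y ∈ J ^ Fintype.card ι), φ x = Submodule.Quotient.mk ⟨y, hy⟩ →
      ∃ G : MvPolynomial (Fin r) R, G.IsHomogeneous (Fintype.card ι) ∧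
        MvPolynomial.map (Ideal.Quotient.mk J) G = Tb J b x ∧
        eval (fun i => (j i : R)) G - g ^ (N * Fintype.card ι) * y ∈ J ^ (Fintype.card ι + 1) := by
  have hx : x ∈ Submodule.span R
      (Set.range (SymmetricPower.tprod R (ι := ι) (M := J.Cotangent))) := by
    rw [SymmetricPower.span_tprod_eq_top]; trivial
  induction hx using Submodule.span_induction with
  | mem x hx =>
    obtain ⟨m, rfl⟩ := hx
    intro y hy hxy
    choose z hz using fun k => J.toCotangent_surjective (m k)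
    choose β hβ using fun (k : ι) (i : Fin r) => Ideal.Quotient.mk_surjective (b (m k) i)
    have hm : m = fun k => J.toCotangent (z k) := by funext k; rw [hz]
    refine ⟨∏ k, ∑ i, C (β k i) * X i, ?_, ?_, ?_⟩
    · have h1 : (∏ k : ι, ∑ i, (C (β k i) * X i : MvPolynomial (Fin r) R)).IsHomogeneous
          (∑ _k : ι, 1) :=
        IsHomogeneous.prod _ _ _ fun k _ =>
          IsHomogeneous.sum _ _ _ fun i _ => isHomogeneous_C_mul_X _ _
      simpa using h1
    · rw [Tb_tprod, map_prod]
      refine Finset.prod_congr rfl fun k _ => ?_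
      rw [linForm_apply, map_sum]
      refine Finset.sum_congr rfl fun i _ => ?_
      rw [map_mul, map_C, map_X, hβ]
    · -- the evaluation
      have hev : eval (fun i => (j i : R)) (∏ k, ∑ i, C (β k i) * X i) =
          ∏ k, ∑ i, β k i * (j i : R) := by
        simp only [map_prod, map_sum, map_mul, eval_C, eval_X]
      have hk : ∀ k, (∑ i, β k i * (j i : R)) - g ^ N * (z k : R) ∈ J ^ 2 := by
        intro k
        have h1 := hab (m k)
        have h2 : J.toCotangent (∑ i, β k i • j i - g ^ N • z k) = 0 := by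
          have hR : g ^ N • m k = (Ideal.Quotient.mk J g) ^ N • m k := by
            rw [← map_pow, ← Ideal.Quotient.algebraMap_eq, algebraMap_smul]
          rw [map_sub, map_sum, sub_eq_zero, map_smul, hz, hR, ← h1]
          refine Finset.sum_congr rfl fun i _ => ?_
          rw [map_smul, ← hβ k i, ← Ideal.Quotient.algebraMap_eq, algebraMap_smul]
        have h3 := (Ideal.toCotangent_eq_zero _ _).mp h2
        simpa [Submodule.coe_sum] using h3
      have hmem : ∀ k ∈ (Finset.univ : Finset ι), (∑ i, β k i * (j i : R)) ∈ J := fun k _ =>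
        Ideal.sum_mem _ fun i _ => Ideal.mul_mem_left _ _ (j i).2
      have h4 := prod_sub_prod_mem_pow J Finset.univ (fun k => ∑ i, β k i * (j i : R))
        (fun k => g ^ N * (z k : R)) hmem (fun k _ => hk k)
      rw [Finset.card_univ, Finset.prod_mul_distrib, Finset.prod_const, Finset.card_univ,
        ← pow_mul] at h4
      have h5 : (∏ k, (z k : R)) - y ∈ J ^ (Fintype.card ι + 1) := by
        rw [hm, hφ] at hxy
        unfold PP16.zetaJ at hxy
        rw [Submodule.Quotient.eq] at hxy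
        exact hxy
      rw [hev]
      have e : ∏ k, ∑ i, β k i * (j i : R) - g ^ (N * Fintype.card ι) * y =
          (∏ k, ∑ i, β k i * (j i : R) - g ^ (N * Fintype.card ι) * ∏ k, (z k : R)) +
            g ^ (N * Fintype.card ι) * ((∏ k, (z k : R)) - y) := by ring
      rw [e]
      exact add_mem h4 (Ideal.mul_mem_left _ _ h5)
  | zero =>
    intro y hy hxy
    refine ⟨0, isHomogeneous_zero _ _ _, by simp, ?_⟩
    rw [map_zero] at hxy
    have h1 : y ∈ J ^ (Fintype.card ι + 1) := by
      have := (Submodule.Quotient.mk_eq_zero _).mp hxy.symm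
      exact this
    simpa using Ideal.mul_mem_left _ _ h1
  | add x₁ x₂ _ _ h₁ h₂ =>
    intro y hy hxy
    obtain ⟨⟨y₁, hy₁⟩, hy₁'⟩ := Submodule.Quotient.mk_surjective _ (φ x₁)
    have hy₂ : y - y₁ ∈ J ^ Fintype.card ι := sub_mem hy hy₁
    have hx₂ : φ x₂ = Submodule.Quotient.mk ⟨y - y₁, hy₂⟩ := by
      have e1 : φ x₂ = φ (x₁ + x₂) - φ x₁ := by rw [map_add]; abel
      rw [e1, hxy, ← hy₁', ← Submodule.Quotient.mk_sub]
      rfl
    obtain ⟨G₁, hG₁, hG₁', hG₁''⟩ := h₁ y₁ hy₁ hy₁'.symm
    obtain ⟨G₂, hG₂, hG₂', hG₂''⟩ := h₂ (y - y₁) hy₂ hx₂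
    refine ⟨G₁ + G₂, hG₁.add hG₂, by rw [map_add, map_add, hG₁', hG₂'], ?_⟩
    have e : eval (fun i => (j i : R)) (G₁ + G₂) - g ^ (N * Fintype.card ι) * y =
        (eval (fun i => (j i : R)) G₁ - g ^ (N * Fintype.card ι) * y₁) +
          (eval (fun i => (j i : R)) G₂ - g ^ (N * Fintype.card ι) * (y - y₁)) := by
      rw [map_add]; ring
    rw [e]
    exact add_mem hG₁'' hG₂''
  | smul a x₁ _ h₁ =>
    intro y hy hxy
    obtain ⟨⟨y₁, hy₁⟩, hy₁'⟩ := Submodule.Quotient.mk_surjective _ (φ x₁)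
    obtain ⟨G₁, hG₁, hG₁', hG₁''⟩ := h₁ y₁ hy₁ hy₁'.symm
    have h3 : a * y₁ - y ∈ J ^ (Fintype.card ι + 1) := by
      rw [map_smul, ← hy₁', ← Submodule.Quotient.mk_smul, Submodule.Quotient.eq] at hxy
      exact hxy
    refine ⟨C a * G₁, ?_, ?_, ?_⟩
    · have := (isHomogeneous_C (Fin r) a).mul hG₁
      simpa using this
    · rw [map_mul, map_C, hG₁', Tb_smul, smul_eq_C_mul]
    · have e : eval (fun i => (j i : R)) (C a * G₁) - g ^ (N * Fintype.card ι) * y =
          a * (eval (fun i => (j i : R)) G₁ - g ^ (N * Fintype.card ι) * y₁) +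
            g ^ (N * Fintype.card ι) * (a * y₁ - y) := by
        rw [map_mul, eval_C]; ring
      rw [e]
      exact add_mem (Ideal.mul_mem_left _ _ hG₁'') (Ideal.mul_mem_left _ _ h3)

end Tb

end Groth.Agent.H80.QReg
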