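import Groth.Agent.H80.QReg2
import Groth.Agent.H19.QuasiRegCot
import Groth.Agent.S3824

/-!
# Locally quasi-regular ideals: f.g., projective conormal module, `Sym ≅ gr`
-/

set_option autoImplicit false

namespace Groth.Agent.H80.QReg

open TensorProduct Groth.Agent.H91 Groth.Agent.H91.SymGr Groth.Agent.H80.DiffSm MvPolynomial
  Groth.Agent.H59.LocFree Groth.Agent.H19.QRegCot

universe u

section Local

variable {R : Type u} [CommRing R] (J : Ideal R)

/-- Local data: `g` and elements `j i ∈ J` whose images form a quasi-regular sequence generating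
`J` in `R_g`. -/
def LocalData (g : R) {r : ℕ} (j : Fin r → J) : Prop :=
  CAlgX.IsQuasiRegular (fun i => algebraMap R (Localization.Away g) (j i)) ∧
    Ideal.span (Set.range fun i => algebraMap R (Localization.Away g) (j i)) =
      J.map (algebraMap R (Localization.Away g))

/-- Normalisation: the quasi-regular sequence may be taken to consist of images of elements
of `J`. -/
theorem exists_localData (h : PP16.IsLocallyQuasiRegular R J) (P : Ideal R) [P.IsPrime]
    (hJP : J ≤ P) : ∃ g : R, g ∉ P ∧ ∃ (r : ℕ) (j : Fin r → J), LocalData J g j := by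
  obtain ⟨g, hg, r, f, hf, hspan⟩ := h P hJP
  refine ⟨g, hg, r, ?_⟩
  have hmem : ∀ i, ∃ x : J × Submonoid.powers g,
      f i * algebraMap R (Localization.Away g) x.2 = algebraMap R (Localization.Away g) x.1 := by
    intro i
    have : f i ∈ J.map (algebraMap R (Localization.Away g)) := by
      rw [← hspan]; exact Ideal.subset_span ⟨i, rfl⟩
    exact (IsLocalization.mem_map_algebraMap_iff (Submonoid.powers g) _).mp this
  choose w hw using hmem
  refine ⟨fun i => (w i).1, ?_⟩
  have hspan' : Ideal.span (Set.range fun i => algebraMap R (Localization.Away g) ((w i).1 : R)) =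
      Ideal.span (Set.range f) := by
    apply le_antisymm
    · rw [Ideal.span_le]
      rintro _ ⟨i, rfl⟩
      beta_reduce
      rw [← hw i]
      exact Ideal.mul_mem_right _ _ (Ideal.subset_span ⟨i, rfl⟩)
    · rw [Ideal.span_le]
      rintro _ ⟨i, rfl⟩
      obtain ⟨v, hv⟩ := (IsLocalization.map_units (Localization.Away g) (w i).2).exists_right_inv
      have : f i = algebraMap R (Localization.Away g) ((w i).1 : R) * v := by
        rw [← hw i, mul_assoc, hv, mul_one]
      rw [this]
      exact Ideal.mul_mem_right _ _ (Ideal.subset_span ⟨i, rfl⟩)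
  exact ⟨Groth.Agent.S3824.result f _ hf hspan', hspan'.trans hspan⟩

variable {J}

theorem isLocBasis_of_localData {g : R} {r : ℕ} {j : Fin r → J} (h : LocalData J g j) :
    IsLocBasis (Submonoid.powers (Ideal.Quotient.mk J g)) (fun i => J.toCotangent (j i)) where
  span x := by
    obtain ⟨y, rfl⟩ := J.toCotangent_surjective x
    have hy : algebraMap R (Localization.Away g) (y : R) ∈
        Ideal.span (Set.range fun i => algebraMap R (Localization.Away g) (j i)) := by
      rw [h.2]; exact Ideal.mem_map_of_mem _ y.2
    obtain ⟨α, hα⟩ := Ideal.mem_span_range_iff_exists_fun.mp hy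
    obtain ⟨b, hb⟩ := IsLocalization.exist_integer_multiples_of_finite (Submonoid.powers g) α
    choose α' hα' using hb
    have h1 : algebraMap R (Localization.Away g) ((b : R) * (y : R)) =
        algebraMap R (Localization.Away g) (∑ i, α' i * (j i : R)) := by
      rw [map_mul, ← hα, Finset.mul_sum, map_sum]
      refine Finset.sum_congr rfl fun i _ => ?_
      rw [map_mul, hα' i, Algebra.smul_def, mul_assoc]
    obtain ⟨c, hc⟩ := (IsLocalization.eq_iff_exists (Submonoid.powers g) _).mp h1
    obtain ⟨eb, heb⟩ := b.2
    obtain ⟨ec, hec⟩ := c.2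
    refine ⟨(Ideal.Quotient.mk J g) ^ (ec + eb), ⟨_, rfl⟩, ?_⟩
    have h2 : (Ideal.Quotient.mk J g) ^ (ec + eb) • J.toCotangent y =
        J.toCotangent (((c : R) * (b : R)) • y) := by
      rw [map_smul, ← heb, ← hec, ← pow_add, ← map_pow, ← Ideal.Quotient.algebraMap_eq,
        algebraMap_smul]
    have h3 : ((c : R) * (b : R)) • y = ∑ i, ((c : R) * α' i) • j i := by
      apply Subtype.ext
      simp only [Submodule.coe_smul, Submodule.coe_sum, smul_eq_mul]
      rw [mul_assoc, hc, Finset.mul_sum]
      refine Finset.sum_congr rfl fun i _ => ?_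
      rw [mul_assoc]
    rw [h2, h3, map_sum]
    refine Submodule.sum_mem _ fun i _ => ?_
    rw [map_smul, ← algebraMap_smul (R ⧸ J) ((c : R) * α' i)]
    exact Submodule.smul_mem _ _ (Submodule.subset_span ⟨i, rfl⟩)
  indep ρ hρ := by
    choose ρ' hρ' using fun i => Ideal.Quotient.mk_surjective (ρ i)
    have h1 : J.toCotangent (∑ i, ρ' i • j i) = 0 := by
      rw [map_sum, ← hρ]
      refine Finset.sum_congr rfl fun i _ => ?_
      rw [map_smul, ← hρ' i, ← Ideal.Quotient.algebraMap_eq, algebraMap_smul]
    have h2 : ∑ i, ρ' i * (j i : R) ∈ J ^ 2 := by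
      have := (Ideal.toCotangent_eq_zero _ _).mp h1
      simpa [Submodule.coe_sum] using this
    -- push to the localization and use quasi-regularity in degree one
    set f : Fin r → Localization.Away g := fun i => algebraMap R (Localization.Away g) (j i)
      with hf
    have h3 : eval f (linv (fun i => algebraMap R (Localization.Away g) (ρ' i))) ∈
        Ideal.span (Set.range f) ^ (1 + 1) := by
      rw [eval_linv, h.2, ← Ideal.map_pow]
      have := Ideal.mem_map_of_mem (algebraMap R (Localization.Away g)) h2
      simpa [map_sum, map_mul] using this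
    have h4 : ∀ i, ∃ m ∈ Submonoid.powers g, m * ρ' i ∈ J := by
      intro i
      have h5 := h.1 1 _ (linv_isHomogeneous _) h3 (Finsupp.single i 1)
      rw [coeff_linv, h.2] at h5
      exact (IsLocalization.algebraMap_mem_map_algebraMap_iff (Submonoid.powers g) _ _ _).mp h5
    choose m hm hmρ using h4
    choose e he using hm
    refine ⟨(Ideal.Quotient.mk J g) ^ (∑ i, e i), ⟨_, rfl⟩, fun i => ?_⟩
    have hle : e i ≤ ∑ i, e i := Finset.single_le_sum (fun _ _ => Nat.zero_le _)
      (Finset.mem_univ i)
    rw [← hρ' i, ← map_pow, ← map_mul, Ideal.Quotient.eq_zero_iff_mem,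
      ← Nat.sub_add_cancel hle, pow_add, mul_assoc]
    apply Ideal.mul_mem_left
    have := hmρ i
    rw [← he i] at this
    exact this

end Local

end Groth.Agent.H80.QReg
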