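import Groth.Agent.H80.QReg3

/-!
# Locally quasi-regular ⇒ f.g., projective conormal module, `Sym ≅ gr`
-/

set_option autoImplicit false

namespace Groth.Agent.H80.QReg

open TensorProduct Groth.Agent.H91 Groth.Agent.H91.SymGr Groth.Agent.H80.DiffSm MvPolynomial
  Groth.Agent.H59.LocFree Groth.Agent.H19.QRegCot

universe u

variable {R : Type u} [CommRing R] {J : Ideal R}

theorem fg_of_isLocallyQuasiRegular (h : PP16.IsLocallyQuasiRegular R J) : J.FG := by
  classical
  let t : Set R := {g | (J.map (algebraMap R (Localization.Away g))).FG}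
  have ht : Ideal.span t = ⊤ := by
    by_contra hne
    obtain ⟨𝔪, h𝔪, hle⟩ := Ideal.exists_le_maximal _ hne
    haveI := h𝔪.isPrime
    by_cases hJ : J ≤ 𝔪
    · obtain ⟨g, hg, r, f, hf, hspan⟩ := h 𝔪 hJ
      apply hg
      apply hle
      apply Ideal.subset_span
      show (J.map _).FG
      rw [← hspan]
      exact ⟨Finset.univ.image f, by simp⟩
    · obtain ⟨y, hyJ, hy𝔪⟩ := SetLike.not_le_iff_exists.mp hJ
      apply hy𝔪
      apply hle
      apply Ideal.subset_span
      show (J.map (algebraMap R (Localization.Away y))).FG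
      have : J.map (algebraMap R (Localization.Away y)) = ⊤ :=
        Ideal.eq_top_of_isUnit_mem _ (Ideal.mem_map_of_mem _ hyJ)
          (IsLocalization.Away.algebraMap_isUnit y)
      rw [this]
      exact ⟨{1}, by simp⟩
  exact Ideal.fg_of_localizationSpan t ht (fun g => g.2)

theorem finite_projective_cotangent (h : PP16.IsLocallyQuasiRegular R J) :
    Module.Finite (R ⧸ J) J.Cotangent ∧ Module.Projective (R ⧸ J) J.Cotangent := by
  let s : Set (R ⧸ J) := {t | ∃ (c : ℕ) (m : Fin c → J.Cotangent),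
    IsLocBasis (Submonoid.powers t) m}
  have hs : Ideal.span s = ⊤ := by
    by_contra hne
    obtain ⟨𝔪, h𝔪, hle⟩ := Ideal.exists_le_maximal _ hne
    haveI := h𝔪.isPrime
    let P := 𝔪.comap (Ideal.Quotient.mk J)
    haveI : P.IsPrime := Ideal.comap_isPrime _ _
    have hJP : J ≤ P := by
      intro y hy
      show Ideal.Quotient.mk J y ∈ 𝔪
      rw [Ideal.Quotient.eq_zero_iff_mem.mpr hy]
      exact zero_mem _
    obtain ⟨g, hg, r, j, hdata⟩ := exists_localData J h P hJP
    apply hg
    show Ideal.Quotient.mk J g ∈ 𝔪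
    apply hle
    apply Ideal.subset_span
    exact ⟨r, _, isLocBasis_of_localData hdata⟩
  exact finite_projective_of_cover s hs (fun t ht => ht)

/-- Coefficients of a homogeneous polynomial vanishing to higher order are in `J` up to powers of
`g`. -/
theorem exists_pow_mul_coeff_mem {g : R} {r : ℕ} {j : Fin r → J} (hdata : LocalData J g j)
    (n : ℕ) (G : MvPolynomial (Fin r) R) (hG : G.IsHomogeneous n)
    (hev : eval (fun i => (j i : R)) G ∈ J ^ (n + 1)) :
    ∃ E : ℕ, ∀ d, g ^ E * coeff d G ∈ J := by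
  classical
  set f : Fin r → Localization.Away g := fun i => algebraMap R (Localization.Away g) (j i)
    with hf
  have h1 : eval f (MvPolynomial.map (algebraMap R (Localization.Away g)) G) =
      algebraMap R (Localization.Away g) (eval (fun i => (j i : R)) G) := by
    rw [eval_map]
    have := eval₂_comp_left (algebraMap R (Localization.Away g)) (RingHom.id R)
      (fun i => (j i : R)) G
    rw [RingHom.comp_id] at this
    exact this.symm
  have h2 : eval f (MvPolynomial.map (algebraMap R (Localization.Away g)) G) ∈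
      Ideal.span (Set.range f) ^ (n + 1) := by
    rw [h1, hdata.2, ← Ideal.map_pow]
    exact Ideal.mem_map_of_mem _ hev
  have h3 := hdata.1 n _ (hG.map _) h2
  have h4 : ∀ d, ∃ e : ℕ, g ^ e * coeff d G ∈ J := by
    intro d
    have h5 := h3 d
    rw [coeff_map, hdata.2] at h5
    obtain ⟨m, ⟨e, rfl⟩, hm⟩ :=
      (IsLocalization.algebraMap_mem_map_algebraMap_iff (Submonoid.powers g) _ _ _).mp h5
    exact ⟨e, hm⟩
  choose e he using h4
  refine ⟨∑ d ∈ G.support, e d, fun d => ?_⟩
  by_cases hd : d ∈ G.support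
  · have hle : e d ≤ ∑ d ∈ G.support, e d := Finset.single_le_sum (fun _ _ => Nat.zero_le _) hd
    rw [← Nat.sub_add_cancel hle, pow_add, mul_assoc]
    exact Ideal.mul_mem_left _ _ (he d)
  · rw [notMem_support_iff.mp hd, mul_zero]
    exact zero_mem _

theorem symGrBijective_of_isLocallyQuasiRegular (h : PP16.IsLocallyQuasiRegular R J) :
    PP16.SymGrBijective R J := by
  intro ι _ _
  obtain ⟨hfin, hproj⟩ := finite_projective_cotangent h
  obtain ⟨φ, hφ⟩ := AdicSmooth.exists_phi_J J (ι := ι)
  refine ⟨φ, hφ, ?_, AdicSmooth.phi_J_surjective J φ hφ⟩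
  rw [injective_iff_map_eq_zero]
  intro x hx
  let Ann : Ideal R := LinearMap.ker (LinearMap.toSpanSingleton R _ x)
  have hAnn : ∀ a, a ∈ Ann ↔ a • x = 0 := fun a => by
    simp [Ann, LinearMap.mem_ker, LinearMap.toSpanSingleton_apply]
  suffices hA : Ann = ⊤ by
    have := (hAnn 1).mp (hA ▸ Submodule.mem_top)
    simpa using this
  by_contra hne
  obtain ⟨𝔪, h𝔪, hle⟩ := Ideal.exists_le_maximal _ hne
  haveI := h𝔪.isPrime
  by_cases hJ : J ≤ 𝔪
  · obtain ⟨g, hg, r, j, hdata⟩ := exists_localData J h 𝔪 hJ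
    obtain ⟨N, b, hab, hba⟩ := exists_ab (Ideal.Quotient.mk J g) _ (isLocBasis_of_localData hdata)
    obtain ⟨G, hG, hGmap, hGev⟩ := exists_lift_Tb J b g j N hab φ hφ x 0 (zero_mem _)
      (by rw [hx]; rfl)
    rw [mul_zero, sub_zero] at hGev
    obtain ⟨E, hE⟩ := exists_pow_mul_coeff_mem hdata _ G hG hGev
    have hTb : Tb J b (g ^ E • x) = 0 := by
      rw [Tb_smul, ← hGmap]
      ext d
      rw [coeff_smul, coeff_map, coeff_zero, smul_eq_mul, ← map_mul,
        Ideal.Quotient.eq_zero_iff_mem]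
      exact hE d
    have hx' := smul_eq_zero_of_Tb_eq_zero J b g j N hab _ hTb
    apply hg
    apply h𝔪.isPrime.mem_of_pow_mem (N * Fintype.card ι + E)
    apply hle
    rw [hAnn, pow_add, mul_smul]
    exact hx'
  · obtain ⟨y, hyJ, hy𝔪⟩ := SetLike.not_le_iff_exists.mp hJ
    apply hy𝔪
    apply hle
    rw [hAnn]
    have := SymCompare.isTorsionBySet (ι := ι) (M := J.Cotangent) J (x := x) (a := ⟨y, hyJ⟩)
    exact this

end Groth.Agent.H80.QReg
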