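import Groth.Agent.H80.QReg1

/-!
# Local bases of finite projective modules near a prime; the determinant trick
-/

set_option autoImplicit false

namespace Groth.Agent.H80.QReg

open Groth.Agent.H59.LocFree

universe u v

section CL

variable {Λ : Type u} [CommRing Λ] {M : Type v} [AddCommGroup M] [Module Λ M]

/-- A basis of the localized module gives a local basis by elements of `M`. -/
theorem exists_isLocBasis_of_basis (t : Λ) {r : ℕ}
    (bb : Module.Basis (Fin r) (Localization (Submonoid.powers t))
      (LocalizedModule (Submonoid.powers t) M)) :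
    ∃ m : Fin r → M, IsLocBasis (Submonoid.powers t) m := by
  classical
  set S := Submonoid.powers t with hS
  have hsurj : ∀ i, ∃ (m : M) (s : S), bb i = LocalizedModule.mk m s := by
    intro i
    induction bb i using LocalizedModule.induction_on with
    | h m s => exact ⟨m, s, rfl⟩
  choose m s hms using hsurj
  let ℓ : M →ₗ[Λ] LocalizedModule S M := LocalizedModule.mkLinearMap S M
  let w : Fin r → (Localization S)ˣ := fun i => (IsLocalization.map_units (Localization S) (s i)).unit
  let bb' := bb.unitsSMul w
  have hbb' : ∀ i, bb' i = ℓ (m i) := by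
    intro i
    rw [Module.Basis.unitsSMul_apply, hms i]
    change (algebraMap Λ (Localization S) (s i)) • LocalizedModule.mk (m i) (s i) = _
    rw [algebraMap_smul, LocalizedModule.mkLinearMap_apply]
    have : ((s i : Λ)) • LocalizedModule.mk (m i) (s i) =
        LocalizedModule.mk ((s i : Λ) • m i) (s i) := by
      rw [LocalizedModule.smul'_mk]
    rw [this]
    exact LocalizedModule.mk_cancel (s i) (m i)
  refine ⟨m, ⟨fun x => ?_, fun ρ hρ => ?_⟩⟩
  · -- span
    have hx := bb'.sum_repr (ℓ x)
    obtain ⟨d, hd⟩ := IsLocalization.exist_integer_multiples_of_finite S (fun i => bb'.repr (ℓ x) i)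
    choose l hl using hd
    have h1 : ℓ ((d : Λ) • x - ∑ i, l i • m i) = 0 := by
      rw [map_sub, map_sum, map_smul, sub_eq_zero, ← hx, Finset.smul_sum]
      refine Finset.sum_congr rfl fun i _ => ?_
      rw [map_smul, ← hbb' i, ← algebraMap_smul (Localization S) (l i), hl i,
        ← algebraMap_smul (Localization S) (d : Λ) (bb'.repr (ℓ x) i • bb' i), smul_smul,
        Algebra.smul_def]
    obtain ⟨c, hc⟩ := (IsLocalizedModule.eq_zero_iff S ℓ).mp h1
    refine ⟨(c : Λ) * (d : Λ), S.mul_mem c.2 d.2, ?_⟩
    have h2 : ((c : Λ) * (d : Λ)) • x = ∑ i, ((c : Λ) * l i) • m i := by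
      have : (c : Λ) • ((d : Λ) • x - ∑ i, l i • m i) = 0 := hc
      rw [smul_sub, sub_eq_zero, smul_smul, Finset.smul_sum] at this
      rw [this]
      refine Finset.sum_congr rfl fun i _ => ?_
      rw [smul_smul]
    rw [h2]
    exact Submodule.sum_mem _ fun i _ => Submodule.smul_mem _ _ (Submodule.subset_span ⟨i, rfl⟩)
  · -- independence
    have h1 : ∑ i, algebraMap Λ (Localization S) (ρ i) • bb' i = 0 := by
      have := congrArg ℓ hρ
      rw [map_sum, map_zero] at this
      rw [← this]
      refine Finset.sum_congr rfl fun i _ => ?_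
      rw [map_smul, hbb' i, algebraMap_smul]
    have h2 := Fintype.linearIndependent_iff.mp bb'.linearIndependent _ h1
    have h3 : ∀ i, ∃ c : S, (c : Λ) * ρ i = 0 := fun i =>
      (IsLocalization.map_eq_zero_iff S (Localization S) (ρ i)).mp (h2 i)
    choose c hc using h3
    refine ⟨∏ i, (c i : Λ), S.prod_mem fun i _ => (c i).2, fun i => ?_⟩
    rw [← Finset.mul_prod_erase Finset.univ _ (Finset.mem_univ i), mul_comm (c i : Λ), mul_assoc,
      hc i, mul_zero]

/-- A finite projective module has a local basis near every prime. -/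
theorem exists_isLocBasis_of_projective [Module.Finite Λ M] [Module.Projective Λ M]
    (𝔮 : Ideal Λ) [𝔮.IsPrime] :
    ∃ t : Λ, t ∉ 𝔮 ∧ ∃ (r : ℕ) (m : Fin r → M), IsLocBasis (Submonoid.powers t) m := by
  haveI : Module.FinitePresentation Λ M := Module.finitePresentation_of_projective Λ M
  haveI : Module.Free (Localization.AtPrime 𝔮) (LocalizedModule 𝔮.primeCompl M) :=
    Module.free_of_flat_of_isLocalRing
  obtain ⟨t, ht, hfree, -⟩ := Module.FinitePresentation.exists_free_localizedModule_powers
    𝔮.primeCompl (LocalizedModule.mkLinearMap 𝔮.primeCompl M) (Localization.AtPrime 𝔮)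
  haveI := hfree
  haveI : Module.Finite (Localization (Submonoid.powers t))
      (LocalizedModule (Submonoid.powers t) M) := inferInstance
  haveI : Nontrivial (Localization (Submonoid.powers t)) := by
    have h0 : (0 : Λ) ∉ Submonoid.powers t := by
      rintro ⟨n, hn⟩
      have : t ^ n ∈ 𝔮 := by
        change t ^ n = 0 at hn
        rw [hn]; exact zero_mem _
      exact ht (Ideal.IsPrime.mem_of_pow_mem inferInstance n this)
    rw [← not_subsingleton_iff_nontrivial,
      IsLocalization.subsingleton_iff (M := Submonoid.powers t)]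
    exact h0
  let bb := Module.finBasis (Localization (Submonoid.powers t))
    (LocalizedModule (Submonoid.powers t) M)
  obtain ⟨m, hm⟩ := exists_isLocBasis_of_basis t bb
  exact ⟨t, ht, _, m, hm⟩

end CL

section Det

variable {R : Type u} [CommRing R]

/-- The determinant trick: if `g^e • y_l ∈ J₀ + J • span(y)` for generators `y_l` of `J`, then some
`v ≡ g^(e s) mod J` satisfies `v • J ≤ J₀`. -/
theorem exists_mul_le_of_generators (J J₀ : Ideal R) (g : R) (e : ℕ) {s : ℕ} (y : Fin s → R)
    (hy : Ideal.span (Set.range y) = J)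
    (h : ∀ l, ∃ β : Fin s → R, (∀ k, β k ∈ J) ∧ g ^ e * y l - ∑ k, β k * y k ∈ J₀) :
    ∃ v : R, v - g ^ (e * s) ∈ J ∧ ∀ x ∈ J, v * x ∈ J₀ := by
  classical
  choose β hβJ hβ using h
  let Bm : Matrix (Fin s) (Fin s) R := (g ^ e) • (1 : Matrix (Fin s) (Fin s) R) - Matrix.of β
  have hBy : ∀ l, (Bm.mulVec y) l ∈ J₀ := by
    intro l
    have : (Bm.mulVec y) l = g ^ e * y l - ∑ k, β l k * y k := by
      simp only [Bm, Matrix.sub_mulVec, Matrix.smul_mulVec, Matrix.one_mulVec, Pi.sub_apply,
        Pi.smul_apply, smul_eq_mul]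
      simp only [Matrix.mulVec, dotProduct, Matrix.of_apply]
    rw [this]
    exact hβ l
  refine ⟨Bm.det, ?_, ?_⟩
  · rw [← Ideal.Quotient.eq, RingHom.map_det]
    have : (Ideal.Quotient.mk J).mapMatrix Bm =
        (Ideal.Quotient.mk J (g ^ e)) • (1 : Matrix (Fin s) (Fin s) (R ⧸ J)) := by
      ext a c
      simp only [Bm, RingHom.mapMatrix_apply, Matrix.map_apply, Matrix.sub_apply,
        Matrix.smul_apply, Matrix.of_apply, map_sub, map_mul, smul_eq_mul,
        Ideal.Quotient.eq_zero_iff_mem.mpr (hβJ a c), sub_zero]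
      by_cases hac : a = c
      · subst hac; simp
      · simp [Matrix.one_apply_ne hac]
    rw [this, Matrix.det_smul, Matrix.det_one, mul_one, Fintype.card_fin, ← map_pow, ← pow_mul]
  · have hyl : ∀ l, Bm.det * y l ∈ J₀ := by
      intro l
      have h1 : (Bm.adjugate * Bm).mulVec y = Bm.det • y := by
        rw [Matrix.adjugate_mul, Matrix.smul_mulVec, Matrix.one_mulVec]
      have h2 := congrFun h1 l
      rw [← Matrix.mulVec_mulVec, Pi.smul_apply, smul_eq_mul] at h2
      rw [← h2]
      simp only [Matrix.mulVec, dotProduct]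
      exact Ideal.sum_mem _ fun k _ => Ideal.mul_mem_left _ _ (hBy k)
    intro x hx
    rw [← hy] at hx
    induction hx using Submodule.span_induction with
    | mem x hx => obtain ⟨l, rfl⟩ := hx; exact hyl l
    | zero => rw [mul_zero]; exact zero_mem _
    | add a b _ _ ha hb => rw [mul_add]; exact add_mem ha hb
    | smul a b _ hb =>
      rw [smul_eq_mul, mul_left_comm]
      exact Ideal.mul_mem_left _ _ hb

end Det

end Groth.Agent.H80.QReg
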