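import Groth.Agent.H80.QReg4
import Groth.Agent.H80.QReg5
import Groth.Agent.H80.DiffSmBasis1

/-!
# f.g. + projective conormal module + `Sym ≅ gr` ⇒ locally quasi-regular
-/

set_option autoImplicit false

namespace Groth.Agent.H80.QReg

open TensorProduct Groth.Agent.H91 Groth.Agent.H91.SymGr Groth.Agent.H80.DiffSm MvPolynomial
  Groth.Agent.H59.LocFree Groth.Agent.H19.QRegCot Groth.Agent.H19.QReg

universe u

variable {R : Type u} [CommRing R] {J : Ideal R}

/-- From generators of `J` and elements `j i ∈ J` whose classes generate `J/J²` on `D(g₀)` to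
generators of `J` on a smaller basic open. -/
theorem exists_local_generators (hfg : J.FG) (g₀ : R) {r : ℕ} (j : Fin r → J)
    (hspan : ∀ x : J.Cotangent, ∃ e : ℕ, (Ideal.Quotient.mk J g₀) ^ e • x ∈
      Submodule.span (R ⧸ J) (Set.range fun i => J.toCotangent (j i))) :
    ∃ (E : ℕ) (v : R), v - g₀ ^ E ∈ J ∧
      ∀ x ∈ J, v * x ∈ Ideal.span (Set.range fun i => (j i : R)) := by
  classical
  obtain ⟨s, y, hy⟩ := Submodule.fg_iff_exists_fin_generating_family.mp hfg
  have hyJ : ∀ l, y l ∈ J := fun l => by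
    rw [← hy]; exact Submodule.subset_span ⟨l, rfl⟩
  have h1 : ∀ l, ∃ (e : ℕ) (α : Fin r → R), g₀ ^ e * y l - ∑ i, α i * (j i : R) ∈ J ^ 2 := by
    intro l
    obtain ⟨e, he⟩ := hspan (J.toCotangent ⟨y l, hyJ l⟩)
    obtain ⟨ρ, hρ⟩ := (Submodule.mem_span_range_iff_exists_fun (R ⧸ J)).mp he
    choose α hα using fun i => Ideal.Quotient.mk_surjective (ρ i)
    refine ⟨e, α, ?_⟩
    have h2 : J.toCotangent (g₀ ^ e • (⟨y l, hyJ l⟩ : J) - ∑ i, α i • j i) = 0 := by
      rw [map_sub, map_sum, sub_eq_zero, map_smul, ← algebraMap_smul (R ⧸ J) (g₀ ^ e),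
        Ideal.Quotient.algebraMap_eq, map_pow, ← hρ]
      refine Finset.sum_congr rfl fun i _ => ?_
      rw [map_smul, ← hα i, ← Ideal.Quotient.algebraMap_eq, algebraMap_smul]
    have h3 := (Ideal.toCotangent_eq_zero _ _).mp h2
    simpa [Submodule.coe_sum] using h3
  choose e α hα using h1
  set E₀ := ∑ l, e l with hE₀
  have hle : ∀ l, e l ≤ E₀ := fun l => Finset.single_le_sum (fun _ _ => Nat.zero_le _)
    (Finset.mem_univ l)
  set J₀ : Ideal R := Ideal.span (Set.range fun i => (j i : R)) with hJ₀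
  have hJ2 : J ^ 2 = J • Submodule.span R (Set.range y) := by
    rw [hy, pow_two]; rfl
  have h2 : ∀ l, ∃ β : Fin s → R, (∀ k, β k ∈ J) ∧ g₀ ^ E₀ * y l - ∑ k, β k * y k ∈ J₀ := by
    intro l
    have h3 : g₀ ^ E₀ * y l - ∑ i, (g₀ ^ (E₀ - e l) * α l i) * (j i : R) ∈ J ^ 2 := by
      have e1 : g₀ ^ E₀ * y l - ∑ i, (g₀ ^ (E₀ - e l) * α l i) * (j i : R) =
          g₀ ^ (E₀ - e l) * (g₀ ^ e l * y l - ∑ i, α l i * (j i : R)) := by
        have : g₀ ^ E₀ = g₀ ^ (E₀ - e l) * g₀ ^ e l := by
          rw [← pow_add, Nat.sub_add_cancel (hle l)]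
        rw [this, mul_sub, Finset.mul_sum]
        congr 1
        · ring
        · exact Finset.sum_congr rfl fun i _ => by ring
      rw [e1]
      exact Ideal.mul_mem_left _ _ (hα l)
    rw [hJ2] at h3
    obtain ⟨a, ha, hsum⟩ := (Submodule.mem_ideal_smul_span_iff_exists_sum J y _).mp h3
    rw [Finsupp.sum_fintype a (fun i c => c • y i) (fun i => zero_smul _ _)] at hsum
    refine ⟨fun k => a k, ha, ?_⟩
    have e2 : g₀ ^ E₀ * y l - ∑ k, a k * y k =
        ∑ i, (g₀ ^ (E₀ - e l) * α l i) * (j i : R) := by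
      have : ∑ k, a k * y k = g₀ ^ E₀ * y l - ∑ i, (g₀ ^ (E₀ - e l) * α l i) * (j i : R) := by
        rw [← hsum]
        exact Finset.sum_congr rfl fun k _ => by rw [smul_eq_mul]
      rw [this]; ring
    rw [e2]
    exact Ideal.sum_mem _ fun i _ => Ideal.mul_mem_left _ _ (Ideal.subset_span ⟨i, rfl⟩)
  obtain ⟨v, hv1, hv2⟩ := exists_mul_le_of_generators J J₀ g₀ E₀ y hy h2
  exact ⟨E₀ * s, v, hv1, hv2⟩

section Coeff

variable {ι : Type u} [Fintype ι] [Nonempty ι]

omit [Nonempty ι] in
/-- The key step: injectivity of `Sym^n(J/J²) → J^n/J^(n+1)` gives quasi-regularity in degree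
`n ≥ 1`. -/
theorem coeff_mem_of_injective
    (φ : Sym[R] ι J.Cotangent →ₗ[R] PP16.grJ R J (Fintype.card ι))
    (hφ : ∀ x : ι → J, φ (SymmetricPower.tprod R (fun i => J.toCotangent (x i))) =
        PP16.zetaJ R J x) (hinj : Function.Injective φ)
    (g : R) {r : ℕ} (j : Fin r → J) (b : J.Cotangent →ₗ[R ⧸ J] (Fin r → R ⧸ J)) (N : ℕ)
    (hba : ∀ i, b (J.toCotangent (j i)) =
      (Ideal.Quotient.mk J g) ^ N • (Pi.single i 1 : Fin r → R ⧸ J))
    (P' : MvPolynomial (Fin r) (Localization.Away g)) (hP' : P'.IsHomogeneous (Fintype.card ι))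
    (hev : eval (fun i => algebraMap R (Localization.Away g) (j i)) P' ∈
      (J.map (algebraMap R (Localization.Away g))) ^ (Fintype.card ι + 1))
    (d : Fin r →₀ ℕ) : coeff d P' ∈ J.map (algebraMap R (Localization.Away g)) := by
  classical
  set A := Localization.Away g with hA
  set f : Fin r → A := fun i => algebraMap R A (j i) with hf
  by_cases hd : d ∈ P'.support; swap
  · rw [notMem_support_iff.mp hd]; exact zero_mem _
  obtain ⟨bb, hbb⟩ := IsLocalization.exist_integer_multiples_of_finite (Submonoid.powers g)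
    (fun d : ↥P'.support => coeff (d : Fin r →₀ ℕ) P')
  choose c hc using hbb
  have hdeg : ∀ d : ↥P'.support, ((d : Fin r →₀ ℕ).sum fun _ e => e) = Fintype.card ι :=
    fun d => (isHomogeneous_iff P' _).mp hP' d.1 (mem_support_iff.mp d.2)
  have hw : ∀ d : ↥P'.support, ∃ σ : ι → Fin r, ∀ (M : Type u) [CommMonoid M] (f : Fin r → M),
      ∏ k, f (σ k) = ∏ i, f i ^ (d : Fin r →₀ ℕ) i :=
    fun d => exists_word d.1 ι (hdeg d)
  choose σ hσ using hw
  -- the evaluation
  set E₀ : R := ∑ d : ↥P'.support, c d * ∏ k, (j (σ d k) : R) with hE₀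
  have hE₀' : algebraMap R A E₀ = (bb : R) • eval f P' := by
    rw [eval_eq', Finset.smul_sum, hE₀, map_sum, ← Finset.sum_coe_sort P'.support]
    refine Finset.sum_congr rfl fun d _ => ?_
    rw [map_mul, hc d, map_prod, hσ d A f, smul_mul_assoc]
  obtain ⟨m', hm', hmE⟩ : ∃ m' ∈ Submonoid.powers g, m' * E₀ ∈ J ^ (Fintype.card ι + 1) := by
    have : algebraMap R A E₀ ∈ (J ^ (Fintype.card ι + 1)).map (algebraMap R A) := by
      rw [hE₀', Ideal.map_pow, Algebra.smul_def]
      exact Ideal.mul_mem_left _ _ hev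
    exact (IsLocalization.algebraMap_mem_map_algebraMap_iff (Submonoid.powers g) _ _ _).mp this
  -- the symmetric tensor
  set x : Sym[R] ι J.Cotangent := ∑ d : ↥P'.support,
    (m' * c d) • SymmetricPower.tprod R (fun k => J.toCotangent (j (σ d k))) with hx
  have hφx : φ x = 0 := by
    have hmem : ∀ d : ↥P'.support, ∏ k, (j (σ d k) : R) ∈ J ^ Fintype.card ι := fun d => by
      simpa using PP16.prod_mem_pow J Finset.univ (fun k => (j (σ d k) : R))
        (fun k _ => (j (σ d k)).2)
    have h1 : φ x = (Submodule.comap (J ^ Fintype.card ι).subtype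
        (J ^ (Fintype.card ι + 1))).mkQ (∑ d : ↥P'.support,
          (m' * c d) • (⟨∏ k, (j (σ d k) : R), hmem d⟩ : ↥(J ^ Fintype.card ι))) := by
      rw [hx, map_sum, map_sum]
      refine Finset.sum_congr rfl fun d _ => ?_
      rw [map_smul, map_smul, hφ (fun k => j (σ d k))]
      rfl
    rw [h1, Submodule.mkQ_apply, Submodule.Quotient.mk_eq_zero, Submodule.mem_comap]
    have h2 : ((J ^ Fintype.card ι).subtype (∑ d : ↥P'.support,
        (m' * c d) • (⟨∏ k, (j (σ d k) : R), hmem d⟩ : ↥(J ^ Fintype.card ι)))) = m' * E₀ := by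
      rw [map_sum, hE₀, Finset.mul_sum]
      refine Finset.sum_congr rfl fun d _ => ?_
      rw [map_smul, Submodule.subtype_apply, smul_eq_mul, mul_assoc]
    rw [h2]; exact hmE
  have hx0 : x = 0 := hinj (by rw [hφx, map_zero])
  have hTb : Tb J b x = 0 := by rw [hx0, map_zero]
  have hTbx : Tb J b x = ∑ d : ↥P'.support,
      monomial (d : Fin r →₀ ℕ) (Ideal.Quotient.mk J (m' * c d * g ^ (N * Fintype.card ι))) := by
    rw [hx, map_sum]
    refine Finset.sum_congr rfl fun d _ => ?_
    rw [Tb_smul, Tb_word J b g j N hba (σ d), hσ d (MvPolynomial (Fin r) (R ⧸ J)) (fun i => X i),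
      smul_eq_C_mul, ← mul_assoc, ← map_mul C, ← map_pow, ← map_mul, monomial_eq,
      Finsupp.prod_fintype _ _ (fun i => pow_zero _)]
  have hcoef := congrArg (coeff d) hTb
  rw [hTbx, coeff_sum, coeff_zero] at hcoef
  simp only [coeff_monomial] at hcoef
  rw [Finset.sum_eq_single (⟨d, hd⟩ : ↥P'.support)
    (fun d' _ hne => if_neg (fun h => hne (Subtype.ext h)))
    (fun h => absurd (Finset.mem_univ _) h), if_pos rfl, Ideal.Quotient.eq_zero_iff_mem] at hcoef
  have h1 : algebraMap R A (c ⟨d, hd⟩) ∈ J.map (algebraMap R A) := by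
    rw [IsLocalization.algebraMap_mem_map_algebraMap_iff (Submonoid.powers g)]
    refine ⟨m' * g ^ (N * Fintype.card ι), Submonoid.mul_mem _ hm' ⟨_, rfl⟩, ?_⟩
    have e1 : m' * g ^ (N * Fintype.card ι) * c ⟨d, hd⟩ =
        m' * c ⟨d, hd⟩ * g ^ (N * Fintype.card ι) := by ring
    rw [e1]; exact hcoef
  rw [hc ⟨d, hd⟩, Algebra.smul_def] at h1
  exact (Ideal.unit_mul_mem_iff_mem _ (IsLocalization.map_units A bb)).mp h1

end Coeff

/-- Quasi-regularity of local generators whose classes form a local basis of `J/J²`. -/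
theorem isQuasiRegular_of_symGr (hsym : PP16.SymGrBijective R J)
    [Module.Finite (R ⧸ J) J.Cotangent] [Module.Projective (R ⧸ J) J.Cotangent]
    (g : R) {r : ℕ} (j : Fin r → J)
    (hm : IsLocBasis (Submonoid.powers (Ideal.Quotient.mk J g)) (fun i => J.toCotangent (j i)))
    (hspan : Ideal.span (Set.range fun i => algebraMap R (Localization.Away g) (j i)) =
      J.map (algebraMap R (Localization.Away g))) :
    CAlgX.IsQuasiRegular (fun i => algebraMap R (Localization.Away g) (j i)) := by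
  classical
  obtain ⟨N, b, hab, hba⟩ := exists_ab (Ideal.Quotient.mk J g) _ hm
  intro n P' hP' hev d
  rw [hspan] at hev ⊢
  rcases Nat.eq_zero_or_pos n with rfl | hn
  · -- degree 0
    by_cases hP0 : P' = 0
    · rw [hP0, coeff_zero]; exact zero_mem _
    · have htd := hP'.totalDegree hP0
      have hC := totalDegree_eq_zero_iff_eq_C.mp htd
      generalize coeff 0 P' = a at hC
      subst hC
      rw [eval_C, zero_add, pow_one] at hev
      rw [coeff_C]
      split_ifs
      · exact hev
      · exact zero_mem _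
  · -- degree ≥ 1
    haveI : Nonempty (ULift.{u} (Fin n)) := ⟨⟨⟨0, hn⟩⟩⟩
    have hcard : Fintype.card (ULift.{u} (Fin n)) = n := by simp
    obtain ⟨φ, hφ, hbij⟩ := hsym (ULift.{u} (Fin n))
    rw [← hcard] at hP' hev
    exact coeff_mem_of_injective φ hφ hbij.1 g j b N hba P' hP' hev d

/-- **(⇐)**: a finitely generated ideal with projective conormal module and `Sym ≅ gr` is locally
generated by quasi-regular sequences. -/
theorem isLocallyQuasiRegular_of (hfg : J.FG) (hproj : Module.Projective (R ⧸ J) J.Cotangent)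
    (hsym : PP16.SymGrBijective R J) : PP16.IsLocallyQuasiRegular R J := by
  intro P _ hJP
  haveI : Module.Finite R J := Module.Finite.iff_fg.mpr hfg
  haveI : Module.Finite R J.Cotangent :=
    Module.Finite.of_surjective J.toCotangent J.toCotangent_surjective
  haveI : Module.Finite (R ⧸ J) J.Cotangent :=
    Module.Finite.of_restrictScalars_finite R (R ⧸ J) J.Cotangent
  have hker : RingHom.ker (Ideal.Quotient.mk J) ≤ P := by rw [Ideal.mk_ker]; exact hJP
  haveI : (P.map (Ideal.Quotient.mk J)).IsPrime :=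
    Ideal.map_isPrime_of_surjective Ideal.Quotient.mk_surjective hker
  obtain ⟨t, ht, r, m, hm⟩ :=
    exists_isLocBasis_of_projective (M := J.Cotangent) (P.map (Ideal.Quotient.mk J))
  obtain ⟨g₀, rfl⟩ := Ideal.Quotient.mk_surjective t
  have hg₀ : g₀ ∉ P := fun h => ht (Ideal.mem_map_of_mem _ h)
  choose j hj using fun i => J.toCotangent_surjective (m i)
  have hm' : IsLocBasis (Submonoid.powers (Ideal.Quotient.mk J g₀))
      (fun i => J.toCotangent (j i)) := by
    have : (fun i => J.toCotangent (j i)) = m := funext hj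
    rw [this]; exact hm
  obtain ⟨E, v, hvE, hvJ⟩ := exists_local_generators hfg g₀ j (fun x => by
    obtain ⟨_, ⟨e, rfl⟩, hx⟩ := hm'.span x
    exact ⟨e, hx⟩)
  have hv : v ∉ P := by
    intro h
    apply hg₀
    apply Ideal.IsPrime.mem_of_pow_mem inferInstance E
    have := sub_mem h (hJP hvE)
    simpa using this
  have hspan : Ideal.span (Set.range fun i =>
      algebraMap R (Localization.Away (g₀ * v)) (j i)) =
        J.map (algebraMap R (Localization.Away (g₀ * v))) := by
    apply le_antisymm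
    · rw [Ideal.span_le]
      rintro _ ⟨i, rfl⟩
      exact Ideal.mem_map_of_mem _ (j i).2
    · rw [Ideal.map_le_iff_le_comap]
      intro x hx
      rw [Ideal.mem_comap]
      have h2 := Ideal.mem_map_of_mem (algebraMap R (Localization.Away (g₀ * v))) (hvJ x hx)
      rw [Ideal.map_span, ← Set.range_comp] at h2
      have hu : IsUnit (algebraMap R (Localization.Away (g₀ * v)) v) :=
        isUnit_of_mul_isUnit_right (by
          rw [← map_mul]; exact IsLocalization.Away.algebraMap_isUnit (g₀ * v))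
      rw [map_mul] at h2
      exact (Ideal.unit_mul_mem_iff_mem _ hu).mp h2
  have hm'' : IsLocBasis (Submonoid.powers (Ideal.Quotient.mk J (g₀ * v)))
      (fun i => J.toCotangent (j i)) := by
    rw [map_mul]; exact isLocBasis_mul_right _ hm'
  exact ⟨g₀ * v, fun h => (Ideal.IsPrime.mem_or_mem inferInstance h).elim hg₀ hv, r,
    fun i => algebraMap R (Localization.Away (g₀ * v)) (j i),
    isQuasiRegular_of_symGr hsym (g₀ * v) j hm'' hspan, hspan⟩

end Groth.Agent.H80.QReg
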