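import Groth.Agent.H80.DiffSmBC4
import Groth.Agent.H91.SymCompare
import Groth.Agent.H91.AdicGrBij

/-!
# The diagonal ideal: `Sym_B^n Ω_{B/A}` versus `Sym_{B⊗B}^n (I/I²)`
-/

set_option autoImplicit false

namespace Groth.Agent.H80.QRegDiag

open TensorProduct Groth.Agent.H91 Groth.Agent.H91.SymGr Groth.Agent.H80.DiffSm PP16

universe u

variable (A B : Type u) [CommRing A] [CommRing B] [Algebra A B]

/-- The multiplication map as a `B`-algebra map. -/
noncomputable abbrev sig : B ⊗[A] B →ₐ[B] B := Algebra.TensorProduct.lmul'' A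

lemma mem_ideal_iff (x : B ⊗[A] B) : x ∈ KaehlerDifferential.ideal A B ↔ sig A B x = 0 := Iff.rfl

lemma sub_mem_ideal (s : B ⊗[A] B) :
    s - algebraMap B (B ⊗[A] B) (sig A B s) ∈ KaehlerDifferential.ideal A B := by
  rw [mem_ideal_iff, map_sub, AlgHom.commutes, Algebra.algebraMap_self_apply, sub_self]

lemma smul_cot (s : B ⊗[A] B) (m : (KaehlerDifferential.ideal A B).Cotangent) :
    s • m = algebraMap B (B ⊗[A] B) (sig A B s) • m := by
  have h := Ideal.Cotangent.smul_eq_zero_of_mem (sub_mem_ideal A B s) m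
  rw [sub_smul, sub_eq_zero] at h
  exact h

lemma smul_omega (s : B ⊗[A] B) (m : Ω[B⁄A]) : s • m = sig A B s • m := by
  have h := smul_cot A B s m
  rw [algebraMap_smul] at h
  exact h

/-- The identity `Ω_{B/A} → I/I²`, `B`-linear. -/
noncomputable def kap : Ω[B⁄A] →ₗ[B] (KaehlerDifferential.ideal A B).Cotangent where
  toFun x := x
  map_add' _ _ := rfl
  map_smul' _ _ := rfl

lemma kap_qB (x : ↥((KaehlerDifferential.ideal A B).restrictScalars B)) :
    kap A B (qB A B x) = (KaehlerDifferential.ideal A B).toCotangent ⟨x.1, x.2⟩ := rfl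

variable {ι : Type u}

/-- The comparison `Sym_B^ι Ω → Sym_{B⊗B}^ι (I/I²)`. -/
noncomputable def theta :
    Sym[B] ι Ω[B⁄A] →+ Sym[B ⊗[A] B] ι (KaehlerDifferential.ideal A B).Cotangent :=
  symComp (R' := B ⊗[A] B) (kap A B)

lemma theta_tprod (m : ι → Ω[B⁄A]) :
    theta A B (SymmetricPower.tprod B m) =
      SymmetricPower.tprod (B ⊗[A] B) (fun i => kap A B (m i)) :=
  symComp_tprod _ m

lemma theta_smul (b : B) (x : Sym[B] ι Ω[B⁄A]) :
    theta A B (b • x) = algebraMap B (B ⊗[A] B) b • theta A B x :=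
  symComp_smul _ b x

/-- The retraction `Sym_{B⊗B}^ι (I/I²) → Sym_B^ι Ω`. -/
noncomputable def rho :
    Sym[B ⊗[A] B] ι (KaehlerDifferential.ideal A B).Cotangent →+ Sym[B] ι Ω[B⁄A] :=
  letI : Module (B ⊗[A] B) (Sym[B] ι Ω[B⁄A]) := Module.compHom _ (sig A B : B ⊗[A] B →+* B)
  (SymPow.lift
    ({ toFun := fun m => SymmetricPower.tprod B (fun i => (m i : Ω[B⁄A]))
       map_update_add' := fun m i x y => by
        exact (SymmetricPower.tprod B (M := Ω[B⁄A])).map_update_add m i x y
       map_update_smul' := fun m i s x => by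
        have h1 : s • x = sig A B s • (x : Ω[B⁄A]) := smul_omega A B s x
        rw [h1]
        exact (SymmetricPower.tprod B (M := Ω[B⁄A])).map_update_smul m i _ x } :
      MultilinearMap (B ⊗[A] B) (fun _ : ι => (KaehlerDifferential.ideal A B).Cotangent)
        (Sym[B] ι Ω[B⁄A]))
    (fun e m => SymmetricPower.tprod_equiv (R := B) (M := Ω[B⁄A]) e m)).toAddMonoidHom

lemma rho_tprod (m : ι → (KaehlerDifferential.ideal A B).Cotangent) :
    rho A B (SymmetricPower.tprod (B ⊗[A] B) m) =
      SymmetricPower.tprod B (fun i => (m i : Ω[B⁄A])) := by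
  letI : Module (B ⊗[A] B) (Sym[B] ι Ω[B⁄A]) := Module.compHom _ (sig A B : B ⊗[A] B →+* B)
  simp only [rho, LinearMap.toAddMonoidHom_coe, SymPow.lift_tprod]
  rfl

lemma rho_smul (s : B ⊗[A] B) (z : Sym[B ⊗[A] B] ι (KaehlerDifferential.ideal A B).Cotangent) :
    rho A B (s • z) = sig A B s • rho A B z := by
  letI : Module (B ⊗[A] B) (Sym[B] ι Ω[B⁄A]) := Module.compHom _ (sig A B : B ⊗[A] B →+* B)
  simp only [rho, LinearMap.toAddMonoidHom_coe, map_smul]
  rfl

lemma rho_theta (x : Sym[B] ι Ω[B⁄A]) : rho A B (theta A B x) = x := by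
  have hx : x ∈ Submodule.span B (Set.range (SymmetricPower.tprod B (ι := ι) (M := Ω[B⁄A]))) := by
    rw [SymmetricPower.span_tprod_eq_top]; trivial
  induction hx using Submodule.span_induction with
  | mem x hx =>
    obtain ⟨m, rfl⟩ := hx
    rw [theta_tprod, rho_tprod]
    rfl
  | zero => rw [map_zero, map_zero]
  | add a b _ _ ha hb => rw [map_add, map_add, ha, hb]
  | smul b a _ ha =>
    rw [theta_smul, rho_smul, ha, AlgHom.commutes, Algebra.algebraMap_self_apply]

lemma theta_injective : Function.Injective (theta (ι := ι) A B) :=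
  Function.LeftInverse.injective (rho_theta A B)

lemma theta_surjective [Nonempty ι] : Function.Surjective (theta (ι := ι) A B) := by
  intro z
  have hz : z ∈ Submodule.span (B ⊗[A] B) (Set.range (SymmetricPower.tprod (B ⊗[A] B) (ι := ι)
      (M := (KaehlerDifferential.ideal A B).Cotangent))) := by
    rw [SymmetricPower.span_tprod_eq_top]; trivial
  induction hz using Submodule.span_induction with
  | mem z hz =>
    obtain ⟨m, rfl⟩ := hz
    exact ⟨SymmetricPower.tprod B (fun i => (m i : Ω[B⁄A])), by rw [theta_tprod]; rfl⟩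
  | zero => exact ⟨0, map_zero _⟩
  | add a b _ _ ha hb =>
    obtain ⟨a', rfl⟩ := ha
    obtain ⟨b', rfl⟩ := hb
    exact ⟨a' + b', map_add _ _ _⟩
  | smul s a _ ha =>
    obtain ⟨a', rfl⟩ := ha
    refine ⟨sig A B s • a', ?_⟩
    rw [theta_smul]
    have h0 := SymCompare.isTorsionBySet (ι := ι)
      (M := (KaehlerDifferential.ideal A B).Cotangent) (KaehlerDifferential.ideal A B)
      (x := theta A B a') (a := ⟨_, sub_mem_ideal A B s⟩)
    have h1 : (s - algebraMap B (B ⊗[A] B) (sig A B s)) • theta A B a' = 0 := h0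
    rw [sub_smul, sub_eq_zero] at h1
    exact h1.symm

end Groth.Agent.H80.QRegDiag
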