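import Groth.Agent.H80.QRegDiag1
import Groth.Agent.S3826

/-!
# Differential smoothness versus quasi-regularity of the diagonal
-/

set_option autoImplicit false

namespace Groth.Agent.H80.QRegDiag

open TensorProduct Groth.Agent.H91 Groth.Agent.H91.SymGr Groth.Agent.H80.DiffSm PP16

universe u

variable (A B : Type u) [CommRing A] [CommRing B] [Algebra A B]

variable {ι : Type u} [Fintype ι]

section Key

variable (φB : Sym[B] ι Ω[B⁄A] →ₗ[B] gr B (KaehlerDifferential.ideal A B) (Fintype.card ι))
  (hφB : ∀ x : ι → ↥((KaehlerDifferential.ideal A B).restrictScalars B),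
    φB (SymmetricPower.tprod B (fun i => qB A B (x i))) = prodI (KaehlerDifferential.ideal A B) x)
  (φS : Sym[B ⊗[A] B] ι (KaehlerDifferential.ideal A B).Cotangent →ₗ[B ⊗[A] B]
    PP16.grJ (B ⊗[A] B) (KaehlerDifferential.ideal A B) (Fintype.card ι))
  (hφS : ∀ x : ι → ↥(KaehlerDifferential.ideal A B),
    φS (SymmetricPower.tprod (B ⊗[A] B)
      (fun i => (KaehlerDifferential.ideal A B).toCotangent (x i))) =
        PP16.zetaJ (B ⊗[A] B) (KaehlerDifferential.ideal A B) x)

include hφB hφS in
theorem key (x : Sym[B] ι Ω[B⁄A]) :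
    ∀ (y : B ⊗[A] B) (hy : y ∈ KaehlerDifferential.ideal A B ^ Fintype.card ι),
      φB x = Submodule.Quotient.mk ⟨y, hy⟩ → φS (theta A B x) = Submodule.Quotient.mk ⟨y, hy⟩ := by
  have hx : x ∈ Submodule.span B (Set.range (SymmetricPower.tprod B (ι := ι) (M := Ω[B⁄A]))) := by
    rw [SymmetricPower.span_tprod_eq_top]; trivial
  have hq : Function.Surjective (qB A B) := KaehlerDifferential.fromIdeal_surjective A B
  induction hx using Submodule.span_induction with
  | mem x hx =>
    obtain ⟨m, rfl⟩ := hx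
    intro y hy hxy
    choose z hz using fun i => hq (m i)
    have h2 : m = fun i => qB A B (z i) := by funext i; rw [hz]
    rw [h2, hφB, prodI_apply, Submodule.Quotient.eq] at hxy
    have h3 : (∏ i, (z i : B ⊗[A] B)) - y ∈
        KaehlerDifferential.ideal A B ^ (Fintype.card ι + 1) := hxy
    rw [theta_tprod, h2]
    have h4 := hφS (fun i => ⟨(z i).1, (z i).2⟩)
    have h5 : (fun i => kap A B (qB A B (z i))) =
        fun i => (KaehlerDifferential.ideal A B).toCotangent ⟨(z i).1, (z i).2⟩ := rfl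
    rw [h5, h4]
    unfold PP16.zetaJ
    rw [Submodule.Quotient.eq]
    exact h3
  | zero =>
    intro y hy hxy
    rw [map_zero] at hxy ⊢
    have h1 : y ∈ KaehlerDifferential.ideal A B ^ (Fintype.card ι + 1) := by
      have := (Submodule.Quotient.mk_eq_zero _).mp hxy.symm
      exact this
    rw [map_zero]
    symm
    rw [Submodule.Quotient.mk_eq_zero]
    exact h1
  | add x₁ x₂ _ _ h₁ h₂ =>
    intro y hy hxy
    obtain ⟨⟨y₁, hy₁⟩, hy₁'⟩ := Submodule.Quotient.mk_surjective _ (φB x₁)
    have hy₂ : y - y₁ ∈ KaehlerDifferential.ideal A B ^ Fintype.card ι := sub_mem hy hy₁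
    have hx₂ : φB x₂ = Submodule.Quotient.mk ⟨y - y₁, hy₂⟩ := by
      have e1 : φB x₂ = φB (x₁ + x₂) - φB x₁ := by rw [map_add]; abel
      rw [e1, hxy, ← hy₁', ← Submodule.Quotient.mk_sub]
      rfl
    rw [map_add, map_add, h₁ y₁ hy₁ hy₁'.symm, h₂ (y - y₁) hy₂ hx₂, ← Submodule.Quotient.mk_add]
    congr 1
    apply Subtype.ext
    simp
  | smul b x₁ _ h₁ =>
    intro y hy hxy
    obtain ⟨⟨y₁, hy₁⟩, hy₁'⟩ := Submodule.Quotient.mk_surjective _ (φB x₁)
    have h3 : b • y₁ - y ∈ KaehlerDifferential.ideal A B ^ (Fintype.card ι + 1) := by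
      rw [map_smul, ← hy₁', ← Submodule.Quotient.mk_smul, Submodule.Quotient.eq] at hxy
      exact hxy
    rw [theta_smul, map_smul, h₁ y₁ hy₁ hy₁'.symm, ← Submodule.Quotient.mk_smul,
      Submodule.Quotient.eq]
    have h4 : algebraMap B (B ⊗[A] B) b * y₁ - y ∈
        KaehlerDifferential.ideal A B ^ (Fintype.card ι + 1) := by
      rw [← Algebra.smul_def]; exact h3
    exact h4

include hφB hφS in
theorem phiB_eq_zero_iff (x : Sym[B] ι Ω[B⁄A]) : φB x = 0 ↔ φS (theta A B x) = 0 := by
  constructor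
  · intro h
    have := key A B φB hφB φS hφS x 0 (zero_mem _) (by rw [h]; rfl)
    rw [this]; rfl
  · intro h
    obtain ⟨⟨y, hy⟩, hy'⟩ := Submodule.Quotient.mk_surjective _ (φB x)
    have h1 := key A B φB hφB φS hφS x y hy hy'.symm
    rw [h] at h1
    have h2 : y ∈ KaehlerDifferential.ideal A B ^ (Fintype.card ι + 1) := by
      have := (Submodule.Quotient.mk_eq_zero _).mp h1.symm
      exact this
    rw [← hy', Submodule.Quotient.mk_eq_zero]
    exact h2

include hφB hφS in
theorem injective_phiS_of_injective_phiB [Nonempty ι] (h : Function.Injective φB) :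
    Function.Injective φS := by
  rw [injective_iff_map_eq_zero]
  intro z hz
  obtain ⟨x, rfl⟩ := theta_surjective A B z
  have := (phiB_eq_zero_iff A B φB hφB φS hφS x).mpr hz
  rw [h (this.trans (map_zero φB).symm), map_zero]

include hφB hφS in
theorem injective_phiB_of_injective_phiS (h : Function.Injective φS) :
    Function.Injective φB := by
  rw [injective_iff_map_eq_zero]
  intro x hx
  have := (phiB_eq_zero_iff A B φB hφB φS hφS x).mp hx
  exact theta_injective A B (by rw [h (this.trans (map_zero φS).symm), map_zero])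

end Key

end Groth.Agent.H80.QRegDiag
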