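import Groth.Agent.H80.QRegDiag2

/-!
# Differential smoothness ⟺ the diagonal ideal is locally quasi-regular
-/

set_option autoImplicit false

namespace Groth.Agent.H80.QRegDiag

open TensorProduct Groth.Agent.H91 Groth.Agent.H91.SymGr Groth.Agent.H80.DiffSm PP16

universe u

variable (A B : Type u) [CommRing A] [CommRing B] [Algebra A B]

section Proj

lemma lmul'_surjective :
    Function.Surjective (Algebra.TensorProduct.lmul' A : B ⊗[A] B →ₐ[A] B) := fun b =>
  ⟨b ⊗ₜ 1, by simp⟩

/-- `(B ⊗ B)/I ≃ B`. -/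
noncomputable def eQuot : ((B ⊗[A] B) ⧸ KaehlerDifferential.ideal A B) ≃+* B :=
  (Ideal.quotientKerAlgEquivOfSurjective (lmul'_surjective A B)).toRingEquiv

lemma eQuot_mk (s : B ⊗[A] B) : eQuot A B (Ideal.Quotient.mk _ s) = sig A B s :=
  Ideal.quotientKerAlgEquivOfSurjective_mk (lmul'_surjective A B) s

/-- `(B ⊗ B)/I → B` as a ring hom. -/
noncomputable abbrev e1 : ((B ⊗[A] B) ⧸ KaehlerDifferential.ideal A B) →+* B :=
  (eQuot A B).toRingHom

/-- `B → (B ⊗ B)/I` as a ring hom. -/
noncomputable abbrev e2 : B →+* ((B ⊗[A] B) ⧸ KaehlerDifferential.ideal A B) :=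
  (eQuot A B).symm.toRingHom

instance : RingHomInvPair (e1 A B) (e2 A B) := RingHomInvPair.of_ringEquiv (eQuot A B)

instance : RingHomInvPair (e2 A B) (e1 A B) := RingHomInvPair.of_ringEquiv_symm (eQuot A B)

/-- The identity `I/I² → Ω`, semilinear over `(B ⊗ B)/I ≃ B`. -/
noncomputable def cotEquiv :
    (KaehlerDifferential.ideal A B).Cotangent ≃ₛₗ[e1 A B] Ω[B⁄A] where
  toFun x := x
  map_add' _ _ := rfl
  map_smul' q x := by
    obtain ⟨s, rfl⟩ := Ideal.Quotient.mk_surjective q
    have h1 : (Ideal.Quotient.mk (KaehlerDifferential.ideal A B) s) • x = s • x := by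
      rw [← Ideal.Quotient.algebraMap_eq, algebraMap_smul]
    have h2 : e1 A B (Ideal.Quotient.mk _ s) = sig A B s := eQuot_mk A B s
    rw [h1, h2]
    exact smul_omega A B s x
  invFun x := x
  left_inv _ := rfl
  right_inv _ := rfl

theorem projective_omega_of_cot
    (h : Module.Projective ((B ⊗[A] B) ⧸ KaehlerDifferential.ideal A B)
      (KaehlerDifferential.ideal A B).Cotangent) : Module.Projective B Ω[B⁄A] :=
  Module.Projective.of_equiv (σ := e1 A B) (σ' := e2 A B) (cotEquiv A B)

theorem projective_cot_of_omega (h : Module.Projective B Ω[B⁄A]) :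
    Module.Projective ((B ⊗[A] B) ⧸ KaehlerDifferential.ideal A B)
      (KaehlerDifferential.ideal A B).Cotangent :=
  Module.Projective.of_equiv (σ := e2 A B) (σ' := e1 A B) (cotEquiv A B).symm

end Proj

section Empty

variable {ι : Type u} [Fintype ι]

theorem injective_phiB_of_isEmpty [IsEmpty ι]
    (φB : Sym[B] ι Ω[B⁄A] →ₗ[B] gr B (KaehlerDifferential.ideal A B) (Fintype.card ι))
    (hφB : ∀ x : ι → ↥((KaehlerDifferential.ideal A B).restrictScalars B),
      φB (SymmetricPower.tprod B (fun i => qB A B (x i))) =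
        prodI (KaehlerDifferential.ideal A B) x) : Function.Injective φB := by
  rw [injective_iff_map_eq_zero]
  intro x hx
  have hx' : x ∈ Submodule.span B (Set.range (SymmetricPower.tprod B (ι := ι) (M := Ω[B⁄A]))) := by
    rw [SymmetricPower.span_tprod_eq_top]; trivial
  set x₀ : ι → ↥((KaehlerDifferential.ideal A B).restrictScalars B) := fun i => isEmptyElim i
    with hx₀
  have hr : Set.range (SymmetricPower.tprod B (ι := ι) (M := Ω[B⁄A])) =
      {SymmetricPower.tprod B (fun i => qB A B (x₀ i))} := by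
    ext y
    constructor
    · rintro ⟨m, rfl⟩
      rw [Set.mem_singleton_iff]
      congr 1
      funext i
      exact isEmptyElim i
    · rintro rfl
      exact ⟨_, rfl⟩
  rw [hr, Submodule.mem_span_singleton] at hx'
  obtain ⟨b, rfl⟩ := hx'
  rw [map_smul, hφB, prodI_apply, ← Submodule.Quotient.mk_smul,
    Submodule.Quotient.mk_eq_zero] at hx
  have h2 : b • (∏ i, ((x₀ i : ↥((KaehlerDifferential.ideal A B).restrictScalars B)) :
      B ⊗[A] B)) ∈ KaehlerDifferential.ideal A B ^ (Fintype.card ι + 1) := hx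
  rw [Finset.univ_eq_empty, Finset.prod_empty, Fintype.card_eq_zero, zero_add, pow_one,
    Algebra.smul_def, mul_one, mem_ideal_iff, AlgHom.commutes,
    Algebra.algebraMap_self_apply] at h2
  rw [h2, zero_smul]

end Empty

theorem main [Algebra.FiniteType A B] :
    PP16.IsDiffSmooth A B ↔
      PP16.IsLocallyQuasiRegular (B ⊗[A] B) (KaehlerDifferential.ideal A B) := by
  rw [Groth.Agent.S3826.result]
  constructor
  · intro h
    refine ⟨KaehlerDifferential.ideal_fg A B, projective_cot_of_omega A B h.1, ?_⟩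
    intro ι _ _
    obtain ⟨φS, hφS⟩ := AdicSmooth.exists_phi_J (KaehlerDifferential.ideal A B) (ι := ι)
    obtain ⟨φB, hφB, hbij⟩ := general_of_isDiffSmooth A B h ι
    exact ⟨φS, hφS, injective_phiS_of_injective_phiB A B φB hφB φS hφS hbij.1,
      AdicSmooth.phi_J_surjective _ φS hφS⟩
  · rintro ⟨-, hproj, hsym⟩
    refine ⟨projective_omega_of_cot A B hproj, ?_⟩
    intro ι _
    have hI : ∀ x, x ∈ KaehlerDifferential.ideal A B ↔ sig A B x = 0 := fun x => Iff.rfl
    have hq : Function.Surjective (qB A B) := KaehlerDifferential.fromIdeal_surjective A B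
    have hq0 : ∀ x, qB A B x = 0 ↔ (x : B ⊗[A] B) ∈ KaehlerDifferential.ideal A B ^ 2 :=
      fun x => Ideal.toCotangent_eq_zero _ x
    obtain ⟨φB, hφB⟩ := SymGr.exists_phi (ι := ι) (KaehlerDifferential.ideal A B) (qB A B) hq hq0
    have hinj : Function.Injective φB := by
      rcases isEmpty_or_nonempty ι with hι | hι
      · exact injective_phiB_of_isEmpty A B φB hφB
      · obtain ⟨φS, hφS, hbijS⟩ := hsym ι
        exact injective_phiB_of_injective_phiS A B φB hφB φS hφS hbijS.1
    exact ⟨φB, fun b => hφB (fun i => gen A B (b i)), hinj,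
      SymGr.phi_surjective (sig A B) _ hI (qB A B) φB hφB⟩

end Groth.Agent.H80.QRegDiag
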