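import Mathlib

/-! The fixed space of a linear involution which permutes a basis up to signs: its rank. -/

set_option autoImplicit false
set_option linter.style.haveILetI false
set_option linter.unusedSectionVars false

namespace Groth.Agent.H80.SignedInvol

open Module Finset

section

variable {S V ι : Type*} [CommRing S] [AddCommGroup V] [Module S V] [Fintype ι] [DecidableEq ι]
  (b : Basis ι S V) (T : V →ₗ[S] V) (π : ι → ι) (hπ : ∀ i, π (π i) = i)
  (ε : ι → S) (hε : ∀ i, ε i = 1 ∨ ε i = -1) (hεπ : ∀ i, ε (π i) = ε i)
  (hT : ∀ i, T (b i) = ε i • b (π i))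

include hπ hεπ hT in
/-- `T` in coordinates -/
theorem repr_apply (v : V) (j : ι) : b.repr (T v) j = ε j * b.repr v (π j) := by
  have h : (b.coord j).comp T = ε j • b.coord (π j) := by
    refine b.ext fun i => ?_
    simp only [LinearMap.comp_apply, hT, map_smul, Basis.coord_apply, Basis.repr_self,
      LinearMap.smul_apply, smul_eq_mul, Finsupp.single_apply]
    by_cases h : π i = j
    · subst h
      simp [hπ, hεπ]
    · have h' : i ≠ π j := fun h' => h (by rw [h', hπ])
      simp [h, h']
  exact LinearMap.congr_fun h v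

include hπ hεπ hT in
theorem mem_ker_iff (v : V) :
    v ∈ LinearMap.ker (T - LinearMap.id) ↔ ∀ j, ε j * b.repr v (π j) = b.repr v j := by
  rw [LinearMap.mem_ker, LinearMap.sub_apply, LinearMap.id_apply, sub_eq_zero]
  constructor
  · intro h j
    rw [← repr_apply b T π hπ ε hεπ hT, h]
  · intro h
    apply b.repr.injective
    ext j
    rw [repr_apply b T π hπ ε hεπ hT, h]

end

section Count

variable {S V ι : Type*} [CommRing S] [AddCommGroup V] [Module S V] [Fintype ι] [DecidableEq ι]
  [LinearOrder ι]
  (b : Basis ι S V) (T : V →ₗ[S] V) (π : ι → ι) (hπ : ∀ i, π (π i) = i)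
  (ε : ι → S) (hε : ∀ i, ε i = 1 ∨ ε i = -1) (hεπ : ∀ i, ε (π i) = ε i)
  (hT : ∀ i, T (b i) = ε i • b (π i))

open Classical in
/-- orbit representatives contributing to the fixed space -/
noncomputable def D : Finset ι := univ.filter fun i => i < π i ∨ (π i = i ∧ ε i = 1)

theorem mem_D {i : ι} : i ∈ D π ε ↔ i < π i ∨ (π i = i ∧ ε i = 1) := by
  classical
  simp [D]

open Classical in
/-- extension by zero -/
noncomputable def tot (d : D π ε → S) : ι → S := fun j => if h : j ∈ D π ε then d ⟨j, h⟩ else 0

open Classical in
/-- extension of coordinates on representatives to a fixed vector -/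
noncomputable def extF (d : D π ε → S) : ι → S := fun j =>
  if j ∈ D π ε then tot π ε d j else if π j < j then ε j * tot π ε d (π j) else 0

theorem tot_add (d d' : D π ε → S) : tot π ε (d + d') = tot π ε d + tot π ε d' := by
  funext j
  simp only [tot, Pi.add_apply]
  split_ifs <;> simp

theorem tot_smul (s : S) (d : D π ε → S) : tot π ε (s • d) = s • tot π ε d := by
  funext j
  simp only [tot, Pi.smul_apply]
  split_ifs <;> simp

theorem extF_add (d d' : D π ε → S) : extF π ε (d + d') = extF π ε d + extF π ε d' := by
  funext j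
  simp only [extF, Pi.add_apply, tot_add]
  split_ifs <;> simp [mul_add]

theorem extF_smul (s : S) (d : D π ε → S) : extF π ε (s • d) = s • extF π ε d := by
  funext j
  simp only [extF, Pi.smul_apply, tot_smul, smul_eq_mul]
  split_ifs <;> simp [mul_left_comm]

include hπ hε hεπ in
/-- the extension satisfies the fixed-vector equations -/
theorem extF_fixed (d : D π ε → S) (j : ι) : ε j * extF π ε d (π j) = extF π ε d j := by
  have hsq : ε j * ε j = 1 := by rcases hε j with h | h <;> rw [h] <;> ring
  rcases lt_trichotomy j (π j) with hlt | heq | hgt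
  · -- j < π j
    have hj : j ∈ D π ε := (mem_D π ε).mpr (Or.inl hlt)
    have hπj : π j ∉ D π ε := by
      rw [mem_D, hπ]
      rintro (h | ⟨h, -⟩)
      · exact lt_asymm hlt h
      · exact hlt.ne h
    have h1 : extF π ε d j = tot π ε d j := by simp [extF, hj]
    have h2 : extF π ε d (π j) = ε (π j) * tot π ε d (π (π j)) := by
      simp only [extF, if_neg hπj, hπ, if_pos hlt]
    rw [h1, h2, hπ, hεπ, ← mul_assoc, hsq, one_mul]
  · -- fixed point
    rw [← heq]
    by_cases hj : j ∈ D π ε
    · rcases (mem_D π ε).mp hj with h | ⟨-, h⟩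
      · exact absurd heq h.ne
      · rw [h, one_mul]
    · have : extF π ε d j = 0 := by
        simp only [extF, if_neg hj]
        rw [if_neg]
        rw [← heq]
        exact lt_irrefl j
      rw [this, mul_zero]
  · -- π j < j
    have hj : j ∉ D π ε := by
      rw [mem_D]
      rintro (h | ⟨h, -⟩)
      · exact lt_asymm hgt h
      · exact hgt.ne h
    have hπj : π j ∈ D π ε := (mem_D π ε).mpr (Or.inl (by rw [hπ]; exact hgt))
    have h1 : extF π ε d j = ε j * tot π ε d (π j) := by
      simp only [extF, if_neg hj, if_pos hgt]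
    have h2 : extF π ε d (π j) = tot π ε d (π j) := by simp [extF, hπj]
    rw [h1, h2]


include hπ hε hεπ hT in
theorem repr_eq_zero_of_not_mem (h2 : IsUnit (2 : S)) {v : V}
    (hv : v ∈ LinearMap.ker (T - LinearMap.id)) {j : ι} (hj : j ∉ D π ε) (hj' : ¬ π j < j) :
    b.repr v j = 0 := by
  rw [mem_D] at hj
  push Not at hj
  have hfix : π j = j := le_antisymm hj.1 (not_lt.mp hj')
  have hεj : ε j = -1 := by
    rcases hε j with h | h
    · exact absurd h (hj.2 hfix)
    · exact h
  have h := (mem_ker_iff b T π hπ ε hεπ hT v).mp hv j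
  rw [hfix, hεj] at h
  have h' : (2 : S) * b.repr v j = 0 := by
    have : b.repr v j + b.repr v j = 0 := by
      nth_rewrite 1 [← h]
      ring
    rw [two_mul]; exact this
  exact (h2.mul_right_eq_zero).mp h'

include hπ hε hεπ hT in
theorem extF_repr (h2 : IsUnit (2 : S)) {v : V}
    (hv : v ∈ LinearMap.ker (T - LinearMap.id)) :
    extF π ε (fun i : D π ε => b.repr v i.1) = fun j => b.repr v j := by
  funext j
  by_cases hj : j ∈ D π ε
  · simp [extF, tot, hj]
  · by_cases hj' : π j < j
    · have hπj : π j ∈ D π ε := (mem_D π ε).mpr (Or.inl (by rw [hπ]; exact hj'))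
      simp only [extF, if_neg hj, if_pos hj', tot, dif_pos hπj]
      exact (mem_ker_iff b T π hπ ε hεπ hT v).mp hv j
    · simp only [extF, if_neg hj, if_neg hj']
      exact (repr_eq_zero_of_not_mem b T π hπ ε hε hεπ hT h2 hv hj hj').symm

/-- the fixed space is free on the orbit representatives -/
noncomputable def kerEquiv (h2 : IsUnit (2 : S)) :
    LinearMap.ker (T - LinearMap.id) ≃ₗ[S] (D π ε → S) where
  toFun v := fun i => b.repr v.1 i.1
  map_add' v w := by funext i; simp
  map_smul' s v := by funext i; simp
  invFun d := ⟨b.equivFun.symm (extF π ε d), by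
    rw [mem_ker_iff b T π hπ ε hεπ hT]
    intro j
    have : ∀ k, b.repr (b.equivFun.symm (extF π ε d)) k = extF π ε d k := fun k => by
      rw [← Basis.equivFun_apply, LinearEquiv.apply_symm_apply]
    rw [this, this]
    exact extF_fixed π hπ ε hε hεπ d j⟩
  left_inv v := by
    apply Subtype.ext
    change b.equivFun.symm (extF π ε fun i : D π ε => b.repr v.1 i.1) = v.1
    rw [extF_repr b T π hπ ε hε hεπ hT h2 v.2]
    exact b.equivFun.symm_apply_apply v.1
  right_inv d := by
    funext i
    change b.repr (b.equivFun.symm (extF π ε d)) i.1 = d i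
    rw [← Basis.equivFun_apply, LinearEquiv.apply_symm_apply]
    simp [extF, tot, i.2]

include hπ hε hεπ hT in
theorem finrank_ker [Nontrivial S] (h2 : IsUnit (2 : S)) :
    Module.finrank S (LinearMap.ker (T - LinearMap.id)) = (D π ε).card := by
  rw [(kerEquiv b T π hπ ε hε hεπ hT h2).finrank_eq, Module.finrank_fintype_fun_eq_card]
  simp

include hπ in
open Classical in
theorem card_identity :
    2 * (D π ε).card + (univ.filter fun i => π i = i ∧ ε i ≠ 1).card
      = Fintype.card ι + (univ.filter fun i => π i = i ∧ ε i = 1).card := by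
  have hLG : (univ.filter fun i => i < π i).card = (univ.filter fun i => π i < i).card := by
    refine Finset.card_nbij' π π ?_ ?_ ?_ ?_
    · intro i hi
      simp only [coe_filter, mem_univ, true_and, Set.mem_ofPred_eq] at hi ⊢
      rw [hπ]; exact hi
    · intro i hi
      simp only [coe_filter, mem_univ, true_and, Set.mem_ofPred_eq] at hi ⊢
      rw [hπ]; exact hi
    · intro i _; exact hπ i
    · intro i _; exact hπ i
  have key : 2 * (D π ε).card + (univ.filter fun i => π i = i ∧ ε i ≠ 1).card
      + (univ.filter fun i => π i < i).card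
      = Fintype.card ι + (univ.filter fun i => π i = i ∧ ε i = 1).card
      + (univ.filter fun i => i < π i).card := by
    have e1 : (D π ε).card = ∑ i : ι, if (i < π i ∨ (π i = i ∧ ε i = 1)) then 1 else 0 :=
      Finset.card_filter _ _
    have e5 : Fintype.card ι = ∑ _i : ι, 1 := by simp
    rw [e1, Finset.card_filter, Finset.card_filter, Finset.card_filter, Finset.card_filter, e5,
      Finset.mul_sum, ← Finset.sum_add_distrib, ← Finset.sum_add_distrib,
      ← Finset.sum_add_distrib, ← Finset.sum_add_distrib]
    refine Finset.sum_congr rfl fun i _ => ?_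
    rcases lt_trichotomy i (π i) with h | h | h
    · have h1 : ¬ π i < i := lt_asymm h
      have h2 : ¬ π i = i := h.ne'
      simp [h, h1, h2]
    · by_cases he : ε i = 1
      · simp [← h, he]
      · simp [← h, he]
    · have h1 : ¬ i < π i := lt_asymm h
      have h2 : ¬ π i = i := h.ne
      simp [h, h1, h2]
  omega

end Count

section Final

variable {S V ι : Type*} [CommRing S] [Nontrivial S] [AddCommGroup V] [Module S V] [Fintype ι]
  [DecidableEq ι]

open Classical in
/-- Rank of the fixed space of a signed permutation involution. -/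
theorem two_mul_finrank_ker (b : Basis ι S V) (T : V →ₗ[S] V) (π : ι → ι)
    (hπ : ∀ i, π (π i) = i) (ε : ι → S) (hε : ∀ i, ε i = 1 ∨ ε i = -1)
    (hεπ : ∀ i, ε (π i) = ε i) (hT : ∀ i, T (b i) = ε i • b (π i)) (h2 : IsUnit (2 : S)) :
    2 * Module.finrank S (LinearMap.ker (T - LinearMap.id))
        + (univ.filter fun i => π i = i ∧ ε i ≠ 1).card
      = Fintype.card ι + (univ.filter fun i => π i = i ∧ ε i = 1).card := by
  letI : LinearOrder ι := LinearOrder.lift' (Fintype.equivFin ι) (Fintype.equivFin ι).injective
  rw [finrank_ker b T π hπ ε hε hεπ hT h2]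
  convert card_identity π hπ ε using 3

end Final

end Groth.Agent.H80.SignedInvol
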