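import Mathlib.LinearAlgebra.Eigenspace.Basic
import Mathlib.RingTheory.Noetherian.Basic
import Mathlib.RingTheory.Finiteness.Defs

set_option autoImplicit false

namespace Groth.Agent.H80

open Module.End

section Field

variable {k : Type*} [Field k] {V : Type*} [AddCommGroup V] [Module k V]

/-- If a finite sum of eigenvectors (for distinct eigenvalues) of `f` lies in an `f`-stable
subspace `p`, then each of the eigenvectors does. -/
theorem eigen_sum_mem (f : Module.End k V) (p : Submodule k V) (hp : ∀ x ∈ p, f x ∈ p)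
    (S : Finset k) : ∀ (m : k → V), (∀ μ ∈ S, f (m μ) = μ • m μ) → (∑ μ ∈ S, m μ) ∈ p →
      ∀ μ ∈ S, m μ ∈ p := by
  classical
  induction S using Finset.induction_on with
  | empty => intro m _ _ μ hμ; simp at hμ
  | insert μ₀ S hμ₀ ih =>
    intro m hm hsum
    have hS : ∀ μ ∈ S, m μ ∈ p := by
      have h1 : (∑ μ ∈ S, (μ - μ₀) • m μ) ∈ p := by
        have h2 : f (∑ μ ∈ insert μ₀ S, m μ) - μ₀ • (∑ μ ∈ insert μ₀ S, m μ) ∈ p :=
          p.sub_mem (hp _ hsum) (p.smul_mem _ hsum)
        have h3 : f (∑ μ ∈ insert μ₀ S, m μ) - μ₀ • (∑ μ ∈ insert μ₀ S, m μ) =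
            ∑ μ ∈ S, (μ - μ₀) • m μ := by
          rw [map_sum, Finset.smul_sum, ← Finset.sum_sub_distrib, Finset.sum_insert hμ₀]
          rw [hm μ₀ (Finset.mem_insert_self _ _), sub_self, zero_add]
          refine Finset.sum_congr rfl fun μ hμ => ?_
          rw [hm μ (Finset.mem_insert_of_mem hμ), sub_smul]
        rwa [h3] at h2
      have h4 := ih (fun μ => (μ - μ₀) • m μ)
        (fun μ hμ => by
          rw [map_smul, hm μ (Finset.mem_insert_of_mem hμ), smul_comm]) h1
      intro μ hμ
      have hne : μ - μ₀ ≠ 0 := by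
        intro h
        rw [sub_eq_zero] at h
        exact hμ₀ (h ▸ hμ)
      have := p.smul_mem (μ - μ₀)⁻¹ (h4 μ hμ)
      rwa [smul_smul, inv_mul_cancel₀ hne, one_smul] at this
    intro μ hμ
    rcases Finset.mem_insert.1 hμ with rfl | hμS
    · have : m μ = (∑ ν ∈ insert μ S, m ν) - ∑ ν ∈ S, m ν := by
        rw [Finset.sum_insert hμ₀]; abel
      rw [this]
      exact p.sub_mem hsum (p.sum_mem hS)
    · exact hS μ hμS

/-- The restriction of a diagonalizable operator to a stable subspace is diagonalizable
(no finiteness assumption). -/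
theorem le_iSup_inf_eigenspace (f : Module.End k V) (p : Submodule k V)
    (hp : ∀ x ∈ p, f x ∈ p) (hdiag : ⨆ μ : k, eigenspace f μ = ⊤) :
    p ≤ ⨆ μ : k, p ⊓ eigenspace f μ := by
  classical
  intro x hx
  have hx' : x ∈ ⨆ μ : k, eigenspace f μ := by rw [hdiag]; trivial
  obtain ⟨m, hm, rfl⟩ := (Submodule.mem_iSup_iff_exists_finsupp _ _).mp hx'
  have hmem : ∀ μ ∈ m.support, m μ ∈ p := by
    apply eigen_sum_mem f p hp m.support (fun μ => m μ)
    · intro μ _
      exact mem_eigenspace_iff.1 (hm μ)
    · exact hx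
  rw [Finsupp.sum]
  refine Submodule.sum_mem _ fun μ hμ => ?_
  exact Submodule.mem_iSup_of_mem μ ⟨hmem μ hμ, hm μ⟩

end Field

section Main

variable {k : Type*} [Field k] {R : Type*} [CommRing R] [Algebra k R]
  {W : Type*} [AddCommGroup W] [Module R W] [Module k W] [IsScalarTower k R W]
  {ι : Type*}

/-- Simultaneous diagonalization of a commuting family of `R`-linear, `k`-diagonalizable
endomorphisms of a Noetherian `R`-module. Inductive form with a complement. -/
theorem simDiag_aux [IsNoetherian R W] (g : ι → Module.End R W)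
    (hcomm : ∀ i j, Commute (g i) (g j))
    (hdiag : ∀ i, ⨆ μ : k, eigenspace ((g i).restrictScalars k) μ = ⊤) :
    ∀ (C W' : Submodule R W), (∀ i, ∀ w ∈ W', g i w ∈ W') → IsCompl W' C →
      ∀ w ∈ W', w ∈ ⨆ χ : ι → k, ⨅ i, eigenspace ((g i).restrictScalars k) (χ i) := by
  classical
  intro C
  induction C using IsNoetherian.induction with
  | hgt C ih =>
    intro W' hstab hcompl
    by_cases hscal : ∀ i, ∃ μ : k, ∀ w ∈ W', g i w = μ • w
    · choose χ hχ using hscal
      intro w hw
      refine Submodule.mem_iSup_of_mem χ ?_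
      rw [Submodule.mem_iInf]
      intro i
      rw [mem_eigenspace_iff]
      exact hχ i w hw
    · push Not at hscal
      obtain ⟨i, hi⟩ := hscal
      -- the eigen-pieces of W' as R-submodules
      let E : k → Submodule R W := fun μ => eigenspace (g i) (algebraMap k R μ)
      have hE : ∀ μ x, x ∈ E μ ↔ g i x = μ • x := by
        intro μ x
        simp only [E, mem_eigenspace_iff, algebraMap_smul]
      have hEk : ∀ μ x, x ∈ eigenspace ((g i).restrictScalars k) μ ↔ g i x = μ • x := by
        intro μ x
        rw [mem_eigenspace_iff]; rfl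
      -- every element of W' is a sum of elements of the pieces
      have hdecomp : W' ≤ ⨆ μ : k, W' ⊓ E μ := by
        intro w hw
        have h1 := le_iSup_inf_eigenspace ((g i).restrictScalars k) (W'.restrictScalars k)
          (fun x hx => hstab i x hx) (hdiag i) hw
        refine Submodule.iSup_induction (fun μ : k => W'.restrictScalars k ⊓
          eigenspace ((g i).restrictScalars k) μ)
          (motive := fun x => x ∈ ⨆ μ : k, W' ⊓ E μ) h1 ?_ ?_ ?_
        · intro μ x hx
          refine Submodule.mem_iSup_of_mem μ ⟨hx.1, ?_⟩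
          exact (hE μ x).2 ((hEk μ x).1 hx.2)
        · exact Submodule.zero_mem _
        · intro x y hx hy
          exact Submodule.add_mem _ hx hy
      intro w hw
      have hw' := hdecomp hw
      refine Submodule.iSup_induction (fun μ : k => W' ⊓ E μ)
        (motive := fun x => x ∈ ⨆ χ : ι → k, ⨅ i, eigenspace ((g i).restrictScalars k) (χ i))
        hw' ?_ (Submodule.zero_mem _) (fun x y hx hy => Submodule.add_mem _ hx hy)
      intro μ x hx
      -- apply the induction hypothesis to the piece W' ⊓ E μ
      set C' : Submodule R W := C ⊔ ⨆ ν : {ν : k // ν ≠ μ}, W' ⊓ E ν.1 with hC'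
      have hothers_le : (⨆ ν : {ν : k // ν ≠ μ}, W' ⊓ E ν.1) ≤ W' :=
        iSup_le fun ν => inf_le_left
      have hCC' : C < C' := by
        refine lt_of_le_of_ne le_sup_left ?_
        intro heq
        obtain ⟨w₀, hw₀, hne⟩ := hi μ
        apply hne
        have hbot : ∀ ν : {ν : k // ν ≠ μ}, W' ⊓ E ν.1 = ⊥ := by
          intro ν
          have h1 : W' ⊓ E ν.1 ≤ C := by
            rw [heq]
            exact le_trans (le_iSup (fun ν : {ν : k // ν ≠ μ} => W' ⊓ E ν.1) ν) le_sup_right
          have h2 : W' ⊓ E ν.1 ≤ W' ⊓ C := le_inf inf_le_left h1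
          rw [hcompl.inf_eq_bot] at h2
          exact le_bot_iff.1 h2
        have hw₀' : w₀ ∈ ⨆ μ' : k, W' ⊓ E μ' := hdecomp hw₀
        have hle : (⨆ μ' : k, W' ⊓ E μ') ≤ E μ := by
          refine iSup_le fun μ' => ?_
          by_cases hμ' : μ' = μ
          · rw [hμ']; exact inf_le_right
          · rw [hbot ⟨μ', hμ'⟩]; exact bot_le
        exact (hE μ w₀).1 (hle hw₀')
      have hstab' : ∀ j, ∀ w ∈ W' ⊓ E μ, g j w ∈ W' ⊓ E μ := by
        intro j w hw
        refine ⟨hstab j w hw.1, ?_⟩
        refine (hE μ _).2 ?_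
        have h1 : g i (g j w) = g j (g i w) := by
          have := congrArg (fun φ : Module.End R W => φ w) (hcomm i j).eq
          simpa using this
        rw [h1, (hE μ w).1 hw.2, LinearMap.map_smul_of_tower]
      have hcompl' : IsCompl (W' ⊓ E μ) C' := by
        constructor
        · rw [Submodule.disjoint_def]
          intro y hy1 hy2
          obtain ⟨c, hc, z, hz, rfl⟩ := Submodule.mem_sup.1 hy2
          have hzW' : z ∈ W' := hothers_le hz
          have hcW' : c ∈ W' := by
            have := W'.sub_mem hy1.1 hzW'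
            simpa using this
          have hc0 : c = 0 := by
            have : c ∈ W' ⊓ C := ⟨hcW', hc⟩
            rw [hcompl.inf_eq_bot] at this
            simpa using this
          rw [hc0, zero_add] at hy1 ⊢
          -- z lies in E μ and in the span of the other eigenspaces
          have hind := eigenspaces_iSupIndep ((g i).restrictScalars k)
          have hdisj := hind μ
          rw [Submodule.disjoint_def] at hdisj
          apply hdisj z ((hEk μ z).2 ((hE μ z).1 hy1.2))
          refine Submodule.iSup_induction (fun ν : {ν : k // ν ≠ μ} => W' ⊓ E ν.1)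
            (motive := fun x => x ∈ ⨆ j, ⨆ (_ : j ≠ μ),
              eigenspace ((g i).restrictScalars k) j) hz ?_ (Submodule.zero_mem _)
            (fun x y hx hy => Submodule.add_mem _ hx hy)
          intro ν x hx
          refine Submodule.mem_iSup_of_mem ν.1 (Submodule.mem_iSup_of_mem ν.2 ?_)
          exact (hEk ν.1 x).2 ((hE ν.1 x).1 hx.2)
        · rw [codisjoint_iff, eq_top_iff, ← hcompl.sup_eq_top]
          refine sup_le ?_ (le_trans le_sup_left le_sup_right)
          refine le_trans hdecomp (iSup_le fun μ' => ?_)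
          by_cases hμ' : μ' = μ
          · rw [hμ']; exact le_sup_left
          · refine le_trans ?_ le_sup_right
            refine le_trans ?_ le_sup_right
            exact le_iSup (fun ν : {ν : k // ν ≠ μ} => W' ⊓ E ν.1) ⟨μ', hμ'⟩
      exact ih C' hCC' (W' ⊓ E μ) hstab' hcompl' x hx

theorem simDiag [IsNoetherian R W] (g : ι → Module.End R W)
    (hcomm : ∀ i j, Commute (g i) (g j))
    (hdiag : ∀ i, ⨆ μ : k, eigenspace ((g i).restrictScalars k) μ = ⊤) :
    ⨆ χ : ι → k, ⨅ i, eigenspace ((g i).restrictScalars k) (χ i) = ⊤ := by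
  rw [eq_top_iff]
  intro w _
  exact simDiag_aux g hcomm hdiag ⊥ ⊤ (fun _ _ _ => trivial) isCompl_top_bot w trivial

end Main

end Groth.Agent.H80
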