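import Groth.Agent.H80.Comod

/-!
# Simple subcoalgebras are independent; isotypic decomposition of subcomodules (helper80)
-/

set_option autoImplicit false
universe u v w x

namespace Groth.Agent.H80.Comod

open TensorProduct HopfRep W4c3ghconstell

section Sub

variable {k : Type u} [Field k] {A : Type v} [AddCommGroup A] [Module k A] [Coalgebra k A]

theorem Lf_mem_of_isSubcoalg {D : Submodule k A} (hD : IsSubcoalg k A D) (f : A →ₗ[k] k)
    {d : A} (hd : d ∈ D) : Groth.Agent.H41.Lf f d ∈ D := by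
  obtain ⟨t, ht⟩ := hD d hd
  change (TensorProduct.lid k A) (f.rTensor A (CoalgebraStruct.comul (R := k) d)) ∈ D
  rw [← ht]
  clear ht
  induction t using TensorProduct.induction_on with
  | zero => simp
  | tmul x y =>
    simp only [TensorProduct.map_tmul, Submodule.subtype_apply, LinearMap.rTensor_tmul,
      TensorProduct.lid_tmul]
    exact D.smul_mem _ y.2
  | add x y hx hy =>
    simp only [map_add]
    exact D.add_mem hx hy

theorem isSubcoalg_of_stable (D : Submodule k A)
    (hR : ∀ (g : A →ₗ[k] k) (d : A), d ∈ D → Groth.Agent.H41.Rg g d ∈ D)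
    (hL : ∀ (f : A →ₗ[k] k) (d : A), d ∈ D → Groth.Agent.H41.Lf f d ∈ D) : IsSubcoalg k A D := by
  intro d hd
  exact Groth.Agent.H41.mem_range_map_of_mem_range D
    (Groth.Agent.H41.comul_mem_range_rTensor D hR hd)
    (Groth.Agent.H41.comul_mem_range_lTensor D hL hd)

theorem isSubcoalg_inf {D C : Submodule k A} (hD : IsSubcoalg k A D) (hC : IsSubcoalg k A C) :
    IsSubcoalg k A (D ⊓ C) :=
  isSubcoalg_of_stable _
    (fun g _ hd => ⟨Rg_mem_of_isSubcoalg hD g hd.1, Rg_mem_of_isSubcoalg hC g hd.2⟩)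
    (fun f _ hd => ⟨Lf_mem_of_isSubcoalg hD f hd.1, Lf_mem_of_isSubcoalg hC f hd.2⟩)

theorem isSubcoalg_iSup {ι : Sort*} (D : ι → Submodule k A) (hD : ∀ i, IsSubcoalg k A (D i)) :
    IsSubcoalg k A (⨆ i, D i) := by
  apply isSubcoalg_of_stable
  · intro g d hd
    induction hd using Submodule.iSup_induction' with
    | mem i x hx => exact Submodule.mem_iSup_of_mem i (Rg_mem_of_isSubcoalg (hD i) g hx)
    | zero => rw [map_zero]; exact Submodule.zero_mem _
    | add x y _ _ hx hy => rw [map_add]; exact Submodule.add_mem _ hx hy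
  · intro f d hd
    induction hd using Submodule.iSup_induction' with
    | mem i x hx => exact Submodule.mem_iSup_of_mem i (Lf_mem_of_isSubcoalg (hD i) f hx)
    | zero => rw [map_zero]; exact Submodule.zero_mem _
    | add x y _ _ hx hy => rw [map_add]; exact Submodule.add_mem _ hx hy

theorem isSubcoalg_sup {D C : Submodule k A} (hD : IsSubcoalg k A D) (hC : IsSubcoalg k A C) :
    IsSubcoalg k A (D ⊔ C) := by
  rw [sup_eq_iSup]
  apply isSubcoalg_iSup
  intro b
  cases b <;> assumption

/-- extension of a functional on `D` to `A`, vanishing on `C`, when `D ⊓ C = ⊥` -/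
theorem exists_functional {D C : Submodule k A} (hDC : D ⊓ C = ⊥) (f' : D →ₗ[k] k) :
    ∃ f : A →ₗ[k] k, (∀ d : D, f d = f' d) ∧ ∀ c ∈ C, f c = 0 := by
  let ι : D →ₗ[k] A ⧸ C := C.mkQ ∘ₗ D.subtype
  have hι : LinearMap.ker ι = ⊥ := by
    rw [LinearMap.ker_eq_bot']
    intro d hd
    have h1 : (d : A) ∈ C := by
      have : C.mkQ (d : A) = 0 := hd
      rwa [Submodule.mkQ_apply, Submodule.Quotient.mk_eq_zero] at this
    have h2 : (d : A) ∈ D ⊓ C := ⟨d.2, h1⟩
    rw [hDC, Submodule.mem_bot] at h2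
    exact Subtype.ext h2
  obtain ⟨g₀, hg₀⟩ := LinearMap.exists_leftInverse_of_injective ι hι
  refine ⟨f' ∘ₗ g₀ ∘ₗ C.mkQ, fun d => ?_, fun c hc => ?_⟩
  · have := LinearMap.congr_fun hg₀ d
    simp only [LinearMap.coe_comp, Function.comp_apply, LinearMap.id_coe, id_eq] at this ⊢
    change f' (g₀ (ι d)) = f' d
    rw [this]
  · simp only [LinearMap.coe_comp, Function.comp_apply, Submodule.mkQ_apply]
    rw [(Submodule.Quotient.mk_eq_zero C).mpr hc, map_zero, map_zero]

end Sub

section KL

variable {k : Type u} [Field k] {A : Type v} [AddCommGroup A] [Module k A] [Coalgebra k A]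

/-- Key lemma: a simple subcoalgebra contained in a sum of two subcoalgebras lies in one of them. -/
theorem simple_le_of_le_sup {D C₁ C₂ : Submodule k A} (hD : IsSimpleSubcoalg k A D)
    (hC₁ : IsSubcoalg k A C₁) (hC₂ : IsSubcoalg k A C₂) (h : D ≤ C₁ ⊔ C₂) : D ≤ C₁ ∨ D ≤ C₂ := by
  obtain ⟨hDne, hDsub, hDsimple⟩ := hD
  rcases hDsimple (D ⊓ C₁) inf_le_left (isSubcoalg_inf hDsub hC₁) with h1 | h1
  swap
  · left; exact inf_eq_left.mp h1
  rcases hDsimple (D ⊓ C₂) inf_le_left (isSubcoalg_inf hDsub hC₂) with h2 | h2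
  swap
  · right; exact inf_eq_left.mp h2
  exfalso
  apply hDne
  rw [eq_bot_iff]
  intro d hd
  rw [Submodule.mem_bot]
  obtain ⟨t, ht⟩ := hDsub d hd
  obtain ⟨c₁, hc₁, c₂, hc₂, hdc⟩ := Submodule.mem_sup.mp (h hd)
  obtain ⟨t₁, ht₁⟩ := hC₁ c₁ hc₁
  obtain ⟨t₂, ht₂⟩ := hC₂ c₂ hc₂
  -- t = 0
  have ht0 : t = 0 := by
    apply Groth.Agent.H41.eq_zero_of_forall_lTensor
    intro g'
    rw [← Module.forall_dual_apply_eq_zero_iff k]
    intro f'
    obtain ⟨f, hf, hfC⟩ := exists_functional h1 f'
    obtain ⟨g, hg, hgC⟩ := exists_functional h2 g'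
    have way1 : ∀ s : D ⊗[k] D, f (contrR g (TensorProduct.map D.subtype D.subtype s)) =
        f' ((TensorProduct.rid k D) (g'.lTensor D s)) := by
      intro s
      induction s using TensorProduct.induction_on with
      | zero => simp
      | tmul x y =>
        simp only [TensorProduct.map_tmul, Submodule.subtype_apply, contrR_tmul, map_smul,
          LinearMap.lTensor_tmul, TensorProduct.rid_tmul, hf, hg]
      | add x y hx hy => simp only [map_add, hx, hy]
    have way2a : ∀ s : C₁ ⊗[k] C₁, f (contrR g (TensorProduct.map C₁.subtype C₁.subtype s)) = 0 := by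
      intro s
      induction s using TensorProduct.induction_on with
      | zero => simp
      | tmul x y =>
        simp [hfC x x.2]
      | add x y hx hy => simp only [map_add, hx, hy, add_zero]
    have way2b : ∀ s : C₂ ⊗[k] C₂, f (contrR g (TensorProduct.map C₂.subtype C₂.subtype s)) = 0 := by
      intro s
      induction s using TensorProduct.induction_on with
      | zero => simp
      | tmul x y =>
        simp [hgC y y.2]
      | add x y hx hy => simp only [map_add, hx, hy, add_zero]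
    change f' ((TensorProduct.rid k D) (g'.lTensor D t)) = 0
    rw [← way1, ht, ← hdc, map_add, ← ht₁, ← ht₂, map_add, map_add, way2a, way2b, add_zero]
  rw [ht0, map_zero] at ht
  have hcounit := LinearMap.congr_fun (Coalgebra.rTensor_counit_comp_comul (R := k) (A := A)) d
  simp only [LinearMap.coe_comp, Function.comp_apply, TensorProduct.mk_apply] at hcounit
  rw [← ht, map_zero] at hcounit
  have : (1 : k) ⊗ₜ[k] d = 0 := hcounit.symm
  have h3 := congrArg (TensorProduct.lid k A) this
  simpa using h3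

end KL

section Indep

variable {k : Type u} [Field k] {A : Type v} [AddCommGroup A] [Module k A] [Coalgebra k A]

/-- distinct simple subcoalgebras are independent (finite version) -/
theorem simple_inf_iSup_eq_bot (D : SimpSub k A) (T : Finset (SimpSub k A)) (hDT : D ∉ T) :
    D.1 ⊓ (⨆ D' ∈ T, (D' : SimpSub k A).1) = ⊥ := by
  classical
  induction T using Finset.induction_on with
  | empty => simp
  | insert a T' haT' ih =>
    rw [Finset.mem_insert, not_or] at hDT
    obtain ⟨hDa, hDT'⟩ := hDT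
    have ih' := ih hDT'
    rw [Finset.iSup_insert]
    have hS : IsSubcoalg k A (⨆ D' ∈ T', (D' : SimpSub k A).1) :=
      isSubcoalg_iSup _ (fun D' => isSubcoalg_iSup _ (fun _ => D'.2.2.1))
    have hsup : IsSubcoalg k A (a.1 ⊔ ⨆ D' ∈ T', (D' : SimpSub k A).1) :=
      isSubcoalg_sup a.2.2.1 hS
    rcases D.2.2.2 _ inf_le_left (isSubcoalg_inf D.2.2.1 hsup) with h | h
    · exact h
    · exfalso
      have hle : D.1 ≤ a.1 ⊔ ⨆ D' ∈ T', (D' : SimpSub k A).1 := inf_eq_left.mp h
      rcases simple_le_of_le_sup D.2 a.2.2.1 hS hle with h1 | h1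
      · rcases a.2.2.2 D.1 h1 D.2.2.1 with h2 | h2
        · exact D.2.1 h2
        · exact hDa (Subtype.ext h2)
      · apply D.2.1
        rw [← ih']
        exact (inf_eq_left.mpr h1).symm

/-- a functional equal to the counit on `D` and vanishing on finitely many other simple
subcoalgebras -/
theorem exists_separating (D : SimpSub k A) (T : Finset (SimpSub k A)) (hDT : D ∉ T) :
    ∃ g : A →ₗ[k] k, (∀ d ∈ D.1, g d = CoalgebraStruct.counit (R := k) d) ∧
      ∀ D' ∈ T, ∀ d ∈ (D' : SimpSub k A).1, g d = 0 := by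
  obtain ⟨g, hg, hgC⟩ := exists_functional (simple_inf_iSup_eq_bot D T hDT)
    ((CoalgebraStruct.counit (R := k) (A := A)) ∘ₗ D.1.subtype)
  refine ⟨g, fun d hd => ?_, fun D' hD' d hd => ?_⟩
  · exact hg ⟨d, hd⟩
  · apply hgC
    exact Submodule.mem_iSup_of_mem D' (Submodule.mem_iSup_of_mem hD' hd)

variable {M : Type w} [AddCommGroup M] [Module k M] [Comod k A M]

/-- a non-zero subcomodule of a comodule which is the sum of its isotypic components meets some
isotypic component -/
theorem exists_inf_isoComp_ne_bot (N : Submodule k M) (hN : IsSubcomod (k := k) (A := A) N)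
    (hM : (⨆ D : SimpSub k A, isoComp M D.1) = ⊤) (hne : N ≠ ⊥) :
    ∃ D : SimpSub k A, N ⊓ isoComp M D.1 ≠ ⊥ := by
  classical
  obtain ⟨n, hnN, hn0⟩ := Submodule.exists_mem_ne_zero_of_ne_bot hne
  have hn : n ∈ ⨆ D : SimpSub k A, isoComp M D.1 := by rw [hM]; exact Submodule.mem_top
  obtain ⟨s, hs⟩ := Submodule.mem_iSup_iff_exists_finset.mp hn
  obtain ⟨μ, hμ⟩ := (Submodule.mem_iSup_finset_iff_exists_sum _ n).mp hs
  have hex : ∃ D ∈ s, (μ D : M) ≠ 0 := by
    by_contra hcon
    push Not at hcon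
    apply hn0
    rw [← hμ]
    exact Finset.sum_eq_zero hcon
  obtain ⟨D₁, hD₁s, hμD₁⟩ := hex
  obtain ⟨g, hg, hgT⟩ := exists_separating D₁ (s.erase D₁) (Finset.notMem_erase D₁ s)
  refine ⟨D₁, ?_⟩
  intro hbot
  apply hμD₁
  have hact : act g n = (μ D₁ : M) := by
    rw [← hμ, map_sum, ← Finset.add_sum_erase s _ hD₁s]
    rw [Finset.sum_eq_zero (s := s.erase D₁), add_zero]
    · rw [act_congr_of_mem_isoComp g _ hg (μ D₁).2, act_counit]
    · intro D' hD'
      exact act_eq_zero_of_mem_isoComp g (hgT D' hD') (μ D').2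
  have hmem : (μ D₁ : M) ∈ N ⊓ isoComp M D₁.1 := by
    refine ⟨?_, (μ D₁).2⟩
    rw [← hact]
    exact (isSubcomod_iff N).mp hN g n hnN
  rw [hbot, Submodule.mem_bot] at hmem
  exact hmem

end Indep

section Pos

variable {k : Type u} [Field k] {A : Type v} [AddCommGroup A] [Module k A] [Coalgebra k A]
variable {M : Type x} [AddCommGroup M] [Module k M] [Comod k A M]

variable (hfin : ∀ D : SimpSub k A, Module.Finite k ↥(isoComp M D.1))
  (h : SimpSub k A → ℕ) (hh : ∀ D : SimpSub k A, Module.finrank k ↥(isoComp M D.1) = h D)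
  (θ : SimpSub k A → ℚ) (hsum : Summable (fun D => (θ D : ℝ) * (h D : ℝ)))

include hfin hh hsum in
/-- a non-zero subcomodule with no part in negative degrees has positive weight, provided `θ` is
non-zero wherever `h` is -/
theorem theta_pos_of_zero_on_neg (N : Submodule k M) (hN : IsSubcomod (k := k) (A := A) N)
    (hM : (⨆ D : SimpSub k A, isoComp M D.1) = ⊤) (hne : N ≠ ⊥)
    (hθ : ∀ D, h D ≠ 0 → θ D ≠ 0)
    (hzero : ∀ D, θ D < 0 → hilbAt M N D = 0) : 0 < theta M θ N := by
  have hnonneg : ∀ D, 0 ≤ (θ D : ℝ) * (hilbAt M N D : ℝ) := by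
    intro D
    by_cases hD : θ D < 0
    · rw [hzero D hD]; simp
    · push Not at hD
      exact mul_nonneg (by exact_mod_cast hD) (Nat.cast_nonneg _)
  obtain ⟨D, hD⟩ := exists_inf_isoComp_ne_bot N hN hM hne
  have := hfin D
  have hfinND : Module.Finite k ↥(N ⊓ isoComp M D.1) :=
    Submodule.finiteDimensional_of_le (inf_le_right : N ⊓ isoComp M D.1 ≤ isoComp M D.1)
  have hpos : 0 < hilbAt M N D := by
    unfold hilbAt
    rw [Module.finrank_pos_iff, Submodule.nontrivial_iff_ne_bot]
    exact hD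
  have hhD : h D ≠ 0 := by
    have h1 : hilbAt M N D ≤ h D := (hh D) ▸ hilbAt_le_top N D
    omega
  have hθD : θ D ≠ 0 := hθ D hhD
  have hθpos : 0 < θ D := by
    rcases lt_trichotomy (θ D) 0 with h1 | h1 | h1
    · have := hzero D h1
      omega
    · exact absurd h1 hθD
    · exact h1
  unfold theta
  refine Summable.tsum_pos (summable_theta hfin h hh θ hsum N) hnonneg D ?_
  exact mul_pos (by exact_mod_cast hθpos) (by exact_mod_cast hpos)

end Pos

end Groth.Agent.H80.Comod
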