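import Mathlib.Algebra.Lie.Classical
import Mathlib.Algebra.Lie.OfAssociative
import Mathlib.LinearAlgebra.Dimension.Constructions
import Mathlib.LinearAlgebra.Dimension.Free
import Mathlib.LinearAlgebra.Dimension.Finite
import Mathlib.Tactic

/-!
# The cokernel of `ad x` on `sl_{n+1}` for the standard subregular nilpotent `x` (helper80)

Works over any commutative ring.  Matrices are handled through `ℕ`-indexed arrays.
-/

set_option autoImplicit false
universe u

namespace Groth.Agent.H80.SlSubreg

variable {R : Type u} [CommRing R] (n : ℕ)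

/-- the "commutator with x" operator on `ℕ`-indexed arrays -/
def t (y : ℕ → ℕ → R) (a b : ℕ) : R :=
  (if a + 1 < n then y (a + 1) b else 0) - (if 1 ≤ b ∧ b < n then y a (b - 1) else 0)

/-- partial sums along diagonals -/
def Yb (m : ℕ → ℕ → R) : ℕ → ℕ → R
  | 0, _ => 0
  | r + 1, 0 => m r 0
  | r + 1, c + 1 => Yb m r c + m r (c + 1)

@[simp] theorem Yb_zero_left (m : ℕ → ℕ → R) (c : ℕ) : Yb m 0 c = 0 := by
  cases c <;> rfl

@[simp] theorem Yb_succ_zero (m : ℕ → ℕ → R) (r : ℕ) : Yb m (r + 1) 0 = m r 0 := rfl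

@[simp] theorem Yb_succ_succ (m : ℕ → ℕ → R) (r c : ℕ) :
    Yb m (r + 1) (c + 1) = Yb m r c + m r (c + 1) := rfl

theorem Yb_add (m m' : ℕ → ℕ → R) (r c : ℕ) : Yb (m + m') r c = Yb m r c + Yb m' r c := by
  induction r generalizing c with
  | zero => simp
  | succ r ih =>
    cases c with
    | zero => simp
    | succ c => simp only [Yb_succ_succ, ih, Pi.add_apply]; ring

theorem Yb_smul (a : R) (m : ℕ → ℕ → R) (r c : ℕ) : Yb (a • m) r c = a * Yb m r c := by
  induction r generalizing c with
  | zero => simp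
  | succ r ih =>
    cases c with
    | zero => simp
    | succ c => simp only [Yb_succ_succ, ih, Pi.smul_apply, smul_eq_mul]; ring

/-- `Yb` vanishes at row `r` if the array vanishes on the rows `< r` -/
theorem Yb_eq_zero (m : ℕ → ℕ → R) (r : ℕ) (h : ∀ a b, a < r → m a b = 0) (c : ℕ) :
    Yb m r c = 0 := by
  induction r generalizing c with
  | zero => simp
  | succ r ih =>
    cases c with
    | zero => simp [h r 0 (Nat.lt_succ_self r)]
    | succ c =>
      rw [Yb_succ_succ, h r (c + 1) (Nat.lt_succ_self r), add_zero]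
      exact ih (fun a b hab => h a b (Nat.lt_succ_of_lt hab)) c

/-- sum along the main diagonal -/
theorem Yb_diag (m : ℕ → ℕ → R) (r : ℕ) : Yb m (r + 1) r = ∑ l ∈ Finset.range (r + 1), m l l := by
  induction r with
  | zero => simp
  | succ r ih => rw [Yb_succ_succ, ih, Finset.sum_range_succ _ (r + 1)]

/-- the preimage array -/
def g (m : ℕ → ℕ → R) (r c : ℕ) : R :=
  if r < n ∧ c < n then Yb m r c
  else if r < n ∧ c = n then (if 1 ≤ r then m (r - 1) n else 0)
  else if r = n ∧ c < n then (if c + 1 < n then - m n (c + 1) else 0)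
  else if r = n ∧ c = n then - ∑ r' ∈ Finset.range n, Yb m r' r'
  else 0

/-- the correction array, carrying the invariants -/
def cc (m : ℕ → ℕ → R) (a b : ℕ) : R :=
  if a + 1 = n ∧ b < n then Yb m n b
  else if a + 1 = n ∧ b = n then m a n
  else if a = n ∧ b = 0 then m n 0
  else if a = n ∧ b = n then m n n
  else 0

variable {n}

theorem g_block (m : ℕ → ℕ → R) {r c : ℕ} (hr : r < n) (hc : c < n) : g n m r c = Yb m r c := by
  unfold g
  rw [if_pos ⟨hr, hc⟩]

theorem g_col (m : ℕ → ℕ → R) {r : ℕ} (hr : r < n) :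
    g n m r n = if 1 ≤ r then m (r - 1) n else 0 := by
  unfold g
  rw [if_neg (by omega), if_pos ⟨hr, rfl⟩]

theorem g_row (m : ℕ → ℕ → R) {c : ℕ} (hc : c < n) :
    g n m n c = if c + 1 < n then - m n (c + 1) else 0 := by
  unfold g
  rw [if_neg (by omega), if_neg (by omega), if_pos ⟨rfl, hc⟩]

theorem g_corner (m : ℕ → ℕ → R) : g n m n n = - ∑ r' ∈ Finset.range n, Yb m r' r' := by
  unfold g
  rw [if_neg (by omega), if_neg (by omega), if_neg (by omega), if_pos ⟨rfl, rfl⟩]

theorem main_id_block (m : ℕ → ℕ → R) {a b : ℕ} (ha' : a < n) (hb' : b < n) :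
    t n (g n m) a b + cc n m a b = m a b := by
  by_cases h1 : a + 1 < n
  · have hcc : cc n m a b = 0 := by
      unfold cc
      rw [if_neg (by omega), if_neg (by omega), if_neg (by omega), if_neg (by omega)]
    rw [hcc, add_zero]
    unfold t
    rw [if_pos h1, g_block m h1 hb']
    cases b with
    | zero => simp
    | succ b =>
      rw [if_pos ⟨by omega, hb'⟩, Nat.add_sub_cancel, g_block m ha' (by omega), Yb_succ_succ]
      ring
  · have h1' : a + 1 = n := by omega
    have hcc : cc n m a b = Yb m (a + 1) b := by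
      unfold cc
      rw [if_pos ⟨h1', hb'⟩, h1']
    rw [hcc]
    unfold t
    rw [if_neg h1]
    cases b with
    | zero => simp
    | succ b =>
      rw [if_pos ⟨by omega, hb'⟩, Nat.add_sub_cancel, g_block m ha' (by omega), Yb_succ_succ]
      ring

theorem main_id_col (m : ℕ → ℕ → R) {a : ℕ} (ha' : a < n) :
    t n (g n m) a n + cc n m a n = m a n := by
  by_cases h1 : a + 1 < n
  · have hcc : cc n m a n = 0 := by
      unfold cc
      rw [if_neg (by omega), if_neg (by omega), if_neg (by omega), if_neg (by omega)]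
    rw [hcc, add_zero]
    unfold t
    rw [if_pos h1, if_neg (by omega), g_col m h1, if_pos (by omega), Nat.add_sub_cancel,
      sub_zero]
  · have h1' : a + 1 = n := by omega
    have hcc : cc n m a n = m a n := by
      unfold cc
      rw [if_neg (by omega), if_pos ⟨h1', rfl⟩]
    rw [hcc]
    unfold t
    rw [if_neg h1, if_neg (by omega), sub_zero, zero_add]

theorem main_id_row (m : ℕ → ℕ → R) {b : ℕ} (hb' : b < n) :
    t n (g n m) n b + cc n m n b = m n b := by
  unfold t
  rw [if_neg (by omega)]
  cases b with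
  | zero =>
    have hcc : cc n m n 0 = m n 0 := by
      unfold cc
      rw [if_neg (by omega), if_neg (by omega), if_pos ⟨rfl, rfl⟩]
    rw [hcc, if_neg (by omega), sub_zero, zero_add]
  | succ b =>
    have hcc : cc n m n (b + 1) = 0 := by
      unfold cc
      rw [if_neg (by omega), if_neg (by omega), if_neg (by omega), if_neg (by omega)]
    rw [hcc, if_pos ⟨by omega, hb'⟩, Nat.add_sub_cancel, g_row m (by omega), if_pos hb']
    ring

theorem main_id_corner (m : ℕ → ℕ → R) :
    t n (g n m) n n + cc n m n n = m n n := by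
  unfold t
  rw [if_neg (by omega), if_neg (by omega)]
  have hcc : cc n m n n = m n n := by
    unfold cc
    rw [if_neg (by omega), if_neg (by omega)]
    by_cases h0 : n = 0
    · rw [if_pos ⟨rfl, h0⟩, h0]
    · rw [if_neg (by omega), if_pos ⟨rfl, rfl⟩]
  rw [hcc]
  ring

/-- the main identity: `t (g m) + cc m = m` on the square `[0,n]²` -/
theorem main_id (m : ℕ → ℕ → R) (a b : ℕ) (ha : a ≤ n) (hb : b ≤ n) :
    t n (g n m) a b + cc n m a b = m a b := by
  rcases Nat.lt_or_eq_of_le ha with ha' | ha'
  · rcases Nat.lt_or_eq_of_le hb with hb' | hb'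
    · exact main_id_block m ha' hb'
    · rw [hb']
      exact main_id_col m ha'
  · rw [ha']
    rcases Nat.lt_or_eq_of_le hb with hb' | hb'
    · exact main_id_row m hb'
    · rw [hb']
      exact main_id_corner m

/-- `Yb` of a commutator array -/
theorem Yb_t (y : ℕ → ℕ → R) (r c : ℕ) (hr : r ≤ n) (hc : c < n) :
    Yb (t n y) r c = (if 1 ≤ r ∧ r < n then y r c else 0) -
      (if 1 ≤ r ∧ r ≤ c then y 0 (c - r) else 0) := by
  induction r generalizing c with
  | zero => simp
  | succ r ih =>
    cases c with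
    | zero =>
      rw [Yb_succ_zero]
      unfold t
      split_ifs <;> first | omega | ring
    | succ c =>
      rw [Yb_succ_succ, ih c (by omega) (by omega)]
      unfold t
      rw [Nat.add_sub_cancel, Nat.add_sub_add_right]
      rcases Nat.eq_zero_or_pos r with h0 | h0
      · subst h0
        simp only [Nat.sub_zero]
        split_ifs <;> first | omega | ring
      · split_ifs <;> first | omega | ring

theorem Yb_t_top (y : ℕ → ℕ → R) (c : ℕ) (hc : c < n) : Yb (t n y) n c = 0 := by
  rw [Yb_t y n c le_rfl hc, if_neg (by omega), if_neg (by omega), sub_zero]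

theorem t_col (y : ℕ → ℕ → R) (a : ℕ) (ha : a + 1 = n) : t n y a n = 0 := by
  unfold t
  rw [if_neg (by omega), if_neg (by omega), sub_zero]

theorem t_row (y : ℕ → ℕ → R) : t n y n 0 = 0 := by
  unfold t
  rw [if_neg (by omega), if_neg (by omega), sub_zero]

theorem g_trace (m : ℕ → ℕ → R) : ∑ l ∈ Finset.range (n + 1), g n m l l = 0 := by
  rw [Finset.sum_range_succ, g_corner]
  have : ∑ l ∈ Finset.range n, g n m l l = ∑ l ∈ Finset.range n, Yb m l l := by
    apply Finset.sum_congr rfl
    intro l hl
    rw [Finset.mem_range] at hl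
    exact g_block m hl hl
  rw [this]
  ring

theorem cc_eq_zero (hn : 1 ≤ n) (m : ℕ → ℕ → R) (h1 : ∀ b, b < n → Yb m n b = 0)
    (h2 : m (n - 1) n = 0) (h3 : m n 0 = 0) (h4 : ∑ l ∈ Finset.range (n + 1), m l l = 0)
    (a b : ℕ) : cc n m a b = 0 := by
  unfold cc
  split_ifs with c1 c2 c3 c4
  · exact h1 b c1.2
  · have : a = n - 1 := by omega
    rw [this]
    exact h2
  · exact h3
  · have h5 := Yb_diag m (n - 1)
    rw [Nat.sub_add_cancel hn, h1 (n - 1) (by omega)] at h5
    rw [Finset.sum_range_succ, ← h5, zero_add] at h4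
    exact h4
  · rfl

section Mat

open Matrix

variable (n)

/-- entries of a matrix as an `ℕ`-indexed array (zero outside) -/
def e (M : Matrix (Fin (n + 1)) (Fin (n + 1)) R) (a b : ℕ) : R :=
  if h : a < n + 1 ∧ b < n + 1 then M ⟨a, h.1⟩ ⟨b, h.2⟩ else 0

/-- matrix of an `ℕ`-indexed array -/
def mk (f : ℕ → ℕ → R) : Matrix (Fin (n + 1)) (Fin (n + 1)) R :=
  Matrix.of fun i j => f i.val j.val

variable {n}

theorem e_apply (M : Matrix (Fin (n + 1)) (Fin (n + 1)) R) (i j : Fin (n + 1)) :
    e n M i.val j.val = M i j := by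
  unfold e
  rw [dif_pos ⟨i.2, j.2⟩]

theorem e_mk (f : ℕ → ℕ → R) {a b : ℕ} (ha : a ≤ n) (hb : b ≤ n) : e n (mk n f) a b = f a b := by
  unfold e mk
  rw [dif_pos ⟨by omega, by omega⟩]
  rfl

theorem mk_apply (f : ℕ → ℕ → R) (i j : Fin (n + 1)) : mk n f i j = f i.val j.val := rfl

theorem e_add (M M' : Matrix (Fin (n + 1)) (Fin (n + 1)) R) : e n (M + M') = e n M + e n M' := by
  funext a b
  unfold e
  simp only [Pi.add_apply]
  split_ifs
  · rfl
  · simp

theorem e_smul (c : R) (M : Matrix (Fin (n + 1)) (Fin (n + 1)) R) : e n (c • M) = c • e n M := by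
  funext a b
  unfold e
  simp only [Pi.smul_apply]
  split_ifs
  · rfl
  · simp

theorem trace_eq (M : Matrix (Fin (n + 1)) (Fin (n + 1)) R) :
    Matrix.trace M = ∑ l ∈ Finset.range (n + 1), e n M l l := by
  rw [← Fin.sum_univ_eq_sum_range (fun l => e n M l l) (n + 1)]
  unfold Matrix.trace
  apply Finset.sum_congr rfl
  intro i _
  rw [e_apply]
  rfl

/-- the commutator with the subregular nilpotent in terms of arrays -/
theorem comm_apply (N Y : Matrix (Fin (n + 1)) (Fin (n + 1)) R)
    (hN : ∀ i j : Fin (n + 1), N i j = if j.val = i.val + 1 ∧ j.val < n then 1 else 0)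
    (i j : Fin (n + 1)) :
    (N * Y - Y * N) i j = t n (e n Y) i.val j.val := by
  rw [Matrix.sub_apply, Matrix.mul_apply, Matrix.mul_apply]
  unfold t
  congr 1
  · by_cases h : i.val + 1 < n
    · rw [if_pos h, Finset.sum_eq_single (⟨i.val + 1, by omega⟩ : Fin (n + 1))]
      · rw [hN, if_pos ⟨rfl, h⟩, one_mul]
        exact (e_apply Y ⟨i.val + 1, by omega⟩ j).symm
      · intro l _ hl
        rw [hN, if_neg, zero_mul]
        rintro ⟨h1, _⟩
        exact hl (Fin.ext h1)
      · intro h'
        exact absurd (Finset.mem_univ _) h'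
    · rw [if_neg h]
      apply Finset.sum_eq_zero
      intro l _
      rw [hN, if_neg, zero_mul]
      rintro ⟨h1, h2⟩
      omega
  · by_cases h : 1 ≤ j.val ∧ j.val < n
    · rw [if_pos h, Finset.sum_eq_single (⟨j.val - 1, by omega⟩ : Fin (n + 1))]
      · rw [hN, if_pos ⟨by simp only []; omega, h.2⟩, mul_one]
        exact (e_apply Y i ⟨j.val - 1, by omega⟩).symm
      · intro l _ hl
        rw [hN, if_neg, mul_zero]
        rintro ⟨h1, _⟩
        apply hl
        apply Fin.ext
        simp only []
        omega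
      · intro h'
        exact absurd (Finset.mem_univ _) h'
    · rw [if_neg h]
      apply Finset.sum_eq_zero
      intro l _
      rw [hN, if_neg, mul_zero]
      rintro ⟨h1, h2⟩
      apply h
      omega

theorem Yb_congr (m m' : ℕ → ℕ → R) (r c : ℕ)
    (h : ∀ a b, a < r → b ≤ c → m a b = m' a b) : Yb m r c = Yb m' r c := by
  induction r generalizing c with
  | zero => simp
  | succ r ih =>
    cases c with
    | zero => simp [h r 0 (Nat.lt_succ_self r) le_rfl]
    | succ c =>
      rw [Yb_succ_succ, Yb_succ_succ, h r (c + 1) (Nat.lt_succ_self r) le_rfl]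
      congr 1
      exact ih c (fun a b ha hb => h a b (Nat.lt_succ_of_lt ha) (Nat.le_succ_of_le hb))

theorem t_congr (y y' : ℕ → ℕ → R) (h : ∀ a b, a ≤ n → b ≤ n → y a b = y' a b) {a b : ℕ}
    (ha : a ≤ n) (hb : b ≤ n) : t n y a b = t n y' a b := by
  unfold t
  congr 1
  · by_cases h1 : a + 1 < n
    · rw [if_pos h1, if_pos h1, h (a + 1) b (by omega) hb]
    · rw [if_neg h1, if_neg h1]
  · by_cases h1 : 1 ≤ b ∧ b < n
    · rw [if_pos h1, if_pos h1, h a (b - 1) ha (by omega)]
    · rw [if_neg h1, if_neg h1]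

variable (n)

/-- the invariants: a linear map to `R^{n+2}` -/
def phi : Matrix (Fin (n + 1)) (Fin (n + 1)) R →ₗ[R] (Fin (n + 2) → R) where
  toFun M k := if k.val < n then Yb (e n M) n k.val
    else if k.val = n then e n M (n - 1) n else e n M n 0
  map_add' M M' := by
    funext k
    simp only [Pi.add_apply, e_add]
    split_ifs
    · rw [Yb_add]
    · rfl
    · rfl
  map_smul' c M := by
    funext k
    simp only [Pi.smul_apply, e_smul, RingHom.id_apply, smul_eq_mul]
    split_ifs
    · rw [Yb_smul]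
    · rfl
    · rfl

variable {n}

theorem phi_apply_lt (M : Matrix (Fin (n + 1)) (Fin (n + 1)) R) (k : Fin (n + 2)) (hk : k.val < n) :
    phi n M k = Yb (e n M) n k.val := by
  change (if k.val < n then Yb (e n M) n k.val
    else if k.val = n then e n M (n - 1) n else e n M n 0) = _
  rw [if_pos hk]

theorem phi_apply_n (M : Matrix (Fin (n + 1)) (Fin (n + 1)) R) (k : Fin (n + 2)) (hk : k.val = n) :
    phi n M k = e n M (n - 1) n := by
  change (if k.val < n then Yb (e n M) n k.val
    else if k.val = n then e n M (n - 1) n else e n M n 0) = _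
  rw [if_neg (by omega), if_pos hk]

theorem phi_apply_last (M : Matrix (Fin (n + 1)) (Fin (n + 1)) R) (k : Fin (n + 2))
    (hk : k.val = n + 1) : phi n M k = e n M n 0 := by
  change (if k.val < n then Yb (e n M) n k.val
    else if k.val = n then e n M (n - 1) n else e n M n 0) = _
  rw [if_neg (by omega), if_neg (by omega)]

/-- the invariants kill commutators with the subregular nilpotent -/
theorem phi_comm (hn : 1 ≤ n) (N Y : Matrix (Fin (n + 1)) (Fin (n + 1)) R)
    (hN : ∀ i j : Fin (n + 1), N i j = if j.val = i.val + 1 ∧ j.val < n then 1 else 0) :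
    phi n (N * Y - Y * N) = 0 := by
  have hE : ∀ a b, a ≤ n → b ≤ n → e n (N * Y - Y * N) a b = t n (e n Y) a b := by
    intro a b ha hb
    have := comm_apply N Y hN ⟨a, by omega⟩ ⟨b, by omega⟩
    rw [← this]
    exact e_apply _ ⟨a, by omega⟩ ⟨b, by omega⟩
  funext k
  rw [Pi.zero_apply]
  by_cases h1 : k.val < n
  · rw [phi_apply_lt _ k h1, Yb_congr _ (t n (e n Y)) n k.val
      (fun a b ha hb => hE a b (by omega) (by omega))]
    exact Yb_t_top _ _ h1
  · by_cases h2 : k.val = n
    · rw [phi_apply_n _ k h2, hE _ _ (by omega) le_rfl]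
      exact t_col _ _ (by omega)
    · have h3 : k.val = n + 1 := by have := k.2; omega
      rw [phi_apply_last _ k h3, hE _ _ le_rfl (by omega)]
      exact t_row _

/-- a traceless matrix killed by the invariants is a commutator with a traceless matrix -/
theorem exists_comm_eq (hn : 1 ≤ n) (N M : Matrix (Fin (n + 1)) (Fin (n + 1)) R)
    (hN : ∀ i j : Fin (n + 1), N i j = if j.val = i.val + 1 ∧ j.val < n then 1 else 0)
    (hM : Matrix.trace M = 0) (hφ : phi n M = 0) :
    ∃ Y : Matrix (Fin (n + 1)) (Fin (n + 1)) R, Matrix.trace Y = 0 ∧ N * Y - Y * N = M := by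
  refine ⟨mk n (g n (e n M)), ?_, ?_⟩
  · rw [trace_eq]
    rw [← g_trace (e n M)]
    apply Finset.sum_congr rfl
    intro l hl
    rw [Finset.mem_range] at hl
    exact e_mk _ (by omega) (by omega)
  · ext i j
    have hi : i.val ≤ n := by have := i.2; omega
    have hj : j.val ≤ n := by have := j.2; omega
    rw [comm_apply N _ hN i j, t_congr _ (g n (e n M)) (fun a b ha hb => e_mk _ ha hb) hi hj]
    have h1 := main_id (e n M) i.val j.val (by have := i.2; omega) (by have := j.2; omega)
    have h2 : cc n (e n M) i.val j.val = 0 := by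
      apply cc_eq_zero hn
      · intro b hb
        have := congrFun hφ ⟨b, by omega⟩
        rw [phi_apply_lt _ _ (by simpa using hb)] at this
        exact this
      · have := congrFun hφ ⟨n, by omega⟩
        rw [phi_apply_n _ _ rfl] at this
        exact this
      · have := congrFun hφ ⟨n + 1, by omega⟩
        rw [phi_apply_last _ _ rfl] at this
        exact this
      · rw [← trace_eq]
        exact hM
    rw [h2, add_zero] at h1
    rw [h1, e_apply]

/-- the section array -/
def sv (v : ℕ → R) (a b : ℕ) : R :=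
  if a + 1 = n ∧ b < n then v b
  else if a + 1 = n ∧ b = n then v n
  else if a = n ∧ b = 0 then v (n + 1)
  else if a = n ∧ b = n then - v (n - 1)
  else 0

/-- the invariants are surjective on traceless matrices -/
theorem exists_phi_eq (hn : 1 ≤ n) (w : Fin (n + 2) → R) :
    ∃ M : Matrix (Fin (n + 1)) (Fin (n + 1)) R, Matrix.trace M = 0 ∧ phi n M = w := by
  obtain ⟨k, rfl⟩ : ∃ k, n = k + 1 := ⟨n - 1, by omega⟩
  let v : ℕ → R := fun i => if h : i < k + 1 + 2 then w ⟨i, h⟩ else 0
  have hv : ∀ i : Fin (k + 1 + 2), v i.val = w i := by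
    intro i
    simp only [v]
    rw [dif_pos i.2]
  refine ⟨mk (k + 1) (sv (n := k + 1) v), ?_, ?_⟩
  · rw [trace_eq, Finset.sum_range_succ, Finset.sum_range_succ]
    rw [e_mk _ (by omega) (by omega), e_mk _ (by omega) (by omega)]
    have h0 : ∑ l ∈ Finset.range k, e (k + 1) (mk (k + 1) (sv (n := k + 1) v)) l l = 0 := by
      apply Finset.sum_eq_zero
      intro l hl
      rw [Finset.mem_range] at hl
      rw [e_mk _ (by omega) (by omega)]
      unfold sv
      rw [if_neg (by omega), if_neg (by omega), if_neg (by omega), if_neg (by omega)]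
    rw [h0, zero_add]
    unfold sv
    rw [if_pos ⟨rfl, by omega⟩, if_neg (by omega), if_neg (by omega), if_neg (by omega),
      if_pos ⟨rfl, rfl⟩, Nat.add_sub_cancel]
    ring
  · have hrow : ∀ a b, a < k → sv (n := k + 1) v a b = 0 := by
      intro a b ha
      unfold sv
      rw [if_neg (by omega), if_neg (by omega), if_neg (by omega), if_neg (by omega)]
    funext i
    by_cases h1 : i.val < k + 1
    · rw [phi_apply_lt _ i h1, Yb_congr _ (sv (n := k + 1) v) (k + 1) i.val
        (fun a b ha hb => e_mk _ (by omega) (by omega))]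
      rw [← hv i]
      generalize i.val = c at h1
      cases c with
      | zero =>
        rw [Yb_succ_zero]
        unfold sv
        rw [if_pos ⟨rfl, by omega⟩]
      | succ c =>
        rw [Yb_succ_succ, Yb_eq_zero _ k hrow, zero_add]
        unfold sv
        rw [if_pos ⟨rfl, h1⟩]
    · by_cases h2 : i.val = k + 1
      · rw [phi_apply_n _ i h2, e_mk _ (by omega) (by omega), ← hv i, h2]
        unfold sv
        rw [if_neg (by omega), if_pos ⟨by omega, rfl⟩]
      · have h3 : i.val = k + 1 + 1 := by have := i.2; omega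
        rw [phi_apply_last _ i h3, e_mk _ (by omega) (by omega), ← hv i, h3]
        unfold sv
        rw [if_neg (by omega), if_neg (by omega), if_pos ⟨rfl, rfl⟩]

end Mat

section Final

open LieAlgebra.SpecialLinear

attribute [local instance 100] LieRing.ofAssociativeRing

theorem mem_sl_iff (M : Matrix (Fin (n + 1)) (Fin (n + 1)) R) :
    M ∈ sl (Fin (n + 1)) R ↔ Matrix.trace M = 0 := by
  change M ∈ LinearMap.ker (Matrix.traceLinearMap (Fin (n + 1)) R R) ↔ _
  rw [LinearMap.mem_ker, Matrix.traceLinearMap_apply]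

/-- the quotient of `sl_{n+1}` by the image of `ad x`, `x` the standard subregular nilpotent,
is free of rank `n + 2` (any commutative ring) -/
theorem quotEquiv (hn : 1 ≤ n) (x : sl (Fin (n + 1)) R)
    (hx : ∀ i j : Fin (n + 1), (x : Matrix (Fin (n + 1)) (Fin (n + 1)) R) i j =
      if j.val = i.val + 1 ∧ j.val < n then 1 else 0) :
    Nonempty ((sl (Fin (n + 1)) R ⧸
      LinearMap.range (LieAlgebra.ad R (sl (Fin (n + 1)) R) x)) ≃ₗ[R] (Fin (n + 2) → R)) := by
  let φL : sl (Fin (n + 1)) R →ₗ[R] (Fin (n + 2) → R) :=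
    (phi n).comp ((sl (Fin (n + 1)) R).incl : sl (Fin (n + 1)) R →ₗ[R] _)
  have hφL : ∀ M : sl (Fin (n + 1)) R, φL M = phi n M.val := fun M => rfl
  have hker : LinearMap.ker φL = LinearMap.range (LieAlgebra.ad R (sl (Fin (n + 1)) R) x) := by
    ext M
    rw [LinearMap.mem_ker, hφL, LinearMap.mem_range]
    constructor
    · intro hM
      obtain ⟨Y, hY0, hY⟩ := exists_comm_eq hn x.val M.val hx ((mem_sl_iff _).mp M.2) hM
      refine ⟨⟨Y, (mem_sl_iff _).mpr hY0⟩, ?_⟩
      apply Subtype.ext
      rw [LieAlgebra.ad_apply, sl_bracket]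
      exact hY
    · rintro ⟨Y, rfl⟩
      rw [LieAlgebra.ad_apply, sl_bracket]
      exact phi_comm hn x.val Y.val hx
  have hsurj : Function.Surjective φL := by
    intro w
    obtain ⟨M, htr, hM⟩ := exists_phi_eq hn w
    exact ⟨⟨M, (mem_sl_iff _).mpr htr⟩, hM⟩
  exact ⟨(Submodule.quotEquivOfEq _ _ hker.symm).trans (φL.quotKerEquivOfSurjective hsurj)⟩

end Final

end Groth.Agent.H80.SlSubreg
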