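import Mathlib
import Groth.Prelude.Def_AzInv
import Groth.Agent.H80.FiberSpan

/-! Local constancy on the ramification locus of the fibre rank of symmetric elements. -/

set_option autoImplicit false
set_option linter.style.haveILetI false
set_option linter.unusedSectionVars false

namespace Groth.Agent.H80.SymRank

open scoped TensorProduct
open AzInv Module Groth.Agent.H80.FiberSpan

universe u v w

variable {S : Type u} {R : Type v} [CommRing S] [CommRing R] [Algebra S R] {lam : R ≃ₐ[S] R}
  {A : Type w} [Ring A] [Algebra S A] [Algebra R A] [IsScalarTower S R A]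
  (t : AzInv.LamInv R A lam)

/-- symmetric elements -/
def symSet : Set A := {a | t a = a}

/-- skew-symmetric elements -/
def skewSet : Set A := {a | t a = -a}

theorem algebraMap_lam (p : PrimeSpectrum R) (hp : ∀ r : R, lam r - r ∈ p.asIdeal) (r : R) :
    algebraMap R p.asIdeal.ResidueField (lam r) = algebraMap R p.asIdeal.ResidueField r := by
  apply sub_eq_zero.mp
  rw [← map_sub, Ideal.algebraMap_residueField_eq_zero]
  exact hp r

/-- the involution on the fibre at a ramified prime -/
noncomputable def tau (p : PrimeSpectrum R) (hp : ∀ r : R, lam r - r ∈ p.asIdeal) :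
    p.asIdeal.ResidueField ⊗[R] A →ₗ[p.asIdeal.ResidueField] p.asIdeal.ResidueField ⊗[R] A :=
  TensorProduct.AlgebraTensorModule.lift
    { toFun := fun c =>
        { toFun := fun a => c ⊗ₜ[R] t a
          map_add' := fun a b => by rw [t.map_add, TensorProduct.tmul_add]
          map_smul' := fun r a => by
            rw [t.map_smul, RingHom.id_apply, ← TensorProduct.smul_tmul, TensorProduct.smul_tmul',
              Algebra.smul_def, Algebra.smul_def, algebraMap_lam p hp] }
      map_add' := fun c d => by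
        ext a
        simp [TensorProduct.add_tmul]
      map_smul' := fun c d => by
        ext a
        simp [TensorProduct.smul_tmul'] }

@[simp] theorem tau_tmul (p : PrimeSpectrum R) (hp : ∀ r : R, lam r - r ∈ p.asIdeal)
    (c : p.asIdeal.ResidueField) (a : A) : tau t p hp (c ⊗ₜ[R] a) = c ⊗ₜ[R] t a := by
  simp [tau]

theorem fspan_sym_le (p : PrimeSpectrum R) (hp : ∀ r : R, lam r - r ∈ p.asIdeal) :
    fspan p (symSet t) ≤ LinearMap.ker (tau t p hp - LinearMap.id) := by
  refine Submodule.span_le.mpr ?_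
  rintro _ ⟨a, ha, rfl⟩
  simp only [SetLike.mem_coe, LinearMap.mem_ker, LinearMap.sub_apply, LinearMap.id_apply,
    toFiber_apply, tau_tmul]
  rw [show t a = a from ha, sub_self]

theorem fspan_skew_le (p : PrimeSpectrum R) (hp : ∀ r : R, lam r - r ∈ p.asIdeal) :
    fspan p (skewSet t) ≤ LinearMap.ker (tau t p hp + LinearMap.id) := by
  refine Submodule.span_le.mpr ?_
  rintro _ ⟨a, ha, rfl⟩
  simp only [SetLike.mem_coe, LinearMap.mem_ker, LinearMap.add_apply, LinearMap.id_apply,
    toFiber_apply, tau_tmul]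
  rw [show t a = -a from ha, TensorProduct.tmul_neg, neg_add_cancel]

theorem two_ne_zero_residue (h2 : IsUnit (2 : S)) (p : PrimeSpectrum R) :
    (2 : p.asIdeal.ResidueField) ≠ 0 := by
  have h := (h2.map (algebraMap S R)).map (algebraMap R p.asIdeal.ResidueField)
  rw [map_ofNat, map_ofNat] at h
  exact h.ne_zero

theorem disjoint_fspan (h2 : IsUnit (2 : S)) (p : PrimeSpectrum R)
    (hp : ∀ r : R, lam r - r ∈ p.asIdeal) :
    Disjoint (fspan p (symSet t)) (fspan p (skewSet t)) := by
  rw [Submodule.disjoint_def]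
  intro x hx hx'
  have h1 := fspan_sym_le t p hp hx
  have h3 := fspan_skew_le t p hp hx'
  simp only [LinearMap.mem_ker, LinearMap.sub_apply, LinearMap.add_apply,
    LinearMap.id_apply] at h1 h3
  have h4 : (2 : p.asIdeal.ResidueField) • x = 0 := by
    rw [two_smul]
    have : x + x = (tau t p hp x + x) - (tau t p hp x - x) := by abel
    rw [this, h1, h3, sub_zero]
  exact (smul_eq_zero.mp h4).resolve_left (two_ne_zero_residue h2 p)

theorem sup_fspan (h2 : IsUnit (2 : S)) (p : PrimeSpectrum R) :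
    fspan p (symSet t) ⊔ fspan p (skewSet t) = ⊤ := by
  rw [eq_top_iff, ← fspan_univ p]
  refine Submodule.span_le.mpr ?_
  rintro _ ⟨a, -, rfl⟩
  obtain ⟨u, hu⟩ := h2
  have htS : ∀ (s : S) (x : A), t (s • x) = s • t x := fun s x => (t.linS S lam).map_smul s x
  have hdecomp : a = (↑u⁻¹ : S) • (a + t a) + (↑u⁻¹ : S) • (a - t a) := by
    rw [← smul_add]
    have : a + t a + (a - t a) = (2 : S) • a := by rw [two_smul]; abel
    rw [this, ← hu, smul_smul, Units.inv_mul, one_smul]
  have hs : (↑u⁻¹ : S) • (a + t a) ∈ symSet t := by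
    change t _ = _
    rw [htS, t.map_add, t.invol, add_comm]
  have hk : (↑u⁻¹ : S) • (a - t a) ∈ skewSet t := by
    change t _ = -_
    rw [htS, t.map_sub, t.invol, ← smul_neg, neg_sub]
  rw [hdecomp, map_add]
  exact Submodule.add_mem _
    (Submodule.mem_sup_left (Submodule.subset_span ⟨_, hs, rfl⟩))
    (Submodule.mem_sup_right (Submodule.subset_span ⟨_, hk, rfl⟩))

theorem range_eq (p : PrimeSpectrum R) :
    (Set.range fun a : {a : A // t a = a} => (1 : p.asIdeal.ResidueField) ⊗ₜ[R] (a : A))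
      = toFiber p A '' symSet t := by
  ext x
  constructor
  · rintro ⟨⟨a, ha⟩, rfl⟩
    exact ⟨a, ha, rfl⟩
  · rintro ⟨a, ha, rfl⟩
    exact ⟨⟨a, ha⟩, rfl⟩

theorem main_eq (h2 : IsUnit (2 : S)) (n : ℕ) (hA : AzInv.IsAzumayaDeg R A n)
    (q : PrimeSpectrum R) (hq : ∀ r : R, lam r - r ∈ q.asIdeal) :
    ∃ f : R, f ∉ q.asIdeal ∧ ∀ q' : PrimeSpectrum R, (∀ r : R, lam r - r ∈ q'.asIdeal) →
      f ∉ q'.asIdeal →
      Module.finrank q'.asIdeal.ResidueField (fspan q' (symSet t))
        = Module.finrank q.asIdeal.ResidueField (fspan q (symSet t)) := by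
  haveI : IsAzumaya R A := hA.1
  have hN : ∀ p : PrimeSpectrum R,
      Module.finrank p.asIdeal.ResidueField (p.asIdeal.ResidueField ⊗[R] A) = n ^ 2 := by
    intro p
    rw [← hA.2 p, Module.rankAtStalk_eq]
  obtain ⟨f₁, hf₁, h₁⟩ := finrank_fspan_le (n ^ 2) hN (symSet t) q
  obtain ⟨f₂, hf₂, h₂⟩ := finrank_fspan_le (n ^ 2) hN (skewSet t) q
  refine ⟨f₁ * f₂, fun h => (q.isPrime.mem_or_mem h).elim hf₁ hf₂, fun q' hq' hfq' => ?_⟩
  have hf₁' : f₁ ∉ q'.asIdeal := fun h => hfq' (Ideal.mul_mem_right _ _ h)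
  have hf₂' : f₂ ∉ q'.asIdeal := fun h => hfq' (Ideal.mul_mem_left _ _ h)
  have e1 := h₁ q' hf₁'
  have e2 := h₂ q' hf₂'
  have e3 := Submodule.finrank_add_finrank_le_of_disjoint (disjoint_fspan t h2 q' hq')
  rw [hN q'] at e3
  have e4 := Submodule.finrank_add_le_finrank_add_finrank (fspan q (symSet t))
    (fspan q (skewSet t))
  rw [sup_fspan t h2 q, finrank_top, hN q] at e4
  omega

theorem main (h2 : IsUnit (2 : S)) (n : ℕ) (hA : AzInv.IsAzumayaDeg R A n)
    (q : PrimeSpectrum R) (hq : ∀ r : R, lam r - r ∈ q.asIdeal) :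
    ∃ f : R, f ∉ q.asIdeal ∧ ∀ q' : PrimeSpectrum R, (∀ r : R, lam r - r ∈ q'.asIdeal) →
      f ∉ q'.asIdeal →
      (Module.finrank q'.asIdeal.ResidueField
          (Submodule.span q'.asIdeal.ResidueField
            (Set.range fun a : {a : A // t a = a} =>
              (1 : q'.asIdeal.ResidueField) ⊗ₜ[R] (a : A))) = Nat.choose (n + 1) 2 ↔
        Module.finrank q.asIdeal.ResidueField
            (Submodule.span q.asIdeal.ResidueField
              (Set.range fun a : {a : A // t a = a} =>
                (1 : q.asIdeal.ResidueField) ⊗ₜ[R] (a : A))) = Nat.choose (n + 1) 2) := by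
  obtain ⟨f, hf, h⟩ := main_eq t h2 n hA q hq
  refine ⟨f, hf, fun q' hq' hfq' => ?_⟩
  have := h q' hq' hfq'
  unfold fspan at this
  rw [← range_eq, ← range_eq] at this
  rw [this]

end Groth.Agent.H80.SymRank

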