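import Mathlib
import Groth.Prelude.Def_AzInv
import Groth.Agent.H80.SignedInvol

/-! The orthogonal and symplectic types are different: rank count of symmetric elements. -/

set_option autoImplicit false
set_option linter.style.haveILetI false
set_option linter.unusedSectionVars false

namespace Groth.Agent.H80.SympType

open scoped TensorProduct
open AzInv Module Finset

section BC

variable {R : Type*} [CommRing R] {A : Type*} [AddCommGroup A] [Module R A] {ι : Type*}
  [Fintype ι] [DecidableEq ι]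
  (S' : Type*) [CommRing S'] [Algebra R S'] [Nontrivial S']

theorem neg_one_ne_one (h2 : IsUnit (2 : S')) : (-1 : S') ≠ 1 := by
  intro h
  have : (2 : S') = 0 := by
    have : (1 : S') + 1 = 0 := by nth_rewrite 1 [← h]; ring
    rw [← one_add_one_eq_two]; exact this
  rw [this] at h2
  exact not_isUnit_zero h2

open Classical in
theorem bc_rank (b : Basis ι R A) (T₀ : A →ₗ[R] A) (π : ι → ι) (hπ : ∀ i, π (π i) = i)
    (ε : ι → R) (hε : ∀ i, ε i = 1 ∨ ε i = -1) (hεπ : ∀ i, ε (π i) = ε i)
    (hT : ∀ i, T₀ (b i) = ε i • b (π i)) (h2 : IsUnit (2 : S')) :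
    2 * Module.finrank S' (LinearMap.ker (T₀.baseChange S' - LinearMap.id))
        + (univ.filter fun i => π i = i ∧ ε i = -1).card
      = Fintype.card ι + (univ.filter fun i => π i = i ∧ ε i = 1).card := by
  have hne := neg_one_ne_one S' h2
  have key := SignedInvol.two_mul_finrank_ker (Algebra.TensorProduct.basis S' b)
    (T₀.baseChange S') π hπ (fun i => algebraMap R S' (ε i))
    (fun i => by
      rcases hε i with h | h
      · left; simp [h]
      · right; simp [h])
    (fun i => by simp only [hεπ])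
    (fun i => by
      simp only [Algebra.TensorProduct.basis_apply, LinearMap.baseChange_tmul, hT,
        TensorProduct.tmul_smul, algebraMap_smul])
    h2
  have e1 : (univ.filter fun i => π i = i ∧ ε i = -1)
      = univ.filter fun i => π i = i ∧ algebraMap R S' (ε i) ≠ 1 := by
    refine Finset.filter_congr fun i _ => ?_
    constructor
    · rintro ⟨h1, h3⟩
      refine ⟨h1, ?_⟩
      rw [h3]; simpa using hne
    · rintro ⟨h1, h3⟩
      refine ⟨h1, ?_⟩
      rcases hε i with h | h
      · exact absurd (by simp [h]) h3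
      · exact h
  have e2 : (univ.filter fun i => π i = i ∧ ε i = 1)
      = univ.filter fun i => π i = i ∧ algebraMap R S' (ε i) = 1 := by
    refine Finset.filter_congr fun i _ => ?_
    constructor
    · rintro ⟨h1, h3⟩
      exact ⟨h1, by simp [h3]⟩
    · rintro ⟨h1, h3⟩
      refine ⟨h1, ?_⟩
      rcases hε i with h | h
      · exact h
      · rw [h] at h3
        exact absurd (by simpa using h3) hne
  rw [e1, e2]
  exact key

end BC

universe u

section Sides

variable {R : Type u} [CommRing R]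

theorem matrix_single {A : Type*} [Ring A] [Algebra R A] {lam : R → R} (t : LamInv R A lam)
    (n : Type*) [Fintype n] [DecidableEq n] (i j : n) (x : A) :
    t.matrix n (Matrix.single i j x) = Matrix.single j i (t x) := by
  ext a b
  simp only [LamInv.matrix_apply, Matrix.single_apply]
  by_cases h : i = b ∧ j = a
  · rw [if_pos h, if_pos ⟨h.2, h.1⟩]
  · rw [if_neg h, if_neg (fun h' => h ⟨h'.2, h'.1⟩), t.map_zero]

variable (hlam : ∀ r : R, (AlgEquiv.refl : R ≃ₐ[R] R) ((AlgEquiv.refl : R ≃ₐ[R] R) r) = r)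
  (S' : Type u) [CommRing S'] [Algebra R S'] [Nontrivial S'] (h2 : IsUnit (2 : S'))

include h2 in
theorem one_ne_neg_one : (1 : R) ≠ -1 := by
  intro h
  apply neg_one_ne_one S' h2
  have := congrArg (algebraMap R S') h
  simpa using this.symm

include h2 in
theorem side1 (n : ℕ) :
    2 * Module.finrank S' (LinearMap.ker
      (((LamInv.self (AlgEquiv.refl : R ≃ₐ[R] R) hlam).matrix (Fin n)).bc R
        (AlgEquiv.refl : R ≃ₐ[R] R) S' - LinearMap.id)) = n * n + n := by
  classical
  have key := bc_rank S' (Matrix.stdBasis R (Fin n) (Fin n))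
    (((LamInv.self (AlgEquiv.refl : R ≃ₐ[R] R) hlam).matrix (Fin n)).linS R AlgEquiv.refl)
    Prod.swap (fun p => Prod.swap_swap p) (fun _ => 1) (fun _ => Or.inl rfl) (fun _ => rfl)
    (fun p => by
      obtain ⟨i, j⟩ := p
      rw [Matrix.stdBasis_eq_single, LamInv.linS_apply, matrix_single, one_smul,
        Prod.swap_prod_mk, Matrix.stdBasis_eq_single, LamInv.map_one]) h2
  have e1 : (univ.filter fun p : Fin n × Fin n => Prod.swap p = p ∧ (1 : R) = -1) = ∅ := by
    refine Finset.filter_eq_empty_iff.mpr fun p _ h => ?_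
    exact one_ne_neg_one S' h2 h.2
  have e2 : (univ.filter fun p : Fin n × Fin n => Prod.swap p = p ∧ (1 : R) = 1)
      = (univ : Finset (Fin n)).diag := by
    ext ⟨i, j⟩
    simp only [mem_filter, mem_univ, true_and, Prod.swap_prod_mk, Prod.mk.injEq, and_true,
      mem_diag]
    constructor
    · rintro ⟨h, -⟩; exact h.symm
    · rintro h; exact ⟨h.symm, h⟩
  rw [e1, e2, Finset.diag_card] at key
  have key' : 2 * Module.finrank S' (LinearMap.ker
      (LinearMap.baseChange S' (((LamInv.self (AlgEquiv.refl : R ≃ₐ[R] R) hlam).matrix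
        (Fin n)).linS R AlgEquiv.refl) - LinearMap.id)) = n * n + n := by
    simpa using key
  exact key'

end Sides

section Side2

variable {R : Type u} [CommRing R]
  (hlam : ∀ r : R, (AlgEquiv.refl : R ≃ₐ[R] R) ((AlgEquiv.refl : R ≃ₐ[R] R) r) = r)
  (J : (Matrix (Fin 2) (Fin 2) R)ˣ)
  (hJ : (↑J : Matrix (Fin 2) (Fin 2) R) = Matrix.of ![![0, -1], ![1, 0]])
  (hJt : AzInv.LamInv.transpose (AlgEquiv.refl : R ≃ₐ[R] R) (Fin 2) hlam
    (↑J : Matrix (Fin 2) (Fin 2) R) = (-1 : R) • (↑J : Matrix (Fin 2) (Fin 2) R))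
  (hneg : (AlgEquiv.refl : R ≃ₐ[R] R) (-1) * (-1) = 1)

include hJ in
theorem J_inv : (↑J⁻¹ : Matrix (Fin 2) (Fin 2) R) = Matrix.of ![![0, 1], ![-1, 0]] := by
  apply Units.inv_eq_of_mul_eq_one_right
  rw [hJ]
  ext a b
  fin_cases a <;> fin_cases b <;> simp [Matrix.mul_apply, Fin.sum_univ_two]

include hJ in
theorem conj_single (k l : Fin 2) :
    ((AzInv.LamInv.transpose (AlgEquiv.refl : R ≃ₐ[R] R) (Fin 2) hlam).conj J (-1) hJt hneg)
        (Matrix.single k l 1)
      = (if k = l then (1 : R) else -1) • Matrix.single (Fin.rev l) (Fin.rev k) 1 := by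
  have htr : (AzInv.LamInv.transpose (AlgEquiv.refl : R ≃ₐ[R] R) (Fin 2) hlam)
      (Matrix.single k l 1) = Matrix.single l k 1 := by
    ext a b
    change (AlgEquiv.refl : R ≃ₐ[R] R) (Matrix.single k l (1 : R) b a) = _
    simp [Matrix.single_apply, and_comm]
  rw [LamInv.conj_apply, J_inv J hJ, hJ, htr]
  ext a b
  rw [Matrix.mul_apply, Fin.sum_univ_two, Matrix.mul_apply, Matrix.mul_apply, Fin.sum_univ_two,
    Fin.sum_univ_two]
  fin_cases k <;> fin_cases l <;> fin_cases a <;> fin_cases b <;>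
    simp

theorem fin2_rev_ne (k : Fin 2) : Fin.rev k ≠ k := by decide +revert

theorem fin2_ne_rev (k : Fin 2) : k ≠ Fin.rev k := by decide +revert

variable (S' : Type u) [CommRing S'] [Algebra R S'] [Nontrivial S'] (h2 : IsUnit (2 : S'))

include hJ h2 in
theorem side2 (n' : ℕ) :
    2 * Module.finrank S' (LinearMap.ker
      ((((AzInv.LamInv.transpose (AlgEquiv.refl : R ≃ₐ[R] R) (Fin 2) hlam).conj J (-1) hJt
        hneg).matrix (Fin n')).bc R (AlgEquiv.refl : R ≃ₐ[R] R) S' - LinearMap.id)) + n' * 2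
      = n' * n' * (2 * 2) := by
  classical
  have h1ne : (1 : R) ≠ -1 := one_ne_neg_one S' h2
  let π : Fin n' × Fin n' × (Fin 2 × Fin 2) → Fin n' × Fin n' × (Fin 2 × Fin 2) :=
    fun x => (x.2.1, x.1, (Fin.rev x.2.2.2, Fin.rev x.2.2.1))
  let ε : Fin n' × Fin n' × (Fin 2 × Fin 2) → R := fun x => if x.2.2.1 = x.2.2.2 then 1 else -1
  have key := bc_rank S' ((Matrix.stdBasis R (Fin 2) (Fin 2)).matrix (Fin n') (Fin n'))
    ((((AzInv.LamInv.transpose (AlgEquiv.refl : R ≃ₐ[R] R) (Fin 2) hlam).conj J (-1) hJt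
        hneg).matrix (Fin n')).linS R AlgEquiv.refl)
    π (fun x => by simp [π, Fin.rev_rev]) ε
    (fun x => by simp only [ε]; split_ifs <;> simp)
    (fun x => by
      simp only [ε, π, Fin.rev_inj]
      by_cases h : x.2.2.1 = x.2.2.2
      · rw [if_pos h, if_pos h.symm]
      · rw [if_neg h, if_neg (fun h' => h h'.symm)])
    (fun x => by
      obtain ⟨i, j, k, l⟩ := x
      rw [Basis.matrix_apply, Matrix.stdBasis_eq_single, LamInv.linS_apply, matrix_single,
        conj_single hlam J hJ hJt hneg, Basis.matrix_apply, Matrix.stdBasis_eq_single]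
      simp only [ε, Matrix.smul_single]) h2
  have e1 : (univ.filter fun x => π x = x ∧ ε x = 1) = ∅ := by
    refine Finset.filter_eq_empty_iff.mpr fun x _ h => ?_
    obtain ⟨i, j, k, l⟩ := x
    obtain ⟨h3, h4⟩ := h
    simp only [π, Prod.mk.injEq] at h3
    simp only [ε] at h4
    by_cases hkl : k = l
    · subst hkl
      exact fin2_rev_ne k h3.2.2.1
    · rw [if_neg hkl] at h4
      exact h1ne h4.symm
  have e2 : (univ.filter fun x => π x = x ∧ ε x = -1).card = n' * 2 := by
    have : (univ.filter fun x => π x = x ∧ ε x = -1).card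
        = (univ : Finset (Fin n' × Fin 2)).card := by
      refine Finset.card_nbij' (fun x => (x.1, x.2.2.1)) (fun p => (p.1, p.1, (p.2, Fin.rev p.2)))
        ?_ ?_ ?_ ?_
      · intro x _; simp
      · intro p _
        simp only [coe_filter, mem_univ, true_and, Set.mem_ofPred_eq, π, ε, Fin.rev_rev]
        exact if_neg (fin2_ne_rev p.2)
      · intro x hx
        obtain ⟨i, j, k, l⟩ := x
        simp only [coe_filter, mem_univ, true_and, Set.mem_ofPred_eq, π, Prod.mk.injEq] at hx
        obtain ⟨⟨h3, h4, h5, h6⟩, -⟩ := hx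
        simp only [Prod.mk.injEq, true_and]
        exact ⟨h4, h6⟩
      · intro p _; rfl
    rw [this]
    simp
  rw [e1, e2] at key
  have key' : 2 * Module.finrank S' (LinearMap.ker
      (LinearMap.baseChange S' ((((AzInv.LamInv.transpose (AlgEquiv.refl : R ≃ₐ[R] R) (Fin 2)
        hlam).conj J (-1) hJt hneg).matrix (Fin n')).linS R AlgEquiv.refl) - LinearMap.id))
      + n' * 2 = n' * n' * (2 * 2) := by
    simpa [mul_assoc] using key
  exact key'

end Side2

section Main

theorem finrank_ker_eq_of_conj {S V W : Type*} [CommRing S] [AddCommGroup V] [Module S V]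
    [AddCommGroup W] [Module S W] (f : V ≃ₗ[S] W) (T : V →ₗ[S] V) (T' : W →ₗ[S] W)
    (hf : ∀ x, f (T x) = T' (f x)) :
    Module.finrank S (LinearMap.ker (T - LinearMap.id))
      = Module.finrank S (LinearMap.ker (T' - LinearMap.id)) := by
  have hker : Submodule.map (f : V →ₗ[S] W) (LinearMap.ker (T - LinearMap.id))
      = LinearMap.ker (T' - LinearMap.id) := by
    ext y
    simp only [Submodule.mem_map, LinearMap.mem_ker, LinearMap.sub_apply, LinearMap.id_apply,
      sub_eq_zero, LinearEquiv.coe_coe]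
    constructor
    · rintro ⟨x, hx, rfl⟩
      rw [← hf, hx]
    · intro hy
      refine ⟨f.symm y, ?_, f.apply_symm_apply y⟩
      apply f.injective
      rw [hf, f.apply_symm_apply, hy]
  rw [← hker]
  exact (LinearEquiv.finrank_map_eq f _).symm

theorem main (R : Type u) [CommRing R]
    (hlam : ∀ r : R, (AlgEquiv.refl : R ≃ₐ[R] R) ((AlgEquiv.refl : R ≃ₐ[R] R) r) = r)
    [Nontrivial R] (h2 : IsUnit (2 : R))
    (J : (Matrix (Fin 2) (Fin 2) R)ˣ)
    (hJ : (↑J : Matrix (Fin 2) (Fin 2) R) = Matrix.of ![![0, -1], ![1, 0]])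
    (hJt : AzInv.LamInv.transpose (AlgEquiv.refl : R ≃ₐ[R] R) (Fin 2) hlam
      (↑J : Matrix (Fin 2) (Fin 2) R) = (-1 : R) • (↑J : Matrix (Fin 2) (Fin 2) R))
    (hneg : (AlgEquiv.refl : R ≃ₐ[R] R) (-1) * (-1) = 1) :
    ¬ AzInv.SameType R (AlgEquiv.refl : R ≃ₐ[R] R)
      (AzInv.LamInv.self (AlgEquiv.refl : R ≃ₐ[R] R) hlam)
      ((AzInv.LamInv.transpose (AlgEquiv.refl : R ≃ₐ[R] R) (Fin 2) hlam).conj J (-1) hJt
        hneg) := by
  rintro ⟨n, n', hn, hn', S', instCR, instAlg, instEt, instFF, f, -, hf⟩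
  haveI : Nontrivial S' := (FaithfulSMul.algebraMap_injective R S').nontrivial
  have h2' : IsUnit (2 : S') := by
    have := h2.map (algebraMap R S')
    rwa [map_ofNat] at this
  have hr := finrank_ker_eq_of_conj f.toLinearEquiv _ _ hf
  have htot : n * n = n' * n' * (2 * 2) := by
    have := f.toLinearEquiv.finrank_eq
    rw [Module.finrank_eq_card_basis
        (Algebra.TensorProduct.basis S' (Matrix.stdBasis R (Fin n) (Fin n))),
      Module.finrank_eq_card_basis (Algebra.TensorProduct.basis S'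
        ((Matrix.stdBasis R (Fin 2) (Fin 2)).matrix (Fin n') (Fin n')))] at this
    simpa [mul_assoc] using this
  have s1 := side1 hlam S' h2' n
  have s2 := side2 hlam J hJ hJt hneg S' h2' n'
  rw [hr] at s1
  nlinarith

end Main

end Groth.Agent.H80.SympType
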