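import Groth.Agent.H80.TraceFilt
import Groth.Agent.H80.CompleteExt2

/-!
# The different of an extension of DVRs is `m_B^(e-1)` iff tamely ramified
-/

namespace Groth.Agent.H80.TameDiff

open IsLocalRing

set_option linter.unusedSectionVars false
set_option linter.style.haveILetI false

attribute [local instance] FractionRing.liftAlgebra FractionRing.isScalarTower_liftAlgebra

universe u

variable (A B : Type u) [CommRing A] [IsDomain A] [IsDiscreteValuationRing A]
    [CommRing B] [IsDomain B] [IsDiscreteValuationRing B] [Algebra A B] [Module.Finite A B]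
    [Module.IsTorsionFree A B] [IsLocalHom (algebraMap A B)]

local notation "p" => maximalIdeal A
local notation "P" => maximalIdeal B
local notation "pB" => Ideal.map (algebraMap A B) (maximalIdeal A)

lemma maximalIdeal_ne_bot' : p ≠ ⊥ := IsDiscreteValuationRing.not_a_field A

lemma map_ne_bot : pB ≠ ⊥ :=
  Ideal.map_ne_bot_of_ne_bot (maximalIdeal_ne_bot' A)

lemma map_eq_pow : pB = P ^ (Ideal.ramificationIdx P A) := by
  classical
  have h0 := map_ne_bot A B
  have h := Groth.Agent.H80.exists_eq_pow_of_unique_maximal P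
    (fun M' hM' => IsLocalRing.eq_maximalIdeal hM') h0
  rw [Ideal.IsDedekindDomain.ramificationIdx_eq_normalizedFactors_count p P h0]
  exact h.1

lemma ramificationIdx_pos' : 0 < Ideal.ramificationIdx P A := Ideal.ramificationIdx_pos (maximalIdeal B) A


section Different

variable [Algebra.IsSeparable (FractionRing A) (FractionRing B)]

open scoped nonZeroDivisors

/-- if all integral traces lie in `p`, then the different is contained in `pB`. -/
lemma differentIdeal_le_map_of_forall_intTrace_mem
    (h : ∀ x : B, Algebra.intTrace A B x ∈ p) : differentIdeal A B ≤ pB := by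
  obtain ⟨ϖ, hϖ⟩ := IsDiscreteValuationRing.exists_irreducible A
  have hp : p = Ideal.span {ϖ} := hϖ.maximalIdeal_eq
  let K := FractionRing A
  let L := FractionRing B
  have : IsLocalization (Algebra.algebraMapSubmonoid B A⁰) L :=
    IsIntegralClosure.isLocalization _ K _ _
  have : FiniteDimensional K L := .of_isLocalization A B A⁰
  intro d hd
  have hd' : algebraMap B L d ∈ IsLocalization.coeSubmodule L (differentIdeal A B) :=
    ⟨d, hd, rfl⟩
  rw [coeSubmodule_differentIdeal A K, Submodule.mem_div_iff_forall_mul_mem] at hd'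
  have hϖK : algebraMap A K ϖ ≠ 0 := by
    rw [Ne, map_eq_zero_iff _ (IsFractionRing.injective A K)]
    exact hϖ.ne_zero
  have hϖL : (algebraMap A L ϖ)⁻¹ = algebraMap K L (algebraMap A K ϖ)⁻¹ := by
    rw [map_inv₀, ← IsScalarTower.algebraMap_apply]
  have hz : (algebraMap A L ϖ)⁻¹ ∈ Submodule.traceDual A K (1 : Submodule B L) := by
    rw [Submodule.mem_traceDual]
    intro b hb
    obtain ⟨b', rfl⟩ := Submodule.mem_one.mp hb
    have hmem : Algebra.intTrace A B b' ∈ Ideal.span {ϖ} := hp ▸ h b'
    obtain ⟨a', ha'⟩ := Ideal.mem_span_singleton'.mp hmem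
    refine ⟨a', ?_⟩
    rw [Algebra.traceForm_apply, hϖL, ← Algebra.smul_def, map_smul,
      ← Algebra.algebraMap_intTrace (A := A), ← ha', map_mul, smul_eq_mul]
    rw [mul_comm _ (algebraMap A K ϖ), inv_mul_cancel_left₀ hϖK]
  obtain ⟨b'', hb''⟩ := Submodule.mem_one.mp (hd' _ hz)
  have hϖL0 : algebraMap A L ϖ ≠ 0 := by
    rw [IsScalarTower.algebraMap_apply A K L]
    exact (map_ne_zero _).mpr hϖK
  have hdeq : d = algebraMap A B ϖ * b'' := by
    apply IsFractionRing.injective B L
    rw [map_mul, hb'', ← IsScalarTower.algebraMap_apply, mul_comm, inv_mul_cancel_right₀ hϖL0]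
  rw [hdeq]
  exact Ideal.mul_mem_right _ _ (Ideal.mem_map_of_mem _ (hp ▸ Ideal.mem_span_singleton_self ϖ))


theorem differentIdeal_eq_pow_iff_exists_intTrace_notMem :
    differentIdeal A B = P ^ (Ideal.ramificationIdx P A - 1) ↔
      ∃ x : B, Algebra.intTrace A B x ∉ p := by
  classical
  have he := ramificationIdx_pos' A B
  have hpow := map_eq_pow A B
  set e := Ideal.ramificationIdx P A with he_def
  have hP0 : (P : Ideal B) ≠ 0 := IsDiscreteValuationRing.not_a_field B
  have hPunit : ¬ IsUnit (P : Ideal B) := by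
    rw [Ideal.isUnit_iff]
    exact (maximalIdeal.isMaximal B).ne_top
  have hD0 : differentIdeal A B ≠ ⊥ := differentIdeal_ne_bot
  obtain ⟨hDn, -⟩ := Groth.Agent.H80.exists_eq_pow_of_unique_maximal P
    (fun M' hM' => IsLocalRing.eq_maximalIdeal hM') hD0
  set n := Multiset.count P (UniqueFactorizationMonoid.normalizedFactors (differentIdeal A B))
  have hdvd : P ^ (e - 1) ∣ differentIdeal A B :=
    pow_sub_one_dvd_differentIdeal A P e (maximalIdeal_ne_bot' A) (hpow ▸ dvd_rfl)
  have hle : e - 1 ≤ n := by
    rw [hDn] at hdvd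
    exact (pow_dvd_pow_iff hP0 hPunit).mp hdvd
  constructor
  · intro hD
    by_contra hcon
    push Not at hcon
    have h1 := differentIdeal_le_map_of_forall_intTrace_mem A B hcon
    rw [hpow, hD] at h1
    have h2 := (pow_dvd_pow_iff hP0 hPunit).mp (Ideal.dvd_iff_le.mpr h1)
    omega
  · rintro ⟨x, hx⟩
    have hnd : ¬ P ^ e ∣ differentIdeal A B :=
      not_dvd_differentIdeal_of_intTrace_not_mem A (P ^ e) ⊤
        (by rw [Ideal.mul_top, hpow]) x trivial hx
    rw [hDn] at hnd ⊢
    have h3 : ¬ e ≤ n := fun h => hnd (pow_dvd_pow _ h)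
    congr 1
    omega

end Different


section Quotient

lemma map_le_maximalIdeal : pB ≤ P := by
  rw [Ideal.map_le_iff_le_comap]
  exact ((maximalIdeal B).over_def (maximalIdeal A)).le

instance nontrivial_quot : Nontrivial (B ⧸ pB) :=
  Ideal.Quotient.nontrivial_iff.mpr
    (fun h => (maximalIdeal.isMaximal B).ne_top (top_le_iff.mp (h ▸ map_le_maximalIdeal A B)))

instance isLocalRing_quot : IsLocalRing (B ⧸ pB) :=
  IsLocalRing.of_surjective' (Ideal.Quotient.mk pB) Ideal.Quotient.mk_surjective

noncomputable instance algebra_quot : Algebra (ResidueField A) (B ⧸ pB) :=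
  inferInstanceAs (Algebra (A ⧸ p) (B ⧸ pB))

instance finite_quot : Module.Finite (ResidueField A) (B ⧸ pB) :=
  inferInstanceAs (Module.Finite (A ⧸ p) (B ⧸ pB))

lemma length_quot : Module.length (B ⧸ pB) (B ⧸ pB) = Ideal.ramificationIdx P A := by
  rw [← Module.length_eq_of_surjective (S := B) (R := B ⧸ pB) (M := B ⧸ pB)
    Ideal.Quotient.mk_surjective]
  have h := map_eq_pow A B
  rw [(Submodule.quotEquivOfEq _ _ h).length_eq,
    IsDiscreteValuationRing.length_quotient_pow_maximalIdeal]

end Quotient


section Main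

attribute [-instance] IsLocalRing.ResidueField.algebraOfIsIntegral

/-- the canonical map `B ⧸ pB → B ⧸ P` as an algebra hom over the residue field of `A`. -/
noncomputable def toRes : (B ⧸ pB) →ₐ[ResidueField A] ResidueField B :=
  { Ideal.Quotient.factor (map_le_maximalIdeal A B) with
    commutes' := by
      intro r
      obtain ⟨a, rfl⟩ := Ideal.Quotient.mk_surjective r
      rfl }

lemma toRes_surjective : Function.Surjective (toRes A B) := by
  intro y
  obtain ⟨b, rfl⟩ := Ideal.Quotient.mk_surjective y
  exact ⟨Ideal.Quotient.mk _ b, rfl⟩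

/-- the residue field of `B ⧸ pB` is the residue field of `B`. -/
noncomputable def resEquiv : ResidueField (B ⧸ pB) ≃ₐ[ResidueField A] ResidueField B :=
  have hker : maximalIdeal (B ⧸ pB) = RingHom.ker (toRes A B) :=
    (IsLocalRing.eq_maximalIdeal
      (RingHom.ker_isMaximal_of_surjective (toRes A B) (toRes_surjective A B))).symm
  (Ideal.quotientEquivAlgOfEq (ResidueField A) hker).trans
    (Ideal.quotientKerAlgEquivOfSurjective (toRes_surjective A B))

variable [Algebra.IsSeparable (FractionRing A) (FractionRing B)]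

theorem differentIdeal_eq_pow_iff_tame :
    differentIdeal A B = P ^ (Ideal.ramificationIdx P A - 1) ↔
      (Algebra.IsSeparable (ResidueField A) (ResidueField B) ∧
        ((Ideal.ramificationIdx P A : ℕ) : ResidueField A) ≠ 0) := by
  rw [differentIdeal_eq_pow_iff_exists_intTrace_notMem]
  have h1 : (∃ x : B, Algebra.intTrace A B x ∉ p) ↔
      Algebra.trace (ResidueField A) (B ⧸ pB) ≠ 0 := by
    constructor
    · rintro ⟨x, hx⟩ h0
      apply hx
      rw [← Ideal.Quotient.eq_zero_iff_mem, ← Algebra.trace_quotient_eq_of_isDedekindDomain B]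
      exact congrArg (fun f => f (Ideal.Quotient.mk pB x)) h0
    · intro h
      by_contra hcon
      push Not at hcon
      apply h
      apply LinearMap.ext
      intro y
      obtain ⟨x, rfl⟩ := Ideal.Quotient.mk_surjective y
      have := Algebra.trace_quotient_eq_of_isDedekindDomain B (maximalIdeal A) x
      rw [LinearMap.zero_apply]
      refine Eq.trans this ?_
      exact Ideal.Quotient.eq_zero_iff_mem.mpr (hcon x)
  rw [h1, TraceFilt.trace_ne_zero_iff, length_quot, ENat.toNat_natCast, and_comm,
    AlgEquiv.Algebra.isSeparable_iff (resEquiv A B)]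

end Main

end Groth.Agent.H80.TameDiff
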