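import Mathlib
import Groth.Agent.S1964

/-!
# Tame Kummer extensions over a henselian DVR

* `exists_pow_eq_of_isUnit`, `exists_isPrimitiveRoot`: roots of units / primitive roots of unity in a
  henselian local ring with algebraically closed residue field, of order prime to the residue
  characteristic.
* `irreducible_X_pow_sub_C`: `X ^ n - t` is irreducible over the fraction field for a uniformizer `t`.
* `exists_root_adjoinRoot`: an Eisenstein polynomial `f` of degree `e` (invertible in `O`) over a
  henselian DVR has a root in `O[X]/(X ^ e + f(0))`.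
-/

set_option autoImplicit false
set_option linter.unusedSimpArgs false
set_option linter.style.haveILetI false

open Polynomial IsLocalRing
open scoped IntermediateField

namespace Groth.Agent.H80.TameKummer

universe u

section Hensel

variable {O : Type u} [CommRing O] [HenselianLocalRing O]

/-- `r`-th roots of units in a henselian local ring with algebraically closed residue field. -/
theorem exists_pow_eq_of_isUnit [IsAlgClosed (ResidueField O)] (r : ℕ)
    (hr : (r : ResidueField O) ≠ 0) (v : O) (hv : IsUnit v) : ∃ w : O, w ^ r = v := by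
  have hr0 : r ≠ 0 := by rintro rfl; simp at hr
  obtain ⟨wb, hwb⟩ := IsAlgClosed.exists_pow_nat_eq (residue O v) (Nat.pos_of_ne_zero hr0)
  obtain ⟨w₀, rfl⟩ := residue_surjective wb
  have hvb : residue O v ≠ 0 := by
    rw [Ne, residue_eq_zero_iff]
    exact fun h => (mem_maximalIdeal _).mp h hv
  have hw0 : residue O w₀ ≠ 0 := by
    intro h
    rw [h, zero_pow hr0] at hwb
    exact hvb hwb.symm
  have hmon : (X ^ r - C v : O[X]).Monic := monic_X_pow_sub_C v hr0
  obtain ⟨a, ha, -⟩ := HenselianLocalRing.is_henselian (X ^ r - C v : O[X]) hmon w₀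
    (by
      rw [← residue_eq_zero_iff]
      simp [hwb])
    (by
      have : residue O ((derivative (X ^ r - C v : O[X])).eval w₀) ≠ 0 := by
        simp only [derivative_sub, derivative_X_pow, derivative_C, sub_zero, eval_mul, eval_C,
          eval_pow, eval_X, map_mul, map_natCast, map_pow, eval_natCast]
        exact mul_ne_zero hr (pow_ne_zero _ hw0)
      rw [Ne, residue_eq_zero_iff, mem_maximalIdeal, mem_nonunits_iff, not_not] at this
      exact this)
  refine ⟨a, ?_⟩
  have := ha
  rw [IsRoot.def, eval_sub, eval_pow, eval_X, eval_C, sub_eq_zero] at this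
  exact this

/-- primitive roots of unity in a henselian local ring with algebraically closed residue field. -/
theorem exists_isPrimitiveRoot [IsAlgClosed (ResidueField O)] (r : ℕ)
    (hr : (r : ResidueField O) ≠ 0) : ∃ ζ : O, IsPrimitiveRoot ζ r := by
  have hr0 : r ≠ 0 := by rintro rfl; simp at hr
  haveI : NeZero (r : ResidueField O) := ⟨hr⟩
  obtain ⟨ζb, hζb⟩ := HasEnoughRootsOfUnity.exists_primitiveRoot (ResidueField O) r
  obtain ⟨ζ₀, rfl⟩ := residue_surjective ζb
  have hz0 : residue O ζ₀ ≠ 0 := hζb.ne_zero hr0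
  have hmon : (X ^ r - C 1 : O[X]).Monic := monic_X_pow_sub_C 1 hr0
  obtain ⟨a, ha, ha2⟩ := HenselianLocalRing.is_henselian (X ^ r - C 1 : O[X]) hmon ζ₀
    (by
      rw [← residue_eq_zero_iff]
      simp [hζb.pow_eq_one])
    (by
      have : residue O ((derivative (X ^ r - C 1 : O[X])).eval ζ₀) ≠ 0 := by
        simp only [derivative_sub, derivative_X_pow, derivative_C, sub_zero, eval_mul, eval_C,
          eval_pow, eval_X, map_mul, map_natCast, map_pow, eval_natCast]
        exact mul_ne_zero hr (pow_ne_zero _ hz0)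
      rw [Ne, residue_eq_zero_iff, mem_maximalIdeal, mem_nonunits_iff, not_not] at this
      exact this)
  have hres : residue O a = residue O ζ₀ := by
    rw [← sub_eq_zero, ← map_sub, residue_eq_zero_iff]
    exact ha2
  refine ⟨a, ?_, ?_⟩
  · have := ha
    rw [IsRoot.def, eval_sub, eval_pow, eval_X, eval_C, sub_eq_zero] at this
    exact this
  · intro l hl
    apply hζb.dvd_of_pow_eq_one
    rw [← hres, ← map_pow, hl, map_one]

end Hensel

section DVR

variable {O : Type u} [CommRing O] [IsDomain O] [IsDiscreteValuationRing O]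

/-- an element of `m \ m²` generates the maximal ideal. -/
theorem maximalIdeal_eq_span_of_notMem_sq {t : O} (ht : t ∈ maximalIdeal O)
    (ht2 : t ∉ maximalIdeal O ^ 2) : maximalIdeal O = Ideal.span {t} := by
  obtain ⟨ϖ, hϖ⟩ := IsDiscreteValuationRing.exists_irreducible O
  have hm := (IsDiscreteValuationRing.irreducible_iff_uniformizer ϖ).mp hϖ
  rw [hm, Ideal.mem_span_singleton'] at ht
  obtain ⟨c, rfl⟩ := ht
  have hc : IsUnit c := by
    by_contra hc
    apply ht2
    have hcm : c ∈ maximalIdeal O := (mem_maximalIdeal c).mpr hc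
    rw [pow_two]
    exact Ideal.mul_mem_mul hcm (hm ▸ Ideal.mem_span_singleton_self ϖ)
  rw [hm]
  apply le_antisymm
  · rw [Ideal.span_singleton_le_iff_mem, Ideal.mem_span_singleton']
    obtain ⟨u, rfl⟩ := hc
    exact ⟨↑u⁻¹, by rw [← mul_assoc, Units.inv_mul, one_mul]⟩
  · rw [Ideal.span_singleton_le_iff_mem, Ideal.mem_span_singleton']
    exact ⟨c, rfl⟩

theorem isEisensteinAt_X_pow_sub_C (n : ℕ) (hn : 0 < n) (t : O) (ht : t ∈ maximalIdeal O)
    (ht2 : t ∉ maximalIdeal O ^ 2) : (X ^ n - C t : O[X]).IsEisensteinAt (maximalIdeal O) := by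
  have hmon : (X ^ n - C t : O[X]).Monic := monic_X_pow_sub_C t hn.ne'
  have hdeg : (X ^ n - C t : O[X]).natDegree = n := natDegree_X_pow_sub_C
  refine ⟨?_, ?_, ?_⟩
  · rw [hmon.leadingCoeff]
    exact fun h => (maximalIdeal.isMaximal O).ne_top ((Ideal.eq_top_iff_one _).mpr h)
  · intro i hi
    rw [hdeg] at hi
    rw [coeff_sub, coeff_X_pow, if_neg hi.ne, zero_sub, coeff_C]
    split_ifs
    · exact neg_mem ht
    · simp
  · rw [coeff_sub, coeff_X_pow, if_neg hn.ne, zero_sub, coeff_C_zero]
    intro h
    exact ht2 (by simpa using neg_mem h)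

theorem irreducible_X_pow_sub_C_int (n : ℕ) (hn : 0 < n) (t : O) (ht : t ∈ maximalIdeal O)
    (ht2 : t ∉ maximalIdeal O ^ 2) : Irreducible (X ^ n - C t : O[X]) := by
  have hmon : (X ^ n - C t : O[X]).Monic := monic_X_pow_sub_C t hn.ne'
  refine (isEisensteinAt_X_pow_sub_C n hn t ht ht2).irreducible
    (maximalIdeal.isMaximal O).isPrime hmon.isPrimitive ?_
  rw [natDegree_X_pow_sub_C]
  exact hn

theorem irreducible_X_pow_sub_C (K : Type*) [Field K] [Algebra O K] [IsFractionRing O K]
    (n : ℕ) (hn : 0 < n) (t : O) (ht : t ∈ maximalIdeal O) (ht2 : t ∉ maximalIdeal O ^ 2) :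
    Irreducible (X ^ n - C (algebraMap O K t) : K[X]) := by
  have hmon : (X ^ n - C t : O[X]).Monic := monic_X_pow_sub_C t hn.ne'
  have h := (hmon.irreducible_iff_irreducible_map_fraction_map (K := K)).mp
    (irreducible_X_pow_sub_C_int n hn t ht ht2)
  simpa using h

end DVR

section Eisenstein

variable {O : Type u} [CommRing O] [IsDomain O] [IsDiscreteValuationRing O] [HenselianLocalRing O]

/-- An Eisenstein polynomial `f` of degree `e` with `e` invertible in the henselian DVR `O` has a
root in `O[X]/(X ^ e + f(0))`, of the shape `θ z` with `θ` the adjoined root. -/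
theorem exists_root_adjoinRoot (f : O[X]) (hmon : f.Monic) (e : ℕ) (hdeg : f.natDegree = e)
    (he : 1 ≤ e) (heu : IsUnit (e : O)) (hf : f.IsEisensteinAt (maximalIdeal O)) :
    ∃ z : AdjoinRoot (X ^ e - C (- f.coeff 0) : O[X]),
      f.eval₂ (AdjoinRoot.of _) (AdjoinRoot.root _ * z) = 0 := by
  set τ : O := - f.coeff 0 with hτ
  have he0 : e ≠ 0 := by omega
  have hτm : τ ∈ maximalIdeal O := neg_mem (hf.mem (by rw [hdeg]; omega))
  have hτ2 : τ ∉ maximalIdeal O ^ 2 := fun h => hf.notMem (by simpa [hτ] using neg_mem h)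
  have hτ0 : τ ≠ 0 := fun h => hτ2 (h ▸ zero_mem _)
  have hmax := maximalIdeal_eq_span_of_notMem_sq hτm hτ2
  set P₀ : O[X] := X ^ e - C τ with hP₀
  have hP₀mon : P₀.Monic := monic_X_pow_sub_C τ he0
  have hP₀irr : Irreducible P₀ := irreducible_X_pow_sub_C_int e (by omega) τ hτm hτ2
  haveI : IsDomain (AdjoinRoot P₀) := AdjoinRoot.isDomain_of_prime hP₀irr.prime
  haveI : Module.Finite O (AdjoinRoot P₀) := hP₀mon.finite_adjoinRoot
  haveI : Algebra.IsIntegral O (AdjoinRoot P₀) := Algebra.IsIntegral.of_finite O _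
  obtain ⟨hH, hloc, -⟩ := Groth.Agent.S1964.result O (AdjoinRoot P₀)
  set T := AdjoinRoot P₀ with hT
  set θ : T := AdjoinRoot.root P₀ with hθ
  let φ : O →+* T := AdjoinRoot.of P₀
  have hφ : φ = algebraMap O T := rfl
  have hθe : θ ^ e = φ τ := by
    have h := AdjoinRoot.eval₂_root P₀
    rw [hP₀, eval₂_sub, eval₂_pow, eval₂_X, eval₂_C, sub_eq_zero] at h
    exact h
  have hτT : φ τ ∈ maximalIdeal T := by
    rw [mem_maximalIdeal, mem_nonunits_iff]
    intro hu
    have : IsUnit τ := hloc.map_nonunit τ hu
    exact (mem_maximalIdeal τ).mp hτm this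
  have hθm : θ ∈ maximalIdeal T :=
    (maximalIdeal.isMaximal T).isPrime.mem_of_pow_mem e (hθe ▸ hτT)
  -- coefficients
  have hc : ∀ i, ∃ c : O, i < e → f.coeff i = τ * c := by
    intro i
    by_cases hi : i < e
    · have := hf.mem (n := i) (by rw [hdeg]; exact hi)
      rw [hmax, Ideal.mem_span_singleton'] at this
      obtain ⟨c, hc⟩ := this
      exact ⟨c, fun _ => by rw [← hc, mul_comm]⟩
    · exact ⟨0, fun h => absurd h hi⟩
  choose c hc using hc
  have hc0 : 1 + c 0 = 0 := by
    have h := hc 0 (by omega)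
    have : τ * (1 + c 0) = 0 := by rw [mul_add, mul_one, ← h, hτ]; ring
    exact (mul_eq_zero.mp this).resolve_left hτ0
  -- the transformed polynomial
  set q : T[X] := ∑ i ∈ Finset.range e, C (φ (c i) * θ ^ i) * X ^ i with hq
  have hqdeg : q.degree < (e : WithBot ℕ) := by
    refine (degree_sum_le _ _).trans_lt ?_
    refine (Finset.sup_lt_iff (WithBot.bot_lt_coe e)).mpr ?_
    intro i hi
    exact (degree_C_mul_X_pow_le i _).trans_lt (WithBot.coe_lt_coe.mpr (Finset.mem_range.mp hi))
  have hgmon : (X ^ e + q).Monic := monic_X_pow_add hqdeg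
  have hrel : ∀ z : T, f.eval₂ φ (θ * z) = θ ^ e * (X ^ e + q).eval z := by
    intro z
    rw [eval₂_eq_sum_range, hdeg, Finset.sum_range_succ, ← hdeg, hmon.coeff_natDegree, hdeg,
      map_one, one_mul, eval_add, eval_pow, eval_X, hq, eval_finsetSum, mul_add, Finset.mul_sum,
      mul_pow, add_comm]
    congr 1
    refine Finset.sum_congr rfl fun i hi => ?_
    rw [hc i (Finset.mem_range.mp hi), map_mul, ← hθe, eval_mul, eval_C, eval_pow, eval_X, mul_pow]
    ring
  -- Hensel at `1`
  have h1 : (X ^ e + q).eval 1 ∈ maximalIdeal T := by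
    rw [eval_add, eval_pow, eval_X, one_pow, hq, eval_finsetSum]
    have hsplit : Finset.range e = insert 0 ((Finset.range e).erase 0) := by
      rw [Finset.insert_erase]; exact Finset.mem_range.mpr (by omega)
    rw [hsplit, Finset.sum_insert (Finset.notMem_erase 0 _)]
    simp only [eval_mul, eval_C, eval_pow, eval_X, one_pow, mul_one, pow_zero]
    rw [← add_assoc, ← map_one φ, ← map_add, hc0, map_zero, zero_add]
    refine Ideal.sum_mem _ fun i hi => ?_
    have hi0 : i ≠ 0 := (Finset.mem_erase.mp hi).1
    exact Ideal.mul_mem_left _ _ (Ideal.pow_mem_of_mem _ hθm i (Nat.pos_of_ne_zero hi0))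
  have h2 : IsUnit ((derivative (X ^ e + q)).eval 1) := by
    have hd : (derivative (X ^ e + q)).eval 1 =
        (e : T) + ∑ i ∈ Finset.range e, φ (c i) * θ ^ i * (i : T) := by
      rw [derivative_add, derivative_X_pow, hq, derivative_sum, eval_add, eval_mul, eval_pow, eval_X,
        one_pow, mul_one, eval_finsetSum]
      congr 1
      · simp
      · refine Finset.sum_congr rfl fun i _ => ?_
        rw [derivative_C_mul_X_pow]
        simp
    rw [hd]
    have hsum : ∑ i ∈ Finset.range e, φ (c i) * θ ^ i * (i : T) ∈ maximalIdeal T := by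
      refine Ideal.sum_mem _ fun i _ => ?_
      rcases Nat.eq_zero_or_pos i with rfl | hi
      · simp
      · exact Ideal.mul_mem_right _ _ (Ideal.mul_mem_left _ _ (Ideal.pow_mem_of_mem _ hθm i hi))
    have heT : IsUnit (e : T) := by
      have := heu.map φ
      rwa [map_natCast] at this
    by_contra hnu
    have hmem : (e : T) + ∑ i ∈ Finset.range e, φ (c i) * θ ^ i * (i : T) ∈ maximalIdeal T :=
      (mem_maximalIdeal _).mpr hnu
    have : (e : T) ∈ maximalIdeal T := by
      have := Ideal.sub_mem _ hmem hsum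
      rwa [add_sub_cancel_right] at this
    exact (mem_maximalIdeal _).mp this heT
  obtain ⟨z, hz, -⟩ := HenselianLocalRing.is_henselian (X ^ e + q) hgmon 1 h1 h2
  refine ⟨z, ?_⟩
  rw [hrel z, hz, mul_zero]

end Eisenstein

section Field

variable (O : Type u) [CommRing O] [IsDomain O] [IsDiscreteValuationRing O] [HenselianLocalRing O]
  [IsAlgClosed (ResidueField O)] (K : Type u) [Field K] [Algebra O K] [IsFractionRing O K]

theorem isUnit_natCast_of_residue_ne_zero {O : Type*} [CommRing O] [IsLocalRing O] (e : ℕ)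
    (hek : (e : ResidueField O) ≠ 0) : IsUnit (e : O) := by
  by_contra h
  apply hek
  rw [← map_natCast (residue O), residue_eq_zero_iff]
  exact (mem_maximalIdeal _).mpr h

theorem primitiveRoots_nonempty (e : ℕ) (hek : (e : ResidueField O) ≠ 0) :
    (primitiveRoots e K).Nonempty := by
  have he0 : e ≠ 0 := by rintro rfl; simp at hek
  obtain ⟨ζ, hζ⟩ := exists_isPrimitiveRoot (O := O) e hek
  exact ⟨algebraMap O K ζ, (mem_primitiveRoots (Nat.pos_of_ne_zero he0)).mpr
    (hζ.map_of_injective (IsFractionRing.injective O K))⟩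

/-- A splitting field criterion: a Galois extension `M/K` of degree `deg f` containing a root of the
irreducible monic polynomial `f` is a splitting field of `f`. -/
theorem isSplittingField_of_root {K M : Type*} [Field K] [Field M] [Algebra K M]
    [FiniteDimensional K M] [Normal K M] (g : K[X]) (hg : Irreducible g) (hgm : g.Monic)
    (a : M) (ha : aeval a g = 0) (hdeg : g.natDegree = Module.finrank K M) :
    IsSplittingField K M g := by
  have hmin : g = minpoly K a := minpoly.eq_of_irreducible_of_monic hg ha hgm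
  have hint : IsIntegral K a := Algebra.IsIntegral.isIntegral a
  constructor
  · rw [hmin]
    exact Normal.splits inferInstance a
  · have h1 : K⟮a⟯ = ⊤ := by
      apply IntermediateField.eq_of_le_of_finrank_eq le_top
      rw [IntermediateField.adjoin.finrank hint, ← hmin, hdeg, IntermediateField.finrank_top']
    have h2 : Algebra.adjoin K {a} = ⊤ := by
      rw [← IntermediateField.adjoin_simple_toSubalgebra_of_isAlgebraic hint.isAlgebraic, h1,
        IntermediateField.top_toSubalgebra]
    rw [eq_top_iff, ← h2]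
    apply Algebra.adjoin_mono
    rw [Set.singleton_subset_iff, mem_rootSet]
    exact ⟨hg.ne_zero, ha⟩

theorem splittingField_eisenstein (f : O[X]) (hmon : f.Monic) (e : ℕ) (hdeg : f.natDegree = e)
    (he : 1 ≤ e) (hek : (e : ResidueField O) ≠ 0) (hf : f.IsEisensteinAt (maximalIdeal O)) :
    Module.finrank K (f.map (algebraMap O K)).SplittingField = e ∧
      IsCyclic (f.map (algebraMap O K)).Gal := by
  have he0 : e ≠ 0 := by omega
  have heu : IsUnit (e : O) := isUnit_natCast_of_residue_ne_zero e hek
  have key := exists_root_adjoinRoot f hmon e hdeg he heu hf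
  have hτm : - f.coeff 0 ∈ maximalIdeal O := neg_mem (hf.mem (by rw [hdeg]; omega))
  have hτ2 : - f.coeff 0 ∉ maximalIdeal O ^ 2 := fun h => hf.notMem (by simpa using neg_mem h)
  generalize - f.coeff 0 = τ at key hτm hτ2
  obtain ⟨z, hz⟩ := key
  have H : Irreducible (X ^ e - C (algebraMap O K τ) : K[X]) :=
    irreducible_X_pow_sub_C K e (by omega) τ hτm hτ2
  haveI := Fact.mk H
  set M := AdjoinRoot (X ^ e - C (algebraMap O K τ) : K[X]) with hM
  have hroot : (AdjoinRoot.root (X ^ e - C (algebraMap O K τ) : K[X])) ^ e =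
      algebraMap K M (algebraMap O K τ) := by
    have h := AdjoinRoot.eval₂_root (X ^ e - C (algebraMap O K τ) : K[X])
    rw [eval₂_sub, eval₂_pow, eval₂_X, eval₂_C, sub_eq_zero] at h
    exact h
  let ψ : AdjoinRoot (X ^ e - C τ : O[X]) →+* M :=
    AdjoinRoot.lift ((algebraMap K M).comp (algebraMap O K)) (AdjoinRoot.root _) (by
      rw [eval₂_sub, eval₂_pow, eval₂_X, eval₂_C, RingHom.comp_apply, hroot, sub_self])
  have haroot : aeval (ψ (AdjoinRoot.root _ * z)) (f.map (algebraMap O K)) = 0 := by
    have h := congrArg ψ hz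
    rw [map_zero, Polynomial.hom_eval₂, AdjoinRoot.lift_comp_of] at h
    rw [aeval_def, eval₂_map]
    exact h
  have hζ := primitiveRoots_nonempty O K e hek
  haveI : IsSplittingField K M (X ^ e - C (algebraMap O K τ)) :=
    isSplittingField_AdjoinRoot_X_pow_sub_C hζ H
  haveI : IsGalois K M := isGalois_of_isSplittingField_X_pow_sub_C hζ H M
  have hfin : Module.finrank K M = e := finrank_of_isSplittingField_X_pow_sub_C hζ H M
  haveI : NeZero e := ⟨he0⟩
  have hcyc : IsCyclic (M ≃ₐ[K] M) := isCyclic_of_isSplittingField_X_pow_sub_C hζ H M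
  haveI : FiniteDimensional K M := Module.finite_of_finrank_pos (by rw [hfin]; omega)
  have hirr : Irreducible (f.map (algebraMap O K)) :=
    (hmon.irreducible_iff_irreducible_map_fraction_map (K := K)).mp
      (hf.irreducible (maximalIdeal.isMaximal O).isPrime hmon.isPrimitive (by rw [hdeg]; omega))
  haveI : IsSplittingField K M (f.map (algebraMap O K)) :=
    isSplittingField_of_root _ hirr (hmon.map _) _ haroot (by
      rw [hmon.natDegree_map, hdeg, hfin])
  let E := IsSplittingField.algEquiv M (f.map (algebraMap O K))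
  refine ⟨?_, ?_⟩
  · rw [← E.toLinearEquiv.finrank_eq, hfin]
  · exact isCyclic_of_surjective (AlgEquiv.autCongr E) (AlgEquiv.autCongr E).surjective

end Field

end Groth.Agent.H80.TameKummer
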