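import Mathlib
import Groth.Agent.H80.TameKummer

/-!
# Splitting field of `∏ (X ^ r_i - v_i ϖ ^ b_i)` over a henselian DVR with algebraically closed
residue field: it is `K(ϖ^{1/N})`, `N = lcm r_i`, when all `r_i` are prime to the residue
characteristic and `gcd(r_i, b_i) = 1`.
-/

set_option autoImplicit false
set_option linter.unusedSimpArgs false
set_option linter.style.haveILetI false
set_option linter.unusedSectionVars false

open Polynomial IsLocalRing
open scoped IntermediateField

namespace Groth.Agent.H80.TameKummer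

universe u

/-- In a field extension, the exponents `n` with `θ ^ n ∈ F` are the multiples of the least
positive one. -/
theorem dvd_of_pow_mem {K M : Type*} [Field K] [Field M] [Algebra K M] (F : IntermediateField K M)
    (θ : M) (hθ : θ ≠ 0) (h : ∃ n : ℕ, 0 < n ∧ θ ^ n ∈ F) :
    ∃ d : ℕ, 0 < d ∧ θ ^ d ∈ F ∧ ∀ n : ℕ, θ ^ n ∈ F → d ∣ n := by
  classical
  refine ⟨Nat.find h, (Nat.find_spec h).1, (Nat.find_spec h).2, ?_⟩
  intro n hn
  set d := Nat.find h with hd
  have hd0 : 0 < d := (Nat.find_spec h).1
  have hdF : θ ^ d ∈ F := (Nat.find_spec h).2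
  by_contra hnd
  have hmod : 0 < n % d := Nat.pos_of_ne_zero fun h0 => hnd (Nat.dvd_of_mod_eq_zero h0)
  have hlt : n % d < d := Nat.mod_lt n hd0
  have hmem : θ ^ (n % d) ∈ F := by
    have h1 : θ ^ n = (θ ^ d) ^ (n / d) * θ ^ (n % d) := by
      rw [← pow_mul, ← pow_add, Nat.div_add_mod]
    have h2 : θ ^ (n % d) = θ ^ n * ((θ ^ d) ^ (n / d))⁻¹ := by
      rw [h1]
      field_simp
    rw [h2]
    exact F.mul_mem hn (F.inv_mem (pow_mem hdF (n / d)))
  exact Nat.find_min h hlt ⟨hmod, hmem⟩

section Main

variable (O : Type u) [CommRing O] [IsDomain O] [IsDiscreteValuationRing O] [HenselianLocalRing O]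
  [IsAlgClosed (ResidueField O)] (K : Type u) [Field K] [Algebra O K] [IsFractionRing O K]

theorem finrank_splittingField_prod (ϖ : O) (hϖ : Irreducible ϖ) (m : ℕ) (r b : Fin m → ℕ)
    (v : Fin m → Oˣ) (hr : ∀ i, 1 ≤ r i) (hrb : ∀ i, Nat.Coprime (r i) (b i))
    (hrk : ∀ i, (r i : ResidueField O) ≠ 0) :
    Module.finrank K
        (∏ i, (X ^ (r i) - C (algebraMap O K ((v i : O) * ϖ ^ (b i))))).SplittingField =
      Finset.univ.lcm r := by
  classical
  set N : ℕ := Finset.univ.lcm r with hN
  have hrN : ∀ i, r i ∣ N := fun i => Finset.dvd_lcm (Finset.mem_univ i)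
  have hN0 : N ≠ 0 := by
    rw [hN, Ne, Finset.lcm_eq_zero_iff]
    rintro ⟨i, -, hi⟩
    have := hr i
    omega
  have hNpos : 0 < N := Nat.pos_of_ne_zero hN0
  -- `N` is invertible in the residue field
  have hNk : (N : ResidueField O) ≠ 0 := by
    have hdvd : N ∣ ∏ i, r i := Finset.lcm_dvd fun i _ => Finset.dvd_prod_of_mem r (Finset.mem_univ i)
    obtain ⟨c, hc⟩ := hdvd
    intro h0
    have : ((∏ i, r i : ℕ) : ResidueField O) = 0 := by rw [hc, Nat.cast_mul, h0, zero_mul]
    rw [Nat.cast_prod, Finset.prod_eq_zero_iff] at this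
    obtain ⟨i, -, hi⟩ := this
    exact hrk i hi
  -- uniformizer
  have hmax := (IsDiscreteValuationRing.irreducible_iff_uniformizer ϖ).mp hϖ
  have hϖm : ϖ ∈ maximalIdeal O := hmax ▸ Ideal.mem_span_singleton_self ϖ
  have hϖ2 : ϖ ∉ maximalIdeal O ^ 2 := by
    rw [hmax, Ideal.span_singleton_pow, Ideal.mem_span_singleton]
    rintro ⟨c, hc⟩
    have h1 : ϖ * (1 - ϖ * c) = 0 := by rw [mul_sub, mul_one, ← mul_assoc, ← pow_two, ← hc, sub_self]
    rcases mul_eq_zero.mp h1 with h | h
    · exact hϖ.ne_zero h
    · exact hϖ.not_isUnit (IsUnit.of_mul_eq_one c (by linear_combination -h))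
  have H : Irreducible (X ^ N - C (algebraMap O K ϖ) : K[X]) :=
    irreducible_X_pow_sub_C K N hNpos ϖ hϖm hϖ2
  haveI := Fact.mk H
  set M := AdjoinRoot (X ^ N - C (algebraMap O K ϖ) : K[X]) with hM
  set θ : M := AdjoinRoot.root _ with hθ
  have hroot : θ ^ N = algebraMap K M (algebraMap O K ϖ) := by
    have h := AdjoinRoot.eval₂_root (X ^ N - C (algebraMap O K ϖ) : K[X])
    rw [eval₂_sub, eval₂_pow, eval₂_X, eval₂_C, sub_eq_zero] at h
    exact h
  have hϖK : algebraMap K M (algebraMap O K ϖ) ≠ 0 := by
    rw [Ne, map_eq_zero, map_eq_zero_iff _ (IsFractionRing.injective O K)]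
    exact hϖ.ne_zero
  have hθ0 : θ ≠ 0 := by
    intro h
    rw [h, zero_pow hN0] at hroot
    exact hϖK hroot.symm
  have hζ := primitiveRoots_nonempty O K N hNk
  haveI : IsSplittingField K M (X ^ N - C (algebraMap O K ϖ)) :=
    isSplittingField_AdjoinRoot_X_pow_sub_C hζ H
  haveI : IsGalois K M := isGalois_of_isSplittingField_X_pow_sub_C hζ H M
  have hfin : Module.finrank K M = N := finrank_of_isSplittingField_X_pow_sub_C hζ H M
  haveI : FiniteDimensional K M := Module.finite_of_finrank_pos (by rw [hfin]; omega)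
  -- roots of the units
  have hw : ∀ i, ∃ w : O, w ^ r i = (v i : O) := fun i =>
    exists_pow_eq_of_isUnit (r i) (hrk i) (v i) (v i).isUnit
  choose w hw using hw
  have hw0 : ∀ i, algebraMap K M (algebraMap O K (w i)) ≠ 0 := by
    intro i
    rw [Ne, map_eq_zero, map_eq_zero_iff _ (IsFractionRing.injective O K)]
    intro h
    have := hw i
    rw [h, zero_pow (by have := hr i; omega)] at this
    exact (v i).ne_zero this.symm
  -- the special roots
  set ρ : Fin m → M := fun i => algebraMap K M (algebraMap O K (w i)) * θ ^ (N / r i * b i) with hρ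
  have hρpow : ∀ i, ρ i ^ r i = algebraMap K M (algebraMap O K ((v i : O) * ϖ ^ b i)) := by
    intro i
    simp only [hρ]
    rw [mul_pow, ← map_pow, ← map_pow, hw i, ← pow_mul, mul_comm (N / r i * b i) (r i),
      ← mul_assoc, Nat.mul_div_cancel' (hrN i), pow_mul, hroot, map_mul, map_mul, map_pow, map_pow]
  set P : K[X] := ∏ i, (X ^ (r i) - C (algebraMap O K ((v i : O) * ϖ ^ (b i)))) with hP
  have hP0 : P ≠ 0 := by
    rw [hP, Finset.prod_ne_zero_iff]
    intro i _
    exact (monic_X_pow_sub_C _ (by have := hr i; omega)).ne_zero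
  haveI : IsSplittingField K M P := by
    constructor
    · rw [hP, Polynomial.map_prod]
      refine Splits.prod fun i _ => ?_
      rw [Polynomial.map_sub, Polynomial.map_pow, map_X, map_C]
      obtain ⟨ζ, hζi⟩ := primitiveRoots_nonempty O K (r i) (hrk i)
      rw [mem_primitiveRoots (by have := hr i; omega)] at hζi
      exact X_pow_sub_C_splits_of_isPrimitiveRoot
        (hζi.map_of_injective (algebraMap K M).injective) (hρpow i)
    · set F : IntermediateField K M := IntermediateField.adjoin K (P.rootSet M) with hF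
      have hFA : F.toSubalgebra = Algebra.adjoin K (P.rootSet M) :=
        IntermediateField.adjoin_toSubalgebra _
      rw [← hFA]
      have hρF : ∀ i, ρ i ∈ F := by
        intro i
        apply IntermediateField.subset_adjoin
        rw [mem_rootSet]
        refine ⟨hP0, ?_⟩
        rw [hP, map_prod]
        apply Finset.prod_eq_zero (Finset.mem_univ i)
        rw [map_sub, map_pow, aeval_X, aeval_C, hρpow i, sub_self]
      have hθF : ∀ i, θ ^ (N / r i * b i) ∈ F := by
        intro i
        have h1 : θ ^ (N / r i * b i) = (algebraMap K M (algebraMap O K (w i)))⁻¹ * ρ i := by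
          simp only [hρ]
          rw [← mul_assoc, inv_mul_cancel₀ (hw0 i), one_mul]
        rw [h1]
        exact F.mul_mem (F.inv_mem (F.algebraMap_mem _)) (hρF i)
      have hθN : θ ^ N ∈ F := by rw [hroot]; exact F.algebraMap_mem _
      obtain ⟨d, hd0, hdF, hd⟩ := dvd_of_pow_mem F θ hθ0 ⟨N, hNpos, hθN⟩
      have hdN : d ∣ N := hd N hθN
      have hdi : ∀ i, d ∣ N / r i := by
        intro i
        have h1 : d ∣ N / r i * b i := hd _ (hθF i)
        have h2 : d ∣ N / r i * r i := by rw [Nat.div_mul_cancel (hrN i)]; exact hdN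
        have h3 := Nat.dvd_gcd h2 h1
        rwa [Nat.gcd_mul_left, (hrb i), mul_one] at h3
      have hri : ∀ i, r i ∣ N / d := by
        intro i
        obtain ⟨k, hk⟩ := hdi i
        refine ⟨k, ?_⟩
        have h4 : N = d * (r i * k) := by
          have := Nat.div_mul_cancel (hrN i)
          rw [hk] at this
          rw [← this]; ring
        rw [h4, Nat.mul_div_cancel_left _ hd0]
      have hNd : N ∣ N / d := Finset.lcm_dvd fun i _ => hri i
      have hd1 : d = 1 := by
        have hpos : 0 < N / d := Nat.div_pos (Nat.le_of_dvd hNpos hdN) hd0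
        have hle : N ≤ N / d := Nat.le_of_dvd hpos hNd
        by_contra hne
        have : N / d < N := Nat.div_lt_self hNpos (by omega)
        omega
      rw [hd1, pow_one] at hdF
      have htop : F = ⊤ := by
        rw [eq_top_iff]
        have h5 : (⊤ : IntermediateField K M).toSubalgebra ≤ F.toSubalgebra := by
          rw [IntermediateField.top_toSubalgebra, ← AdjoinRoot.adjoinRoot_eq_top, Algebra.adjoin_le_iff,
            Set.singleton_subset_iff]
          exact hdF
        exact h5
      rw [htop, IntermediateField.top_toSubalgebra]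
  let E := IsSplittingField.algEquiv M P
  rw [← E.toLinearEquiv.finrank_eq, hfin]

end Main

end Groth.Agent.H80.TameKummer
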