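import Mathlib

/-!
# Trace is additive on stable subspaces; trace on finite length modules over a local algebra
-/

namespace Groth.Agent.H80.TraceFilt

open Module

/-- The trace of an endomorphism preserving a subspace `N` is the sum of the traces on `N` and
on `M ⧸ N`. -/
theorem trace_eq_add_of_stable {K M : Type*} [Field K] [AddCommGroup M] [Module K M]
    [FiniteDimensional K M] (N : Submodule K M) (f : M →ₗ[K] M) (hf : N ≤ N.comap f) :
    LinearMap.trace K M f =
      LinearMap.trace K N (f.restrict hf) + LinearMap.trace K (M ⧸ N) (N.mapQ N f hf) := by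
  obtain ⟨N', hN'⟩ := Submodule.exists_isCompl N
  let e := Submodule.prodEquivOfIsCompl N N' hN'
  let d : N' →ₗ[K] N' := (N'.projectionOnto N hN'.symm) ∘ₗ f ∘ₗ N'.subtype
  let a : N' →ₗ[K] N := (N.projectionOnto N' hN') ∘ₗ f ∘ₗ N'.subtype
  have hF : e.symm.conj f = (f.restrict hf).prodMap d +
      (LinearMap.inl K N N') ∘ₗ a ∘ₗ (LinearMap.snd K N N') := by
    apply LinearMap.ext
    rintro ⟨n, n'⟩
    have h1 : (N.projectionOnto N' hN') (f n) = ⟨f n, hf n.2⟩ := by
      have := Submodule.prodEquivOfIsCompl_symm_apply_left N N' hN' ⟨f n, hf n.2⟩
      rw [Submodule.prodEquivOfIsCompl_symm_apply] at this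
      exact congrArg Prod.fst this
    have h2 : (N'.projectionOnto N hN'.symm) (f n) = 0 := by
      have := Submodule.prodEquivOfIsCompl_symm_apply_left N N' hN' ⟨f n, hf n.2⟩
      rw [Submodule.prodEquivOfIsCompl_symm_apply] at this
      exact congrArg Prod.snd this
    rw [LinearEquiv.conj_apply]
    simp only [LinearMap.coe_comp, LinearEquiv.coe_coe, Function.comp_apply, LinearEquiv.symm_symm,
      LinearMap.add_apply, LinearMap.prodMap_apply, LinearMap.snd_apply, LinearMap.inl_apply, e,
      Submodule.coe_prodEquivOfIsCompl', map_add, Submodule.prodEquivOfIsCompl_symm_apply, d, a,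
      Submodule.subtype_apply, h1, h2, Prod.mk_add_mk, zero_add, add_zero]
    rfl
  have hd : (Submodule.quotientEquivOfIsCompl N N' hN').conj (N.mapQ N f hf) = d := by
    apply LinearMap.ext
    intro n'
    rw [LinearEquiv.conj_apply]
    simp [d]
  have h0 : LinearMap.trace K (N × N')
      ((LinearMap.inl K N N') ∘ₗ a ∘ₗ (LinearMap.snd K N N')) = 0 := by
    rw [LinearMap.trace_comp_comm']
    have : (a ∘ₗ LinearMap.snd K N N') ∘ₗ LinearMap.inl K N N' = 0 := by
      apply LinearMap.ext
      intro n
      simp
    rw [this, map_zero]
  have h1 : LinearMap.trace K N' d = LinearMap.trace K (M ⧸ N) (N.mapQ N f hf) := by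
    rw [← hd, LinearMap.trace_conj']
  rw [← LinearMap.trace_conj' f e.symm, hF, map_add, LinearMap.trace_prodMap', h0, h1, add_zero]


section Modules

variable (k : Type*) {C : Type*} [Field k] [CommRing C] [Algebra k C]

/-- `k`-linear endomorphism of a `C`-module given by the action of `c : C`. -/
noncomputable abbrev act (M : Type*) [AddCommGroup M] [Module C M] [Module k M]
    [IsScalarTower k C M] (c : C) : M →ₗ[k] M :=
  (LinearMap.lsmul C M c).restrictScalars k

/-- additivity of the trace of the action of `c` along a `C`-submodule. -/
theorem trace_act_eq_add (M : Type*) [AddCommGroup M] [Module C M] [Module k M]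
    [IsScalarTower k C M] [FiniteDimensional k M] (N : Submodule C M) (c : C) :
    LinearMap.trace k M (act k M c) =
      LinearMap.trace k N (act k N c) + LinearMap.trace k (M ⧸ N) (act k (M ⧸ N) c) := by
  have hf : N.restrictScalars k ≤ (N.restrictScalars k).comap (act k M c) := by
    intro x hx
    exact N.smul_mem c hx
  rw [trace_eq_add_of_stable (N.restrictScalars k) (act k M c) hf]
  congr 1

end Modules


section Local

set_option linter.unusedSectionVars false
set_option linter.style.haveILetI false

variable (k : Type*) {C : Type*} [Field k] [CommRing C] [Algebra k C] [IsLocalRing C]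
  [Module.Finite k C]

open IsLocalRing

/-- the action of `c` on the residue field is multiplication by its residue. -/
lemma act_residueField (c : C) :
    act k (C ⧸ maximalIdeal C) c = Algebra.lmul k (ResidueField C) (residue C c) := by
  apply LinearMap.ext
  intro x
  obtain ⟨y, rfl⟩ := Ideal.Quotient.mk_surjective x
  rfl

/-- **Trace on a finite length module over a finite local algebra**: the trace of the action of
`c` is the length times the trace of the residue of `c`. -/
theorem trace_act_eq_length_smul (M : Type*) [AddCommGroup M] [Module C M]
    (h : IsFiniteLength C M) :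
    ∀ [Module k M] [IsScalarTower k C M] (c : C),
      LinearMap.trace k M (act k M c) =
        (Module.length C M).toNat • Algebra.trace k (ResidueField C) (residue C c) := by
  induction h with
  | @of_subsingleton M _ _ _ =>
    intro _ _ c
    have : act k M c = 0 := Subsingleton.elim _ _
    rw [this, map_zero, Module.length_eq_zero, ENat.toNat_zero, zero_smul]
  | @of_simple_quotient M _ _ N hQ hN ih =>
    intro _ _ c
    have hM : IsFiniteLength C M := .of_simple_quotient hN
    obtain ⟨hnoeth, -⟩ := isFiniteLength_iff_isNoetherian_isArtinian.mp hM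
    haveI : Module.Finite C M := inferInstance
    haveI : Module.Finite k M := Module.Finite.trans C M
    rw [trace_act_eq_add k M N c, ih c]
    -- the simple quotient
    obtain ⟨I, hI, ⟨e⟩⟩ := isSimpleModule_iff_quot_maximal.mp hQ
    obtain rfl := IsLocalRing.eq_maximalIdeal hI
    have hQtr : LinearMap.trace k (M ⧸ N) (act k (M ⧸ N) c) =
        Algebra.trace k (ResidueField C) (residue C c) := by
      rw [← LinearMap.trace_conj' _ (e.restrictScalars k)]
      have : (e.restrictScalars k).conj (act k (M ⧸ N) c) = act k (C ⧸ maximalIdeal C) c := by
        apply LinearMap.ext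
        intro x
        rw [LinearEquiv.conj_apply]
        simp
      rw [this, act_residueField, Algebra.trace_apply]
      rfl
    rw [hQtr]
    have hlen : Module.length C M = Module.length C N + 1 := by
      rw [Module.length_eq_add_of_exact N.subtype N.mkQ N.injective_subtype
        (Submodule.mkQ_surjective N) (LinearMap.exact_subtype_mkQ N),
        Module.length_eq_one (R := C) (M := M ⧸ N)]
    have hNtop : Module.length C N ≠ ⊤ := Module.length_ne_top_iff.mpr hN
    rw [hlen, ENat.toNat_add hNtop (by simp), ENat.toNat_one, add_smul, one_smul]

end Local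


section Algebra

variable (k : Type*) {C : Type*} [Field k] [CommRing C] [Algebra k C] [IsLocalRing C]
  [Module.Finite k C]

open IsLocalRing

set_option linter.unusedSectionVars false
set_option linter.style.haveILetI false

include k in
lemma isFiniteLength_self : IsFiniteLength C C := by
  haveI : IsArtinianRing C := IsArtinianRing.of_finite k C
  haveI : IsNoetherianRing C := inferInstance
  exact isFiniteLength_iff_isNoetherian_isArtinian.mpr ⟨inferInstance, inferInstance⟩

/-- **Trace on a finite local algebra over a field**: `Tr_{C/k}(c) = length(C) • Tr_{k'/k}(c̄)`. -/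
theorem trace_eq_length_smul (c : C) :
    Algebra.trace k C c =
      (Module.length C C).toNat • Algebra.trace k (ResidueField C) (residue C c) := by
  rw [← trace_act_eq_length_smul k C (isFiniteLength_self k) c, Algebra.trace_apply]
  congr 1

/-- The trace form of a finite local algebra is nonzero iff the length is invertible in `k` and
the residue field is separable. -/
theorem trace_ne_zero_iff :
    Algebra.trace k C ≠ 0 ↔
      (((Module.length C C).toNat : k) ≠ 0 ∧ Algebra.IsSeparable k (ResidueField C)) := by
  have htfae := (traceForm_nondegenerate_tfae k (ResidueField C)).out 0 1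
  rw [htfae]
  constructor
  · intro h
    have : ∃ c, Algebra.trace k C c ≠ 0 := by
      by_contra hcon
      push Not at hcon
      exact h (LinearMap.ext hcon)
    obtain ⟨c, hc⟩ := this
    rw [trace_eq_length_smul, nsmul_eq_mul] at hc
    refine ⟨left_ne_zero_of_mul hc, fun h0 => ?_⟩
    rw [h0] at hc
    simp at hc
  · rintro ⟨h1, h2⟩ h0
    apply h2
    apply LinearMap.ext
    intro x
    obtain ⟨c, rfl⟩ := residue_surjective x
    have := congrArg (fun f => f c) h0
    simp only [LinearMap.zero_apply] at this
    rw [trace_eq_length_smul, nsmul_eq_mul] at this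
    exact (mul_eq_zero.mp this).resolve_left h1

end Algebra

end Groth.Agent.H80.TraceFilt
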