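import Mathlib

/-!
# Truncated polynomial algebras `k[X_i]/(X_i^{d_i})` (helper80)
-/

set_option autoImplicit false
universe u

namespace Groth.Agent.H80.TruncPoly

open MvPolynomial

section Basic

variable {σ : Type} [Fintype σ] [DecidableEq σ] (k : Type u) [Field k]

/-- The monomial ideal `(X_i^{d_i})`. -/
noncomputable def I (d : σ → ℕ) : Ideal (MvPolynomial σ k) :=
  Ideal.span (Set.range fun i : σ => (X i : MvPolynomial σ k) ^ d i)

omit [Fintype σ] [DecidableEq σ] in
theorem mem_I_iff (d : σ → ℕ) (f : MvPolynomial σ k) :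
    f ∈ I k d ↔ ∀ α ∈ f.support, ∃ i, d i ≤ α i := by
  have hrange : (Set.range fun i : σ => (X i : MvPolynomial σ k) ^ d i) =
      (fun s => monomial s (1 : k)) '' (Set.range fun i : σ => Finsupp.single i (d i)) := by
    ext g
    simp only [Set.mem_range, Set.mem_image, exists_exists_eq_and, X_pow_eq_monomial]
  rw [I, hrange, mem_ideal_span_monomial_image]
  refine forall₂_congr fun α _ => ?_
  simp only [Set.mem_range, exists_exists_eq_and]
  refine exists_congr fun i => ?_
  rw [Finsupp.single_le_iff]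

end Basic

section Dim

variable {σ : Type} [Fintype σ] [DecidableEq σ] (k : Type u) [Field k] (d : σ → ℕ)

/-- The exponent vector attached to a point of the box. -/
noncomputable def β (b : (i : σ) → Fin (d i)) : σ →₀ ℕ :=
  Finsupp.equivFunOnFinite.symm (fun i => (b i : ℕ))

omit [DecidableEq σ] in
@[simp] theorem β_apply (b : (i : σ) → Fin (d i)) (i : σ) : β d b i = (b i : ℕ) := rfl

omit [DecidableEq σ] in
theorem β_injective : Function.Injective (β d) := by
  intro b b' h
  funext i
  apply Fin.ext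
  have := DFunLike.congr_fun h i
  simpa using this

omit [DecidableEq σ] in
theorem mem_range_β_iff (α : σ →₀ ℕ) : α ∈ Set.range (β d) ↔ ∀ i, α i < d i := by
  constructor
  · rintro ⟨b, rfl⟩ i
    exact (b i).2
  · intro h
    refine ⟨fun i => ⟨α i, h i⟩, ?_⟩
    ext i
    rfl

/-- Restriction of coefficients to the box. -/
noncomputable def res : MvPolynomial σ k →ₗ[k] (((i : σ) → Fin (d i)) → k) :=
  LinearMap.pi fun b => lcoeff k (β d b)

omit [DecidableEq σ] in
@[simp] theorem res_apply (f : MvPolynomial σ k) (b : (i : σ) → Fin (d i)) :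
    res k d f b = coeff (β d b) f := rfl

theorem res_surjective : Function.Surjective (res k d) := by
  intro c
  refine ⟨∑ b : (i : σ) → Fin (d i), monomial (β d b) (c b), ?_⟩
  funext b'
  rw [res_apply, coeff_sum, Finset.sum_eq_single b']
  · rw [coeff_monomial, if_pos rfl]
  · intro b _ hb
    rw [coeff_monomial, if_neg]
    intro h
    exact hb (β_injective d h)
  · intro h; exact absurd (Finset.mem_univ _) h

omit [DecidableEq σ] in
theorem ker_res : LinearMap.ker (res k d) = (I k d).restrictScalars k := by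
  ext f
  rw [LinearMap.mem_ker, Submodule.restrictScalars_mem, mem_I_iff]
  constructor
  · intro h α hα
    by_contra hcon
    push Not at hcon
    obtain ⟨b, rfl⟩ := (mem_range_β_iff d α).mpr hcon
    have := congrFun h b
    rw [res_apply] at this
    exact (mem_support_iff.mp hα) this
  · intro h
    funext b
    rw [res_apply]
    by_contra hne
    have hmem : β d b ∈ f.support := mem_support_iff.mpr hne
    obtain ⟨i, hi⟩ := h _ hmem
    rw [β_apply] at hi
    exact absurd (b i).2 (by omega)

/-- The quotient by the monomial ideal is linearly equivalent to functions on the box. -/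
noncomputable def quotEquiv :
    (MvPolynomial σ k ⧸ (I k d).restrictScalars k) ≃ₗ[k] (((i : σ) → Fin (d i)) → k) :=
  (Submodule.quotEquivOfEq _ _ (ker_res k d).symm) ≪≫ₗ
    (res k d).quotKerEquivOfSurjective (res_surjective k d)

theorem finrank_quot :
    Module.finrank k (MvPolynomial σ k ⧸ (I k d).restrictScalars k) = ∏ i, d i := by
  rw [LinearEquiv.finrank_eq (quotEquiv k d), Module.finrank_pi, Fintype.card_pi]
  simp

end Dim

section Frob

variable {σ : Type} [Fintype σ] [DecidableEq σ] (k : Type u) [Field k] (p : ℕ) [hp : Fact p.Prime]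
  [CharP k p]

theorem support_pow_char_pow (f : MvPolynomial σ k) (n : ℕ) :
    (f ^ p ^ n).support = f.support.image (fun α => p ^ n • α) := by
  rw [← map_iterateFrobenius_expand p f n,
    support_map_of_injective _ (iterateFrobenius k p n).injective,
    support_expand _ (pow_ne_zero n hp.out.ne_zero)]

theorem pow_mem_I_iff (e : σ → ℕ) (n : ℕ) (f : MvPolynomial σ k) :
    f ^ p ^ n ∈ I k (fun i => p ^ e i) ↔ f ∈ I k (fun i => p ^ (e i - n)) := by
  have hp0 : 0 < p := hp.out.pos
  rw [mem_I_iff, mem_I_iff, support_pow_char_pow]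
  constructor
  · intro h α hα
    obtain ⟨i, hi⟩ := h (p ^ n • α) (Finset.mem_image_of_mem _ hα)
    refine ⟨i, ?_⟩
    simp only [Finsupp.smul_apply, smul_eq_mul] at hi
    by_cases hle : n ≤ e i
    · have h1 : p ^ e i = p ^ n * p ^ (e i - n) := by
        rw [← pow_add, Nat.add_sub_cancel' hle]
      rw [h1] at hi
      exact Nat.le_of_mul_le_mul_left hi (pow_pos hp0 n)
    · have h1 : e i - n = 0 := by omega
      rw [h1, pow_zero]
      by_contra hα0
      have : α i = 0 := by omega
      rw [this, mul_zero] at hi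
      exact absurd hi (by have := pow_pos hp0 (e i); omega)
  · intro h β hβ
    obtain ⟨α, hα, rfl⟩ := Finset.mem_image.mp hβ
    obtain ⟨i, hi⟩ := h α hα
    refine ⟨i, ?_⟩
    simp only [Finsupp.smul_apply, smul_eq_mul]
    calc p ^ e i ≤ p ^ (n + (e i - n)) := Nat.pow_le_pow_right hp0 (by omega)
      _ = p ^ n * p ^ (e i - n) := pow_add _ _ _
      _ ≤ p ^ n * α i := Nat.mul_le_mul_left _ hi

end Frob

section Invariant

variable (k : Type u) [Field k] (p : ℕ) [hp : Fact p.Prime] [CharP k p]

theorem finrank_quot' {σ : Type} [Fintype σ] [DecidableEq σ] (d : σ → ℕ) :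
    Module.finrank k (MvPolynomial σ k ⧸ I k d) = ∏ i, d i := by
  rw [← finrank_quot k d]
  exact (LinearEquiv.finrank_eq (Submodule.Quotient.restrictScalarsEquiv k (I k d))).symm

theorem I_mono {σ : Type} (e : σ → ℕ) (n : ℕ) :
    I k (fun i => p ^ e i) ≤ I k (fun i => p ^ (e i - n)) := by
  intro f hf
  rw [mem_I_iff] at hf ⊢
  intro α hα
  obtain ⟨i, hi⟩ := hf α hα
  exact ⟨i, le_trans (Nat.pow_le_pow_right hp.out.pos (Nat.sub_le _ _)) hi⟩

/-- The numerical invariant: an isomorphism of truncated polynomial algebras forces equality of the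
dimensions of the quotients by the `p^n`-th-power-zero ideals. -/
theorem prod_eq_of_algEquiv {r s : ℕ} (e : Fin r → ℕ) (f : Fin s → ℕ)
    (φ : (MvPolynomial (Fin r) k ⧸ I k (fun i => p ^ e i)) ≃ₐ[k]
      (MvPolynomial (Fin s) k ⧸ I k (fun j => p ^ f j))) (n : ℕ) :
    ∏ i, p ^ (e i - n) = ∏ j, p ^ (f j - n) := by
  let Ie := I k (fun i : Fin r => p ^ e i)
  let If := I k (fun j : Fin s => p ^ f j)
  let Ie' := I k (fun i : Fin r => p ^ (e i - n))
  let If' := I k (fun j : Fin s => p ^ (f j - n))
  let K : Ideal (MvPolynomial (Fin s) k ⧸ If) := If'.map (Ideal.Quotient.mk If)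
  -- characterisation of K
  have hK : ∀ g : MvPolynomial (Fin s) k, Ideal.Quotient.mk If g ∈ K ↔ g ∈ If' := by
    intro g
    constructor
    · intro hg
      have h1 : g ∈ (If'.map (Ideal.Quotient.mk If)).comap (Ideal.Quotient.mk If) := hg
      rw [Ideal.comap_map_of_surjective _ Ideal.Quotient.mk_surjective, ← RingHom.ker_eq_comap_bot,
        Ideal.mk_ker] at h1
      have hle : If ≤ If' := I_mono k p f n
      rwa [sup_eq_left.mpr hle] at h1
    · intro hg
      exact Ideal.mem_map_of_mem _ hg
  have hK' : ∀ b : MvPolynomial (Fin s) k ⧸ If, b ∈ K ↔ b ^ p ^ n = 0 := by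
    intro b
    obtain ⟨g, rfl⟩ := Ideal.Quotient.mk_surjective b
    rw [hK, ← map_pow, Ideal.Quotient.eq_zero_iff_mem]
    exact (pow_mem_I_iff k p f n g).symm
  -- the two surjections onto the common quotient
  let Θe : MvPolynomial (Fin r) k →ₐ[k] (MvPolynomial (Fin s) k ⧸ If) ⧸ K :=
    (Ideal.Quotient.mkₐ k K).comp ((φ : _ →ₐ[k] _).comp (Ideal.Quotient.mkₐ k Ie))
  let Θf : MvPolynomial (Fin s) k →ₐ[k] (MvPolynomial (Fin s) k ⧸ If) ⧸ K :=
    (Ideal.Quotient.mkₐ k K).comp (Ideal.Quotient.mkₐ k If)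
  have hΘe : Function.Surjective Θe := by
    intro y
    obtain ⟨y, rfl⟩ := Ideal.Quotient.mk_surjective y
    obtain ⟨x, rfl⟩ := φ.surjective y
    obtain ⟨x, rfl⟩ := Ideal.Quotient.mk_surjective x
    exact ⟨x, rfl⟩
  have hΘf : Function.Surjective Θf := by
    intro y
    obtain ⟨y, rfl⟩ := Ideal.Quotient.mk_surjective y
    obtain ⟨y, rfl⟩ := Ideal.Quotient.mk_surjective y
    exact ⟨y, rfl⟩
  have hkere : RingHom.ker Θe = Ie' := by
    ext g
    rw [RingHom.mem_ker]
    change Ideal.Quotient.mk K (φ (Ideal.Quotient.mk Ie g)) = 0 ↔ _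
    rw [Ideal.Quotient.eq_zero_iff_mem, hK', ← map_pow, ← map_pow]
    rw [EmbeddingLike.map_eq_zero_iff, Ideal.Quotient.eq_zero_iff_mem]
    exact pow_mem_I_iff k p e n g
  have hkerf : RingHom.ker Θf = If' := by
    ext g
    rw [RingHom.mem_ker]
    change Ideal.Quotient.mk K (Ideal.Quotient.mk If g) = 0 ↔ _
    rw [Ideal.Quotient.eq_zero_iff_mem, hK]
  have e1 := LinearEquiv.finrank_eq (Ideal.quotientKerAlgEquivOfSurjective hΘe).toLinearEquiv
  have e2 := LinearEquiv.finrank_eq (Ideal.quotientKerAlgEquivOfSurjective hΘf).toLinearEquiv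
  have e3 := LinearEquiv.finrank_eq (Ideal.quotientEquivAlgOfEq k hkere).toLinearEquiv
  have e4 := LinearEquiv.finrank_eq (Ideal.quotientEquivAlgOfEq k hkerf).toLinearEquiv
  rw [← finrank_quot' k (fun i : Fin r => p ^ (e i - n)),
    ← finrank_quot' k (fun j : Fin s => p ^ (f j - n))]
  exact e3.symm.trans (e1.trans (e2.symm.trans e4))

end Invariant

section Comb

variable {α β : Type} [Fintype α] [Fintype β]

theorem card_gt_eq (e : α → ℕ) (f : β → ℕ)
    (h : ∀ n, ∑ a, (e a - n) = ∑ b, (f b - n)) (n : ℕ) :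
    (Finset.univ.filter fun a => n < e a).card = (Finset.univ.filter fun b => n < f b).card := by
  have key : ∀ {γ : Type} [Fintype γ] (g : γ → ℕ), ∑ c, (g c - n) =
      ∑ c, (g c - (n + 1)) + (Finset.univ.filter fun c => n < g c).card := by
    intro γ _ g
    rw [Finset.card_filter, ← Finset.sum_add_distrib]
    refine Finset.sum_congr rfl fun c _ => ?_
    split_ifs with hc <;> omega
  have h1 := h n
  rw [key e, key f, h (n + 1)] at h1
  exact Nat.add_left_cancel h1

theorem card_eq_eq (e : α → ℕ) (f : β → ℕ) (he : ∀ a, 1 ≤ e a) (hf : ∀ b, 1 ≤ f b)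
    (h : ∀ n, ∑ a, (e a - n) = ∑ b, (f b - n)) (v : ℕ) :
    Fintype.card {a // e a = v} = Fintype.card {b // f b = v} := by
  rw [Fintype.card_subtype, Fintype.card_subtype]
  rcases Nat.eq_zero_or_pos v with hv | hv
  · subst hv
    rw [Finset.filter_false_of_mem (fun a _ => by have := he a; omega),
      Finset.filter_false_of_mem (fun b _ => by have := hf b; omega)]
    rfl
  · have key : ∀ {γ : Type} [Fintype γ] (g : γ → ℕ),
        (Finset.univ.filter fun c => v - 1 < g c).card =
          (Finset.univ.filter fun c => g c = v).card + (Finset.univ.filter fun c => v < g c).card := by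
      intro γ _ g
      rw [Finset.card_filter, Finset.card_filter, Finset.card_filter, ← Finset.sum_add_distrib]
      refine Finset.sum_congr rfl fun c _ => ?_
      split_ifs <;> omega
    have h1 := card_gt_eq e f h (v - 1)
    rw [key e, key f, card_gt_eq e f h v] at h1
    exact Nat.add_right_cancel h1

theorem exists_equiv_of_sums (e : α → ℕ) (f : β → ℕ) (he : ∀ a, 1 ≤ e a) (hf : ∀ b, 1 ≤ f b)
    (h : ∀ n, ∑ a, (e a - n) = ∑ b, (f b - n)) :
    ∃ σ : α ≃ β, ∀ a, f (σ a) = e a := by
  classical
  refine ⟨Equiv.ofFiberEquiv (f := e) (g := f)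
    (fun v => Fintype.equivOfCardEq (card_eq_eq e f he hf h v)), fun a => ?_⟩
  exact Equiv.ofFiberEquiv_map _ a

end Comb

end Groth.Agent.H80.TruncPoly
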