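import Mathlib

/-! Lifting a finite birational extension `A' ⊆ A` (an isomorphism after inverting `f`) along an
isomorphism `A'/fⁿ ≅ B'/gⁿ`. -/

set_option autoImplicit false
set_option linter.style.haveILetI false
set_option linter.unusedSectionVars false
universe u

namespace Groth.Agent.H80.TwistLift

section Conductor

variable {A' A : Type u} [CommRing A'] [CommRing A] [Algebra A' A]

/-- a power of `f` multiplies `A` into `A'` -/
theorem exists_pow_mul_mem [Module.Finite A' A] (f : A')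
    (hf : algebraMap A' A f ∈ nonZeroDivisors A)
    (hloc : Function.Surjective (IsLocalization.Away.map (Localization.Away f)
      (Localization.Away (algebraMap A' A f)) (algebraMap A' A) f)) :
    ∃ c : ℕ, ∀ a : A, ∃ a' : A', algebraMap A' A a' = algebraMap A' A f ^ c * a := by
  classical
  set F := algebraMap A' A f with hF
  have hinjF : Function.Injective (algebraMap A (Localization.Away F)) :=
    IsLocalization.injective _ (Submonoid.powers_le.mpr hf)
  have h1 : ∀ a : A, ∃ (k : ℕ) (a' : A'), algebraMap A' A a' = F ^ k * a := by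
    intro a
    obtain ⟨y, hy⟩ := hloc (algebraMap A (Localization.Away F) a)
    obtain ⟨a', ⟨_, k, rfl⟩, rfl⟩ := IsLocalization.exists_mk'_eq (Submonoid.powers f) y
    refine ⟨k, a', ?_⟩
    rw [IsLocalization.Away.map, IsLocalization.map_mk', IsLocalization.mk'_eq_iff_eq_mul] at hy
    apply hinjF
    rw [hy, map_mul, mul_comm]
    simp only [map_pow]
    rfl
  obtain ⟨s, hs⟩ := (Module.finite_def (R := A') (M := A)).mp inferInstance
  choose k a' hk using h1
  refine ⟨s.sup k, fun a => ?_⟩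
  have hmem : a ∈ Submodule.span A' (s : Set A) := by rw [hs]; trivial
  induction hmem using Submodule.span_induction with
  | mem x hx =>
    have hle : k x ≤ s.sup k := Finset.le_sup hx
    refine ⟨f ^ (s.sup k - k x) * a' x, ?_⟩
    rw [map_mul, map_pow, hk x, ← mul_assoc, ← pow_add, Nat.sub_add_cancel hle]
  | zero => exact ⟨0, by simp⟩
  | add x y _ _ hx hy =>
    obtain ⟨x', hx'⟩ := hx
    obtain ⟨y', hy'⟩ := hy
    exact ⟨x' + y', by rw [map_add, hx', hy', mul_add]⟩
  | smul r x _ hx =>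
    obtain ⟨x', hx'⟩ := hx
    exact ⟨r * x', by rw [map_mul, hx', Algebra.smul_def]; ring⟩

end Conductor

section Main

variable {A' A : Type u} [CommRing A'] [CommRing A] [Algebra A' A]
  (hinj : Function.Injective (algebraMap A' A)) (f : A')
  (hf : algebraMap A' A f ∈ nonZeroDivisors A)
  (c : ℕ) (hc : ∀ a : A, ∃ a' : A', algebraMap A' A a' = algebraMap A' A f ^ c * a)
  {n : ℕ} (hn : 2 * c + 1 ≤ n)
  {B' : Type u} [CommRing B'] {g : B'} (hg : g ∈ nonZeroDivisors B')
  (φ' : (A' ⧸ Ideal.span {f ^ n}) ≃+* (B' ⧸ Ideal.span {g ^ n}))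
  (hφ' : φ' (Ideal.Quotient.mk _ f) = Ideal.Quotient.mk _ g)

/-- the correspondence between `A` and the ideal `J` of `B'` -/
def Rel (a : A) (j : B') : Prop :=
  ∃ x : A', algebraMap A' A x = algebraMap A' A f ^ c * a ∧
    φ' (Ideal.Quotient.mk _ x) = Ideal.Quotient.mk _ j

theorem exists_lift' (b' : B') :
    ∃ a' : A', φ' (Ideal.Quotient.mk _ a') = Ideal.Quotient.mk _ b' := by
  obtain ⟨q, hq⟩ := φ'.surjective (Ideal.Quotient.mk _ b')
  obtain ⟨a', rfl⟩ := Ideal.Quotient.mk_surjective q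
  exact ⟨a', hq⟩

include hc in
theorem rel_exists (a : A) : ∃ j, Rel f c φ' a j := by
  obtain ⟨x, hx⟩ := hc a
  obtain ⟨j, hj⟩ := Ideal.Quotient.mk_surjective (φ' (Ideal.Quotient.mk _ x))
  exact ⟨j, x, hx, hj.symm⟩

theorem rel_zero : Rel f c φ' (0 : A) 0 := ⟨(0 : A'), by simp, by simp⟩

theorem rel_add {a₁ a₂ : A} {j₁ j₂ : B'} (h₁ : Rel f c φ' a₁ j₁) (h₂ : Rel f c φ' a₂ j₂) :
    Rel f c φ' (a₁ + a₂) (j₁ + j₂) := by
  obtain ⟨x₁, hx₁, hj₁⟩ := h₁
  obtain ⟨x₂, hx₂, hj₂⟩ := h₂
  exact ⟨x₁ + x₂, by rw [map_add, hx₁, hx₂, mul_add], by rw [map_add, map_add, hj₁, hj₂, map_add]⟩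

include hφ' in
theorem rel_base {a' : A'} {b' : B'}
    (h : φ' (Ideal.Quotient.mk _ a') = Ideal.Quotient.mk _ b') :
    Rel f c φ' (algebraMap A' A a') (g ^ c * b') :=
  ⟨f ^ c * a', by rw [map_mul, map_pow], by
    rw [map_mul, map_pow, map_mul, map_pow, hφ', h, map_mul, map_pow]⟩

include hφ' in
theorem rel_one : Rel f c φ' (1 : A) (g ^ c) := by
  have := rel_base (A := A) f c φ' hφ' (a' := (1 : A')) (b' := (1 : B')) (by simp)
  simpa using this

theorem rel_smul {a' : A'} {b' : B'}
    (h : φ' (Ideal.Quotient.mk _ a') = Ideal.Quotient.mk _ b') {a : A} {j : B'}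
    (hr : Rel f c φ' a j) : Rel f c φ' (algebraMap A' A a' * a) (b' * j) := by
  obtain ⟨x, hx, hj⟩ := hr
  exact ⟨a' * x, by rw [map_mul, hx]; ring, by rw [map_mul, map_mul, h, hj, map_mul]⟩

include hinj in
theorem rel_unique {a : A} {j j' : B'} (h : Rel f c φ' a j) (h' : Rel f c φ' a j') :
    ∃ b, j - j' = g ^ n * b := by
  obtain ⟨x, hx, hj⟩ := h
  obtain ⟨x', hx', hj'⟩ := h'
  have hxx : x = x' := hinj (hx.trans hx'.symm)
  subst hxx
  have := hj.symm.trans hj'
  rw [Ideal.Quotient.eq, Ideal.mem_span_singleton] at this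
  exact this

include hinj in
theorem rel_mul {a₁ a₂ : A} {j₁ j₂ j₃ : B'} (h₁ : Rel f c φ' a₁ j₁) (h₂ : Rel f c φ' a₂ j₂)
    (h₃ : Rel f c φ' (a₁ * a₂) j₃) (hφ' : φ' (Ideal.Quotient.mk _ f) = Ideal.Quotient.mk _ g) :
    ∃ b, j₁ * j₂ = g ^ c * j₃ + g ^ n * b := by
  obtain ⟨x₁, hx₁, hj₁⟩ := h₁
  obtain ⟨x₂, hx₂, hj₂⟩ := h₂
  obtain ⟨x₃, hx₃, hj₃⟩ := h₃
  have hxx : x₁ * x₂ = f ^ c * x₃ := by
    apply hinj
    rw [map_mul, map_mul, map_pow, hx₁, hx₂, hx₃]
    ring
  have h4 : (Ideal.Quotient.mk (Ideal.span {g ^ n})) (j₁ * j₂) =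
      (Ideal.Quotient.mk (Ideal.span {g ^ n})) (g ^ c * j₃) := by
    rw [map_mul, ← hj₁, ← hj₂, ← map_mul, ← map_mul, hxx]
    simp only [map_mul, map_pow, hφ', hj₃]
  rw [Ideal.Quotient.eq, Ideal.mem_span_singleton] at h4
  obtain ⟨b, hb⟩ := h4
  exact ⟨b, by rw [← hb]; ring⟩

include hinj hf hn in
theorem rel_div {a a₂ : A} {j j₂ : B'} (h : Rel f c φ' a j) (h₂ : Rel f c φ' a₂ j₂)
    (hjj : j = g * j₂) (hφ' : φ' (Ideal.Quotient.mk _ f) = Ideal.Quotient.mk _ g) :
    ∃ a₃, a = algebraMap A' A f * a₃ := by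
  obtain ⟨x, hx, hj⟩ := h
  obtain ⟨x₂, hx₂, hj₂⟩ := h₂
  have h1 : φ' (Ideal.Quotient.mk _ x) = φ' (Ideal.Quotient.mk _ (f * x₂)) := by
    rw [hj, hjj, map_mul, map_mul, map_mul, hφ', hj₂]
  have h2 := φ'.injective h1
  rw [Ideal.Quotient.eq, Ideal.mem_span_singleton] at h2
  obtain ⟨a'', ha''⟩ := h2
  have h3 : algebraMap A' A x = algebraMap A' A (f * x₂ + f ^ n * a'') := by
    rw [← ha'']; congr 1; ring
  rw [hx, map_add, map_mul, map_mul, map_pow, hx₂] at h3
  obtain ⟨k, rfl⟩ := Nat.exists_eq_add_of_le hn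
  refine ⟨a₂ + algebraMap A' A f ^ (c + k) * algebraMap A' A a'', ?_⟩
  have h4 : algebraMap A' A f ^ c * (a - algebraMap A' A f *
      (a₂ + algebraMap A' A f ^ (c + k) * algebraMap A' A a'')) = 0 := by
    have : algebraMap A' A f ^ c * a = algebraMap A' A f * (algebraMap A' A f ^ c * a₂) +
        algebraMap A' A f ^ (2 * c + 1 + k) * algebraMap A' A a'' := h3
    linear_combination this
  have h5 := (mul_left_mem_nonZeroDivisors_eq_zero_iff (pow_mem hf c)).mp h4
  exact sub_eq_zero.mp h5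

end Main

section Build

variable {A' : Type u} (A : Type u) [CommRing A'] [CommRing A] [Algebra A' A] (f : A') (c : ℕ)
  {n : ℕ} {B' : Type u} [CommRing B'] {g : B'}
  (φ' : (A' ⧸ Ideal.span {f ^ n}) ≃+* (B' ⧸ Ideal.span {g ^ n}))

/-- the standing hypotheses -/
structure Hyp : Prop where
  hinj : Function.Injective (algebraMap A' A)
  hf : algebraMap A' A f ∈ nonZeroDivisors A
  hc : ∀ a : A, ∃ a' : A', algebraMap A' A a' = algebraMap A' A f ^ c * a
  hn : 2 * c + 1 ≤ n
  hg : g ∈ nonZeroDivisors B'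
  hφ' : φ' (Ideal.Quotient.mk _ f) = Ideal.Quotient.mk _ g

variable {A f c φ'} (H : Hyp A f c φ')

/-- the extension ring `B = g⁻ᶜ J` inside `B'[1/g]` -/
def Bsub (H : Hyp A f c φ') : Subalgebra B' (Localization.Away g) where
  carrier := {y | ∃ (a : A) (j : B'), Rel f c φ' a j ∧
    y * algebraMap B' (Localization.Away g) g ^ c = algebraMap B' (Localization.Away g) j}
  mul_mem' := by
    rintro y₁ y₂ ⟨a₁, j₁, r₁, e₁⟩ ⟨a₂, j₂, r₂, e₂⟩
    obtain ⟨j₃, r₃⟩ := rel_exists f c H.hc φ' (a₁ * a₂)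
    obtain ⟨b, hb⟩ := rel_mul H.hinj f c φ' r₁ r₂ r₃ H.hφ'
    obtain ⟨k, hk⟩ := Nat.exists_eq_add_of_le H.hn
    obtain ⟨a'', ha''⟩ := exists_lift' f φ' (g ^ (1 + k) * b)
    refine ⟨a₁ * a₂ + algebraMap A' A a'', j₃ + g ^ c * (g ^ (1 + k) * b),
      rel_add f c φ' r₃ (rel_base f c φ' H.hφ' ha''), ?_⟩
    have hGu : IsUnit (algebraMap B' (Localization.Away g) g ^ c) :=
      (IsLocalization.Away.algebraMap_isUnit g).pow c
    apply hGu.mul_left_cancel
    have h1 : algebraMap B' (Localization.Away g) g ^ c *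
        (y₁ * y₂ * algebraMap B' (Localization.Away g) g ^ c) =
        (y₁ * algebraMap B' (Localization.Away g) g ^ c) *
          (y₂ * algebraMap B' (Localization.Away g) g ^ c) := by ring
    rw [h1, e₁, e₂, ← map_mul, hb, ← map_pow, ← map_mul]
    congr 1
    rw [hk]
    ring
  one_mem' := ⟨1, g ^ c, rel_one f c φ' H.hφ', by rw [one_mul, map_pow]⟩
  add_mem' := by
    rintro y₁ y₂ ⟨a₁, j₁, r₁, e₁⟩ ⟨a₂, j₂, r₂, e₂⟩
    exact ⟨a₁ + a₂, j₁ + j₂, rel_add f c φ' r₁ r₂, by rw [add_mul, e₁, e₂, map_add]⟩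
  zero_mem' := ⟨0, 0, rel_zero f c φ', by rw [zero_mul, map_zero]⟩
  algebraMap_mem' := by
    intro b'
    obtain ⟨a'', ha''⟩ := exists_lift' f φ' b'
    exact ⟨algebraMap A' A a'', g ^ c * b', rel_base f c φ' H.hφ' ha'', by
      rw [map_mul, map_pow, mul_comm]⟩

include H in
/-- two representatives of the same element of `A` differ by a multiple of `g` in `B` -/
theorem diff {a : A} {j j' : B'} {y y' : Localization.Away g}
    (r : Rel f c φ' a j) (r' : Rel f c φ' a j')
    (e : y * algebraMap B' (Localization.Away g) g ^ c = algebraMap B' (Localization.Away g) j)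
    (e' : y' * algebraMap B' (Localization.Away g) g ^ c =
      algebraMap B' (Localization.Away g) j') :
    ∃ b'' : B', y - y' = algebraMap B' (Localization.Away g) g *
      algebraMap B' (Localization.Away g) b'' := by
  obtain ⟨b, hb⟩ := rel_unique H.hinj f c φ' r r'
  obtain ⟨k, hk⟩ := Nat.exists_eq_add_of_le H.hn
  refine ⟨g ^ (c + k) * b, ?_⟩
  have hGu : IsUnit (algebraMap B' (Localization.Away g) g ^ c) :=
    (IsLocalization.Away.algebraMap_isUnit g).pow c
  apply hGu.mul_right_cancel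
  rw [sub_mul, e, e', ← map_sub, hb, ← map_mul, ← map_pow, ← map_mul]
  congr 1
  rw [hk]
  ring

/-- equality in `B / g B` from a difference which is a multiple of `g` -/
theorem mk_eq_of_diff {β β' : Bsub H} {b'' : B'}
    (h : (β : Localization.Away g) - β' = algebraMap B' (Localization.Away g) g *
      algebraMap B' (Localization.Away g) b'') :
    Ideal.Quotient.mk (Ideal.span {algebraMap B' (Bsub H) g}) β = Ideal.Quotient.mk _ β' := by
  rw [Ideal.Quotient.eq, Ideal.mem_span_singleton]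
  exact ⟨algebraMap B' _ b'', Subtype.ext h⟩

/-- a chosen representative in `B'` -/
noncomputable def jOf (H : Hyp A f c φ') (a : A) : B' := (rel_exists f c H.hc φ' a).choose

theorem jOf_spec (a : A) : Rel f c φ' a (jOf H a) := (rel_exists f c H.hc φ' a).choose_spec

/-- a chosen lift of `a` to `B` -/
noncomputable def lam (H : Hyp A f c φ') (a : A) : Bsub H :=
  ⟨IsLocalization.mk' (Localization.Away g) (jOf H a)
    (⟨g ^ c, c, rfl⟩ : Submonoid.powers g), a, jOf H a, jOf_spec H a, by
      have := IsLocalization.mk'_spec (Localization.Away g) (jOf H a)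
        (⟨g ^ c, c, rfl⟩ : Submonoid.powers g)
      rw [← map_pow]
      exact this⟩

theorem lam_spec (a : A) :
    (lam H a : Localization.Away g) * algebraMap B' (Localization.Away g) g ^ c =
      algebraMap B' (Localization.Away g) (jOf H a) := by
  have := IsLocalization.mk'_spec (Localization.Away g) (jOf H a)
    (⟨g ^ c, c, rfl⟩ : Submonoid.powers g)
  rw [← map_pow]
  exact this

/-- the class of `lam a` is the class of any representative -/
theorem lam_eq {a : A} {j : B'} (β : Bsub H) (r : Rel f c φ' a j)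
    (e : (β : Localization.Away g) * algebraMap B' (Localization.Away g) g ^ c =
      algebraMap B' (Localization.Away g) j) :
    Ideal.Quotient.mk (Ideal.span {algebraMap B' (Bsub H) g}) (lam H a) =
      Ideal.Quotient.mk _ β := by
  obtain ⟨b'', hb''⟩ := diff H (jOf_spec H a) r (lam_spec H a) e
  exact mk_eq_of_diff H hb''

include H in
/-- products of representatives represent the product up to a multiple of `g` -/
theorem diff_mul {a₁ a₂ : A} {j₁ j₂ j₃ : B'} {y₁ y₂ y₃ : Localization.Away g}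
    (r₁ : Rel f c φ' a₁ j₁) (r₂ : Rel f c φ' a₂ j₂) (r₃ : Rel f c φ' (a₁ * a₂) j₃)
    (e₁ : y₁ * algebraMap B' (Localization.Away g) g ^ c = algebraMap B' (Localization.Away g) j₁)
    (e₂ : y₂ * algebraMap B' (Localization.Away g) g ^ c = algebraMap B' (Localization.Away g) j₂)
    (e₃ : y₃ * algebraMap B' (Localization.Away g) g ^ c =
      algebraMap B' (Localization.Away g) j₃) :
    ∃ b'' : B', y₁ * y₂ - y₃ = algebraMap B' (Localization.Away g) g *
      algebraMap B' (Localization.Away g) b'' := by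
  obtain ⟨b, hb⟩ := rel_mul H.hinj f c φ' r₁ r₂ r₃ H.hφ'
  obtain ⟨k, hk⟩ := Nat.exists_eq_add_of_le H.hn
  refine ⟨g ^ k * b, ?_⟩
  have hGu : IsUnit (algebraMap B' (Localization.Away g) g ^ c) :=
    (IsLocalization.Away.algebraMap_isUnit g).pow c
  apply (hGu.mul hGu).mul_right_cancel
  have h : (y₁ * y₂ - y₃) * (algebraMap B' (Localization.Away g) g ^ c *
      algebraMap B' (Localization.Away g) g ^ c) =
      algebraMap B' (Localization.Away g) (j₁ * j₂ - j₃ * g ^ c) := by
    rw [map_sub, map_mul, map_mul, map_pow, ← e₁, ← e₂, ← e₃]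
    ring
  rw [h, hb, hk]
  simp only [← map_mul, ← map_pow]
  congr 1
  ring

/-- the ring homomorphism `A → B / g B` -/
noncomputable def psi (H : Hyp A f c φ') :
    A →+* (Bsub H ⧸ Ideal.span {algebraMap B' (Bsub H) g}) where
  toFun a := Ideal.Quotient.mk _ (lam H a)
  map_one' := by
    have := lam_eq H (a := 1) (j := g ^ c) 1 (rel_one f c φ' H.hφ') (by simp)
    rw [this, map_one]
  map_mul' a₁ a₂ := by
    rw [← map_mul]
    obtain ⟨b'', hb''⟩ := diff_mul H (jOf_spec H a₁) (jOf_spec H a₂) (jOf_spec H (a₁ * a₂))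
      (lam_spec H a₁) (lam_spec H a₂) (lam_spec H (a₁ * a₂))
    exact (mk_eq_of_diff H (β := lam H a₁ * lam H a₂) (β' := lam H (a₁ * a₂)) hb'').symm
  map_zero' := by
    have := lam_eq H (a := 0) (j := 0) 0 (rel_zero f c φ') (by simp)
    rw [this, map_zero]
  map_add' a₁ a₂ := by
    rw [← map_add]
    exact lam_eq H (lam H a₁ + lam H a₂) (rel_add f c φ' (jOf_spec H a₁) (jOf_spec H a₂)) (by
      rw [Subalgebra.coe_add, add_mul, lam_spec, lam_spec, map_add])

theorem psi_apply (a : A) : psi H a = Ideal.Quotient.mk _ (lam H a) := rfl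

theorem psi_eq {a : A} {j : B'} (β : Bsub H) (r : Rel f c φ' a j)
    (e : (β : Localization.Away g) * algebraMap B' (Localization.Away g) g ^ c =
      algebraMap B' (Localization.Away g) j) :
    psi H a = Ideal.Quotient.mk _ β := lam_eq H β r e

theorem psi_mul_f (a : A) : psi H (algebraMap A' A f * a) = 0 := by
  rw [psi_eq H (algebraMap B' (Bsub H) g * lam H a) (rel_smul f c φ' H.hφ' (jOf_spec H a)) (by
    rw [Subalgebra.coe_mul, mul_assoc, lam_spec, map_mul]
    rfl)]
  rw [Ideal.Quotient.eq_zero_iff_mem, Ideal.mem_span_singleton]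
  exact dvd_mul_right _ _

/-- the induced map `A / f A → B / g B` -/
noncomputable def psiBar (H : Hyp A f c φ') :
    (A ⧸ Ideal.span {algebraMap A' A f}) →+* (Bsub H ⧸ Ideal.span {algebraMap B' (Bsub H) g}) :=
  Ideal.Quotient.lift _ (psi H) (by
    intro a ha
    rw [Ideal.mem_span_singleton] at ha
    obtain ⟨a₀, rfl⟩ := ha
    exact psi_mul_f H a₀)

theorem algebraMap_Bsub_injective : Function.Injective (algebraMap B' (Bsub H)) := by
  have hι : Function.Injective (algebraMap B' (Localization.Away g)) :=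
    IsLocalization.injective _ (Submonoid.powers_le.mpr H.hg)
  intro x y hxy
  exact hι (congrArg Subtype.val hxy)

theorem psiBar_bijective : Function.Bijective (psiBar H) := by
  have hι : Function.Injective (algebraMap B' (Localization.Away g)) :=
    IsLocalization.injective _ (Submonoid.powers_le.mpr H.hg)
  constructor
  · rw [injective_iff_map_eq_zero]
    intro x hx
    obtain ⟨a, rfl⟩ := Ideal.Quotient.mk_surjective x
    rw [psiBar, Ideal.Quotient.lift_mk, psi_apply, Ideal.Quotient.eq_zero_iff_mem,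
      Ideal.mem_span_singleton] at hx
    obtain ⟨β₂, hβ₂⟩ := hx
    obtain ⟨a₂, j₂, r₂, e₂⟩ := β₂.2
    have hj : jOf H a = g * j₂ := by
      apply hι
      rw [← lam_spec H a, hβ₂, Subalgebra.coe_mul, mul_assoc, e₂, map_mul]
      rfl
    obtain ⟨a₃, rfl⟩ := rel_div H.hinj f H.hf c H.hn φ' (jOf_spec H a) r₂ hj H.hφ'
    rw [Ideal.Quotient.eq_zero_iff_mem, Ideal.mem_span_singleton]
    exact dvd_mul_right _ _
  · intro β
    obtain ⟨β₀, rfl⟩ := Ideal.Quotient.mk_surjective β
    obtain ⟨a, j, r, e⟩ := β₀.2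
    refine ⟨Ideal.Quotient.mk _ a, ?_⟩
    rw [psiBar, Ideal.Quotient.lift_mk]
    exact psi_eq H β₀ r e

theorem psiBar_compat {a' : A'} {b' : B'}
    (h : φ' (Ideal.Quotient.mk _ a') = Ideal.Quotient.mk _ b') :
    psiBar H (Ideal.Quotient.mk _ (algebraMap A' A a')) =
      Ideal.Quotient.mk _ (algebraMap B' (Bsub H) b') := by
  rw [psiBar, Ideal.Quotient.lift_mk]
  refine psi_eq H (algebraMap B' (Bsub H) b') (rel_base f c φ' H.hφ' h) ?_
  rw [map_mul, map_pow, mul_comm]
  rfl

theorem mem_span_of_rep {T : Set (Bsub H)} (h1 : (1 : Bsub H) ∈ Submodule.span B' T) {a : A}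
    {j j' : B'} (β β' : Bsub H) (r : Rel f c φ' a j) (r' : Rel f c φ' a j')
    (e : (β : Localization.Away g) * algebraMap B' (Localization.Away g) g ^ c =
      algebraMap B' (Localization.Away g) j)
    (e' : (β' : Localization.Away g) * algebraMap B' (Localization.Away g) g ^ c =
      algebraMap B' (Localization.Away g) j')
    (hβ' : β' ∈ Submodule.span B' T) : β ∈ Submodule.span B' T := by
  obtain ⟨b'', hb''⟩ := diff H r r' e e'
  have : β = β' + (g * b'') • (1 : Bsub H) := by
    apply Subtype.ext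
    rw [Subalgebra.coe_add, Subalgebra.coe_smul, Subalgebra.coe_one, Algebra.smul_def, mul_one,
      map_mul, ← hb'']
    ring
  rw [this]
  exact add_mem hβ' (Submodule.smul_mem _ _ h1)

theorem finite_Bsub [Module.Finite A' A] : Module.Finite B' (Bsub H) := by
  classical
  obtain ⟨s, hs⟩ := (Module.finite_def (R := A') (M := A)).mp inferInstance
  rw [Module.finite_def]
  refine ⟨insert 1 (s.image (lam H)), ?_⟩
  set T : Set (Bsub H) := ↑(insert 1 (s.image (lam H))) with hT
  have h1 : (1 : Bsub H) ∈ Submodule.span B' T :=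
    Submodule.subset_span (by rw [hT]; exact Finset.mem_coe.mpr (Finset.mem_insert_self _ _))
  have key : ∀ a : A, a ∈ Submodule.span A' (s : Set A) → ∀ (β : Bsub H) (j : B'),
      Rel f c φ' a j → (β : Localization.Away g) * algebraMap B' (Localization.Away g) g ^ c =
        algebraMap B' (Localization.Away g) j → β ∈ Submodule.span B' T := by
    intro a ha
    induction ha using Submodule.span_induction with
    | mem x hx =>
      intro β j r e
      refine mem_span_of_rep H h1 β (lam H x) r (jOf_spec H x) e (lam_spec H x) ?_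
      exact Submodule.subset_span (by
        rw [hT]
        exact Finset.mem_coe.mpr (Finset.mem_insert_of_mem (Finset.mem_image_of_mem _ hx)))
    | zero =>
      intro β j r e
      exact mem_span_of_rep H h1 β 0 r (rel_zero f c φ') e (by simp) (zero_mem _)
    | add x y _ _ hx hy =>
      intro β j r e
      refine mem_span_of_rep H h1 β (lam H x + lam H y) r
        (rel_add f c φ' (jOf_spec H x) (jOf_spec H y)) e ?_ ?_
      · rw [Subalgebra.coe_add, add_mul, lam_spec, lam_spec, map_add]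
      · exact add_mem (hx _ _ (jOf_spec H x) (lam_spec H x)) (hy _ _ (jOf_spec H y) (lam_spec H y))
    | smul t x _ hx =>
      intro β j r e
      obtain ⟨b', hb'⟩ := Ideal.Quotient.mk_surjective (φ' (Ideal.Quotient.mk _ t))
      rw [Algebra.smul_def] at r
      refine mem_span_of_rep H h1 β (b' • lam H x) r
        (rel_smul f c φ' hb'.symm (jOf_spec H x)) e ?_ ?_
      · rw [Subalgebra.coe_smul, Algebra.smul_def, mul_assoc, lam_spec, map_mul]
      · exact Submodule.smul_mem _ _ (hx _ _ (jOf_spec H x) (lam_spec H x))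
  rw [eq_top_iff]
  rintro β -
  obtain ⟨a, j, r, e⟩ := β.2
  exact key a (by rw [hs]; trivial) β j r e

end Build

/-- the lifting statement -/
theorem main (A' A : Type u) [CommRing A'] [CommRing A] [Algebra A' A]
    (hinj : Function.Injective (algebraMap A' A)) [Module.Finite A' A] (f : A')
    (hf : algebraMap A' A f ∈ nonZeroDivisors A)
    (hloc : Function.Bijective (IsLocalization.Away.map (Localization.Away f)
      (Localization.Away (algebraMap A' A f)) (algebraMap A' A) f)) :
    ∃ n₀ : ℕ, 0 < n₀ ∧ ∀ n : ℕ, n₀ ≤ n →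
      ∀ (B' : Type u) [CommRing B'] (g : B'), g ∈ nonZeroDivisors B' →
        ∀ φ' : (A' ⧸ Ideal.span {f ^ n}) ≃+* (B' ⧸ Ideal.span {g ^ n}),
        φ' (Ideal.Quotient.mk (Ideal.span {f ^ n}) f) = Ideal.Quotient.mk (Ideal.span {g ^ n}) g →
        ∃ (B : Type u) (_ : CommRing B) (_ : Algebra B' B),
          Function.Injective (algebraMap B' B) ∧ Module.Finite B' B ∧
          ∃ φ : (A ⧸ Ideal.span {algebraMap A' A f}) ≃+* (B ⧸ Ideal.span {algebraMap B' B g}),
            ∀ (a' : A') (b' : B'),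
              φ' (Ideal.Quotient.mk (Ideal.span {f ^ n}) a') =
                Ideal.Quotient.mk (Ideal.span {g ^ n}) b' →
              φ (Ideal.Quotient.mk (Ideal.span {algebraMap A' A f}) (algebraMap A' A a')) =
                Ideal.Quotient.mk (Ideal.span {algebraMap B' B g}) (algebraMap B' B b') := by
  obtain ⟨c, hc⟩ := exists_pow_mul_mem f hf hloc.2
  refine ⟨2 * c + 1, by omega, ?_⟩
  intro n hn B' _ g hg φ' hφ'
  have H : Hyp A f c φ' := ⟨hinj, hf, hc, hn, hg, hφ'⟩
  refine ⟨Bsub H, inferInstance, inferInstance, algebraMap_Bsub_injective H, finite_Bsub H,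
    RingEquiv.ofBijective (psiBar H) (psiBar_bijective H), ?_⟩
  intro a' b' h
  exact psiBar_compat H h

end Groth.Agent.H80.TwistLift
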