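import Mathlib

/-!
# The `u, u⁻¹` lemma (Kaplansky / Seidenberg)

Let `B` be a local ring, integrally closed in a field `L`. If `u : L` is a root of a polynomial
over `B` one of whose coefficients is a unit, then `u` or `u⁻¹` lies in (the image of) `B`.
-/

set_option autoImplicit false

namespace Groth.Agent.H80.UInv

open Polynomial IsLocalRing

theorem mem_or_inv_mem {B L : Type*} [CommRing B] [IsLocalRing B] [Field L] [Algebra B L]
    (hB : ∀ x : L, IsIntegral B x → x ∈ (algebraMap B L).range) (u : L) :
    ∀ (n : ℕ) (p : B[X]), p.natDegree ≤ n → (∃ i, IsUnit (p.coeff i)) → aeval u p = 0 →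
      u ∈ (algebraMap B L).range ∨ u⁻¹ ∈ (algebraMap B L).range := by
  intro n
  induction n with
  | zero =>
    rintro p hp ⟨i, hi⟩ h0
    exfalso
    have hpC := eq_C_of_natDegree_le_zero hp
    have hi0 : i = 0 := by
      by_contra hne
      rw [hpC, coeff_C, if_neg hne] at hi
      exact not_isUnit_zero hi
    subst hi0
    rw [hpC, aeval_C] at h0
    have := hi.map (algebraMap B L)
    rw [h0] at this
    exact not_isUnit_zero this
  | succ n ih =>
    rintro p hp ⟨i, hi⟩ h0
    by_cases hz : p.coeff (n + 1) = 0
    · refine ih p ?_ ⟨i, hi⟩ h0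
      rw [natDegree_le_iff_coeff_eq_zero]
      intro N hN
      rcases Nat.lt_or_ge (n + 1) N with h | h
      · exact coeff_eq_zero_of_natDegree_lt (lt_of_le_of_lt hp h)
      · have : N = n + 1 := le_antisymm h hN
        rw [this, hz]
    have hdeg : p.natDegree = n + 1 := le_antisymm hp (le_natDegree_of_ne_zero hz)
    have hlc : p.leadingCoeff = p.coeff (n + 1) := by rw [leadingCoeff, hdeg]
    by_cases ha : IsUnit (p.coeff (n + 1))
    · left
      apply hB
      obtain ⟨c, hc⟩ := ha
      refine ⟨C (↑c⁻¹ : B) * p, monic_C_mul_of_mul_leadingCoeff_eq_one ?_, ?_⟩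
      · rw [hlc, ← hc, Units.inv_mul]
      · rw [eval₂_mul, ← aeval_def u p, h0, mul_zero]
    · have hint : IsIntegral B (p.coeff (n + 1) • u) :=
        hlc ▸ isIntegral_leadingCoeff_smul p u h0
      obtain ⟨c, hc⟩ := hB _ hint
      set a := p.coeff (n + 1) with ha_def
      set q : B[X] := p - C a * X ^ (n + 1) + C c * X ^ n with hq_def
      have hq0 : aeval u q = 0 := by
        rw [hq_def, map_add, map_sub, h0, map_mul, map_mul, aeval_C, aeval_C, map_pow, map_pow,
          aeval_X, hc, Algebra.smul_def]
        ring
      have hqc : ∀ N, q.coeff N = p.coeff N - (if N = n + 1 then a else 0)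
          + (if N = n then c else 0) := by
        intro N
        rw [hq_def, coeff_add, coeff_sub, coeff_C_mul, coeff_C_mul, coeff_X_pow, coeff_X_pow]
        congr 2 <;> split_ifs <;> simp
      have hqdeg : q.natDegree ≤ n := by
        rw [natDegree_le_iff_coeff_eq_zero]
        intro N hN
        rw [hqc N, if_neg (by omega : ¬ N = n)]
        rcases Nat.lt_or_ge (n + 1) N with h | h
        · rw [if_neg (by omega), coeff_eq_zero_of_natDegree_lt (lt_of_le_of_lt hp h)]
          simp
        · have : N = n + 1 := le_antisymm h hN
          rw [if_pos this, this]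
          simp [ha_def]
      by_cases hqu : ∃ j, IsUnit (q.coeff j)
      · exact ih q hqdeg hqu hq0
      · push Not at hqu
        have hi_n : i = n := by
          by_contra hne
          have h1 := hqu i
          rw [hqc i, if_neg hne] at h1
          by_cases hi1 : i = n + 1
          · rw [hi1] at hi
            exact ha hi
          · rw [if_neg hi1] at h1
            simp only [sub_zero, add_zero] at h1
            exact h1 hi
        subst hi_n
        have h1 := hqu i
        rw [hqc i, if_neg (by omega), if_pos rfl, sub_zero] at h1
        have hcu : IsUnit c := by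
          by_contra hcn
          have h2 : p.coeff i + c ∈ nonunits B := h1
          have h3 : -c ∈ nonunits B := by
            rw [mem_nonunits_iff, IsUnit.neg_iff]
            exact hcn
          have h4 := nonunits_add h2 h3
          rw [add_neg_cancel_right] at h4
          exact h4 hi
        right
        obtain ⟨c', rfl⟩ := hcu
        refine ⟨a * (↑c'⁻¹ : B), ?_⟩
        have hcL : IsUnit (algebraMap B L (c' : B)) := c'.isUnit.map _
        rw [hc, Algebra.smul_def] at hcL
        have hane : algebraMap B L a ≠ 0 := fun h => by
          rw [h, zero_mul] at hcL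
          exact not_isUnit_zero hcL
        have hune : u ≠ 0 := fun h => by
          rw [h, mul_zero] at hcL
          exact not_isUnit_zero hcL
        have hinv : algebraMap B L (↑c'⁻¹ : B) = (algebraMap B L a * u)⁻¹ := by
          rw [← Algebra.smul_def, ← hc]
          apply eq_inv_of_mul_eq_one_left
          rw [← map_mul, Units.inv_mul, map_one]
        rw [map_mul, hinv, mul_inv]
        field_simp

end Groth.Agent.H80.UInv
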