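import Mathlib

/-!
# Idempotents cutting out local quotients (helper80)
-/

set_option autoImplicit false
universe u v

namespace Groth.Agent.H80.UnitComp

/-- In a local ring an idempotent which a ring map to a nontrivial ring sends to `1` equals `1`. -/
theorem idem_eq_one_of_local {L : Type u} {R' : Type v} [CommRing L] [IsLocalRing L] [CommRing R']
    [Nontrivial R'] (χ : L →+* R') {e : L} (he : IsIdempotentElem e) (h1 : χ e = 1) : e = 1 := by
  have h0 : e * (1 - e) = 0 := by
    rw [mul_sub, mul_one, he.eq, sub_self]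
  rcases IsLocalRing.isUnit_or_isUnit_one_sub_self e with h | h
  · have := h.mul_right_eq_zero.mp h0
    exact (sub_eq_zero.mp this).symm
  · have h2 : e = 0 := by
      rw [mul_comm] at h0
      exact h.mul_right_eq_zero.mp h0
    rw [h2, map_zero] at h1
    exact absurd h1 zero_ne_one

/-- If `S/(1-f)` is local, `f` and `g` are idempotents sent to `1` by a ring map to a nontrivial
ring, then `f * g = f`. -/
theorem mul_eq_of_local_quotient {S : Type u} {R' : Type v} [CommRing S] [CommRing R'] [Nontrivial R']
    (f g : S) [IsLocalRing (S ⧸ Ideal.span ({1 - f} : Set S))]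
    (χ : S →+* R') (hf : IsIdempotentElem f) (hf1 : χ f = 1) (hg : IsIdempotentElem g)
    (hg1 : χ g = 1) :
    f * g = f := by
  let I : Ideal S := Ideal.span ({1 - f} : Set S)
  have hI : ∀ a ∈ I, χ a = 0 := by
    intro a ha
    obtain ⟨c, rfl⟩ := Ideal.mem_span_singleton'.mp ha
    rw [map_mul, map_sub, map_one, hf1, sub_self, mul_zero]
  let χ' : S ⧸ I →+* R' := Ideal.Quotient.lift I χ hI
  have h1 : Ideal.Quotient.mk I g = 1 := by
    apply idem_eq_one_of_local χ'
    · exact hg.map (Ideal.Quotient.mk I)
    · change χ' (Ideal.Quotient.mk I g) = 1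
      rw [Ideal.Quotient.lift_mk]
      exact hg1
  have h2 : g - 1 ∈ I := by
    rw [← Ideal.Quotient.eq_zero_iff_mem, map_sub, h1, map_one, sub_self]
  obtain ⟨c, hc⟩ := Ideal.mem_span_singleton'.mp h2
  have h3 : f * (g - 1) = c * (f * (1 - f)) := by
    rw [← hc]; ring
  have h4 : f * (1 - f) = 0 := by rw [mul_sub, mul_one, hf.eq, sub_self]
  rw [h4, mul_zero, mul_sub, mul_one, sub_eq_zero] at h3
  exact h3

end Groth.Agent.H80.UnitComp
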