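import Groth.Agent.H80.UnitComp
import Groth.Prelude.Def_CartDual2

/-!
# Invariant linear forms are preserved by transposes (helper80)
-/

set_option autoImplicit false
universe u

namespace Groth.Agent.H80.UnitComp

open TensorProduct

theorem invariant_transpose (R : Type u) [CommRing R] [Nontrivial R]
    (A0 B0 : Type u) [CommRing A0] [Bialgebra R A0] [Coalgebra.IsCocomm R A0]
    [Module.Finite R A0] [Module.Projective R A0]
    [CommRing B0] [Bialgebra R B0] [Coalgebra.IsCocomm R B0]
    [Module.Finite R B0] [Module.Projective R B0]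
    (ψ0 : B0 →ₐc[R] A0)
    (fA : CartDual.D R A0) (hfA : IsIdempotentElem fA)
    (hfAε : Bialgebra.counitAlgHom R (CartDual.D R A0) fA = 1)
    (fB : CartDual.D R B0) (hfB : IsIdempotentElem fB)
    (hfBε : Bialgebra.counitAlgHom R (CartDual.D R B0) fB = 1)
    [IsLocalRing (CartDual.D R B0 ⧸ Ideal.span ({1 - fB} : Set (CartDual.D R B0)))]
    (x : CartDual.D R A0)
    (hx : LinearMap.lTensor (CartDual.D R A0) (LinearMap.mulLeft R fA) (Coalgebra.comul (R := R) x) =
      x ⊗ₜ[R] fA) :
    LinearMap.lTensor (CartDual.D R B0) (LinearMap.mulLeft R fB)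
      (Coalgebra.comul (R := R) (CartDual.transpose R ψ0 x)) = CartDual.transpose R ψ0 x ⊗ₜ[R] fB := by
  set T := CartDual.transpose R ψ0 with hTdef
  have hT1 : Bialgebra.counitAlgHom R (CartDual.D R B0) (T fA) = 1 := by
    rw [← hfAε]
    exact CoalgHomClass.counit_comp_apply T fA
  have hTidem : IsIdempotentElem (T fA) := by
    have := congrArg T hfA.eq
    rw [map_mul] at this
    exact this
  have hT : fB * T fA = fB :=
    mul_eq_of_local_quotient fB (T fA) (Bialgebra.counitAlgHom R (CartDual.D R B0)).toRingHom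
      hfB hfBε hTidem hT1
  have hcomul : Coalgebra.comul (R := R) (T x) =
      TensorProduct.map (T : CartDual.D R A0 →ₗ[R] CartDual.D R B0) (T : CartDual.D R A0 →ₗ[R] CartDual.D R B0)
        (Coalgebra.comul (R := R) x) :=
    (CoalgHomClass.map_comp_comul_apply T x).symm
  have key : LinearMap.lTensor (CartDual.D R B0) (LinearMap.mulLeft R fB) ∘ₗ
      TensorProduct.map (T : CartDual.D R A0 →ₗ[R] CartDual.D R B0) (T : CartDual.D R A0 →ₗ[R] CartDual.D R B0) =
      LinearMap.lTensor (CartDual.D R B0) (LinearMap.mulLeft R fB) ∘ₗ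
      TensorProduct.map (T : CartDual.D R A0 →ₗ[R] CartDual.D R B0) (T : CartDual.D R A0 →ₗ[R] CartDual.D R B0) ∘ₗ
      LinearMap.lTensor (CartDual.D R A0) (LinearMap.mulLeft R fA) := by
    apply TensorProduct.ext'
    intro u v
    simp only [LinearMap.coe_comp, Function.comp_apply, TensorProduct.map_tmul, LinearMap.lTensor_tmul,
      LinearMap.mulLeft_apply, LinearMap.coe_coe]
    rw [map_mul, ← mul_assoc, hT]
  have h1 := LinearMap.congr_fun key (Coalgebra.comul (R := R) x)
  simp only [LinearMap.coe_comp, Function.comp_apply] at h1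
  rw [hcomul, h1, hx, TensorProduct.map_tmul, LinearMap.lTensor_tmul, LinearMap.mulLeft_apply]
  simp only [LinearMap.coe_coe]
  rw [hT]

end Groth.Agent.H80.UnitComp
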