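import Groth.Agent.H80.UnitComp

/-!
# Unit components: local homs via augmentations, flatness through idempotent quotients (helper80)
-/

set_option autoImplicit false
universe u v w

namespace Groth.Agent.H80.UnitComp

/-- A ring map between local rings compatible with augmentations to a nontrivial ring (the source
augmentation being surjective) is local. -/
theorem isLocalHom_of_augmentation {S'' : Type u} {S : Type v} {R : Type w} [CommRing S''] [CommRing S]
    [CommRing R] [Nontrivial R] [IsLocalRing S''] (χ'' : S'' →+* R) (hsurj : Function.Surjective χ'')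
    (χ : S →+* R) (g : S'' →+* S) (hcomp : χ.comp g = χ'') : IsLocalHom g := by
  refine ⟨fun a ha => ?_⟩
  by_contra hna
  have hu : IsUnit (χ'' a) := by
    rw [← hcomp]
    exact ha.map χ
  obtain ⟨c, hc⟩ := hsurj (↑hu.unit⁻¹ : R)
  have hac : a * c ∈ nonunits S'' := by
    have : a ∈ nonunits S'' := hna
    intro h
    exact hna (isUnit_of_mul_isUnit_left h)
  have h1 : IsUnit (1 - a * c) := IsLocalRing.isUnit_one_sub_self_of_mem_nonunits _ hac
  have h2 : χ'' (1 - a * c) = 0 := by
    rw [map_sub, map_mul, hc, map_one]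
    have : χ'' a * ↑hu.unit⁻¹ = 1 := by
      have := hu.unit.mul_inv
      simpa using congrArg Units.val this
    rw [this, sub_self]
  have h3 : IsUnit (χ'' (1 - a * c)) := h1.map χ''
  rw [h2] at h3
  exact not_isUnit_zero h3

/-- The quotient `C/(1-f)` is nontrivial when some ring map to a nontrivial ring sends `f` to `1`. -/
theorem nontrivial_quotient {C : Type u} {R : Type v} [CommRing C] [CommRing R] [Nontrivial R]
    (χ : C →+* R) (f : C) (hf : χ f = 1) : Nontrivial (C ⧸ Ideal.span ({1 - f} : Set C)) := by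
  rw [Ideal.Quotient.nontrivial_iff]
  intro htop
  have h1 : (1 : C) ∈ Ideal.span ({1 - f} : Set C) := by rw [htop]; trivial
  obtain ⟨c, hc⟩ := Ideal.mem_span_singleton'.mp h1
  have := congrArg χ hc
  rw [map_mul, map_sub, map_one, hf, sub_self, mul_zero] at this
  exact zero_ne_one this

/-- Two idempotents with local quotients and augmentation `1` coincide. -/
theorem idem_unique {C : Type u} {R : Type v} [CommRing C] [CommRing R] [Nontrivial R]
    (χ : C →+* R) (f g : C) (hf : IsIdempotentElem f) (hg : IsIdempotentElem g)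
    (hf1 : χ f = 1) (hg1 : χ g = 1)
    [IsLocalRing (C ⧸ Ideal.span ({1 - f} : Set C))] [IsLocalRing (C ⧸ Ideal.span ({1 - g} : Set C))] :
    f = g := by
  have h1 := mul_eq_of_local_quotient f g χ hf hf1 hg hg1
  have h2 := mul_eq_of_local_quotient g f χ hg hg1 hf hf1
  rw [← h1, mul_comm, h2]

/-- Flatness passes to the quotients by `1 - e''` and `1 - e` for idempotents. -/
theorem flat_idem_quotient {A'' : Type u} {A : Type v} [CommRing A''] [CommRing A] [Algebra A'' A]
    [Module.Flat A'' A] (e'' : A'') (he'' : IsIdempotentElem e'') (e : A) (he : IsIdempotentElem e)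
    (g : (A'' ⧸ Ideal.span ({1 - e''} : Set A'')) →+* (A ⧸ Ideal.span ({1 - e} : Set A)))
    (hg : g.comp (Ideal.Quotient.mk (Ideal.span ({1 - e''} : Set A''))) =
      (Ideal.Quotient.mk (Ideal.span ({1 - e} : Set A))).comp (algebraMap A'' A)) :
    letI := g.toAlgebra
    Module.Flat (A'' ⧸ Ideal.span ({1 - e''} : Set A'')) (A ⧸ Ideal.span ({1 - e} : Set A)) := by
  letI := g.toAlgebra
  have hloc'' : IsLocalization.Away e'' (A'' ⧸ Ideal.span ({1 - e''} : Set A'')) :=
    IsLocalization.Away.quotient_of_isIdempotentElem he''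
  have hloc : IsLocalization.Away e (A ⧸ Ideal.span ({1 - e} : Set A)) :=
    IsLocalization.Away.quotient_of_isIdempotentElem he
  have hflat1 : Module.Flat A (A ⧸ Ideal.span ({1 - e} : Set A)) :=
    IsLocalization.flat _ (Submonoid.powers e)
  have hflat2 : Module.Flat A'' (A ⧸ Ideal.span ({1 - e} : Set A)) :=
    Module.Flat.trans A'' A _
  have htower : IsScalarTower A'' (A'' ⧸ Ideal.span ({1 - e''} : Set A''))
      (A ⧸ Ideal.span ({1 - e} : Set A)) := by
    refine ⟨fun a s t => ?_⟩
    obtain ⟨s, rfl⟩ := Ideal.Quotient.mk_surjective s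
    have h1 : a • (Ideal.Quotient.mk (Ideal.span ({1 - e''} : Set A'')) s) =
        Ideal.Quotient.mk _ (a * s) := rfl
    rw [h1]
    change g (Ideal.Quotient.mk _ (a * s)) * t = a • (g (Ideal.Quotient.mk _ s) * t)
    rw [map_mul, map_mul, Algebra.smul_def, ← mul_assoc]
    congr 2
    have := RingHom.congr_fun hg a
    simp only [RingHom.comp_apply] at this
    rw [this]
    rfl
  exact (Module.flat_iff_of_isLocalization (A'' ⧸ Ideal.span ({1 - e''} : Set A''))
    (Submonoid.powers e'') (A ⧸ Ideal.span ({1 - e} : Set A))).mpr hflat2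

end Groth.Agent.H80.UnitComp
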