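import Groth.Agent.H80.UnitsVal7
import Groth.Agent.H22.CompProper
import Groth.Agent.H22.CompLift

/-!
# Rational points of schemes locally of finite type over an algebraically closed field

* `eq_zero_of_forall_point`: a function on a reduced scheme vanishing at all rational points is `0`;
* `exists_point_mem`: nonempty closed subsets contain rational points;
* `connectivity`: an equivalence relation on rational points of a connected scheme which relates
  any two points of an integral closed subscheme is total.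
-/

set_option autoImplicit false
set_option linter.style.haveILetI false
universe u

namespace Groth.Agent.H80.UnitsAx

open CategoryTheory MonoidalCategory CartesianMonoidalCategory AlgebraicGeometry
  CategoryTheory.Limits TopologicalSpace Groth.Agent.H80.UnitsVal

variable (K : Type u) [Field K]

/-- The point of `Spec K`, as a point of the unit object of `Over (Spec K)`. -/
noncomputable def o : ↥(𝟙_ (Over (Spec (CommRingCat.of K)))).left := IsLocalRing.closedPoint K

theorem eq_o (q : ↥(𝟙_ (Over (Spec (CommRingCat.of K)))).left) : q = o K :=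
  Subsingleton.elim (α := PrimeSpectrum K) q (o K)

instance : Subsingleton ↥(𝟙_ (Over (Spec (CommRingCat.of K)))).left :=
  inferInstanceAs (Subsingleton (PrimeSpectrum K))

/-- Morphisms out of `Spec K` are quasi-compact. -/
instance quasiCompact_left (X : Over (Spec (CommRingCat.of K)))
    (x : 𝟙_ (Over (Spec (CommRingCat.of K))) ⟶ X) : QuasiCompact x.left :=
  ⟨fun _ _ _ => (Set.toFinite _).isCompact⟩

variable {K}

theorem range_left (X : Over (Spec (CommRingCat.of K)))
    (x : 𝟙_ (Over (Spec (CommRingCat.of K))) ⟶ X) :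
    Set.range x.left = {x.left (o K)} := by
  ext p
  constructor
  · rintro ⟨q, rfl⟩
    rw [eq_o K q]
    rfl
  · rintro rfl
    exact ⟨o K, rfl⟩

variable [IsAlgClosed K]

/-- Nonempty closed subsets contain rational points. -/
theorem exists_point_mem (X : Over (Spec (CommRingCat.of K))) [LocallyOfFiniteType X.hom]
    (T : Set X.left) (hT : IsClosed T) (hne : T.Nonempty) :
    ∃ x : 𝟙_ (Over (Spec (CommRingCat.of K))) ⟶ X, x.left (o K) ∈ T := by
  set Tc : Closeds X.left := ⟨T, hT⟩
  set ι := (Scheme.IdealSheafData.vanishingIdeal Tc).subschemeι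
  have hr : Set.range ι = T := Groth.Agent.H22.CompLift.range_subschemeι_vanishingIdeal Tc
  obtain ⟨p, hp⟩ := hne
  rw [← hr] at hp
  obtain ⟨p', -⟩ := hp
  haveI : Nonempty ↥(Scheme.IdealSheafData.vanishingIdeal Tc).subscheme := ⟨p'⟩
  let To : Over (Spec (CommRingCat.of K)) := Over.mk (ι ≫ X.hom)
  haveI : Nonempty ↥To.left := ⟨p'⟩
  haveI : LocallyOfFiniteType To.hom := by
    change LocallyOfFiniteType (ι ≫ X.hom)
    infer_instance
  obtain ⟨z⟩ := exists_point K To
  refine ⟨z ≫ Over.homMk ι rfl, ?_⟩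
  rw [← hr]
  exact ⟨z.left (o K), rfl⟩

/-- A function on a reduced scheme vanishing at all rational points vanishes. -/
theorem eq_zero_of_forall_point (X : Over (Spec (CommRingCat.of K))) [IsReduced X.left]
    [LocallyOfFiniteType X.hom] (s : Γ(X.left, ⊤))
    (h : ∀ z : 𝟙_ (Over (Spec (CommRingCat.of K))) ⟶ X, z.left.appTop s = 0) : s = 0 := by
  rw [← basicOpen_eq_bot_iff]
  by_contra hne
  have hne' : ((X.left.basicOpen s : X.left.Opens) : Set X.left)ᶜᶜ.Nonempty := by
    rw [compl_compl, Set.nonempty_iff_ne_empty]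
    intro h0
    exact hne (Opens.ext h0)
  -- the complement of the basic open is closed; if it contains all rational points we are done
  by_cases hall : ∀ z : 𝟙_ (Over (Spec (CommRingCat.of K))) ⟶ X,
      z.left (o K) ∉ X.left.basicOpen s
  · -- consider the open subscheme
    let D := X.left.basicOpen s
    obtain ⟨p, hp⟩ := hne'
    rw [compl_compl] at hp
    haveI : Nonempty ↥D.toScheme := ⟨⟨p, hp⟩⟩
    let Do : Over (Spec (CommRingCat.of K)) := Over.mk (D.ι ≫ X.hom)
    haveI : Nonempty ↥Do.left := ⟨⟨p, hp⟩⟩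
    haveI : LocallyOfFiniteType Do.hom := by
      change LocallyOfFiniteType (D.ι ≫ X.hom)
      infer_instance
    obtain ⟨z⟩ := exists_point K Do
    exact hall (z ≫ Over.homMk D.ι rfl) (z.left (o K)).2
  · push Not at hall
    obtain ⟨z, hz⟩ := hall
    have h1 : z.left ⁻¹ᵁ X.left.basicOpen s = ⊥ := by
      rw [Scheme.preimage_basicOpen_top, h z, Scheme.basicOpen_zero]
    have h2 : o K ∈ z.left ⁻¹ᵁ X.left.basicOpen s := hz
    rw [h1] at h2
    exact h2

section conn

variable (X : Over (Spec (CommRingCat.of K))) [LocallyOfFiniteType X.hom]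
  (E : (𝟙_ (Over (Spec (CommRingCat.of K))) ⟶ X) → (𝟙_ (Over (Spec (CommRingCat.of K))) ⟶ X) → Prop)
  (hZ : ∀ (Z : Over (Spec (CommRingCat.of K))) (i : Z ⟶ X), IsIntegral Z.left →
    IsClosedImmersion i.left → ∀ x x' : 𝟙_ (Over (Spec (CommRingCat.of K))) ⟶ Z,
      E (x ≫ i) (x' ≫ i))

include hZ in
/-- Two rational points in a common irreducible closed subset are related. -/
theorem rel_of_mem_irreducible (Z : Set X.left) (hZc : IsClosed Z) (hZi : IsIrreducible Z)
    (x x' : 𝟙_ (Over (Spec (CommRingCat.of K))) ⟶ X) (hx : x.left (o K) ∈ Z)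
    (hx' : x'.left (o K) ∈ Z) : E x x' := by
  set Tc : Closeds X.left := ⟨Z, hZc⟩
  set ι := (Scheme.IdealSheafData.vanishingIdeal Tc).subschemeι
  haveI : IsIntegral (Scheme.IdealSheafData.vanishingIdeal Tc).subscheme :=
    Groth.Agent.H22.CompLift.isIntegral_subscheme_vanishingIdeal Tc hZi
  haveI : IsReduced (𝟙_ (Over (Spec (CommRingCat.of K)))).left :=
    inferInstanceAs (IsReduced (Spec (CommRingCat.of K)))
  haveI : CompactSpace ↥(𝟙_ (Over (Spec (CommRingCat.of K)))).left :=
    inferInstanceAs (CompactSpace ↥(Spec (CommRingCat.of K)))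
  obtain ⟨x₁, hx₁⟩ := Groth.Agent.H22.CompProper.exists_lift_of_isReduced x.left Tc
    (by rw [range_left]; exact Set.singleton_subset_iff.2 hx)
  obtain ⟨x₁', hx₁'⟩ := Groth.Agent.H22.CompProper.exists_lift_of_isReduced x'.left Tc
    (by rw [range_left]; exact Set.singleton_subset_iff.2 hx')
  let Zo : Over (Spec (CommRingCat.of K)) := Over.mk (ι ≫ X.hom)
  let i : Zo ⟶ X := Over.homMk ι rfl
  let xo : 𝟙_ (Over (Spec (CommRingCat.of K))) ⟶ Zo := Over.homMk x₁ (by
    change x₁ ≫ ι ≫ X.hom = _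
    rw [← Category.assoc, hx₁]
    exact Over.w x)
  let xo' : 𝟙_ (Over (Spec (CommRingCat.of K))) ⟶ Zo := Over.homMk x₁' (by
    change x₁' ≫ ι ≫ X.hom = _
    rw [← Category.assoc, hx₁']
    exact Over.w x')
  have e1 : x = xo ≫ i := by
    ext1
    exact hx₁.symm
  have e2 : x' = xo' ≫ i := by
    ext1
    exact hx₁'.symm
  rw [e1, e2]
  exact hZ Zo i ‹_› (inferInstanceAs (IsClosedImmersion ι)) xo xo'

variable [QuasiCompact X.hom] [ConnectedSpace ↥X.left] (hE : Equivalence E)

include hZ hE in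
/-- **Connectivity lemma.** -/
theorem connectivity (x₀ x : 𝟙_ (Over (Spec (CommRingCat.of K))) ⟶ X) : E x₀ x := by
  classical
  haveI : IsLocallyNoetherian X.left := LocallyOfFiniteType.isLocallyNoetherian X.hom
  haveI : CompactSpace ↥X.left := by
    have : CompactSpace ↥(Spec (CommRingCat.of K)) := inferInstance
    exact QuasiCompact.compactSpace_of_compactSpace X.hom
  haveI : IsNoetherian X.left := {}
  have hfin : (irreducibleComponents ↥X.left).Finite :=
    NoetherianSpace.finite_irreducibleComponents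
  -- reachable components
  let 𝒞 : Set (Set ↥X.left) := {Z | Z ∈ irreducibleComponents ↥X.left ∧
    ∃ y : 𝟙_ (Over (Spec (CommRingCat.of K))) ⟶ X, y.left (o K) ∈ Z ∧ E x₀ y}
  let 𝒟 : Set (Set ↥X.left) := irreducibleComponents ↥X.left \ 𝒞
  have hCfin : 𝒞.Finite := hfin.subset fun Z hZ' => hZ'.1
  have hDfin : 𝒟.Finite := hfin.subset Set.sdiff_subset
  have hCcl : IsClosed (⋃₀ 𝒞) := by
    rw [Set.sUnion_eq_biUnion]
    exact hCfin.isClosed_biUnion fun Z hZ' => isClosed_of_mem_irreducibleComponents Z hZ'.1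
  have hDcl : IsClosed (⋃₀ 𝒟) := by
    rw [Set.sUnion_eq_biUnion]
    exact hDfin.isClosed_biUnion fun Z hZ' => isClosed_of_mem_irreducibleComponents Z hZ'.1
  have hcover : ⋃₀ 𝒞 ∪ ⋃₀ 𝒟 = Set.univ := by
    rw [← Set.sUnion_union, Set.union_sdiff_cancel (fun Z hZ' => hZ'.1),
      sUnion_irreducibleComponents]
  have hrel : ∀ Z ∈ irreducibleComponents ↥X.left,
      ∀ y y' : 𝟙_ (Over (Spec (CommRingCat.of K))) ⟶ X,
        y.left (o K) ∈ Z → y'.left (o K) ∈ Z → E y y' := fun Z hZ' y y' hy hy' =>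
    rel_of_mem_irreducible X E hZ Z (isClosed_of_mem_irreducibleComponents Z hZ')
      hZ'.1 y y' hy hy'
  have hdisj : Disjoint (⋃₀ 𝒞) (⋃₀ 𝒟) := by
    rw [Set.disjoint_iff]
    rintro p ⟨⟨Z, hZC, hpZ⟩, ⟨Z', hZD, hpZ'⟩⟩
    obtain ⟨y', hy'⟩ := exists_point_mem X (Z ∩ Z')
      ((isClosed_of_mem_irreducibleComponents Z hZC.1).inter
        (isClosed_of_mem_irreducibleComponents Z' hZD.1)) ⟨p, hpZ, hpZ'⟩
    obtain ⟨y, hyZ, hy⟩ := hZC.2
    have h1 : E y y' := hrel Z hZC.1 y y' hyZ hy'.1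
    exact hZD.2 ⟨hZD.1, y', hy'.2, hE.trans hy h1⟩
  -- the component of `x₀`
  have hx₀ : (x₀.left (o K)) ∈ ⋃₀ 𝒞 := by
    have : x₀.left (o K) ∈ ⋃₀ irreducibleComponents ↥X.left := by
      rw [sUnion_irreducibleComponents]; trivial
    obtain ⟨Z, hZ', hxZ⟩ := this
    exact ⟨Z, ⟨hZ', x₀, hxZ, hE.refl _⟩, hxZ⟩
  have hclopen : IsClopen (⋃₀ 𝒞) := by
    refine ⟨hCcl, ?_⟩
    have : ⋃₀ 𝒞 = (⋃₀ 𝒟)ᶜ := by
      ext p
      constructor
      · intro hp hp'
        exact Set.disjoint_iff.1 hdisj ⟨hp, hp'⟩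
      · intro hp
        have : p ∈ ⋃₀ 𝒞 ∪ ⋃₀ 𝒟 := by rw [hcover]; trivial
        rcases this with h | h
        · exact h
        · exact absurd h hp
    rw [this]
    exact hDcl.isOpen_compl
  have huniv : ⋃₀ 𝒞 = Set.univ := hclopen.eq_univ ⟨_, hx₀⟩
  have hx : x.left (o K) ∈ ⋃₀ 𝒞 := by rw [huniv]; trivial
  obtain ⟨Z, hZC, hxZ⟩ := hx
  obtain ⟨y, hyZ, hy⟩ := hZC.2
  exact hE.trans hy (hrel Z hZC.1 y x hyZ hxZ)

end conn

end Groth.Agent.H80.UnitsAx
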