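import Groth.Agent.H80.UnitsAx1
import Mathlib.AlgebraicGeometry.Geometrically.Reduced

/-!
# Units on a product of connected reduced schemes over an algebraically closed field which are
trivial on the axes are trivial
-/

set_option autoImplicit false
set_option linter.style.haveILetI false
universe u

namespace Groth.Agent.H80.UnitsAx

open CategoryTheory MonoidalCategory CartesianMonoidalCategory AlgebraicGeometry
  CategoryTheory.Limits TopologicalSpace Groth.Agent.H80.UnitsVal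

variable {K : Type u} [Field K] [IsAlgClosed K]

local notation "𝟙K" => 𝟙_ (Over (Spec (CommRingCat.of K)))

section val

variable {X Y : Over (Spec (CommRingCat.of K))} (τ : (Γ((X ⊗ Y).left, ⊤))ˣ)

/-- The value of a unit on the product at a pair of rational points. -/
noncomputable def val (x : 𝟙K ⟶ X) (y : 𝟙K ⟶ Y) : (Γ((𝟙K).left, ⊤))ˣ :=
  Units.map ((lift x y).left.appTop.hom : Γ((X ⊗ Y).left, ⊤) →* Γ((𝟙K).left, ⊤)) τ

theorem val_coe (x : 𝟙K ⟶ X) (y : 𝟙K ⟶ Y) :
    ((val τ x y : (Γ((𝟙K).left, ⊤))ˣ) : Γ((𝟙K).left, ⊤)) =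
      (lift x y).left.appTop (τ : Γ((X ⊗ Y).left, ⊤)) := rfl

/-- The cross ratio is trivial on products of integral schemes. -/
theorem cross_of_integral (Z W : Over (Spec (CommRingCat.of K))) (i : Z ⟶ X) (j : W ⟶ Y)
    [IsIntegral Z.left] [IsIntegral W.left] [LocallyOfFiniteType Z.hom]
    [LocallyOfFiniteType W.hom] (x x' : 𝟙K ⟶ Z) (y y' : 𝟙K ⟶ W) :
    val τ (x ≫ i) (y ≫ j) / val τ (x ≫ i) (y' ≫ j) =
      val τ (x' ≫ i) (y ≫ j) / val τ (x' ≫ i) (y' ≫ j) := by
  obtain ⟨g, h, -, -, hgh⟩ :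
      ∃ (g : Γ(Z.left, ⊤)) (h : Γ(W.left, ⊤)), IsUnit g ∧ IsUnit h ∧
        (i ⊗ₘ j).left.appTop (τ : Γ((X ⊗ Y).left, ⊤)) =
          (fst Z W).left.appTop g * (snd Z W).left.appTop h :=
    rosenlicht_scheme Z.hom W.hom ((i ⊗ₘ j).left.appTop (τ : Γ((X ⊗ Y).left, ⊤)))
      (τ.isUnit.map _)
  have key : ∀ (a : 𝟙K ⟶ Z) (b : 𝟙K ⟶ W),
      ((val τ (a ≫ i) (b ≫ j) : (Γ((𝟙K).left, ⊤))ˣ) : Γ((𝟙K).left, ⊤)) =
        a.left.appTop g * b.left.appTop h := by
    intro a b
    rw [val_coe, ← lift_map, left_appTop_comp, hgh, map_mul, ← left_appTop_comp,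
      ← left_appTop_comp, lift_fst, lift_snd]
  rw [div_eq_div_iff_mul_eq_mul]
  apply Units.ext
  rw [Units.val_mul, Units.val_mul, key, key, key, key]
  ring

end val

section main

variable (X Y : Over (Spec (CommRingCat.of K)))
  [LocallyOfFiniteType X.hom] [QuasiCompact X.hom] [ConnectedSpace ↥X.left]
  [LocallyOfFiniteType Y.hom] [QuasiCompact Y.hom] [ConnectedSpace ↥Y.left]
  (τ : (Γ((X ⊗ Y).left, ⊤))ˣ)

/-- The cross ratio of a unit on a product of connected schemes is trivial. -/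
theorem cross (x x' : 𝟙K ⟶ X) (y y' : 𝟙K ⟶ Y) :
    val τ x y / val τ x y' = val τ x' y / val τ x' y' := by
  -- stage 1: `y, y'` in an integral closed subscheme
  have stage1 : ∀ (W : Over (Spec (CommRingCat.of K))) (j : W ⟶ Y), IsIntegral W.left →
      IsClosedImmersion j.left → ∀ (b b' : 𝟙K ⟶ W) (a a' : 𝟙K ⟶ X),
        val τ a (b ≫ j) / val τ a (b' ≫ j) = val τ a' (b ≫ j) / val τ a' (b' ≫ j) := by
    intro W j hW hj b b' a a'
    haveI : LocallyOfFiniteType W.hom := by
      rw [← Over.w j]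
      infer_instance
    refine connectivity X (fun a a' => val τ a (b ≫ j) / val τ a (b' ≫ j) =
      val τ a' (b ≫ j) / val τ a' (b' ≫ j)) ?_
      ⟨fun _ => rfl, fun h => h.symm, fun h h' => h.trans h'⟩ a a'
    intro Z i hZ hi c c'
    haveI : LocallyOfFiniteType Z.hom := by
      rw [← Over.w i]
      infer_instance
    exact cross_of_integral τ Z W i j c c' b b'
  -- stage 2
  have h2 := connectivity Y (fun b b' => val τ x b / val τ x' b = val τ x b' / val τ x' b') ?_
    ⟨fun _ => rfl, fun h => h.symm, fun h h' => h.trans h'⟩ y y'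
  · rw [div_eq_div_iff_mul_eq_mul] at h2 ⊢
    rw [h2, mul_comm]
  · intro W j hW hj b b'
    have := stage1 W j hW hj b b' x x'
    rw [div_eq_div_iff_mul_eq_mul] at this ⊢
    rw [this, mul_comm]

/-- **Units trivial on the axes are trivial** (algebraically closed base field). -/
theorem eq_one_of_axes [GeometricallyReduced X.hom] [IsReduced Y.left] (eX : 𝟙K ⟶ X)
    (eY : 𝟙K ⟶ Y) (t : Γ((X ⊗ Y).left, ⊤)) (ht : IsUnit t)
    (hX : (lift (𝟙 X) (toUnit X ≫ eY)).left.appTop t = 1)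
    (hY : (lift (toUnit Y ≫ eX) (𝟙 Y)).left.appTop t = 1) : t = 1 := by
  set τ := ht.unit with hτ
  have hτt : (τ : Γ((X ⊗ Y).left, ⊤)) = t := rfl
  have h1 : ∀ x : 𝟙K ⟶ X, val τ x eY = 1 := by
    intro x
    apply Units.ext
    have e : lift x eY = x ≫ lift (𝟙 X) (toUnit X ≫ eY) := by
      rw [comp_lift, Category.comp_id, ← Category.assoc, toUnit_unique (x ≫ toUnit X) (𝟙 _),
        Category.id_comp]
    rw [val_coe, hτt, e, left_appTop_comp, hX, map_one, Units.val_one]
  have h2 : ∀ y : 𝟙K ⟶ Y, val τ eX y = 1 := by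
    intro y
    apply Units.ext
    have e : lift eX y = y ≫ lift (toUnit Y ≫ eX) (𝟙 Y) := by
      rw [comp_lift, Category.comp_id, ← Category.assoc, toUnit_unique (y ≫ toUnit Y) (𝟙 _),
        Category.id_comp]
    rw [val_coe, hτt, e, left_appTop_comp, hY, map_one, Units.val_one]
  have h3 : ∀ (x : 𝟙K ⟶ X) (y : 𝟙K ⟶ Y), val τ x y = 1 := by
    intro x y
    have := cross X Y τ x eX y eY
    rwa [h1, h2, h2, div_one, div_one] at this
  -- conclude by reducedness
  haveI : Subsingleton ↥(Spec (CommRingCat.of K)) :=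
    inferInstanceAs (Subsingleton (PrimeSpectrum K))
  haveI : IsLocallyNoetherian Y.left := LocallyOfFiniteType.isLocallyNoetherian Y.hom
  haveI : IsReduced (X ⊗ Y).left := inferInstanceAs (IsReduced (pullback X.hom Y.hom))
  haveI : LocallyOfFiniteType (X ⊗ Y).hom := by
    change LocallyOfFiniteType (pullback.fst X.hom Y.hom ≫ X.hom)
    infer_instance
  rw [← sub_eq_zero]
  apply eq_zero_of_forall_point (X ⊗ Y)
  intro z
  rw [map_sub, map_one, sub_eq_zero, ← lift_comp_fst_snd z, ← hτt, ← val_coe, h3, Units.val_one]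

end main

end Groth.Agent.H80.UnitsAx
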