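import Groth.Agent.H80.UnitsAx2
import Mathlib.AlgebraicGeometry.Geometrically.Connected
import Mathlib.AlgebraicGeometry.PullbackCarrier

/-!
# Units on a product trivial on the axes are trivial: arbitrary base field

Base change to the algebraic closure.
-/

set_option autoImplicit false
set_option linter.style.haveILetI false
universe u

namespace Groth.Agent.H80.UnitsAx

open CategoryTheory MonoidalCategory CartesianMonoidalCategory AlgebraicGeometry
  CategoryTheory.Limits TopologicalSpace Groth.Agent.H80.UnitsVal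

variable (k : Type u) [Field k]

/-- `Spec k̄ ⟶ Spec k`. -/
noncomputable def bK : Spec (CommRingCat.of (AlgebraicClosure k)) ⟶ Spec (CommRingCat.of k) :=
  Spec.map (CommRingCat.ofHom (algebraMap k (AlgebraicClosure k)))

instance : Surjective (bK k) :=
  ⟨fun x => ⟨IsLocalRing.closedPoint (AlgebraicClosure k),
    Subsingleton.elim (α := PrimeSpectrum k) _ _⟩⟩

variable {k}

/-- Base change of an object to the algebraic closure. -/
noncomputable def bc (X : Over (Spec (CommRingCat.of k))) :
    Over (Spec (CommRingCat.of (AlgebraicClosure k))) :=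
  Over.mk (pullback.snd X.hom (bK k))

/-- The projection from the base change. -/
noncomputable def pr (X : Over (Spec (CommRingCat.of k))) : (bc X).left ⟶ X.left :=
  pullback.fst X.hom (bK k)

theorem pr_w (X : Over (Spec (CommRingCat.of k))) : pr X ≫ X.hom = (bc X).hom ≫ bK k :=
  pullback.condition

section inst

variable (X : Over (Spec (CommRingCat.of k)))

instance [LocallyOfFiniteType X.hom] : LocallyOfFiniteType (bc X).hom :=
  inferInstanceAs (LocallyOfFiniteType (pullback.snd X.hom (bK k)))

instance [QuasiCompact X.hom] : QuasiCompact (bc X).hom :=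
  inferInstanceAs (QuasiCompact (pullback.snd X.hom (bK k)))

instance [GeometricallyReduced X.hom] : GeometricallyReduced (bc X).hom :=
  inferInstanceAs (GeometricallyReduced (pullback.snd X.hom (bK k)))

instance [GeometricallyReduced X.hom] : IsReduced (bc X).left :=
  pullback_of_geometrically (P := IsReduced) GeometricallyReduced.geometrically_isReduced
    (AlgebraicClosure k) (bK k)

instance [GeometricallyConnected X.hom] : ConnectedSpace ↥(bc X).left :=
  pullback_of_geometrically (P := (ConnectedSpace ·))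
    GeometricallyConnected.geometrically_connectedSpace (AlgebraicClosure k) (bK k)

end inst

/-- Base change of a rational point. -/
noncomputable def bcPt {X : Over (Spec (CommRingCat.of k))}
    (e : 𝟙_ (Over (Spec (CommRingCat.of k))) ⟶ X) :
    𝟙_ (Over (Spec (CommRingCat.of (AlgebraicClosure k)))) ⟶ bc X :=
  Over.homMk (pullback.lift (bK k ≫ e.left) (𝟙 _) (by
    rw [Category.assoc, Over.w e, Category.id_comp]
    exact Category.comp_id _)) (by
    change pullback.lift _ _ _ ≫ pullback.snd X.hom (bK k) = _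
    rw [pullback.lift_snd]
    rfl)

theorem bcPt_pr {X : Over (Spec (CommRingCat.of k))}
    (e : 𝟙_ (Over (Spec (CommRingCat.of k))) ⟶ X) : (bcPt e).left ≫ pr X = bK k ≫ e.left := by
  change pullback.lift _ _ _ ≫ pullback.fst X.hom (bK k) = _
  rw [pullback.lift_fst]

section beta

variable (X Y : Over (Spec (CommRingCat.of k)))

/-- The comparison map `X_k̄ × Y_k̄ ⟶ X × Y`. -/
noncomputable def β : (bc X ⊗ bc Y).left ⟶ (X ⊗ Y).left :=
  pullback.map (bc X).hom (bc Y).hom X.hom Y.hom (pr X) (pr Y) (bK k) (pr_w X).symm (pr_w Y).symm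

theorem β_fst : β X Y ≫ (fst X Y).left = (fst (bc X) (bc Y)).left ≫ pr X :=
  pullback.lift_fst _ _ _

theorem β_snd : β X Y ≫ (snd X Y).left = (snd (bc X) (bc Y)).left ≫ pr Y :=
  pullback.lift_snd _ _ _

instance : Surjective (β X Y) := by
  -- the base change of the product
  let fW := pullback.fst (X ⊗ Y).hom (bK k)
  let sW := pullback.snd (X ⊗ Y).hom (bK k)
  have cW : fW ≫ (X ⊗ Y).hom = sW ≫ bK k := pullback.condition
  have c1 : (fW ≫ (fst X Y).left) ≫ X.hom = sW ≫ bK k := by
    rw [Category.assoc, Over.w (fst X Y)]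
    exact cW
  have c2 : (fW ≫ (snd X Y).left) ≫ Y.hom = sW ≫ bK k := by
    rw [Category.assoc, Over.w (snd X Y)]
    exact cW
  let φ : pullback (X ⊗ Y).hom (bK k) ⟶ (bc X ⊗ bc Y).left :=
    pullback.lift (f := (bc X).hom) (g := (bc Y).hom)
      (pullback.lift (fW ≫ (fst X Y).left) sW c1) (pullback.lift (fW ≫ (snd X Y).left) sW c2) (by
        change pullback.lift _ _ _ ≫ pullback.snd X.hom (bK k) =
          pullback.lift _ _ _ ≫ pullback.snd Y.hom (bK k)
        rw [pullback.lift_snd, pullback.lift_snd])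
  have hφ1 : φ ≫ (fst (bc X) (bc Y)).left = pullback.lift (fW ≫ (fst X Y).left) sW c1 :=
    pullback.lift_fst _ _ _
  have hφ2 : φ ≫ (snd (bc X) (bc Y)).left = pullback.lift (fW ≫ (snd X Y).left) sW c2 :=
    pullback.lift_snd _ _ _
  have hφ1' : (pullback.lift (fW ≫ (fst X Y).left) sW c1 : _ ⟶ (bc X).left) ≫ pr X =
      fW ≫ (fst X Y).left := pullback.lift_fst _ _ _
  have hφ2' : (pullback.lift (fW ≫ (snd X Y).left) sW c2 : _ ⟶ (bc Y).left) ≫ pr Y =
      fW ≫ (snd X Y).left := pullback.lift_fst _ _ _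
  have hφ : φ ≫ β X Y = fW := by
    apply pullback.hom_ext (f := X.hom) (g := Y.hom)
    · change (φ ≫ β X Y) ≫ (fst X Y).left = fW ≫ (fst X Y).left
      rw [Category.assoc, β_fst, ← Category.assoc, hφ1]
      exact hφ1'
    · change (φ ≫ β X Y) ≫ (snd X Y).left = fW ≫ (snd X Y).left
      rw [Category.assoc, β_snd, ← Category.assoc, hφ2]
      exact hφ2'
  haveI : Surjective (φ ≫ β X Y) := by
    rw [hφ]
    infer_instance
  exact Surjective.of_comp (f := φ) (g := β X Y)

theorem axisX_comp (eY : 𝟙_ (Over (Spec (CommRingCat.of k))) ⟶ Y) :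
    (lift (𝟙 (bc X)) (toUnit (bc X) ≫ bcPt eY)).left ≫ β X Y =
      pr X ≫ (lift (𝟙 X) (toUnit X ≫ eY)).left := by
  apply pullback.hom_ext (f := X.hom) (g := Y.hom)
  · change (_ ≫ β X Y) ≫ (fst X Y).left = (_ ≫ _) ≫ (fst X Y).left
    rw [Category.assoc, β_fst, ← Category.assoc, ← Over.comp_left, lift_fst, Category.assoc,
      ← Over.comp_left, lift_fst, Over.id_left, Over.id_left, Category.id_comp, Category.comp_id]
  · change (_ ≫ β X Y) ≫ (snd X Y).left = (_ ≫ _) ≫ (snd X Y).left
    rw [Category.assoc, β_snd, ← Category.assoc, ← Over.comp_left, lift_snd, Category.assoc,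
      ← Over.comp_left, lift_snd, Over.comp_left, Over.comp_left, Category.assoc, bcPt_pr,
      Over.toUnit_left, Over.toUnit_left, ← Category.assoc, ← Category.assoc, pr_w]

theorem axisY_comp (eX : 𝟙_ (Over (Spec (CommRingCat.of k))) ⟶ X) :
    (lift (toUnit (bc Y) ≫ bcPt eX) (𝟙 (bc Y))).left ≫ β X Y =
      pr Y ≫ (lift (toUnit Y ≫ eX) (𝟙 Y)).left := by
  apply pullback.hom_ext (f := X.hom) (g := Y.hom)
  · change (_ ≫ β X Y) ≫ (fst X Y).left = (_ ≫ _) ≫ (fst X Y).left
    rw [Category.assoc, β_fst, ← Category.assoc, ← Over.comp_left, lift_fst, Category.assoc,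
      ← Over.comp_left, lift_fst, Over.comp_left, Over.comp_left, Category.assoc, bcPt_pr,
      Over.toUnit_left, Over.toUnit_left, ← Category.assoc, ← Category.assoc, pr_w]
  · change (_ ≫ β X Y) ≫ (snd X Y).left = (_ ≫ _) ≫ (snd X Y).left
    rw [Category.assoc, β_snd, ← Category.assoc, ← Over.comp_left, lift_snd, Category.assoc,
      ← Over.comp_left, lift_snd, Over.id_left, Over.id_left, Category.id_comp, Category.comp_id]

end beta

section main

variable (X Y : Over (Spec (CommRingCat.of k)))
  [LocallyOfFiniteType X.hom] [QuasiCompact X.hom] [GeometricallyReduced X.hom]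
  [GeometricallyConnected X.hom]
  [LocallyOfFiniteType Y.hom] [QuasiCompact Y.hom] [GeometricallyReduced Y.hom]
  [GeometricallyConnected Y.hom]

/-- **Units trivial on the axes are trivial** (arbitrary base field). -/
theorem eq_one_of_axes_field (eX : 𝟙_ (Over (Spec (CommRingCat.of k))) ⟶ X)
    (eY : 𝟙_ (Over (Spec (CommRingCat.of k))) ⟶ Y) (t : Γ((X ⊗ Y).left, ⊤)) (ht : IsUnit t)
    (hX : (lift (𝟙 X) (toUnit X ≫ eY)).left.appTop t = 1)
    (hY : (lift (toUnit Y ≫ eX) (𝟙 Y)).left.appTop t = 1) : t = 1 := by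
  have h1 : (β X Y).appTop t = 1 := by
    apply eq_one_of_axes (bc X) (bc Y) (bcPt eX) (bcPt eY) _ (ht.map _)
    · rw [← appTop_comp_apply, axisX_comp, appTop_comp_apply, hX, map_one]
    · rw [← appTop_comp_apply, axisY_comp, appTop_comp_apply, hY, map_one]
  -- descend along the surjection `β`
  haveI : Subsingleton ↥(Spec (CommRingCat.of k)) :=
    inferInstanceAs (Subsingleton (PrimeSpectrum k))
  haveI : IsLocallyNoetherian Y.left := LocallyOfFiniteType.isLocallyNoetherian Y.hom
  haveI : IsReduced Y.left :=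
    GeometricallyReduced.isReduced_of_flat_of_isLocallyNoetherian Y.hom
  haveI : IsReduced (X ⊗ Y).left := inferInstanceAs (IsReduced (pullback X.hom Y.hom))
  rw [← sub_eq_zero, ← basicOpen_eq_bot_iff]
  have h2 : (β X Y) ⁻¹ᵁ (X ⊗ Y).left.basicOpen (t - 1) = ⊥ := by
    rw [Scheme.preimage_basicOpen_top, map_sub, h1, map_one, sub_self, Scheme.basicOpen_zero]
  ext p
  simp only [Opens.coe_bot, Set.mem_empty_iff_false, iff_false]
  intro hp
  obtain ⟨q, rfl⟩ := (β X Y).surjective p
  have : q ∈ (β X Y) ⁻¹ᵁ (X ⊗ Y).left.basicOpen (t - 1) := hp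
  rw [h2] at this
  exact this

end main

end Groth.Agent.H80.UnitsAx
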