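import Mathlib

/-!
# The degree valuation at infinity on a polynomial ring over a field

`degVal σ k` is the valuation `p ↦ exp (totalDegree p)` on `MvPolynomial σ k`; `degValF` is its
extension to a fraction field `F`, and `degRing` the valuation subring.  When `σ` is nonempty
this subring is a discrete valuation ring, and the only polynomials it contains are the constants.
-/

set_option autoImplicit false
universe u v w

namespace Groth.Agent.H80.UnitsFG

open MvPolynomial WithZero

variable (σ : Type u) (k : Type v) [Field k]

open Classical in
/-- The "degree at infinity" valuation on the polynomial ring. -/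
noncomputable def degVal : Valuation (MvPolynomial σ k) ℤᵐ⁰ where
  toFun p := if p = 0 then 0 else exp (p.totalDegree : ℤ)
  map_zero' := by simp
  map_one' := by simp
  map_mul' p q := by
    by_cases hp : p = 0
    · simp [hp]
    by_cases hq : q = 0
    · simp [hq]
    simp only [hp, hq, mul_eq_zero, or_self, if_false]
    rw [totalDegree_mul_of_isDomain hp hq]
    push_cast
    rw [exp_add]
  map_add_le_max' p q := by
    by_cases hp : p = 0
    · simp [hp]
    by_cases hq : q = 0
    · simp [hq]
    by_cases hpq : p + q = 0
    · simp [hpq]
    simp only [hp, hq, hpq, if_false]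
    rcases le_total p.totalDegree q.totalDegree with h | h
    · refine le_trans ?_ (le_max_right _ _)
      rw [exp_le_exp]
      exact_mod_cast (totalDegree_add p q).trans (by simp [h])
    · refine le_trans ?_ (le_max_left _ _)
      rw [exp_le_exp]
      exact_mod_cast (totalDegree_add p q).trans (by simp [h])

variable {σ k}

theorem degVal_apply {p : MvPolynomial σ k} (hp : p ≠ 0) :
    degVal σ k p = exp (p.totalDegree : ℤ) := by
  classical
  change (if p = 0 then 0 else exp (p.totalDegree : ℤ)) = _
  rw [if_neg hp]

theorem degVal_eq_zero_iff {p : MvPolynomial σ k} : degVal σ k p = 0 ↔ p = 0 := by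
  constructor
  · intro h
    by_contra hp
    rw [degVal_apply hp] at h
    exact exp_ne_zero h
  · rintro rfl
    exact map_zero _

theorem supp_degVal : (degVal σ k).supp = ⊥ := by
  ext p
  rw [Valuation.mem_supp_iff, degVal_eq_zero_iff, Ideal.mem_bot]

theorem degVal_le_one_iff {p : MvPolynomial σ k} :
    degVal σ k p ≤ 1 ↔ ∃ a : k, p = C a := by
  constructor
  · intro h
    by_cases hp : p = 0
    · exact ⟨0, by simp [hp]⟩
    rw [degVal_apply hp, ← exp_zero, exp_le_exp] at h
    have h0 : p.totalDegree = 0 := by
      have : (p.totalDegree : ℤ) = 0 := le_antisymm h (by positivity)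
      exact_mod_cast this
    exact ⟨p.coeff 0, (totalDegree_eq_zero_iff_eq_C).1 h0⟩
  · rintro ⟨a, rfl⟩
    by_cases ha : (C a : MvPolynomial σ k) = 0
    · rw [ha, map_zero]; exact zero_le_one
    rw [degVal_apply ha, totalDegree_C]
    simp

variable (σ k)
variable (F : Type w) [Field F] [Algebra (MvPolynomial σ k) F] [IsFractionRing (MvPolynomial σ k) F]

/-- The degree valuation on the fraction field. -/
noncomputable def degValF : Valuation F ℤᵐ⁰ :=
  (degVal σ k).extendToLocalization (S := nonZeroDivisors (MvPolynomial σ k))
    (by
      intro x hx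
      change x ∉ (degVal σ k).supp
      rw [Valuation.mem_supp_iff, degVal_eq_zero_iff]
      exact nonZeroDivisors.ne_zero hx) F

variable {σ k}

@[simp] theorem degValF_algebraMap (p : MvPolynomial σ k) :
    degValF σ k F (algebraMap (MvPolynomial σ k) F p) = degVal σ k p :=
  Valuation.extendToLocalization_apply_map_apply _ _ _ _

variable (σ k)

/-- The valuation ring of the degree valuation. -/
noncomputable def degRing : ValuationSubring F := (degValF σ k F).valuationSubring

variable {σ k}

theorem mem_degRing_iff {x : F} : x ∈ degRing σ k F ↔ degValF σ k F x ≤ 1 :=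
  Valuation.mem_valuationSubring_iff _ _

theorem algebraMap_mem_degRing_iff {p : MvPolynomial σ k} :
    algebraMap (MvPolynomial σ k) F p ∈ degRing σ k F ↔ ∃ a : k, p = C a := by
  rw [mem_degRing_iff, degValF_algebraMap, degVal_le_one_iff]

theorem algebraMap_C_mem_degRing (a : k) :
    algebraMap (MvPolynomial σ k) F (C a) ∈ degRing σ k F :=
  (algebraMap_mem_degRing_iff F).2 ⟨a, rfl⟩

/-- Nonzero values of the degree valuation. -/
theorem degValF_X_inv (i : σ) :
    degValF σ k F (algebraMap (MvPolynomial σ k) F (X i))⁻¹ = exp (-1 : ℤ) := by
  rw [map_inv₀, degValF_algebraMap, degVal_apply (X_ne_zero i), totalDegree_X, exp_neg]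
  simp

end Groth.Agent.H80.UnitsFG
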