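import Groth.Agent.H80.UnitsFG1

/-!
# The valuation ring of the degree valuation is a discrete valuation ring
-/

set_option autoImplicit false
universe u v w

namespace Groth.Agent.H80.UnitsFG

open MvPolynomial WithZero

variable {σ : Type u} {k : Type v} [Field k]
variable (F : Type w) [Field F] [Algebra (MvPolynomial σ k) F] [IsFractionRing (MvPolynomial σ k) F]

theorem isUnit_degRing_iff (x : degRing σ k F) : IsUnit x ↔ degValF σ k F (x : F) = 1 := by
  constructor
  · rintro ⟨u, rfl⟩
    have h1 : degValF σ k F ((u : degRing σ k F) : F) ≤ 1 := (mem_degRing_iff F).1 (u : degRing σ k F).2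
    have h2 : degValF σ k F ((↑u⁻¹ : degRing σ k F) : F) ≤ 1 :=
      (mem_degRing_iff F).1 (↑u⁻¹ : degRing σ k F).2
    have h3 : degValF σ k F ((u : degRing σ k F) : F) * degValF σ k F ((↑u⁻¹ : degRing σ k F) : F) = 1 := by
      rw [← map_mul, ← Subring.coe_mul]
      simp
    apply le_antisymm h1
    by_contra hlt
    push Not at hlt
    have : degValF σ k F ((u : degRing σ k F) : F) * degValF σ k F ((↑u⁻¹ : degRing σ k F) : F) < 1 := by
      calc _ ≤ degValF σ k F ((u : degRing σ k F) : F) * 1 := by gcongr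
        _ < 1 := by rwa [mul_one]
    exact absurd h3 this.ne
  · intro h
    have hx0 : (x : F) ≠ 0 := by
      intro h0
      rw [h0, map_zero] at h
      exact zero_ne_one h
    have hinv : (x : F)⁻¹ ∈ degRing σ k F := by
      rw [mem_degRing_iff, map_inv₀, h, inv_one]
    refine ⟨⟨x, ⟨_, hinv⟩, ?_, ?_⟩, rfl⟩
    · apply Subtype.ext
      simp [hx0]
    · apply Subtype.ext
      simp [hx0]

/-- nonzero values are `exp` of an integer. -/
theorem exists_degValF_eq_exp {x : F} (hx : x ≠ 0) : ∃ n : ℤ, degValF σ k F x = exp n := by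
  have h0 : degValF σ k F x ≠ 0 := (Valuation.ne_zero_iff _).2 hx
  exact ⟨log (degValF σ k F x), (exp_log h0).symm⟩

theorem isDiscreteValuationRing_degRing [Nonempty σ] :
    IsDiscreteValuationRing (degRing σ k F) := by
  obtain ⟨i⟩ := ‹Nonempty σ›
  have hπmem : (algebraMap (MvPolynomial σ k) F (X i))⁻¹ ∈ degRing σ k F := by
    rw [mem_degRing_iff, degValF_X_inv, ← exp_zero, exp_le_exp]
    norm_num
  set π : degRing σ k F := ⟨_, hπmem⟩ with hπdef
  have hπv : degValF σ k F (π : F) = exp (-1 : ℤ) := degValF_X_inv F i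
  have hπ0 : (π : F) ≠ 0 := by
    intro h0
    rw [h0, map_zero] at hπv
    exact exp_ne_zero hπv.symm
  apply IsDiscreteValuationRing.ofHasUnitMulPowIrreducibleFactorization
  refine ⟨π, ⟨?_, ?_⟩, ?_⟩
  · rw [isUnit_degRing_iff, hπv, ← exp_zero, exp_inj]
    norm_num
  · intro a b hab
    have hab' : (π : F) = (a : F) * (b : F) := by
      rw [hab]; rfl
    have ha0 : (a : F) ≠ 0 := fun h => hπ0 (by rw [hab', h, zero_mul])
    have hb0 : (b : F) ≠ 0 := fun h => hπ0 (by rw [hab', h, mul_zero])
    obtain ⟨m, hm⟩ := exists_degValF_eq_exp (σ := σ) (k := k) F ha0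
    obtain ⟨n, hn⟩ := exists_degValF_eq_exp (σ := σ) (k := k) F hb0
    have hm1 : m ≤ 0 := by
      have := (mem_degRing_iff F).1 a.2
      rwa [hm, ← exp_zero, exp_le_exp] at this
    have hn1 : n ≤ 0 := by
      have := (mem_degRing_iff F).1 b.2
      rwa [hn, ← exp_zero, exp_le_exp] at this
    have hsum : m + n = -1 := by
      have := congrArg (degValF σ k F) hab'
      rw [map_mul, hπv, hm, hn, ← exp_add, exp_inj] at this
      exact this.symm
    rcases (show m = 0 ∨ n = 0 by omega) with h | h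
    · left
      rw [isUnit_degRing_iff, hm, h, exp_zero]
    · right
      rw [isUnit_degRing_iff, hn, h, exp_zero]
  · intro x hx
    have hx0 : (x : F) ≠ 0 := fun h => hx (Subtype.ext h)
    obtain ⟨m, hm⟩ := exists_degValF_eq_exp (σ := σ) (k := k) F hx0
    have hm1 : m ≤ 0 := by
      have := (mem_degRing_iff F).1 x.2
      rwa [hm, ← exp_zero, exp_le_exp] at this
    obtain ⟨n, rfl⟩ : ∃ n : ℕ, m = -(n : ℤ) := ⟨(-m).toNat, by omega⟩
    refine ⟨n, ?_⟩
    have hval : degValF σ k F ((x : F) / (π : F) ^ n) = 1 := by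
      rw [map_div₀, map_pow, hm, hπv, ← exp_nsmul, ← exp_sub, ← exp_zero, exp_inj]
      simp
    have humem : (x : F) / (π : F) ^ n ∈ degRing σ k F := by
      rw [mem_degRing_iff, hval]
    have hu : IsUnit (⟨_, humem⟩ : degRing σ k F) := by
      rw [isUnit_degRing_iff]; exact hval
    obtain ⟨u, hu'⟩ := hu
    refine ⟨u, ?_⟩
    rw [hu']
    apply Subtype.ext
    change (π : F) ^ n * ((x : F) / (π : F) ^ n) = x
    field_simp

end Groth.Agent.H80.UnitsFG
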