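import Mathlib

/-!
# Units of a finite extension of the fraction field of a DVR, modulo integral units

For a discrete valuation ring `O` with fraction field `F` and a finite field extension `K / F`
(not necessarily separable) there are finitely many `ℤ`-valued homomorphisms on `Kˣ` whose common
kernel is the group of units of the integral closure of `O` in `K`.
-/

set_option autoImplicit false
set_option linter.style.haveILetI false
universe u v w

namespace Groth.Agent.H80.UnitsFG

open IsDedekindDomain WithZero

theorem exists_units_hom_of_dvr (O : Type u) (F : Type v) (K : Type w)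
    [CommRing O] [IsDomain O] [IsDiscreteValuationRing O]
    [Field F] [Algebra O F] [IsFractionRing O F] [Field K] [Algebra F K] [Algebra O K]
    [IsScalarTower O F K] [FiniteDimensional F K] :
    ∃ (n : ℕ) (φ : Kˣ →* Multiplicative (Fin n → ℤ)),
      ∀ u : Kˣ, φ u = 1 ↔ (IsIntegral O (u : K) ∧ IsIntegral O ((u⁻¹ : Kˣ) : K)) := by
  classical
  let Ks : IntermediateField F K := separableClosure F K
  haveI : IsPurelyInseparable Ks K := separableClosure.isPurelyInseparable F K
  let C := integralClosure O Ks
  haveI : IsDedekindDomain C := integralClosure.isDedekindDomain O F Ks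
  haveI : IsFractionRing C Ks := integralClosure.isFractionRing_of_finite_extension F Ks
  haveI : Algebra.IsIntegral O C := inferInstance
  haveI : IsScalarTower O Ks K := IsScalarTower.of_algebraMap_eq (fun x => rfl)
  -- finiteness of the set of primes
  obtain ⟨ϖ, hϖ⟩ := IsDiscreteValuationRing.exists_irreducible O
  have hinjOC : Function.Injective (algebraMap O C) := by
    intro x y hxy
    have h1 : algebraMap O Ks x = algebraMap O Ks y := congrArg (fun z : C => (z : Ks)) hxy
    have h2 : Function.Injective (algebraMap O Ks) := by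
      rw [IsScalarTower.algebraMap_eq O F Ks]
      exact (algebraMap F Ks).injective.comp (IsFractionRing.injective O F)
    exact h2 h1
  have hϖC : algebraMap O C ϖ ≠ 0 := by
    rw [← map_zero (algebraMap O C)]
    exact hinjOC.ne hϖ.ne_zero
  have hmem : ∀ v : HeightOneSpectrum C, algebraMap O C ϖ ∈ v.asIdeal := by
    intro v
    have hne : v.asIdeal.comap (algebraMap O C) ≠ ⊥ := fun h =>
      v.ne_bot (Ideal.eq_bot_of_comap_eq_bot h)
    haveI : (v.asIdeal.comap (algebraMap O C)).IsPrime := Ideal.comap_isPrime _ _
    have hmax : v.asIdeal.comap (algebraMap O C) = IsLocalRing.maximalIdeal O :=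
      IsLocalRing.eq_maximalIdeal (Ideal.IsPrime.isMaximal inferInstance hne)
    have : ϖ ∈ v.asIdeal.comap (algebraMap O C) := by
      rw [hmax, IsLocalRing.mem_maximalIdeal, mem_nonunits_iff]
      exact hϖ.not_isUnit
    exact this
  have hfin : Finite (HeightOneSpectrum C) := by
    have hI : (Ideal.span {algebraMap O C ϖ} : Ideal C) ≠ 0 := by
      rw [Ne, Ideal.zero_eq_bot, Ideal.span_singleton_eq_bot]
      exact hϖC
    have h := Ideal.finite_factors hI
    have huniv : {v : HeightOneSpectrum C | v.asIdeal ∣ Ideal.span {algebraMap O C ϖ}} = Set.univ := by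
      ext v
      simp only [Set.mem_ofPred_eq, Set.mem_univ, iff_true]
      rw [Ideal.dvd_iff_le, Ideal.span_singleton_le_iff_mem]
      exact hmem v
    rw [huniv] at h
    exact Set.finite_univ_iff.1 h
  -- the Frobenius power
  obtain ⟨p, hp⟩ := ExpChar.exists Ks
  let e := IsPurelyInseparable.exponent Ks K
  let ψ : K →+* Ks := IsPurelyInseparable.iterateFrobenius Ks K p (le_refl e)
  have hψ : ∀ a : K, algebraMap Ks K (ψ a) = a ^ p ^ e := fun a =>
    IsPurelyInseparable.algebraMap_iterateFrobenius Ks p (le_refl e) a
  have hψ0 : ∀ u : Kˣ, ψ (u : K) ≠ 0 := fun u => by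
    rw [Ne, map_eq_zero]; exact u.ne_zero
  have hpe : 0 < p ^ e := expChar_pow_pos Ks p e
  -- the homomorphism
  let n := Nat.card (HeightOneSpectrum C)
  let ι : HeightOneSpectrum C ≃ Fin n := Finite.equivFin _
  have hval0 : ∀ (v : HeightOneSpectrum C) (u : Kˣ), v.valuation Ks (ψ (u : K)) ≠ 0 := fun v u =>
    (Valuation.ne_zero_iff _).2 (hψ0 u)
  let φ : Kˣ →* Multiplicative (Fin n → ℤ) :=
    { toFun := fun u => Multiplicative.ofAdd (fun i => log ((ι.symm i).valuation Ks (ψ (u : K))))
      map_one' := by
        change Multiplicative.ofAdd _ = Multiplicative.ofAdd 0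
        congr 1
        funext i
        simp
      map_mul' := fun u u' => by
        change Multiplicative.ofAdd _ = Multiplicative.ofAdd (_ + _)
        congr 1
        funext i
        simp only [Units.val_mul, map_mul, Pi.add_apply]
        exact log_mul (hval0 _ u) (hval0 _ u') }
  have hφ : ∀ u : Kˣ, φ u = 1 ↔ ∀ v : HeightOneSpectrum C, v.valuation Ks (ψ (u : K)) = 1 := by
    intro u
    constructor
    · intro h v
      have h1 : (fun i => log ((ι.symm i).valuation Ks (ψ (u : K)))) = 0 :=
        Multiplicative.ofAdd.injective h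
      have h2 := congrFun h1 (ι v)
      simp only [Equiv.symm_apply_apply, Pi.zero_apply] at h2
      rw [← exp_log (hval0 v u), h2, exp_zero]
    · intro h
      change Multiplicative.ofAdd _ = Multiplicative.ofAdd 0
      congr 1
      funext i
      simp [h (ι.symm i)]
  -- integrality
  have hint : ∀ a : K, IsIntegral O a ↔ ψ a ∈ C := by
    intro a
    have h1 : ψ a ∈ C ↔ IsIntegral O (algebraMap Ks K (ψ a)) := by
      change IsIntegral O (ψ a) ↔ _
      exact (isIntegral_algebraMap_iff (algebraMap Ks K).injective).symm
    rw [h1, hψ]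
    exact ⟨fun h => h.pow _, fun h => IsIntegral.of_pow hpe h⟩
  refine ⟨n, φ, fun u => ?_⟩
  rw [hφ]
  constructor
  · intro h
    have key : ∀ w : Kˣ, (∀ v : HeightOneSpectrum C, v.valuation Ks (ψ (w : K)) = 1) →
        IsIntegral O (w : K) := by
      intro w hw
      rw [hint]
      obtain ⟨c, hc⟩ := HeightOneSpectrum.mem_integers_of_valuation_le_one Ks (ψ (w : K))
        (fun v => (hw v).le)
      rw [← hc]
      exact c.2
    refine ⟨key u h, key u⁻¹ fun v => ?_⟩
    rw [Units.val_inv_eq_inv_val, map_inv₀, map_inv₀, h v, inv_one]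
  · rintro ⟨h1, h2⟩ v
    rw [hint] at h1 h2
    have hle1 : v.valuation Ks (ψ (u : K)) ≤ 1 := by
      have := v.valuation_le_one (K := Ks) (⟨_, h1⟩ : C)
      exact this
    have hle2 : v.valuation Ks (ψ ((u⁻¹ : Kˣ) : K)) ≤ 1 := by
      have := v.valuation_le_one (K := Ks) (⟨_, h2⟩ : C)
      exact this
    rw [Units.val_inv_eq_inv_val, map_inv₀, map_inv₀] at hle2
    apply le_antisymm hle1
    have h0 := hval0 v u
    rwa [inv_le_one₀ (zero_lt_iff.2 h0)] at hle2

end Groth.Agent.H80.UnitsFG
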