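import Groth.Agent.H80.UnitsFG2
import Groth.Agent.H80.UnitsFG3

/-!
# Units of a finitely generated domain over a field, modulo algebraic units

`exists_units_hom`: for a domain `A` of finite type over a field `k` there are `n` and a group
homomorphism `Aˣ → ℤⁿ` whose kernel consists exactly of the units which are integral (algebraic)
over `k`.  In particular `Aˣ` modulo the algebraic units is a free abelian group of finite rank.
-/

set_option autoImplicit false
set_option linter.style.haveILetI false
universe u v w

namespace Groth.Agent.H80.UnitsFG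

open MvPolynomial

section coeff

variable {σ : Type u} {k : Type v} [Field k]
variable (F : Type w) [Field F] [Algebra (MvPolynomial σ k) F] [IsFractionRing (MvPolynomial σ k) F]

/-- An element of an extension field of `F = Frac k[x]` which is integral over `k[x]` and over the
degree valuation ring is a root of a monic polynomial with coefficients in `k`. -/
theorem exists_monic_of_isIntegral {K : Type*} [Field K] [Algebra F K]
    [Algebra (MvPolynomial σ k) K] [IsScalarTower (MvPolynomial σ k) F K]
    [Algebra (degRing σ k F) K] [IsScalarTower (degRing σ k F) F K]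
    (x : K) (hP : IsIntegral (MvPolynomial σ k) x) (hO : IsIntegral (degRing σ k F) x) :
    ∃ q : Polynomial k, q.Monic ∧
      Polynomial.eval₂ ((algebraMap F K).comp ((algebraMap (MvPolynomial σ k) F).comp C)) x q = 0 := by
  have h1 : minpoly F x = (minpoly (MvPolynomial σ k) x).map (algebraMap (MvPolynomial σ k) F) :=
    minpoly.isIntegrallyClosed_eq_field_fractions' F hP
  have h2 : minpoly F x = (minpoly (degRing σ k F) x).map (algebraMap (degRing σ k F) F) :=
    minpoly.isIntegrallyClosed_eq_field_fractions' F hO
  have hlift : minpoly F x ∈ Polynomial.lifts ((algebraMap (MvPolynomial σ k) F).comp C) := by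
    rw [Polynomial.lifts_iff_coeff_lifts]
    intro i
    have e1 : (minpoly F x).coeff i =
        algebraMap (MvPolynomial σ k) F ((minpoly (MvPolynomial σ k) x).coeff i) := by
      rw [h1, Polynomial.coeff_map]
    have e2 : (minpoly F x).coeff i =
        algebraMap (degRing σ k F) F ((minpoly (degRing σ k F) x).coeff i) := by
      rw [h2, Polynomial.coeff_map]
    have hmem : algebraMap (MvPolynomial σ k) F ((minpoly (MvPolynomial σ k) x).coeff i) ∈
        degRing σ k F := by
      rw [← e1, e2]
      exact ((minpoly (degRing σ k F) x).coeff i).2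
    obtain ⟨a, ha⟩ := (algebraMap_mem_degRing_iff F).1 hmem
    exact ⟨a, by rw [e1, ha]; rfl⟩
  have hmonic : (minpoly F x).Monic := minpoly.monic hP.tower_top
  obtain ⟨q, hq, -, hqm⟩ := Polynomial.lifts_and_natDegree_eq_and_monic hlift hmonic
  refine ⟨q, hqm, ?_⟩
  rw [← Polynomial.eval₂_map, hq]
  exact minpoly.aeval F x

end coeff

/-- Abstract form of the main theorem, over `k[x_σ]`. -/
theorem exists_units_hom_aux (σ : Type u) (k : Type v) [Field k] [Nonempty σ]
    (A : Type w) [CommRing A] [IsDomain A] [Algebra (MvPolynomial σ k) A]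
    [Module.Finite (MvPolynomial σ k) A]
    (hinj : Function.Injective (algebraMap (MvPolynomial σ k) A))
    (F : Type*) [Field F] [Algebra (MvPolynomial σ k) F] [IsFractionRing (MvPolynomial σ k) F]
    (K : Type*) [Field K] [Algebra A K] [IsFractionRing A K] :
    ∃ (n : ℕ) (φ : Aˣ →* Multiplicative (Fin n → ℤ)),
      ∀ u : Aˣ, φ u = 1 ↔ ((algebraMap (MvPolynomial σ k) A).comp C).IsIntegralElem (u : A) := by
  classical
  -- instances
  letI : Algebra (MvPolynomial σ k) K :=
    ((algebraMap A K).comp (algebraMap (MvPolynomial σ k) A)).toAlgebra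
  haveI : IsScalarTower (MvPolynomial σ k) A K := IsScalarTower.of_algebraMap_eq (fun _ => rfl)
  have hinjPK : Function.Injective (algebraMap (MvPolynomial σ k) K) :=
    (IsFractionRing.injective A K).comp hinj
  letI : Algebra F K := (IsFractionRing.lift hinjPK).toAlgebra
  haveI : IsScalarTower (MvPolynomial σ k) F K :=
    IsScalarTower.of_algebraMap_eq (fun x => (IsFractionRing.lift_algebraMap hinjPK x).symm)
  haveI : FaithfulSMul (MvPolynomial σ k) A := (faithfulSMul_iff_algebraMap_injective _ _).2 hinj
  haveI : Algebra.IsIntegral (MvPolynomial σ k) A := Algebra.IsIntegral.of_finite _ _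
  haveI : FiniteDimensional F K :=
    .of_isLocalization (MvPolynomial σ k) A (nonZeroDivisors (MvPolynomial σ k))
  haveI : IsDiscreteValuationRing (degRing σ k F) := isDiscreteValuationRing_degRing F
  letI : Algebra (degRing σ k F) K :=
    ((algebraMap F K).comp (degRing σ k F).subtype).toAlgebra
  haveI : IsScalarTower (degRing σ k F) F K := IsScalarTower.of_algebraMap_eq (fun _ => rfl)
  obtain ⟨n, φ, hφ⟩ := exists_units_hom_of_dvr (degRing σ k F) F K
  -- the ring hom `k → A`
  set f : k →+* A := (algebraMap (MvPolynomial σ k) A).comp C with hf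
  have hfK : (algebraMap A K).comp f =
      (algebraMap F K).comp ((algebraMap (MvPolynomial σ k) F).comp C) := by
    ext a
    simp only [RingHom.comp_apply, hf]
    rw [← IsScalarTower.algebraMap_apply (MvPolynomial σ k) A K,
      ← IsScalarTower.algebraMap_apply (MvPolynomial σ k) F K]
  let j : k →+* degRing σ k F :=
    RingHom.codRestrict ((algebraMap (MvPolynomial σ k) F).comp C) (degRing σ k F).toSubring
      (fun a => algebraMap_C_mem_degRing F a)
  have hjK : (algebraMap (degRing σ k F) K).comp j =
      (algebraMap F K).comp ((algebraMap (MvPolynomial σ k) F).comp C) := by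
    ext a
    rfl
  -- integrality over `k` passes to `K` and back
  have hdown : ∀ a : A, ((algebraMap A K).comp f).IsIntegralElem (algebraMap A K a) →
      f.IsIntegralElem a := by
    rintro a ⟨q, hq, h0⟩
    refine ⟨q, hq, IsFractionRing.injective A K ?_⟩
    rw [map_zero, Polynomial.hom_eval₂]
    exact h0
  have hup : ∀ a : A, f.IsIntegralElem a →
      ((algebraMap A K).comp f).IsIntegralElem (algebraMap A K a) := by
    rintro a ⟨q, hq, h0⟩
    refine ⟨q, hq, ?_⟩
    rw [← Polynomial.hom_eval₂, h0, map_zero]
  refine ⟨n, φ.comp (Units.map (algebraMap A K : A →* K)), fun u => ?_⟩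
  rw [MonoidHom.comp_apply, hφ]
  constructor
  · rintro ⟨h1, -⟩
    apply hdown
    have hP : IsIntegral (MvPolynomial σ k) (algebraMap A K (u : A)) :=
      (Algebra.IsIntegral.isIntegral (u : A)).algebraMap
    obtain ⟨q, hq, h0⟩ := exists_monic_of_isIntegral F (algebraMap A K (u : A)) hP h1
    exact ⟨q, hq, by rw [hfK]; exact h0⟩
  · intro h
    -- `k`-algebra structures
    letI : Algebra k K := ((algebraMap A K).comp f).toAlgebra
    letI : Algebra k (degRing σ k F) := j.toAlgebra
    haveI : IsScalarTower k (degRing σ k F) K := IsScalarTower.of_algebraMap_eq (fun a => by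
      change ((algebraMap A K).comp f) a = ((algebraMap (degRing σ k F) K).comp j) a
      rw [hfK, hjK])
    have hk : IsIntegral k (algebraMap A K (u : A)) := hup _ h
    have hk' : IsIntegral k (algebraMap A K (u : A))⁻¹ := hk.inv
    refine ⟨hk.tower_top, ?_⟩
    have : ((Units.map (algebraMap A K : A →* K) u)⁻¹ : Kˣ) = (algebraMap A K (u : A))⁻¹ := by
      rw [Units.val_inv_eq_inv_val]; rfl
    rw [this]
    exact hk'.tower_top

end Groth.Agent.H80.UnitsFG
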