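import Groth.Agent.H80.UnitsFG5

/-!
# Units of global functions on schemes of finite type over a field
-/

set_option autoImplicit false
set_option linter.style.haveILetI false
universe u

namespace Groth.Agent.H80.UnitsFG

open AlgebraicGeometry CategoryTheory TopologicalSpace Opposite

variable {k : Type u} [Field k] {X : Scheme.{u}} (f : X ⟶ Spec (CommRingCat.of k))

/-- The structure map `k → Γ(X, ⊤)`. -/
noncomputable def sMap : k →+* Γ(X, ⊤) :=
  f.appTop.hom.comp (Scheme.ΓSpecIso (CommRingCat.of k)).inv.hom

/-- Restriction of global functions to an open. -/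
noncomputable def rMap (U : X.Opens) : Γ(X, ⊤) →+* Γ(X, U) :=
  (X.presheaf.map (homOfLE le_top).op).hom

theorem finiteType_rMap_comp_sMap [LocallyOfFiniteType f] {U : X.Opens} (hU : IsAffineOpen U) :
    ((rMap U).comp (sMap f)).FiniteType := by
  have h1 : (f.appLE ⊤ U le_top).hom.FiniteType :=
    f.finiteType_appLE (isAffineOpen_top _) hU le_top
  have h2 : (Scheme.ΓSpecIso (CommRingCat.of k)).inv.hom.FiniteType :=
    RingHom.FiniteType.of_surjective _
      (ConcreteCategory.bijective_of_isIso (Scheme.ΓSpecIso (CommRingCat.of k)).inv).2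
  have h3 := h1.comp h2
  have e : (rMap U).comp (sMap f) = (f.appLE ⊤ U le_top).hom.comp
      (Scheme.ΓSpecIso (CommRingCat.of k)).inv.hom := by
    ext a
    rfl
  rw [e]
  exact h3

/-- A unit of a domain which is integral over an algebraically closed field is a constant. -/
theorem mem_range_of_isIntegral_of_isAlgClosed {k A : Type*} [Field k] [IsAlgClosed k]
    [CommRing A] [IsDomain A] [Algebra k A] {x : A} (hx : IsIntegral k x) :
    x ∈ Set.range (algebraMap k A) := by
  have hirr := minpoly.irreducible hx
  have hdeg := IsAlgClosed.degree_eq_one_of_irreducible k hirr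
  exact minpoly.mem_range_of_degree_eq_one k x hdeg

end Groth.Agent.H80.UnitsFG
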