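import Groth.Agent.H80.UnitsFG6

/-!
# Units of global functions on an integral scheme locally of finite type over an algebraically
closed field: `Γ(X)ˣ / kˣ ≅ ℤⁿ`.
-/

set_option autoImplicit false
set_option linter.style.haveILetI false
universe u

namespace Groth.Agent.H80.UnitsFG

open AlgebraicGeometry CategoryTheory TopologicalSpace Opposite

theorem units_integral (k : Type u) [Field k] [IsAlgClosed k] {X : Scheme.{u}}
    (f : X ⟶ Spec (CommRingCat.of k)) [IsIntegral X] [LocallyOfFiniteType f] :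
    ∃ (n : ℕ) (v : (Γ(X, ⊤))ˣ →* Multiplicative (Fin n → ℤ)), Function.Surjective v ∧
      v.ker = (Units.map (sMap f : k →* Γ(X, ⊤))).range := by
  -- a nonempty affine open
  obtain ⟨x⟩ : Nonempty X := inferInstance
  obtain ⟨_, ⟨U, hU, rfl⟩, hxU, -⟩ :=
    X.isBasis_affineOpens.exists_subset_of_mem_open (Set.mem_univ x) isOpen_univ
  haveI : Nonempty U := ⟨⟨x, hxU⟩⟩
  have hrinj : Function.Injective (rMap U) := map_injective_of_isIntegral X (homOfLE le_top)
  letI : Algebra k Γ(X, U) := ((rMap U).comp (sMap f)).toAlgebra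
  haveI : Algebra.FiniteType k Γ(X, U) := finiteType_rMap_comp_sMap f hU
  obtain ⟨n₀, φ, hφ⟩ := exists_units_hom k Γ(X, U)
  obtain ⟨n, v, hsurj, hker⟩ := exists_surjective_hom (φ.comp (Units.map (rMap U : Γ(X, ⊤) →* Γ(X, U))))
  refine ⟨n, v, hsurj, ?_⟩
  rw [hker]
  ext u
  rw [MonoidHom.mem_ker, MonoidHom.comp_apply, hφ, MonoidHom.mem_range]
  constructor
  · intro h
    obtain ⟨c, hc⟩ := mem_range_of_isIntegral_of_isAlgClosed h
    have hc' : sMap f c = (u : Γ(X, ⊤)) := hrinj hc
    have hc0 : c ≠ 0 := by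
      rintro rfl
      rw [map_zero] at hc'
      exact u.ne_zero hc'.symm
    exact ⟨Units.mk0 c hc0, Units.ext hc'⟩
  · rintro ⟨c, rfl⟩
    exact isIntegral_algebraMap (x := (c : k))

end Groth.Agent.H80.UnitsFG
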