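import Groth.Agent.H80.UnitsFG6

/-!
# Units of global functions modulo constants on a reduced scheme locally of finite type over a
field with finitely many irreducible components: finite generation.
-/

set_option autoImplicit false
set_option linter.style.haveILetI false
universe u

namespace Groth.Agent.H80.UnitsFG

open AlgebraicGeometry CategoryTheory TopologicalSpace Opposite

/-- In a space with finitely many irreducible components, every irreducible component contains a
nonempty open subset of the whole space. -/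
theorem exists_open_subset_of_mem_irreducibleComponents {T : Type*} [TopologicalSpace T]
    (hfin : (irreducibleComponents T).Finite) {Z : Set T} (hZ : Z ∈ irreducibleComponents T) :
    ∃ W : Set T, IsOpen W ∧ W.Nonempty ∧ W ⊆ Z := by
  classical
  set S : Set (Set T) := irreducibleComponents T \ {Z} with hS
  have hSfin : S.Finite := hfin.subset Set.sdiff_subset
  have hclosed : IsClosed (⋃₀ S) := by
    rw [Set.sUnion_eq_biUnion]
    exact hSfin.isClosed_biUnion fun s hs => isClosed_of_mem_irreducibleComponents s hs.1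
  refine ⟨(⋃₀ S)ᶜ, hclosed.isOpen_compl, ?_, ?_⟩
  · by_contra hempty
    rw [Set.not_nonempty_iff_eq_empty, Set.compl_empty_iff] at hempty
    have hZirr : IsIrreducible Z := hZ.1
    have hsub : Z ⊆ ⋃₀ ((hSfin.toFinset : Finset (Set T)) : Set (Set T)) := by
      rw [Set.Finite.coe_toFinset, hempty]; exact Set.subset_univ _
    obtain ⟨Z', hZ', hZZ'⟩ := (isIrreducible_iff_sUnion_isClosed.1 hZirr) hSfin.toFinset
      (fun z hz => isClosed_of_mem_irreducibleComponents z ((Set.Finite.mem_toFinset _).1 hz).1) hsub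
    rw [Set.Finite.mem_toFinset] at hZ'
    have : Z' ⊆ Z := hZ.2 hZ'.1.1 hZZ'
    exact hZ'.2 (Set.mem_singleton_iff.2 (le_antisymm this hZZ'))
  · intro x hx
    have hxU : x ∈ ⋃₀ irreducibleComponents T := by
      rw [sUnion_irreducibleComponents]; trivial
    obtain ⟨Z', hZ', hxZ'⟩ := hxU
    by_cases h : Z' = Z
    · rwa [← h]
    · have hZS : Z' ∈ S := ⟨hZ', h⟩
      exact absurd (Set.mem_sUnion.2 ⟨Z', hZS, hxZ'⟩) hx

variable {k : Type u} [Field k] {X : Scheme.{u}}

/-- On a reduced scheme, the sections over an irreducible affine open form a domain. -/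
theorem isDomain_of_isIrreducible [IsReduced X] (U : X.Opens) (hU : IsIrreducible (U : Set X)) :
    IsDomain Γ(X, U) := by
  haveI : IrreducibleSpace ↥U := Subtype.irreducibleSpace hU
  haveI : IrreducibleSpace ↥(U : Scheme) := ‹_›
  haveI : IsIntegral (U : Scheme) := isIntegral_of_irreducibleSpace_of_isReduced _
  haveI : IsDomain Γ((U : Scheme), ⊤) := inferInstance
  exact MulEquiv.isDomain _ (U.topIso).commRingCatIsoToRingEquiv.symm.toMulEquiv

/-- **Finite generation of units modulo constants.** -/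
theorem units_fg (f : X ⟶ Spec (CommRingCat.of k)) [LocallyOfFiniteType f] [IsReduced X]
    (hirr : (irreducibleComponents (X : Type u)).Finite)
    (hint : ∀ x : Γ(X, ⊤), (sMap f).IsIntegralElem x → x ∈ Set.range (sMap f)) :
    Group.FG ((Γ(X, ⊤))ˣ ⧸ (Units.map (sMap f : k →* Γ(X, ⊤))).range) := by
  classical
  haveI : Finite ↥(irreducibleComponents (X : Type u)) := hirr.to_subtype
  haveI := Fintype.ofFinite ↥(irreducibleComponents (X : Type u))
  -- affine opens inside the components
  have hex : ∀ Z : ↥(irreducibleComponents (X : Type u)), ∃ U : X.Opens, IsAffineOpen U ∧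
      (U : Set X).Nonempty ∧ (U : Set X) ⊆ Z.1 := by
    intro Z
    obtain ⟨W, hWo, ⟨x, hx⟩, hWZ⟩ := exists_open_subset_of_mem_irreducibleComponents hirr Z.2
    obtain ⟨_, ⟨U, hU, rfl⟩, hxU, hUW⟩ := X.isBasis_affineOpens.exists_subset_of_mem_open hx hWo
    exact ⟨U, hU, ⟨x, hxU⟩, hUW.trans hWZ⟩
  choose U hUaff hUne hUZ using hex
  have hUirr : ∀ Z, IsIrreducible (U Z : Set X) := fun Z =>
    ⟨hUne Z, Z.2.1.isPreirreducible.open_subset (U Z).isOpen (hUZ Z)⟩
  haveI : ∀ Z, IsDomain Γ(X, U Z) := fun Z => isDomain_of_isIrreducible (U Z) (hUirr Z)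
  -- joint injectivity of the restrictions
  have hjoint : ∀ a : Γ(X, ⊤), (∀ Z, rMap (U Z) a = 0) → a = 0 := by
    intro a ha
    rw [← basicOpen_eq_bot_iff]
    by_contra hne
    obtain ⟨x, hx⟩ : ((X.basicOpen a : X.Opens) : Set X).Nonempty := by
      rw [Set.nonempty_iff_ne_empty]
      intro h
      exact hne (Opens.ext h)
    obtain ⟨Z, hZ, hxZ⟩ : ∃ Z ∈ irreducibleComponents (X : Type u), x ∈ Z := by
      have : x ∈ ⋃₀ irreducibleComponents (X : Type u) := by
        rw [sUnion_irreducibleComponents]; trivial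
      exact this
    have hpre := hZ.1.isPreirreducible
    obtain ⟨u, hu⟩ := hUne ⟨Z, hZ⟩
    obtain ⟨y, hyZ, hya, hyU⟩ := hpre (X.basicOpen a) (U ⟨Z, hZ⟩) (X.basicOpen a).isOpen
      (U ⟨Z, hZ⟩).isOpen ⟨x, hxZ, hx⟩ ⟨u, hUZ _ hu, hu⟩
    have hres := X.basicOpen_res a (homOfLE le_top : U ⟨Z, hZ⟩ ⟶ ⊤).op
    have h0 : X.presheaf.map (homOfLE le_top : U ⟨Z, hZ⟩ ⟶ ⊤).op a = 0 := ha ⟨Z, hZ⟩
    rw [h0, Scheme.basicOpen_zero] at hres
    have : y ∈ (⊥ : X.Opens) := by
      rw [hres]; exact ⟨hyU, hya⟩
    exact this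
  -- the algebra structures and the homomorphisms
  letI alg : ∀ Z, Algebra k Γ(X, U Z) := fun Z => ((rMap (U Z)).comp (sMap f)).toAlgebra
  haveI : ∀ Z, Algebra.FiniteType k Γ(X, U Z) := fun Z => finiteType_rMap_comp_sMap f (hUaff Z)
  choose n φ hφ using fun Z => exists_units_hom k Γ(X, U Z)
  let Φ : (Γ(X, ⊤))ˣ →* Multiplicative ((Z : ↥(irreducibleComponents (X : Type u))) → Fin (n Z) → ℤ) :=
    { toFun := fun g => Multiplicative.ofAdd
        (fun Z => Multiplicative.toAdd (φ Z (Units.map (rMap (U Z) : Γ(X, ⊤) →* Γ(X, U Z)) g)))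
      map_one' := by
        change Multiplicative.ofAdd _ = Multiplicative.ofAdd 0
        congr 1
        funext Z
        simp
      map_mul' := fun g h => by
        change Multiplicative.ofAdd _ = Multiplicative.ofAdd (_ + _)
        congr 1
        funext Z
        simp }
  have hΦ : ∀ g, Φ g = 1 ↔ ∀ Z, IsIntegral k (rMap (U Z) (g : Γ(X, ⊤))) := by
    intro g
    constructor
    · intro h Z
      have h1 : (fun Z => Multiplicative.toAdd
          (φ Z (Units.map (rMap (U Z) : Γ(X, ⊤) →* Γ(X, U Z)) g))) = 0 :=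
        Multiplicative.ofAdd.injective h
      have h2 : φ Z (Units.map (rMap (U Z) : Γ(X, ⊤) →* Γ(X, U Z)) g) = 1 :=
        Multiplicative.toAdd.injective (congrFun h1 Z)
      exact (hφ Z _).1 h2
    · intro h
      change Multiplicative.ofAdd _ = Multiplicative.ofAdd 0
      congr 1
      funext Z
      have h2 : φ Z (Units.map (rMap (U Z) : Γ(X, ⊤) →* Γ(X, U Z)) g) = 1 := (hφ Z _).2 (h Z)
      rw [h2]; rfl
  have hker : ∀ g, Φ g = 1 ↔ g ∈ (Units.map (sMap f : k →* Γ(X, ⊤))).range := by
    intro g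
    rw [hΦ]
    constructor
    · intro h
      choose q hq hq0 using h
      have hQ : (∏ Z, q Z).Monic := Polynomial.monic_prod_of_monic _ _ fun Z _ => hq Z
      have hzero : Polynomial.eval₂ (sMap f) (g : Γ(X, ⊤)) (∏ Z, q Z) = 0 := by
        apply hjoint
        intro Z
        rw [Polynomial.hom_eval₂, Polynomial.eval₂_finsetProd]
        exact Finset.prod_eq_zero (Finset.mem_univ Z) (hq0 Z)
      obtain ⟨c, hc⟩ := hint _ ⟨_, hQ, hzero⟩
      by_cases hc0 : c = 0
      · subst hc0
        rw [map_zero] at hc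
        haveI : Subsingleton Γ(X, ⊤) := by
          have := g.isUnit
          rw [← hc, isUnit_zero_iff] at this
          exact subsingleton_of_zero_eq_one this
        exact ⟨1, Subsingleton.elim _ _⟩
      · exact ⟨Units.mk0 c hc0, Units.ext hc⟩
    · rintro ⟨c, rfl⟩ Z
      exact isIntegral_algebraMap (x := (c : k))
  -- the quotient embeds
  let N := (Units.map (sMap f : k →* Γ(X, ⊤))).range
  have hle : N ≤ Φ.ker := fun g hg => (hker g).2 hg
  let Φbar : (Γ(X, ⊤))ˣ ⧸ N →* Multiplicative
      ((Z : ↥(irreducibleComponents (X : Type u))) → Fin (n Z) → ℤ) := QuotientGroup.lift N Φ hle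
  have hinj : Function.Injective Φbar := by
    rw [injective_iff_map_eq_one]
    intro x hx
    induction x using QuotientGroup.induction_on with
    | H g =>
      have : Φ g = 1 := hx
      exact (QuotientGroup.eq_one_iff g).2 ((hker g).1 this)
  exact group_fg_of_injective (G := (Γ(X, ⊤))ˣ ⧸ N)
    (M := (Z : ↥(irreducibleComponents (X : Type u))) → Fin (n Z) → ℤ) Φbar hinj

end Groth.Agent.H80.UnitsFG
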