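import Groth.Agent.H80.UnitsVal4
import Groth.Agent.H95.ProdIntegral

/-!
# Rosenlicht's lemma for schemes: units on a product of integral schemes locally of finite type
over an algebraically closed field are products of units on the factors.
-/

set_option autoImplicit false
set_option linter.style.haveILetI false
universe u

namespace Groth.Agent.H80.UnitsVal

open AlgebraicGeometry CategoryTheory CategoryTheory.Limits TopologicalSpace Opposite TensorProduct

/-- Pulling back global functions along a nonempty open immersion into an integral scheme is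
injective. -/
theorem appTop_injective_of_isOpenImmersion {T Z : Scheme.{u}} [IsIntegral Z] (t : T ⟶ Z)
    [IsOpenImmersion t] [Nonempty T] : Function.Injective t.appTop := by
  rw [injective_iff_map_eq_zero]
  intro s hs
  rw [← basicOpen_eq_bot_iff]
  by_contra hne
  have h1 : ((Z.basicOpen s : Z.Opens) : Set Z).Nonempty := by
    rw [Set.nonempty_iff_ne_empty]
    intro h
    exact hne (Opens.ext h)
  have h2 : (Set.range t).Nonempty := Set.range_nonempty _
  obtain ⟨z, hz1, ⟨x, rfl⟩⟩ := nonempty_preirreducible_inter (Z.basicOpen s).isOpen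
    t.isOpenEmbedding.isOpen_range h1 h2
  have h3 : x ∈ t ⁻¹ᵁ Z.basicOpen s := hz1
  rw [Scheme.preimage_basicOpen_top, hs, Scheme.basicOpen_zero] at h3
  exact h3

theorem ΓSpecIso_naturality_apply {R S : CommRingCat.{u}} (φ : R ⟶ S) (s : Γ(Spec R, ⊤)) :
    (Scheme.ΓSpecIso S).hom ((Spec.map φ).appTop s) = φ ((Scheme.ΓSpecIso R).hom s) := by
  have := Scheme.ΓSpecIso_naturality φ
  exact congrArg (fun ψ => ψ s) this

section chart

variable {k : Type u} [Field k] {X Y : Scheme.{u}}
  (p : X ⟶ Spec (CommRingCat.of k)) (q : Y ⟶ Spec (CommRingCat.of k))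
  {A B : Type u} [CommRing A] [CommRing B] [Algebra k A] [Algebra k B]
  (a : Spec (.of A) ⟶ X) (b : Spec (.of B) ⟶ Y)
  (ha : Spec.map (CommRingCat.ofHom (algebraMap k A)) = a ≫ p)
  (hb : Spec.map (CommRingCat.ofHom (algebraMap k B)) = b ≫ q)

/-- The chart `Spec (A ⊗ B) ⟶ X ×ₖ Y` of the product induced by charts of the factors. -/
noncomputable def chart : Spec (.of (A ⊗[k] B)) ⟶ pullback p q :=
  (pullbackSpecIso k A B).inv ≫ pullback.map _ _ p q a b (𝟙 _)
    (by rw [Category.comp_id]; exact ha) (by rw [Category.comp_id]; exact hb)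

instance [IsOpenImmersion a] [IsOpenImmersion b] : IsOpenImmersion (chart p q a b ha hb) := by
  unfold chart
  infer_instance

theorem chart_fst : chart p q a b ha hb ≫ pullback.fst p q =
    Spec.map (CommRingCat.ofHom Algebra.TensorProduct.includeLeftRingHom) ≫ a := by
  simp only [chart, Category.assoc, pullback.lift_fst, pullback.map]
  rw [pullbackSpecIso_inv_fst_assoc]

theorem chart_snd : chart p q a b ha hb ≫ pullback.snd p q =
    Spec.map (CommRingCat.ofHom (R := B) (S := A ⊗[k] B)
      (RingHomClass.toRingHom Algebra.TensorProduct.includeRight)) ≫ b := by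
  simp only [chart, Category.assoc, pullback.lift_snd, pullback.map]
  rw [pullbackSpecIso_inv_snd_assoc]

/-- The `k`-point of `X` given by a `k`-point of the chart. -/
noncomputable def pt (x' : A →ₐ[k] k) : Spec (CommRingCat.of k) ⟶ X :=
  Spec.map (CommRingCat.ofHom x'.toRingHom) ≫ a

include ha in
theorem pt_comp (x' : A →ₐ[k] k) : pt a x' ≫ p = 𝟙 _ := by
  rw [pt, Category.assoc, ← ha, ← Spec.map_comp, ← Spec.map_id]
  congr 1
  ext c
  exact x'.commutes c

/-- The section `X ⟶ X ×ₖ Y`, `x ↦ (x, y₀)`. -/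
noncomputable def secRight (y' : B →ₐ[k] k) : X ⟶ pullback p q :=
  pullback.lift (𝟙 X) (p ≫ pt b y')
    (by rw [Category.id_comp, Category.assoc, pt_comp q b hb, Category.comp_id])

/-- The section `Y ⟶ X ×ₖ Y`, `y ↦ (x₀, y)`. -/
noncomputable def secLeft (x' : A →ₐ[k] k) : Y ⟶ pullback p q :=
  pullback.lift (q ≫ pt a x') (𝟙 Y)
    (by rw [Category.id_comp, Category.assoc, pt_comp p a ha, Category.comp_id])

theorem comp_secRight (y' : B →ₐ[k] k) : a ≫ secRight p q b hb y' =
    Spec.map (CommRingCat.ofHom (evalRight (A := A) y').toRingHom) ≫ chart p q a b ha hb := by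
  apply pullback.hom_ext
  · rw [Category.assoc, Category.assoc, chart_fst, secRight, pullback.lift_fst, Category.comp_id,
      ← Spec.map_comp_assoc]
    have : CommRingCat.ofHom Algebra.TensorProduct.includeLeftRingHom ≫
        CommRingCat.ofHom (evalRight (A := A) y').toRingHom = 𝟙 (CommRingCat.of A) := by
      ext z
      change evalRight y' (z ⊗ₜ[k] (1 : B)) = z
      rw [evalRight_tmul, map_one, one_smul]
    rw [this, Spec.map_id, Category.id_comp]
  · rw [Category.assoc, Category.assoc, chart_snd, secRight, pullback.lift_snd,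
      ← Category.assoc a p, ← ha, pt, ← Spec.map_comp_assoc, ← Spec.map_comp_assoc]
    congr 2
    ext c
    change algebraMap k A (y' c) = evalRight y' ((1 : A) ⊗ₜ[k] c)
    rw [evalRight_tmul, Algebra.algebraMap_eq_smul_one]

theorem comp_secLeft (x' : A →ₐ[k] k) : b ≫ secLeft p q a ha x' =
    Spec.map (CommRingCat.ofHom (evalLeft (B := B) x').toRingHom) ≫ chart p q a b ha hb := by
  apply pullback.hom_ext
  · rw [Category.assoc, Category.assoc, chart_fst, secLeft, pullback.lift_fst,
      ← Category.assoc b q, ← hb, pt, ← Spec.map_comp_assoc, ← Spec.map_comp_assoc]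
    congr 2
    ext c
    change algebraMap k B (x' c) = evalLeft x' (c ⊗ₜ[k] (1 : B))
    rw [evalLeft_tmul, Algebra.algebraMap_eq_smul_one]
  · rw [Category.assoc, Category.assoc, chart_snd, secLeft, pullback.lift_snd, Category.comp_id,
      ← Spec.map_comp_assoc]
    have : CommRingCat.ofHom (R := B) (S := A ⊗[k] B)
        (RingHomClass.toRingHom Algebra.TensorProduct.includeRight) ≫
        CommRingCat.ofHom (evalLeft (B := B) x').toRingHom = 𝟙 (CommRingCat.of B) := by
      ext z
      change evalLeft x' ((1 : A) ⊗ₜ[k] z) = z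
      rw [evalLeft_tmul, map_one, one_smul]
    rw [this, Spec.map_id, Category.id_comp]

theorem appTop_comp_apply {X Y Z : Scheme.{u}} (f : X ⟶ Y) (g : Y ⟶ Z) (s : Γ(Z, ⊤)) :
    (f ≫ g).appTop s = f.appTop (g.appTop s) := rfl

theorem chart_fst_apply (g : Γ(X, ⊤)) :
    (Scheme.ΓSpecIso (.of (A ⊗[k] B))).hom
      ((chart p q a b ha hb).appTop ((pullback.fst p q).appTop g)) =
      ((Scheme.ΓSpecIso (.of A)).hom (a.appTop g)) ⊗ₜ[k] (1 : B) := by
  rw [← appTop_comp_apply, chart_fst, appTop_comp_apply, ΓSpecIso_naturality_apply]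
  rfl

theorem chart_snd_apply (h : Γ(Y, ⊤)) :
    (Scheme.ΓSpecIso (.of (A ⊗[k] B))).hom
      ((chart p q a b ha hb).appTop ((pullback.snd p q).appTop h)) =
      (1 : A) ⊗ₜ[k] ((Scheme.ΓSpecIso (.of B)).hom (b.appTop h)) := by
  rw [← appTop_comp_apply, chart_snd, appTop_comp_apply, ΓSpecIso_naturality_apply]
  rfl

theorem secRight_apply (y' : B →ₐ[k] k) (f : Γ(pullback p q, ⊤)) :
    (Scheme.ΓSpecIso (.of A)).hom (a.appTop ((secRight p q b hb y').appTop f)) =
      evalRight y' ((Scheme.ΓSpecIso (.of (A ⊗[k] B))).hom ((chart p q a b ha hb).appTop f)) := by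
  rw [← appTop_comp_apply, comp_secRight p q a b ha hb, appTop_comp_apply,
    ΓSpecIso_naturality_apply]
  rfl

theorem secLeft_apply (x' : A →ₐ[k] k) (f : Γ(pullback p q, ⊤)) :
    (Scheme.ΓSpecIso (.of B)).hom (b.appTop ((secLeft p q a ha x').appTop f)) =
      evalLeft x' ((Scheme.ΓSpecIso (.of (A ⊗[k] B))).hom ((chart p q a b ha hb).appTop f)) := by
  rw [← appTop_comp_apply, comp_secLeft p q a b ha hb, appTop_comp_apply,
    ΓSpecIso_naturality_apply]
  rfl

include hb in
theorem const_apply (c : k) :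
    (Scheme.ΓSpecIso (.of B)).hom
      (b.appTop (q.appTop ((Scheme.ΓSpecIso (CommRingCat.of k)).inv c))) = algebraMap k B c := by
  rw [← appTop_comp_apply, ← hb, ΓSpecIso_naturality_apply]
  change algebraMap k B ((Scheme.ΓSpecIso (CommRingCat.of k)).hom
    ((Scheme.ΓSpecIso (CommRingCat.of k)).inv c)) = _
  congr 1
  exact congrArg (fun ψ => ψ c) (Scheme.ΓSpecIso (CommRingCat.of k)).inv_hom_id

include ha hb in
/-- Rosenlicht's lemma for a product with affine charts of the factors. -/
theorem rosenlicht_chart [IsAlgClosed k] [IsIntegral (pullback p q)]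
    [IsDomain A] [IsDomain B] [Algebra.FiniteType k A] [Algebra.FiniteType k B]
    [IsOpenImmersion a] [IsOpenImmersion b]
    (f : Γ(pullback p q, ⊤)) (hf : IsUnit f) :
    ∃ (g : Γ(X, ⊤)) (h : Γ(Y, ⊤)), IsUnit g ∧ IsUnit h ∧
      f = (pullback.fst p q).appTop g * (pullback.snd p q).appTop h := by
  classical
  obtain ⟨x'⟩ := exists_algHom k A
  obtain ⟨y'⟩ := exists_algHom k B
  haveI : Nontrivial (A ⊗[k] B) :=
    RingHom.domain_nontrivial (x'.toRingHom.comp (evalRight (A := A) y').toRingHom)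
  haveI : Nonempty (Spec (.of (A ⊗[k] B))) :=
    inferInstanceAs (Nonempty (PrimeSpectrum (A ⊗[k] B)))
  have htinj : Function.Injective (chart p q a b ha hb).appTop :=
    appTop_injective_of_isOpenImmersion _
  obtain ⟨f', hff'⟩ := hf.exists_right_inv
  obtain ⟨a₀, b₀, ha₀, hb₀, hF⟩ := rosenlicht k A B
    ((Scheme.ΓSpecIso (.of (A ⊗[k] B))).hom ((chart p q a b ha hb).appTop f))
    ((Scheme.ΓSpecIso (.of (A ⊗[k] B))).hom ((chart p q a b ha hb).appTop f'))
    (by rw [← map_mul, ← map_mul, hff', map_one, map_one])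
  -- the constant
  have hxa : x' a₀ ≠ 0 := (ha₀.map x').ne_zero
  have hyb : y' b₀ ≠ 0 := (hb₀.map y').ne_zero
  set c : k := x' a₀ * y' b₀ with hc
  have hc0 : c ≠ 0 := mul_ne_zero hxa hyb
  refine ⟨(secRight p q b hb y').appTop f,
    (secLeft p q a ha x').appTop f * q.appTop ((Scheme.ΓSpecIso (CommRingCat.of k)).inv c⁻¹),
    hf.map _, (hf.map _).mul (IsUnit.map _ (IsUnit.map _ (IsUnit.mk0 _ (inv_ne_zero hc0)))), ?_⟩
  apply htinj
  apply (ConcreteCategory.bijective_of_isIso (Scheme.ΓSpecIso (.of (A ⊗[k] B))).hom).1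
  rw [map_mul, map_mul, map_mul, map_mul, map_mul, chart_fst_apply, chart_snd_apply,
    chart_snd_apply, secRight_apply p q a b ha hb, secLeft_apply p q a b ha hb,
    const_apply q b hb, hF, evalRight_tmul, evalLeft_tmul]
  simp only [Algebra.TensorProduct.tmul_mul_tmul, mul_one, one_mul]
  rw [Algebra.algebraMap_eq_smul_one, mul_smul_comm, mul_one, smul_smul,
    ← TensorProduct.smul_tmul', TensorProduct.tmul_smul, smul_smul]
  have : y' b₀ * (c⁻¹ * x' a₀) = 1 := by
    rw [hc]
    field_simp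
  rw [this, one_smul]

end chart

section main

variable {k : Type u} [Field k] [IsAlgClosed k] {X Y : Scheme.{u}}
  (p : X ⟶ Spec (CommRingCat.of k)) (q : Y ⟶ Spec (CommRingCat.of k))
  [IsIntegral X] [IsIntegral Y] [LocallyOfFiniteType p] [LocallyOfFiniteType q]

/-- **Rosenlicht's lemma**, scheme form. -/
theorem rosenlicht_scheme (f : Γ(pullback p q, ⊤)) (hf : IsUnit f) :
    ∃ (g : Γ(X, ⊤)) (h : Γ(Y, ⊤)), IsUnit g ∧ IsUnit h ∧
      f = (pullback.fst p q).appTop g * (pullback.snd p q).appTop h := by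
  classical
  haveI : IsIntegral (pullback p q) := Groth.Agent.H95.ProdIntegral.isIntegral_pullback k X Y p q
  -- affine charts
  obtain ⟨x₁⟩ : Nonempty X := inferInstance
  obtain ⟨_, ⟨U, hU, rfl⟩, hxU, -⟩ :=
    X.isBasis_affineOpens.exists_subset_of_mem_open (Set.mem_univ x₁) isOpen_univ
  obtain ⟨y₁⟩ : Nonempty Y := inferInstance
  obtain ⟨_, ⟨V, hV, rfl⟩, hyV, -⟩ :=
    Y.isBasis_affineOpens.exists_subset_of_mem_open (Set.mem_univ y₁) isOpen_univ
  haveI : Nonempty U := ⟨⟨x₁, hxU⟩⟩
  haveI : Nonempty V := ⟨⟨y₁, hyV⟩⟩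
  let a : Spec Γ(X, U) ⟶ X := hU.fromSpec
  let b : Spec Γ(Y, V) ⟶ Y := hV.fromSpec
  let φA : CommRingCat.of k ⟶ Γ(X, U) := Spec.preimage (a ≫ p)
  let φB : CommRingCat.of k ⟶ Γ(Y, V) := Spec.preimage (b ≫ q)
  have hφA : Spec.map φA = a ≫ p := Spec.map_preimage _
  have hφB : Spec.map φB = b ≫ q := Spec.map_preimage _
  letI algA : Algebra k Γ(X, U) := φA.hom.toAlgebra
  letI algB : Algebra k Γ(Y, V) := φB.hom.toAlgebra
  have hofA : CommRingCat.ofHom (algebraMap k Γ(X, U)) = φA := rfl
  have hofB : CommRingCat.ofHom (algebraMap k Γ(Y, V)) = φB := rfl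
  haveI : Algebra.FiniteType k Γ(X, U) := by
    have h1 : LocallyOfFiniteType (Spec.map φA) := by rw [hφA]; infer_instance
    exact (HasRingHomProperty.Spec_iff (P := @LocallyOfFiniteType)).1 h1
  haveI : Algebra.FiniteType k Γ(Y, V) := by
    have h1 : LocallyOfFiniteType (Spec.map φB) := by rw [hφB]; infer_instance
    exact (HasRingHomProperty.Spec_iff (P := @LocallyOfFiniteType)).1 h1
  haveI : IsDomain Γ(X, U) := inferInstance
  haveI : IsDomain Γ(Y, V) := inferInstance
  exact rosenlicht_chart p q a b hφA hφB f hf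

end main

end Groth.Agent.H80.UnitsVal
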