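import Groth.Agent.H80.UnitsVal5
import Mathlib.CategoryTheory.Monoidal.Cartesian.Over
import Mathlib.CategoryTheory.Monoidal.Cartesian.Grp

/-!
# Units on a connected group variety which are trivial at the origin are characters
-/

set_option autoImplicit false
universe u

namespace Groth.Agent.H80.UnitsVal

open CategoryTheory MonoidalCategory CartesianMonoidalCategory MonObj GrpObj AlgebraicGeometry
  CategoryTheory.Limits

section overS

variable {S : Scheme.{u}}

theorem left_appTop_comp {X Y Z : Over S} (φ : X ⟶ Y) (ψ : Y ⟶ Z) (s : Γ(Z.left, ⊤)) :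
    (φ ≫ ψ).left.appTop s = φ.left.appTop (ψ.left.appTop s) := rfl

theorem left_appTop_id {X : Over S} (s : Γ(X.left, ⊤)) : (𝟙 X : X ⟶ X).left.appTop s = s := by
  rw [Over.id_left, Scheme.Hom.id_appTop]
  rfl

/-- Pulling back a constant is the constant. -/
theorem left_appTop_toUnit {X Y : Over S} (φ : X ⟶ Y) (c : Γ((𝟙_ (Over S)).left, ⊤)) :
    φ.left.appTop ((toUnit Y).left.appTop c) = (toUnit X).left.appTop c := by
  rw [← left_appTop_comp, comp_toUnit]

end overS

section group

variable (k : Type u) [Field k] [IsAlgClosed k] (G : Over (Spec (CommRingCat.of k))) [GrpObj G]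
  [IsIntegral G.left] [LocallyOfFiniteType G.hom]

/-- A unit on an integral group scheme locally of finite type over an algebraically closed field
which is `1` at the origin is a character. -/
theorem character_of_unit (f : Γ(G.left, ⊤)) (hf : IsUnit f) (he : η[G].left.appTop f = 1) :
    μ[G].left.appTop f = (fst G G).left.appTop f * (snd G G).left.appTop f := by
  obtain ⟨g, h, hg, hh, hgh⟩ :
      ∃ (g : Γ(G.left, ⊤)) (h : Γ(G.left, ⊤)), IsUnit g ∧ IsUnit h ∧
        μ[G].left.appTop f = (fst G G).left.appTop g * (snd G G).left.appTop h :=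
    rosenlicht_scheme G.hom G.hom (μ[G].left.appTop f) (hf.map _)
  set u := η[G].left.appTop g with hu
  set v := η[G].left.appTop h with hv
  have e1 : f = g * (toUnit G).left.appTop v := by
    have h1 : lift (𝟙 G) (toUnit G ≫ η[G]) ≫ μ[G] = 𝟙 G := lift_comp_one_right _ _
    calc f = (lift (𝟙 G) (toUnit G ≫ η[G]) ≫ μ[G]).left.appTop f := by
          rw [h1, left_appTop_id]
      _ = (lift (𝟙 G) (toUnit G ≫ η[G])).left.appTop
            ((fst G G).left.appTop g * (snd G G).left.appTop h) := by
          rw [left_appTop_comp, hgh]
      _ = g * (toUnit G).left.appTop v := by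
          rw [map_mul, ← left_appTop_comp, ← left_appTop_comp, lift_fst, lift_snd,
            left_appTop_id, left_appTop_comp]
  have e2 : f = (toUnit G).left.appTop u * h := by
    have h1 : lift (toUnit G ≫ η[G]) (𝟙 G) ≫ μ[G] = 𝟙 G := lift_comp_one_left _ _
    calc f = (lift (toUnit G ≫ η[G]) (𝟙 G) ≫ μ[G]).left.appTop f := by
          rw [h1, left_appTop_id]
      _ = (lift (toUnit G ≫ η[G]) (𝟙 G)).left.appTop
            ((fst G G).left.appTop g * (snd G G).left.appTop h) := by
          rw [left_appTop_comp, hgh]
      _ = (toUnit G).left.appTop u * h := by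
          rw [map_mul, ← left_appTop_comp, ← left_appTop_comp, lift_fst, lift_snd,
            left_appTop_id, left_appTop_comp]
  have huv : u * v = 1 := by
    have h2 : η[G] ≫ toUnit G = 𝟙 _ := toUnit_unique _ _
    have := congrArg (η[G].left.appTop) e1
    rw [he, map_mul, ← left_appTop_comp, h2, left_appTop_id] at this
    exact this.symm
  calc μ[G].left.appTop f = (fst G G).left.appTop g * (snd G G).left.appTop h := hgh
    _ = (fst G G).left.appTop g * (snd G G).left.appTop h *
          (toUnit (G ⊗ G)).left.appTop (v * u) := by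
        rw [mul_comm v u, huv, map_one, _root_.mul_one]
    _ = (fst G G).left.appTop (g * (toUnit G).left.appTop v) *
          (snd G G).left.appTop ((toUnit G).left.appTop u * h) := by
        rw [map_mul, map_mul, map_mul, left_appTop_toUnit, left_appTop_toUnit]
        ring
    _ = (fst G G).left.appTop f * (snd G G).left.appTop f := by
        rw [← e1, ← e2]

end group

end Groth.Agent.H80.UnitsVal
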