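import Groth.Agent.H80.UnitsVal6
import Groth.Prelude.Def_AlgGrp

/-!
# Units on `G × X` and semi-invariants (Rosenlicht)
-/

set_option autoImplicit false
set_option linter.style.haveILetI false
universe u

namespace Groth.Agent.H80.UnitsVal

open CategoryTheory MonoidalCategory CartesianMonoidalCategory MonObj GrpObj AlgebraicGeometry
  CategoryTheory.Limits

section point

variable (k : Type u) [Field k] [IsAlgClosed k]

/-- A nonempty scheme locally of finite type over an algebraically closed field has a rational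
point. -/
theorem exists_point (X : Over (Spec (CommRingCat.of k))) [Nonempty X.left]
    [LocallyOfFiniteType X.hom] : Nonempty (𝟙_ (Over (Spec (CommRingCat.of k))) ⟶ X) := by
  classical
  obtain ⟨x₁⟩ : Nonempty X.left := inferInstance
  obtain ⟨_, ⟨U, hU, rfl⟩, hxU, -⟩ :=
    X.left.isBasis_affineOpens.exists_subset_of_mem_open (Set.mem_univ x₁) isOpen_univ
  haveI : Nonempty U := ⟨⟨x₁, hxU⟩⟩
  let a : Spec Γ(X.left, U) ⟶ X.left := hU.fromSpec
  let φA : CommRingCat.of k ⟶ Γ(X.left, U) := Spec.preimage (a ≫ X.hom)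
  have hφA : Spec.map φA = a ≫ X.hom := Spec.map_preimage _
  letI algA : Algebra k Γ(X.left, U) := φA.hom.toAlgebra
  haveI : Algebra.FiniteType k Γ(X.left, U) := by
    have h1 : LocallyOfFiniteType (Spec.map φA) := by rw [hφA]; infer_instance
    exact (HasRingHomProperty.Spec_iff (P := @LocallyOfFiniteType)).1 h1
  haveI : Nontrivial Γ(X.left, U) := by
    have : Nonempty (Spec Γ(X.left, U)) := ⟨hU.isoSpec.hom.base ⟨x₁, hxU⟩⟩
    exact (PrimeSpectrum.nonempty_iff_nontrivial).1 this
  obtain ⟨x'⟩ := exists_algHom k Γ(X.left, U)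
  exact ⟨Over.homMk (pt a x') (pt_comp X.hom a hφA x')⟩

end point

section group

variable (k : Type u) [Field k] [IsAlgClosed k] (G X : Over (Spec (CommRingCat.of k))) [GrpObj G]
  [IsIntegral G.left] [LocallyOfFiniteType G.hom] [IsIntegral X.left] [LocallyOfFiniteType X.hom]

/-- Units on `G × X` are products of a character of `G` and a unit of `X`. -/
theorem exists_character_mul (f : Γ((G ⊗ X).left, ⊤)) (hf : IsUnit f) :
    ∃ (χ : Γ(G.left, ⊤)) (u : Γ(X.left, ⊤)), IsUnit χ ∧ η[G].left.appTop χ = 1 ∧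
      μ[G].left.appTop χ = (fst G G).left.appTop χ * (snd G G).left.appTop χ ∧ IsUnit u ∧
      f = (fst G X).left.appTop χ * (snd G X).left.appTop u := by
  obtain ⟨g, h, hg, hh, hgh⟩ :
      ∃ (g : Γ(G.left, ⊤)) (h : Γ(X.left, ⊤)), IsUnit g ∧ IsUnit h ∧
        f = (fst G X).left.appTop g * (snd G X).left.appTop h :=
    rosenlicht_scheme G.hom X.hom f hf
  have hc : IsUnit (η[G].left.appTop g) := hg.map _
  obtain ⟨c', hcc'⟩ := hc.exists_right_inv
  have hc' : IsUnit c' := IsUnit.of_mul_eq_one _ (by rw [mul_comm]; exact hcc')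
  have h2 : η[G] ≫ toUnit G = 𝟙 _ := toUnit_unique _ _
  have hχ : IsUnit (g * (toUnit G).left.appTop c') := hg.mul (hc'.map _)
  have hη : η[G].left.appTop (g * (toUnit G).left.appTop c') = 1 := by
    rw [map_mul, ← left_appTop_comp, h2, left_appTop_id, hcc']
  refine ⟨g * (toUnit G).left.appTop c', (toUnit X).left.appTop (η[G].left.appTop g) * h,
    hχ, hη, character_of_unit k G _ hχ hη, (hc.map _).mul hh, ?_⟩
  rw [map_mul, map_mul, left_appTop_toUnit, left_appTop_toUnit, hgh]
  have : (toUnit (G ⊗ X)).left.appTop c' * (toUnit (G ⊗ X)).left.appTop (η[G].left.appTop g)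
      = 1 := by
    rw [← map_mul, mul_comm, hcc', map_one]
  calc (fst G X).left.appTop g * (snd G X).left.appTop h
      = (fst G X).left.appTop g * (snd G X).left.appTop h *
        ((toUnit (G ⊗ X)).left.appTop c' *
          (toUnit (G ⊗ X)).left.appTop (η[G].left.appTop g)) := by
        rw [this, _root_.mul_one]
    _ = _ := by ring

/-- Units on a `G`-variety are semi-invariants. -/
theorem semi_invariant (a : AlgGrp.Action G X) (f : Γ(X.left, ⊤)) (hf : IsUnit f) :
    ∃! χ : Γ(G.left, ⊤), IsUnit χ ∧ η[G].left.appTop χ = 1 ∧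
      μ[G].left.appTop χ = (fst G G).left.appTop χ * (snd G G).left.appTop χ ∧
      a.act.left.appTop f = (fst G X).left.appTop χ * (snd G X).left.appTop f := by
  obtain ⟨χ, u, hχ, hη, hμ, hu, hχu⟩ := exists_character_mul k G X (a.act.left.appTop f) (hf.map _)
  -- the section `x ↦ (e, x)`
  have j1 : ((λ_ X).inv ≫ (η[G] ▷ X)) ≫ a.act = 𝟙 X := by
    rw [Category.assoc, a.one_act, Iso.inv_hom_id]
  have j2 : ((λ_ X).inv ≫ (η[G] ▷ X)) ≫ fst G X = toUnit X ≫ η[G] := by
    rw [Category.assoc, whiskerRight_fst, leftUnitor_inv_fst_assoc]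
  have j3 : ((λ_ X).inv ≫ (η[G] ▷ X)) ≫ snd G X = 𝟙 X := by
    rw [Category.assoc, whiskerRight_snd, leftUnitor_inv_snd]
  have hfu : f = u := by
    have := congrArg ((λ_ X).inv ≫ (η[G] ▷ X)).left.appTop hχu
    rw [← left_appTop_comp, j1, left_appTop_id, map_mul, ← left_appTop_comp, ← left_appTop_comp,
      j2, j3, left_appTop_id, left_appTop_comp, hη, map_one, _root_.one_mul] at this
    exact this
  subst hfu
  refine ⟨χ, ⟨hχ, hη, hμ, hχu⟩, ?_⟩
  rintro χ' ⟨-, -, -, hχ'⟩
  -- a rational point of `X`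
  obtain ⟨x0⟩ := exists_point k X
  have hunit : IsUnit ((snd G X).left.appTop f) := hf.map _
  have heq : (fst G X).left.appTop χ' = (fst G X).left.appTop χ := by
    rw [hχ'] at hχu
    exact hunit.mul_right_cancel hχu
  have k1 : lift (𝟙 G) (toUnit G ≫ x0) ≫ fst G X = 𝟙 G := lift_fst _ _
  have := congrArg (lift (𝟙 G) (toUnit G ≫ x0)).left.appTop heq
  rwa [← left_appTop_comp, ← left_appTop_comp, k1, left_appTop_id, left_appTop_id] at this

end group

end Groth.Agent.H80.UnitsVal
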