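import Mathlib
import Groth.Agent.S0544
import Groth.Agent.H11.GDomain
import Groth.Agent.H22.DVRDom

/-!
# Lifting DVR points after a finite extension: the algebra core (helper80)

Let `A` be a complete discrete valuation ring, `C` an `A`-algebra of finite type, `qz ≤ qx` primes
of `C` with `qz` lying over the generic point of `A` and `qx` a rational point of the closed
fibre.  Then there is a discrete valuation ring `B`, finite over `A`, and an `A`-algebra map
`C → B` whose centre is `qx` (EGA IV 14.5.x, the "curve through a point" argument).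
-/

set_option autoImplicit false
set_option linter.style.haveILetI false

universe u

open IsLocalRing

namespace Groth.Agent.H80.UnivOpenLift

/-- In a Noetherian ring, among the primes containing a prime `I` and avoiding `t` there is a
maximal one. -/
theorem exists_maximal_prime_notMem {O : Type*} [CommRing O] [IsNoetherianRing O] (I : Ideal O)
    [hI : I.IsPrime] (t : O) (ht : t ∉ I) :
    ∃ p : Ideal O, p.IsPrime ∧ I ≤ p ∧ t ∉ p ∧ ∀ P : Ideal O, P.IsPrime → p < P → t ∈ P := by
  let S : Set (Ideal O) := {p | p.IsPrime ∧ I ≤ p ∧ t ∉ p}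
  have hS : S.Nonempty := ⟨I, hI, le_rfl, ht⟩
  obtain ⟨p, hp, hmax⟩ :=
    set_has_maximal_iff_noetherian.mpr (inferInstance : IsNoetherian O O) S hS
  refine ⟨p, hp.1, hp.2.1, hp.2.2, fun P hP hlt => ?_⟩
  by_contra hn
  exact hmax P ⟨hP, hp.2.1.trans hlt.le, hn⟩ hlt

/-- A Noetherian domain in which a fixed nonzero element lies in every nonzero prime has
dimension at most one. -/
theorem krullDimLE_one_of_forall_mem {E : Type u} [CommRing E] [IsDomain E] [IsNoetherianRing E]
    (t : E) (ht : t ≠ 0) (h : ∀ q : Ideal E, q.IsPrime → q ≠ ⊥ → t ∈ q) :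
    Ring.KrullDimLE 1 E := by
  apply Ring.KrullDimLE.mk₁'
  intro q hq0 hq
  obtain ⟨M, hM, hqM⟩ := Ideal.exists_le_maximal q hq.ne_top
  by_cases hqM' : q = M
  · exact hqM' ▸ hM
  · exfalso
    have hlt : q < M := lt_of_le_of_ne hqM hqM'
    haveI := hM.isPrime
    have h1 : M.height ≤ 1 := Groth.Agent.H11.GDomain.height_le_one t ht h M
    have h2 : q.height < M.height := Ideal.height_strict_mono_of_isPrime hlt
    have h3 : q.height = 0 := by
      have : q.height < 1 := lt_of_lt_of_le h2 h1
      exact Order.lt_one_iff.mp this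
    exact hq0 (Ideal.height_eq_zero_iff_eq_bot.mp h3)

/-- A finite module over `E` killed by an ideal `I` with `E ⧸ I` finite over `A` is finite
over `A`. -/
theorem finite_of_torsion {A E M : Type*} [CommRing A] [CommRing E] [Algebra A E]
    [AddCommGroup M] [Module E M] [Module A M] [IsScalarTower A E M] (I : Ideal E)
    (hM : Module.IsTorsionBySet E M I) [Module.Finite A (E ⧸ I)] [Module.Finite E M] :
    Module.Finite A M := by
  letI := hM.module
  haveI : IsScalarTower E (E ⧸ I) M := hM.isScalarTower
  haveI : IsScalarTower A (E ⧸ I) M := hM.isScalarTower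
  haveI : Module.Finite (E ⧸ I) M := Module.Finite.of_restrictScalars_finite E (E ⧸ I) M
  exact Module.Finite.trans (E ⧸ I) M

/-- **Algebra core.** -/
theorem core (A : Type u) [CommRing A] [IsDomain A] [IsDiscreteValuationRing A]
    [IsAdicComplete (maximalIdeal A) A]
    (C : Type u) [CommRing C] (α : A →+* C) (hα : α.FiniteType)
    (qz qx : Ideal C) [hqz : qz.IsPrime] [hqx : qx.IsPrime] (hle : qz ≤ qx)
    (hz : ∀ a : A, α a ∈ qz → a = 0)
    (χ : C →+* ResidueField A) (hχ : χ.comp α = residue A) (hker : RingHom.ker χ = qx) :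
    ∃ (B : Type u) (_ : CommRing B) (_ : IsDomain B) (_ : IsDiscreteValuationRing B)
      (ψ : C →+* B), (ψ.comp α).Finite ∧ IsLocalHom (ψ.comp α) ∧
        (maximalIdeal B).comap ψ = qx := by
  classical
  haveI : IsNoetherianRing C := by
    letI := α.toAlgebra
    haveI : Algebra.FiniteType A C := hα
    exact Algebra.FiniteType.isNoetherianRing A C
  obtain ⟨ϖ, hϖ⟩ := IsDiscreteValuationRing.exists_irreducible A
  have hϖ0 : ϖ ≠ 0 := hϖ.ne_zero
  have hmaxA : maximalIdeal A = Ideal.span {ϖ} := hϖ.maximalIdeal_eq
  have hχα : ∀ a : A, χ (α a) = residue A a := fun a => RingHom.congr_fun hχ a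
  have hαmem : ∀ a : A, a ∈ maximalIdeal A → α a ∈ qx := by
    intro a ha
    rw [← hker, RingHom.mem_ker, hχα]
    exact (residue_eq_zero_iff a).mpr ha
  -- localization
  let O := Localization.AtPrime qx
  have hdisj : Disjoint (qx.primeCompl : Set C) (qz : Set C) := by
    rw [Set.disjoint_left]
    intro c hc hcz
    exact hc (hle hcz)
  let I : Ideal O := qz.map (algebraMap C O)
  haveI hIprime : I.IsPrime :=
    IsLocalization.isPrime_of_isPrime_disjoint qx.primeCompl O qz hqz hdisj
  have hIcomap : I.comap (algebraMap C O) = qz :=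
    IsLocalization.under_map_of_isPrime_disjoint qx.primeCompl O hqz hdisj
  let t : O := algebraMap C O (α ϖ)
  have htI : t ∉ I := by
    intro h
    have : α ϖ ∈ I.comap (algebraMap C O) := h
    rw [hIcomap] at this
    exact hϖ0 (hz ϖ this)
  obtain ⟨p, hp, hIp, htp, hpmax⟩ := exists_maximal_prime_notMem I t htI
  haveI := hp
  let E := O ⧸ p
  let mk : O →+* E := Ideal.Quotient.mk p
  have hmk : Function.Surjective mk := Ideal.Quotient.mk_surjective
  haveI : IsDomain E := Ideal.Quotient.isDomain p
  haveI : IsLocalRing E := IsLocalRing.of_surjective' mk hmk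
  haveI : IsNoetherianRing E := inferInstance
  let γ : C →+* E := mk.comp (algebraMap C O)
  let tE : E := γ (α ϖ)
  have htE : tE ≠ 0 := by
    intro h
    exact htp (Ideal.Quotient.eq_zero_iff_mem.mp h)
  have hprimes : ∀ q : Ideal E, q.IsPrime → q ≠ ⊥ → tE ∈ q := by
    intro q hq hq0
    have hP : (q.comap mk).IsPrime := Ideal.comap_isPrime mk q
    have hle' : p ≤ q.comap mk := by
      intro x hx
      rw [Ideal.mem_comap]
      have : mk x = 0 := Ideal.Quotient.eq_zero_iff_mem.mpr hx
      rw [this]
      exact q.zero_mem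
    have hne : p ≠ q.comap mk := by
      intro h
      apply hq0
      rw [← Ideal.map_comap_of_surjective mk hmk q, ← h]
      exact Ideal.map_quotient_self p
    exact hpmax _ hP (lt_of_le_of_ne hle' hne)
  haveI : Ring.KrullDimLE 1 E := krullDimLE_one_of_forall_mem tE htE hprimes
  -- maximal ideals
  have hmaxE : (maximalIdeal E).comap mk = maximalIdeal O := by
    haveI : ((maximalIdeal E).comap mk).IsMaximal := Ideal.comap_isMaximal_of_surjective mk hmk
    exact IsLocalRing.eq_maximalIdeal inferInstance
  have hcomapγ : (maximalIdeal E).comap γ = qx := by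
    change (maximalIdeal E).comap (mk.comp (algebraMap C O)) = qx
    rw [← Ideal.comap_comap, hmaxE]
    exact Localization.AtPrime.under_maximalIdeal
  let β : A →+* E := γ.comp α
  have hβmem : ∀ a : A, a ∈ maximalIdeal A → β a ∈ maximalIdeal E := by
    intro a ha
    have : α a ∈ (maximalIdeal E).comap γ := by
      rw [hcomapγ]
      exact hαmem a ha
    exact this
  haveI hβloc : IsLocalHom β := by
    constructor
    intro a ha
    by_contra hna
    exact (mem_maximalIdeal _).mp (hβmem a ((mem_maximalIdeal _).mpr hna)) ha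
  letI algAE : Algebra A E := β.toAlgebra
  haveI : IsLocalHom (algebraMap A E) := hβloc
  -- the residue field does not grow
  have hπ : ∀ c₁ c₂ : C, χ c₁ = χ c₂ → residue E (γ c₁) = residue E (γ c₂) := by
    intro c₁ c₂ h
    rw [← sub_eq_zero, ← map_sub, ← map_sub, residue_eq_zero_iff]
    have : c₁ - c₂ ∈ (maximalIdeal E).comap γ := by
      rw [hcomapγ, ← hker, RingHom.mem_ker, map_sub, h, sub_self]
    exact this
  have hres : ∀ e : E, ∃ a : A, residue E e = residue E (β a) := by
    intro e
    obtain ⟨o, rfl⟩ := hmk e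
    obtain ⟨c, s, rfl⟩ := IsLocalization.exists_mk'_eq qx.primeCompl o
    obtain ⟨ac, hac⟩ := residue_surjective (χ c)
    obtain ⟨as, has⟩ := residue_surjective (χ (s : C))
    have hχs : χ (s : C) ≠ 0 := by
      intro h
      have : (s : C) ∈ RingHom.ker χ := RingHom.mem_ker.mpr h
      rw [hker] at this
      exact s.2 this
    have hasu : IsUnit as := by
      by_contra hn
      apply hχs
      rw [← has]
      exact (residue_eq_zero_iff as).mpr ((mem_maximalIdeal _).mpr hn)
    obtain ⟨u, rfl⟩ := hasu
    refine ⟨ac * ↑u⁻¹, ?_⟩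
    have h1 : residue E (γ c) = residue E (β ac) := hπ _ _ (by rw [hχα, hac])
    have h2 : residue E (γ (s : C)) = residue E (β (u : A)) := hπ _ _ (by rw [hχα, has])
    have h3 : mk (IsLocalization.mk' O c s) * γ (s : C) = γ c := by
      change mk (IsLocalization.mk' O c s) * mk (algebraMap C O s) = mk (algebraMap C O c)
      rw [← map_mul, IsLocalization.mk'_spec]
    have h4 : residue E (mk (IsLocalization.mk' O c s)) * residue E (β (u : A)) =
        residue E (β ac) := by
      rw [← h2, ← h1, ← map_mul, h3]
    have h5 : residue E (β (u : A)) ≠ 0 := by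
      rw [Ne, residue_eq_zero_iff]
      intro h
      exact (mem_maximalIdeal _).mp h ((u.isUnit).map β)
    apply mul_right_cancel₀ h5
    rw [h4, ← map_mul, ← map_mul, mul_assoc, Units.inv_mul, mul_one]
  have hsurjres : Function.Surjective (algebraMap (ResidueField A) (ResidueField E)) := by
    intro y
    obtain ⟨e, rfl⟩ := residue_surjective y
    obtain ⟨a, ha⟩ := hres e
    exact ⟨residue A a, ha.symm⟩
  haveI : Module.Finite (ResidueField A) (ResidueField E) :=
    Module.Finite.of_surjective (Algebra.linearMap _ _) hsurjres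
  have hlenres : Module.length (ResidueField A) (ResidueField E) ≠ ⊤ := Module.length_ne_top
  -- `E / t` is finite over `A`
  let F := E ⧸ Ideal.span {tE}
  have hFL : IsFiniteLength E F :=
    isFiniteLength_quotient_span_singleton E (mem_nonZeroDivisors_of_ne_zero htE)
  haveI hFfin : Module.Finite A F := by
    have h1 : Module.length A F =
        Module.length E F * Module.length (ResidueField A) (ResidueField E) :=
      IsLocalRing.length_restrictScalars A E F
    have h2 : Module.length A F ≠ ⊤ := by
      rw [h1]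
      exact WithTop.mul_ne_top (Module.length_ne_top_iff.mpr hFL) hlenres
    have h3 : IsFiniteLength A F := Module.length_ne_top_iff.mp h2
    haveI := (isFiniteLength_iff_isNoetherian_isArtinian.mp h3).1
    infer_instance
  -- a dominating discrete valuation ring
  let L := FractionRing E
  have htEmem : tE ∈ maximalIdeal E := hβmem ϖ (hmaxA ▸ Ideal.mem_span_singleton_self ϖ)
  have hEnf : ¬ IsField E := by
    intro hf
    have h0 : maximalIdeal E = ⊥ := IsLocalRing.isField_iff_maximalIdeal_eq.mp hf
    have h1 := htEmem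
    rw [h0] at h1
    exact htE h1
  have hs : Subfield.closure (Set.range (algebraMap E L) ∪ ((∅ : Finset L) : Set L)) = ⊤ := by
    rw [eq_top_iff]
    intro x _
    obtain ⟨a, b, hb, rfl⟩ := IsFractionRing.div_surjective (A := E) x
    exact Subfield.div_mem _ (Subfield.subset_closure (Or.inl ⟨a, rfl⟩))
      (Subfield.subset_closure (Or.inl ⟨b, rfl⟩))
  obtain ⟨R, hR, hER, hmR⟩ :=
    Groth.Agent.H22.DVRDom.exists_dvr_dominating (A := E) hEnf (L := L) ∅ hs
  let T : Subalgebra E L := { R.toSubring with algebraMap_mem' := hER }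
  let eRT : R ≃+* T :=
    { toFun := fun x => ⟨x.1, x.2⟩
      invFun := fun x => ⟨x.1, x.2⟩
      left_inv := fun _ => rfl
      right_inv := fun _ => rfl
      map_mul' := fun _ _ => rfl
      map_add' := fun _ _ => rfl }
  haveI : IsDomain T := inferInstance
  haveI hTdvr : IsDiscreteValuationRing T := IsDiscreteValuationRing.RingEquivClass.isDiscreteValuationRing eRT
  let ψ : C →+* T := (algebraMap E T).comp γ
  letI algAT : Algebra A T := (ψ.comp α).toAlgebra
  haveI : IsScalarTower A E T := IsScalarTower.of_algebraMap_eq (fun a => rfl)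
  -- membership in the maximal ideal of `T`
  have hmT : ∀ e : E, algebraMap E T e ∈ maximalIdeal T ↔ e ∈ maximalIdeal E := by
    intro e
    constructor
    · intro h
      by_contra hn
      have hu : IsUnit e := by
        by_contra h'
        exact hn ((mem_maximalIdeal _).mpr h')
      exact (mem_maximalIdeal _).mp h (hu.map (algebraMap E T))
    · intro h
      rw [mem_maximalIdeal, mem_nonunits_iff]
      intro hu
      have hv := hmR e h
      obtain ⟨v, hv'⟩ := hu
      have h1 : algebraMap E L e * (((v⁻¹ : Tˣ) : T) : L) = 1 := by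
        have h0 : (((v : T) * ((v⁻¹ : Tˣ) : T) : T) : L) = 1 := by
          rw [Units.mul_inv]
          rfl
        rw [hv'] at h0
        exact h0
      have h2 : R.valuation (((v⁻¹ : Tˣ) : T) : L) ≤ 1 :=
        (R.valuation_le_one_iff _).mpr ((v⁻¹ : Tˣ) : T).2
      have h3 := congrArg R.valuation h1
      rw [map_mul, map_one] at h3
      have h4 : R.valuation (algebraMap E L e) * R.valuation (((v⁻¹ : Tˣ) : T) : L) < 1 := by
        calc _ ≤ R.valuation (algebraMap E L e) * 1 := mul_le_mul_right h2 _
          _ = R.valuation (algebraMap E L e) := mul_one _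
          _ < 1 := hv
      exact absurd h3 (ne_of_lt h4)
  -- finiteness of `T / t` over `A`
  let J : Ideal T := Ideal.span {algebraMap E T tE}
  have hQfinE : Module.Finite E (T ⧸ J) := Groth.Agent.H9.KA.finite_quotient T tE htE
  have hQfinA : Module.Finite A (T ⧸ J) := by
    have hM : Module.IsTorsionBySet E (T ⧸ J) (Ideal.span {tE} : Ideal E) := by
      rintro x ⟨a, ha⟩
      obtain ⟨y, rfl⟩ := Ideal.Quotient.mk_surjective x
      obtain ⟨r, rfl⟩ := Ideal.mem_span_singleton'.mp ha
      change (r * tE) • (Ideal.Quotient.mk J y) = 0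
      have h1 : (r * tE) • (Ideal.Quotient.mk J y) =
          Ideal.Quotient.mk J ((r * tE) • y) := rfl
      rw [h1, Ideal.Quotient.eq_zero_iff_mem, Algebra.smul_def, map_mul, mul_assoc]
      exact Ideal.mul_mem_left _ _ (Ideal.mul_mem_right _ _ (Ideal.mem_span_singleton_self _))
    exact finite_of_torsion (A := A) (E := E) (M := T ⧸ J) (Ideal.span {tE}) hM
  have hsmul : ∀ (a : A) (y : T), a • y = algebraMap E T (β a) * y := fun a y => rfl
  have hJeq : (maximalIdeal A • ⊤ : Submodule A T) = J.restrictScalars A := by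
    apply le_antisymm
    · rw [Submodule.smul_le]
      intro r hr y _
      rw [hmaxA, Ideal.mem_span_singleton'] at hr
      obtain ⟨r', rfl⟩ := hr
      change (r' * ϖ) • y ∈ J
      rw [hsmul, map_mul, map_mul, mul_assoc]
      exact Ideal.mul_mem_left _ _ (Ideal.mul_mem_right _ _ (Ideal.mem_span_singleton_self _))
    · intro x hx
      change x ∈ J at hx
      obtain ⟨y, rfl⟩ := Ideal.mem_span_singleton'.mp hx
      have : y * algebraMap E T tE = ϖ • y := by
        rw [hsmul, mul_comm]
        rfl
      rw [this]
      exact Submodule.smul_mem_smul (hmaxA ▸ Ideal.mem_span_singleton_self ϖ) trivial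
  haveI : IsNoetherianRing T := inferInstance
  have hJne : J ≠ ⊤ := by
    intro h
    have h1 : algebraMap E T tE ∈ maximalIdeal T := (hmT tE).mpr htEmem
    have h2 : J ≤ maximalIdeal T := by
      rw [Ideal.span_le, Set.singleton_subset_iff]
      exact h1
    rw [h] at h2
    exact (maximalIdeal.isMaximal T).ne_top (top_le_iff.mp h2)
  haveI hHaus : IsHausdorff (maximalIdeal A) T := by
    constructor
    intro x hx
    have hinf : ⨅ n, J ^ n = ⊥ := Ideal.iInf_pow_eq_bot_of_isLocalRing J hJne
    have hmem : x ∈ (⨅ n, J ^ n : Ideal T) := by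
      rw [Submodule.mem_iInf]
      intro n
      have h1 := hx n
      rw [SModEq.zero] at h1
      have hle : ((maximalIdeal A) ^ n • ⊤ : Submodule A T) ≤ (J ^ n).restrictScalars A := by
        rw [Submodule.smul_le]
        intro r hr y _
        rw [hmaxA, Ideal.span_singleton_pow, Ideal.mem_span_singleton'] at hr
        obtain ⟨r', rfl⟩ := hr
        change (r' * ϖ ^ n) • y ∈ J ^ n
        rw [hsmul, map_mul, map_mul, map_pow, map_pow, mul_assoc]
        exact Ideal.mul_mem_left _ _ (Ideal.mul_mem_right _ _
          (Ideal.pow_mem_pow (Ideal.mem_span_singleton_self _) n))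
      exact hle h1
    rw [hinf] at hmem
    exact hmem
  have hquot : Module.Finite A (T ⧸ (maximalIdeal A • ⊤ : Submodule A T)) := by
    let e1 : (T ⧸ J.restrictScalars A) ≃ₗ[A] (T ⧸ J) :=
      Submodule.Quotient.restrictScalarsEquiv A J
    let e2 : (T ⧸ (maximalIdeal A • ⊤ : Submodule A T)) ≃ₗ[A] (T ⧸ J.restrictScalars A) :=
      Submodule.quotEquivOfEq _ _ hJeq
    exact Module.Finite.equiv (e2.trans e1).symm
  have hTfin : Module.Finite A T := Groth.Agent.S0544.result A (maximalIdeal A) T hquot
  refine ⟨T, inferInstance, inferInstance, hTdvr, ψ, hTfin, ?_, ?_⟩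
  · constructor
    intro a ha
    by_contra hna
    have h1 : β a ∈ maximalIdeal E := hβmem a ((mem_maximalIdeal _).mpr hna)
    have h2 : algebraMap E T (β a) ∈ maximalIdeal T := (hmT _).mpr h1
    exact (mem_maximalIdeal _).mp h2 ha
  · ext c
    rw [Ideal.mem_comap]
    change algebraMap E T (γ c) ∈ maximalIdeal T ↔ _
    have hiff : c ∈ qx ↔ c ∈ (maximalIdeal E).comap γ := by rw [hcomapγ]
    rw [hmT, hiff, Ideal.mem_comap]

end Groth.Agent.H80.UnivOpenLift
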