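import Mathlib
import Groth.Prelude.Def_EGA43
import Groth.Agent.S2587
import Groth.Agent.H80.UnivOpenLift1
import Groth.Agent.H80.UnivOpenLift2

/-!
# Universal openness at a point and lifting of DVR points after a finite extension (helper80)

EGA IV 14.5.8-type criterion: `f` is universally open at `x` iff every point of `X` over a complete
discrete valuation ring `A` with algebraically closed residue field, centred at `x`, lifts to a
`B`-point for some DVR `B` finite over `A`.
-/

set_option autoImplicit false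
set_option linter.style.haveILetI false

universe u

open IsLocalRing AlgebraicGeometry CategoryTheory Limits

namespace Groth.Agent.H80.UnivOpenLift

/-- The lifting property of the statement. -/
def LiftProp {X Y : Scheme.{u}} (f : X ⟶ Y) (x : X) : Prop :=
  ∀ (A : Type u) [CommRing A] [IsDomain A] [IsDiscreteValuationRing A]
    [IsAdicComplete (IsLocalRing.maximalIdeal A) A] [IsAlgClosed (IsLocalRing.ResidueField A)]
    (g : Spec (CommRingCat.of A) ⟶ Y), g.base (IsLocalRing.closedPoint A) = f.base x →
    ∀ u₀ : Spec (CommRingCat.of (IsLocalRing.ResidueField A)) ⟶ X,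
      u₀ ≫ f = Spec.map (CommRingCat.ofHom (IsLocalRing.residue A)) ≫ g → x ∈ Set.range u₀.base →
      ∃ (B : CommRingCat.{u}) (_ : IsDomain B) (_ : IsDiscreteValuationRing B) (φ : A →+* B)
        (_ : IsLocalHom φ) (v : Spec B ⟶ X),
        φ.Finite ∧ v ≫ f = Spec.map (CommRingCat.ofHom φ) ≫ g ∧
        Spec.map (CommRingCat.ofHom (IsLocalRing.ResidueField.map φ)) ≫ u₀ =
          Spec.map (CommRingCat.ofHom (IsLocalRing.residue B)) ≫ v

/-- A finite homomorphism between discrete valuation rings is injective. -/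
theorem injective_of_finite {A B : Type*} [CommRing A] [IsDomain A] [IsDiscreteValuationRing A]
    [CommRing B] [IsDomain B] [IsDiscreteValuationRing B] (φ : A →+* B) (hφ : φ.Finite) :
    Function.Injective φ := by
  letI := φ.toAlgebra
  haveI : Module.Finite A B := hφ
  haveI : Algebra.IsIntegral A B := Algebra.IsIntegral.of_finite A B
  obtain ⟨π, hπ⟩ := IsDiscreteValuationRing.exists_irreducible B
  have hπm : π ∈ maximalIdeal B := by
    rw [mem_maximalIdeal, mem_nonunits_iff]
    exact hπ.not_isUnit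
  have hlt : (⊥ : Ideal B).comap (algebraMap A B) < (maximalIdeal B).comap (algebraMap A B) :=
    Ideal.comap_lt_comap_of_integral_mem_sdiff (R := A) (I := (⊥ : Ideal B))
      (J := maximalIdeal B) bot_le ⟨hπm, fun h => hπ.ne_zero ((Ideal.mem_bot).mp h)⟩
      (Algebra.IsIntegral.isIntegral π)
  rw [RingHom.injective_iff_ker_eq_bot]
  by_contra hne
  have hprime : (RingHom.ker φ).IsPrime := RingHom.ker_isPrime φ
  have hmax : (RingHom.ker φ).IsMaximal := hprime.isMaximal hne
  have h1 : RingHom.ker φ = maximalIdeal A := IsLocalRing.eq_maximalIdeal hmax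
  have h2 : (maximalIdeal B).comap (algebraMap A B) ≤ maximalIdeal A :=
    IsLocalRing.le_maximalIdeal (Ideal.comap_ne_top _ (maximalIdeal.isMaximal B).ne_top)
  have h3 : (⊥ : Ideal B).comap (algebraMap A B) = RingHom.ker φ := rfl
  rw [h3, h1] at hlt
  exact absurd (lt_of_lt_of_le hlt h2) (lt_irrefl _)

/-- **(⇐)** -/
theorem isUnivOpenAt_of_liftProp {X Y : Scheme.{u}} [IsLocallyNoetherian Y] (f : X ⟶ Y)
    [LocallyOfFiniteType f] (x : X) (H : LiftProp f x) : EGA43.IsUnivOpenAt f x := by
  rw [Groth.Agent.S2587.result f x]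
  intro A₀ _ _ _ g₀ hg₀ x' hx'1 hx'2
  classical
  let P := pullback f g₀
  let κ : Type u := P.residueField x'
  let Ω : Type u := AlgebraicClosure κ
  let j : Spec (CommRingCat.of κ) ⟶ P := P.fromSpecResidueField x'
  have hj : ∀ z, j.base z = x' := fun z => Scheme.fromSpecResidueField_apply x' z
  let θc : CommRingCat.of A₀ ⟶ CommRingCat.of κ := Spec.preimage (j ≫ pullback.snd f g₀)
  have hθc : Spec.map θc = j ≫ pullback.snd f g₀ := Spec.map_preimage _
  let θ : A₀ →+* κ := θc.hom
  let pt : Spec (CommRingCat.of κ) := closedPoint κ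
  have hpt : (Spec.map θc).base pt = closedPoint A₀ := by
    rw [hθc]
    change (pullback.snd f g₀).base (j.base pt) = _
    rw [hj]
    exact hx'2
  haveI hθloc : IsLocalHom θ := by
    constructor
    intro a ha
    by_contra hna
    have h1 : a ∈ (closedPoint A₀).asIdeal := (mem_maximalIdeal _).mpr hna
    rw [← hpt] at h1
    have h2 : θ a ∈ pt.asIdeal := h1
    exact pt.2.ne_top (Ideal.eq_top_of_isUnit_mem _ h2 ha)
  let φ₀ : A₀ →+* Ω := (algebraMap κ Ω).comp θ
  haveI : IsLocalHom φ₀ := by
    constructor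
    intro a ha
    have h1 : θ a ≠ 0 := by
      intro h
      have h2 : φ₀ a = 0 := by
        change algebraMap κ Ω (θ a) = 0
        rw [h, map_zero]
      rw [h2] at ha
      exact not_isUnit_zero ha
    exact hθloc.map_nonunit a (IsUnit.mk0 _ h1)
  obtain ⟨A, _, _, _, ψ, χ, hcompl, hψinj, hψloc, hχ⟩ := exists_complete_ext A₀ Ω φ₀
  haveI := hcompl
  haveI := hψloc
  haveI : IsAlgClosed (ResidueField A) := IsAlgClosed.of_ringEquiv (k := Ω) (ResidueField A) χ.symm
  let g : Spec (CommRingCat.of A) ⟶ Y := Spec.map (CommRingCat.ofHom ψ) ≫ g₀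
  have hg : g.base (closedPoint A) = f.base x := by
    change g₀.base ((Spec.map (CommRingCat.ofHom ψ)).base (closedPoint A)) = _
    have h1 : (Spec.map (CommRingCat.ofHom ψ)).base (closedPoint A) = closedPoint A₀ :=
      IsLocalRing.comap_closedPoint ψ
    rw [h1, hg₀]
  let χs : Ω →+* ResidueField A := (χ.symm : Ω ≃+* ResidueField A)
  let u₀ : Spec (CommRingCat.of (ResidueField A)) ⟶ X :=
    Spec.map (CommRingCat.ofHom χs) ≫ Spec.map (CommRingCat.ofHom (algebraMap κ Ω)) ≫ j ≫
      pullback.fst f g₀
  have hcat : θc ≫ CommRingCat.ofHom (algebraMap κ Ω) ≫ CommRingCat.ofHom χs =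
      CommRingCat.ofHom ψ ≫ CommRingCat.ofHom (residue A) := by
    ext a
    change χ.symm (φ₀ a) = residue A (ψ a)
    rw [← hχ a, RingEquiv.symm_apply_apply]
  have hsnd : Spec.map (CommRingCat.ofHom χs) ≫ Spec.map (CommRingCat.ofHom (algebraMap κ Ω)) ≫
      j ≫ pullback.snd f g₀ =
      Spec.map (CommRingCat.ofHom (residue A)) ≫ Spec.map (CommRingCat.ofHom ψ) := by
    rw [← hθc, ← Spec.map_comp, ← Spec.map_comp, ← Spec.map_comp, Category.assoc, hcat]
  have hu₀ : u₀ ≫ f = Spec.map (CommRingCat.ofHom (residue A)) ≫ g := by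
    change (Spec.map (CommRingCat.ofHom χs) ≫ Spec.map (CommRingCat.ofHom (algebraMap κ Ω)) ≫
      j ≫ pullback.fst f g₀) ≫ f = Spec.map (CommRingCat.ofHom (residue A)) ≫
        Spec.map (CommRingCat.ofHom ψ) ≫ g₀
    simp only [Category.assoc]
    rw [pullback.condition, ← Category.assoc (Spec.map (CommRingCat.ofHom (residue A))), ← hsnd]
    simp only [Category.assoc]
  have hxu₀ : x ∈ Set.range u₀.base := by
    refine ⟨closedPoint (ResidueField A), ?_⟩
    change (pullback.fst f g₀).base (j.base _) = x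
    rw [hj]
    exact hx'1
  obtain ⟨B, hBdom, hBdvr, φ, hφloc, v, hφfin, hv, hvres⟩ := H A g hg u₀ hu₀ hxu₀
  have hφinj : Function.Injective φ := injective_of_finite φ hφfin
  let w : Spec B ⟶ P :=
    pullback.lift v (Spec.map (CommRingCat.ofHom φ) ≫ Spec.map (CommRingCat.ofHom ψ)) (by
      rw [hv]
      simp only [g, Category.assoc])
  have hw1 : w ≫ pullback.fst f g₀ = v := pullback.lift_fst _ _ _
  have hw2 : w ≫ pullback.snd f g₀ =
      Spec.map (CommRingCat.ofHom φ) ≫ Spec.map (CommRingCat.ofHom ψ) := pullback.lift_snd _ _ _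
  let η : Spec B := (⟨⊥, Ideal.isPrime_bot⟩ : PrimeSpectrum B)
  let c : Spec B := closedPoint B
  have hηc : η ⤳ c := by
    change (⟨⊥, Ideal.isPrime_bot⟩ : PrimeSpectrum B) ⤳ closedPoint B
    rw [← PrimeSpectrum.le_iff_specializes]
    exact bot_le
  refine ⟨w.base η, ?_, ?_⟩
  · have h1 : w.base η ⤳ w.base c := hηc.map w.continuous
    have h2 : w.base c = x' := by
      let c₁ : Spec (CommRingCat.of (ResidueField B)) ⟶ P :=
        Spec.map (CommRingCat.ofHom (residue B)) ≫ w
      let c₂ : Spec (CommRingCat.of (ResidueField B)) ⟶ P :=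
        Spec.map (CommRingCat.ofHom (ResidueField.map φ)) ≫ Spec.map (CommRingCat.ofHom χs) ≫
          Spec.map (CommRingCat.ofHom (algebraMap κ Ω)) ≫ j
      have h12 : c₁ = c₂ := by
        apply pullback.hom_ext
        · change (Spec.map (CommRingCat.ofHom (residue B)) ≫ w) ≫ pullback.fst f g₀ =
            (Spec.map (CommRingCat.ofHom (ResidueField.map φ)) ≫
              Spec.map (CommRingCat.ofHom χs) ≫
              Spec.map (CommRingCat.ofHom (algebraMap κ Ω)) ≫ j) ≫ pullback.fst f g₀
          rw [Category.assoc, hw1, ← hvres]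
          simp only [u₀, Category.assoc]
        · change (Spec.map (CommRingCat.ofHom (residue B)) ≫ w) ≫ pullback.snd f g₀ =
            (Spec.map (CommRingCat.ofHom (ResidueField.map φ)) ≫
              Spec.map (CommRingCat.ofHom χs) ≫
              Spec.map (CommRingCat.ofHom (algebraMap κ Ω)) ≫ j) ≫ pullback.snd f g₀
          rw [Category.assoc, hw2]
          simp only [Category.assoc]
          rw [hsnd, ← Spec.map_comp_assoc, ← Spec.map_comp_assoc]
          rfl
      let pt' : Spec (CommRingCat.of (ResidueField B)) := closedPoint (ResidueField B)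
      have h3 : (Spec.map (CommRingCat.ofHom (residue B))).base pt' = c :=
        IsLocalRing.comap_closedPoint (residue B)
      have h4 : c₁.base pt' = w.base c := by
        change w.base ((Spec.map (CommRingCat.ofHom (residue B))).base pt') = _
        rw [h3]
      have h5 : c₂.base pt' = x' := by
        change j.base _ = x'
        rw [hj]
      rw [← h4, h12, h5]
    rwa [h2] at h1
  · intro hcon
    have h1 : (pullback.snd f g₀).base (w.base η) =
        (Spec.map (CommRingCat.ofHom ψ)).base ((Spec.map (CommRingCat.ofHom φ)).base η) := by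
      change (w ≫ pullback.snd f g₀).base η = _
      rw [hw2]
      rfl
    rw [h1] at hcon
    have h2 := congrArg PrimeSpectrum.asIdeal hcon
    obtain ⟨ϖ₀, hϖ₀⟩ := IsDiscreteValuationRing.exists_irreducible A₀
    have h3 : ϖ₀ ∈ (closedPoint A₀).asIdeal := by
      change ϖ₀ ∈ maximalIdeal A₀
      rw [mem_maximalIdeal, mem_nonunits_iff]
      exact hϖ₀.not_isUnit
    rw [← h2] at h3
    have h4 : φ (ψ ϖ₀) = 0 := h3
    have h5 : ψ ϖ₀ = 0 := hφinj (by rw [h4, map_zero])
    have h6 : ϖ₀ = 0 := hψinj (by rw [h5, map_zero])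
    exact hϖ₀.ne_zero h6

end Groth.Agent.H80.UnivOpenLift
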