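import Mathlib
import Groth.Agent.H80.UnivOpenLift3

/-!
# Universal openness at a point implies lifting of DVR points after a finite extension (helper80)
-/

set_option autoImplicit false
set_option linter.style.haveILetI false

universe u

open IsLocalRing AlgebraicGeometry CategoryTheory Limits

namespace Groth.Agent.H80.UnivOpenLift

/-- **(⇒)** -/
theorem liftProp_of_isUnivOpenAt {X Y : Scheme.{u}} [IsLocallyNoetherian Y] (f : X ⟶ Y)
    [LocallyOfFiniteType f] (x : X) (h : EGA43.IsUnivOpenAt f x) : LiftProp f x := by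
  intro A _ _ _ _ _ g hg u₀ hu₀ hx
  classical
  have hcrit := (Groth.Agent.S2587.result f x).mp h A g hg
  let P := pullback f g
  let s : Spec (CommRingCat.of (ResidueField A)) ⟶ P :=
    pullback.lift u₀ (Spec.map (CommRingCat.ofHom (residue A))) hu₀
  have hs1 : s ≫ pullback.fst f g = u₀ := pullback.lift_fst _ _ _
  have hs2 : s ≫ pullback.snd f g = Spec.map (CommRingCat.ofHom (residue A)) :=
    pullback.lift_snd _ _ _
  obtain ⟨y, hy⟩ := hx
  have hyuniq : ∀ y' : Spec (CommRingCat.of (ResidueField A)), y' = y := by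
    intro y'
    exact @Subsingleton.elim (PrimeSpectrum (ResidueField A)) inferInstance y' y
  let x' : P := s.base y
  have hx'1 : (pullback.fst f g).base x' = x := by
    rw [← hy, ← hs1]
    rfl
  have hx'2 : (pullback.snd f g).base x' = closedPoint A := by
    have h1 : (pullback.snd f g).base x' = (Spec.map (CommRingCat.ofHom (residue A))).base y := by
      rw [← hs2]
      rfl
    rw [h1, ← hyuniq (closedPoint (ResidueField A))]
    exact IsLocalRing.comap_closedPoint (residue A)
  obtain ⟨z', hz', hz'2⟩ := hcrit x' hx'1 hx'2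
  obtain ⟨W, hW, hx'W, -⟩ := exists_isAffineOpen_mem_and_subset (x := x') (U := ⊤) trivial
  have hz'W : z' ∈ W := hz'.mem_open W.2 hx'W
  let C := Γ(P, W)
  have hrange : Set.range hW.fromSpec.base = W := hW.range_fromSpec
  obtain ⟨qx, hqx⟩ : ∃ q : Spec C, hW.fromSpec.base q = x' := by
    have : x' ∈ Set.range hW.fromSpec.base := by rw [hrange]; exact hx'W
    exact this
  obtain ⟨qz, hqz⟩ : ∃ q : Spec C, hW.fromSpec.base q = z' := by
    have : z' ∈ Set.range hW.fromSpec.base := by rw [hrange]; exact hz'W
    exact this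
  have hemb : Topology.IsOpenEmbedding hW.fromSpec.base := hW.fromSpec.isOpenEmbedding
  have hspec : qz ⤳ qx := by
    rw [← hemb.isInducing.specializes_iff, hqz, hqx]
    exact hz'
  have hle : qz.asIdeal ≤ qx.asIdeal := (PrimeSpectrum.le_iff_specializes qz qx).mpr hspec
  -- the structure map
  let αc : CommRingCat.of A ⟶ C := Spec.preimage (hW.fromSpec ≫ pullback.snd f g)
  have hαc : Spec.map αc = hW.fromSpec ≫ pullback.snd f g := Spec.map_preimage _
  let α : A →+* C := αc.hom
  have hαft : α.FiniteType := by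
    haveI : LocallyOfFiniteType (pullback.snd f g) := inferInstance
    haveI : LocallyOfFiniteType (hW.fromSpec ≫ pullback.snd f g) := inferInstance
    have h1 : LocallyOfFiniteType (Spec.map αc) := by
      rw [hαc]
      infer_instance
    exact (HasRingHomProperty.Spec_iff (P := @LocallyOfFiniteType)).mp h1
  have hcomapx : (Spec.map αc).base qx = closedPoint A := by
    rw [hαc]
    change (pullback.snd f g).base (hW.fromSpec.base qx) = _
    rw [hqx, hx'2]
  have hcomapz : (Spec.map αc).base qz ≠ closedPoint A := by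
    rw [hαc]
    change (pullback.snd f g).base (hW.fromSpec.base qz) ≠ _
    rw [hqz]
    exact hz'2
  have hz0 : ∀ a : A, α a ∈ qz.asIdeal → a = 0 := by
    intro a ha
    have hbot : ((Spec.map αc).base qz).asIdeal = ⊥ :=
      Groth.Agent.H6.UnivOpenDVR.eq_bot_of_ne_closedPoint _ hcomapz
    have h1 : a ∈ ((Spec.map αc).base qz).asIdeal := ha
    rw [hbot] at h1
    exact h1
  -- the rational point
  have hsrange : Set.range s.base ⊆ Set.range hW.fromSpec.base := by
    rw [hrange]
    rintro _ ⟨y', rfl⟩
    rw [hyuniq y']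
    exact hx'W
  let s' := IsOpenImmersion.lift hW.fromSpec s hsrange
  have hs' : s' ≫ hW.fromSpec = s := IsOpenImmersion.lift_fac _ _ _
  let χc : C ⟶ CommRingCat.of (ResidueField A) := Spec.preimage s'
  have hχc : Spec.map χc = s' := Spec.map_preimage _
  let χ : C →+* ResidueField A := χc.hom
  have hχα : χ.comp α = residue A := by
    have h1 : αc ≫ χc = CommRingCat.ofHom (residue A) := by
      apply Spec.map_injective
      rw [Spec.map_comp, hχc, hαc, ← Category.assoc, hs', hs2]
    exact congrArg CommRingCat.Hom.hom h1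
  have hkerχ : RingHom.ker χ = qx.asIdeal := by
    have h1 : s'.base y = qx := by
      apply hemb.injective
      change (s' ≫ hW.fromSpec).base y = _
      rw [hs', hqx]
    have h2 : ((Spec.map χc).base y).asIdeal = qx.asIdeal := by rw [hχc, h1]
    have hy0 : y.asIdeal = ⊥ := (Ideal.eq_bot_or_top y.asIdeal).resolve_right y.2.ne_top
    rw [← h2]
    change RingHom.ker χ = Ideal.comap χ y.asIdeal
    rw [hy0]
    rfl
  haveI := qz.2
  haveI := qx.2
  obtain ⟨B, _, _, _, ψ, hfin, hloc, hcomap⟩ :=
    core A C α hαft qz.asIdeal qx.asIdeal hle hz0 χ hχα hkerχ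
  let v : Spec (CommRingCat.of B) ⟶ X :=
    Spec.map (CommRingCat.ofHom ψ) ≫ hW.fromSpec ≫ pullback.fst f g
  refine ⟨CommRingCat.of B, ‹_›, ‹_›, ψ.comp α, hloc, v, hfin, ?_, ?_⟩
  · change (Spec.map (CommRingCat.ofHom ψ) ≫ hW.fromSpec ≫ pullback.fst f g) ≫ f = _
    simp only [Category.assoc]
    rw [pullback.condition, ← Category.assoc hW.fromSpec, ← hαc, ← Spec.map_comp_assoc]
    rfl
  · have hu₀' : u₀ = Spec.map χc ≫ hW.fromSpec ≫ pullback.fst f g := by
      rw [hχc, ← Category.assoc, hs', hs1]
    have hring : χc ≫ CommRingCat.ofHom (ResidueField.map (ψ.comp α)) =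
        CommRingCat.ofHom ψ ≫ CommRingCat.ofHom (residue B) := by
      ext c
      change ResidueField.map (ψ.comp α) (χ c) = residue B (ψ c)
      obtain ⟨a, ha⟩ := residue_surjective (χ c)
      have h1 : c - α a ∈ RingHom.ker χ := by
        rw [RingHom.mem_ker, map_sub, ← ha]
        have := RingHom.congr_fun hχα a
        change χ (α a) = residue A a at this
        rw [this, sub_self]
      rw [hkerχ, ← hcomap, Ideal.mem_comap, ← residue_eq_zero_iff, map_sub, map_sub,
        sub_eq_zero] at h1
      rw [h1, ← ha]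
      rfl
    rw [hu₀']
    change _ = Spec.map (CommRingCat.ofHom (residue B)) ≫
      Spec.map (CommRingCat.ofHom ψ) ≫ hW.fromSpec ≫ pullback.fst f g
    rw [← Spec.map_comp_assoc, ← Spec.map_comp_assoc, hring]

end Groth.Agent.H80.UnivOpenLift
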