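import Mathlib
import Groth.Agent.H3.HensRadical
import Groth.Agent.S1964
import Groth.Agent.H80.UInv

/-!
# Integrality over a henselian valuation ring is detected by the norm

* `henselianLocalRing_of_complete`: a valuation ring of height one, complete for the `t`-adic
  topology (`t ≠ 0`), is a henselian local ring.
* `isIntegral_iff_norm_mem`: for a henselian valuation ring `R` with fraction field `K` and `α`
  algebraic over `K`, `α` is integral over `R` iff `N_{K(α)/K}(α) ∈ R`.
-/

set_option autoImplicit false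
universe u

namespace Groth.Agent.H80.ValNorm

open Polynomial IsLocalRing IntermediateField

theorem henselianLocalRing_of_complete (R : Type*) [CommRing R] [IsDomain R] [ValuationRing R]
    [Ring.KrullDimLE 1 R] (t : R) (ht : t ≠ 0) [IsAdicComplete (Ideal.span {t}) R] :
    HenselianLocalRing R := by
  have hH : HenselianRing R (Ideal.span {t}) := inferInstance
  have htm : t ∈ maximalIdeal R := by
    have h1 : t ∈ Ideal.jacobson (⊥ : Ideal R) := hH.jac (Ideal.subset_span rfl)
    rwa [IsLocalRing.jacobson_eq_maximalIdeal ⊥ bot_ne_top] at h1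
  have hrad : (Ideal.span {t}).radical = maximalIdeal R := by
    apply le_antisymm
    · rw [Ideal.IsPrime.radical_le_iff (inferInstance : (maximalIdeal R).IsPrime)]
      rw [Ideal.span_le]
      exact Set.singleton_subset_iff.mpr htm
    · rw [Ideal.radical_eq_sInf]
      refine le_sInf ?_
      rintro J ⟨hJ, hJp⟩
      have hJne : J ≠ ⊥ := fun h => ht (by
        have := hJ (Ideal.subset_span rfl : t ∈ Ideal.span {t})
        rwa [h, Ideal.mem_bot] at this)
      have := hJp.isMaximal_of_ne_bot hJne
      exact (IsLocalRing.eq_maximalIdeal this).ge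
  have hH' : HenselianRing R (maximalIdeal R) := hrad ▸ Groth.Agent.H3.henselianRing_radical hH
  exact ⟨fun f hf a₀ h₁ h₂ => hH'.is_henselian f hf a₀ h₁ (h₂.map _)⟩

theorem exists_dvd_all {R ι : Type*} [CommRing R] [IsDomain R] [ValuationRing R] (f : ι → R)
    (s : Finset ι) (hs : s.Nonempty) : ∃ j ∈ s, ∀ i ∈ s, f j ∣ f i := by
  classical
  induction hs using Finset.Nonempty.cons_induction with
  | singleton a => exact ⟨a, Finset.mem_singleton_self a, fun i hi => by
      rw [Finset.mem_singleton.mp hi]⟩
  | cons a s ha hs ih =>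
    obtain ⟨j, hj, hjs⟩ := ih
    rcases ValuationRing.dvd_total (f a) (f j) with h | h
    · refine ⟨a, Finset.mem_cons_self a s, fun i hi => ?_⟩
      rcases Finset.mem_cons.mp hi with rfl | hi
      · exact dvd_rfl
      · exact h.trans (hjs i hi)
    · refine ⟨j, Finset.mem_cons.mpr (Or.inr hj), fun i hi => ?_⟩
      rcases Finset.mem_cons.mp hi with rfl | hi
      · exact h
      · exact hjs i hi

theorem exists_poly_unit_coeff (R K : Type*) [CommRing R] [IsDomain R] [ValuationRing R]
    [Field K] [Algebra R K] [IsFractionRing R K] {A : Type*} [Field A] [Algebra R A] [Algebra K A]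
    [IsScalarTower R K A] (x : A) (hx : IsAlgebraic K x) :
    ∃ p : R[X], (∃ i, IsUnit (p.coeff i)) ∧ aeval x p = 0 := by
  obtain ⟨p, hp0, hpx⟩ := (IsFractionRing.isAlgebraic_iff R K A).mpr hx
  have hsupp : p.support.Nonempty := by
    rw [Finset.nonempty_iff_ne_empty, Ne, support_eq_empty]
    exact hp0
  obtain ⟨j, hj, hjs⟩ := exists_dvd_all (fun i => p.coeff i) p.support hsupp
  have hd : p.coeff j ≠ 0 := mem_support_iff.mp hj
  have hdvd : C (p.coeff j) ∣ p := by
    rw [C_dvd_iff_dvd_coeff]
    intro i
    by_cases hi : i ∈ p.support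
    · exact hjs i hi
    · rw [notMem_support_iff.mp hi]
      exact dvd_zero _
  obtain ⟨p', hp'⟩ := hdvd
  refine ⟨p', ⟨j, ?_⟩, ?_⟩
  · have h1 : p.coeff j = p.coeff j * p'.coeff j := by
      conv_lhs => rw [hp', coeff_C_mul]
    have h2 : p'.coeff j = 1 := by
      have := mul_left_cancel₀ hd (h1.symm.trans (mul_one _).symm)
      exact this
    rw [h2]
    exact isUnit_one
  · have hinj : Function.Injective (algebraMap R A) := by
      rw [IsScalarTower.algebraMap_eq R K A]
      exact (algebraMap K A).injective.comp (IsFractionRing.injective R K)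
    rw [hp', map_mul, aeval_C] at hpx
    rcases mul_eq_zero.mp hpx with h | h
    · exact absurd ((map_eq_zero_iff _ hinj).mp h) hd
    · exact h

theorem isIntegral_iff_norm_mem (R : Type u) [CommRing R] [IsDomain R] [ValuationRing R]
    [hR : HenselianLocalRing R] (K : Type*) [Field K] [Algebra R K] [IsFractionRing R K]
    (L : Type u) [Field L] [Algebra R L] [Algebra K L] [IsScalarTower R K L] (α : L)
    (hα : IsAlgebraic K α) :
    IsIntegral R α ↔
      Algebra.norm K (AdjoinSimple.gen K α) ∈ (algebraMap R K).range := by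
  have hval : ∀ {y : K⟮α⟯}, IsIntegral R (y : L) ↔ IsIntegral R y := fun {y} =>
    isIntegral_algHom_iff ((IntermediateField.val K⟮α⟯).restrictScalars R) Subtype.val_injective
  constructor
  · intro h
    have hg : IsIntegral R (AdjoinSimple.gen K α) := hval.mp (by simpa using h)
    exact IsIntegrallyClosed.isIntegral_iff.mp (Algebra.isIntegral_norm K hg)
  · rintro ⟨r, hr⟩
    set g : K⟮α⟯ := AdjoinSimple.gen K α with hg_def
    suffices hsuff : IsIntegral R g by
      have := hval.mpr hsuff
      rwa [hg_def, AdjoinSimple.coe_gen] at this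
    haveI : FiniteDimensional K K⟮α⟯ := adjoin.finiteDimensional hα.isIntegral
    by_cases hg0 : g = 0
    · rw [hg0]; exact isIntegral_zero
    obtain ⟨hBh, -, -⟩ := Groth.Agent.S1964.result R (integralClosure R K⟮α⟯)
    haveI : IsLocalRing (integralClosure R K⟮α⟯) := hBh.toIsLocalRing
    have hBcl : ∀ x : K⟮α⟯, IsIntegral (integralClosure R K⟮α⟯) x →
        x ∈ (algebraMap (integralClosure R K⟮α⟯) K⟮α⟯).range := by
      intro x hx
      have : IsIntegral R x := isIntegral_trans x hx
      exact ⟨⟨x, this⟩, rfl⟩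
    have hgalg : IsAlgebraic K g := Algebra.IsAlgebraic.isAlgebraic g
    obtain ⟨p, hpu, hp0⟩ := exists_poly_unit_coeff R K g hgalg
    have key := UInv.mem_or_inv_mem hBcl g p.natDegree
      (p.map (algebraMap R (integralClosure R K⟮α⟯))) natDegree_map_le
      (hpu.imp fun i hi => by rw [coeff_map]; exact hi.map _)
      (by rw [aeval_map_algebraMap]; exact hp0)
    rcases key with ⟨b, hb⟩ | ⟨b, hb⟩
    · rw [← hb]; exact b.2
    · have hβ : IsIntegral R g⁻¹ := by rw [← hb]; exact b.2
      have hNβ : IsIntegral R (Algebra.norm K g⁻¹) := Algebra.isIntegral_norm K hβ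
      obtain ⟨s, hs⟩ := IsIntegrallyClosed.isIntegral_iff.mp hNβ
      have hrs : r * s = 1 := by
        apply IsFractionRing.injective R K
        rw [map_mul, hr, hs, ← map_mul, mul_inv_cancel₀ hg0, map_one, map_one]
      have hq : minpoly K g⁻¹ = (minpoly R g⁻¹).map (algebraMap R K) :=
        minpoly.isIntegrallyClosed_eq_field_fractions' K hβ
      have h1 := Algebra.norm_eq_norm_adjoin K (g⁻¹)
      have hβK : IsIntegral K g⁻¹ := hβ.tower_top
      have h2 := Algebra.PowerBasis.norm_gen_eq_coeff_zero_minpoly (adjoin.powerBasis hβK)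
      rw [adjoin.powerBasis_gen, minpoly_gen, hq, coeff_map] at h2
      have he : 0 < Module.finrank K⟮g⁻¹⟯ K⟮α⟯ := Module.finrank_pos
      have hc0 : IsUnit ((minpoly R g⁻¹).coeff 0) := by
        have h3 : algebraMap R K s = algebraMap R K
            (((-1) ^ (adjoin.powerBasis hβK).dim * (minpoly R g⁻¹).coeff 0) ^
              Module.finrank K⟮g⁻¹⟯ K⟮α⟯) := by
          rw [hs, h1, h2]
          simp
        have h4 := IsFractionRing.injective R K h3
        have hsu : IsUnit s := .of_mul_eq_one r (by rw [mul_comm]; exact hrs)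
        rw [h4] at hsu
        have h5 := (isUnit_pow_iff he.ne').mp hsu
        exact isUnit_of_mul_isUnit_right h5
      have hq0 : aeval g⁻¹ (minpoly R g⁻¹) = 0 := minpoly.aeval R _
      have hsplit : aeval g⁻¹ (minpoly R g⁻¹) = aeval g⁻¹ (minpoly R g⁻¹).divX * g⁻¹ +
          algebraMap R K⟮α⟯ ((minpoly R g⁻¹).coeff 0) := by
        conv_lhs => rw [← divX_mul_X_add (minpoly R g⁻¹)]
        simp
      obtain ⟨c0, hc0'⟩ := hc0
      have hg_eq : g = - (aeval g⁻¹ (minpoly R g⁻¹).divX) * algebraMap R K⟮α⟯ (↑c0⁻¹ : R) := by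
        rw [hsplit, ← hc0'] at hq0
        have hc0L : algebraMap R K⟮α⟯ (c0 : R) * algebraMap R K⟮α⟯ (↑c0⁻¹ : R) = 1 := by
          rw [← map_mul, Units.mul_inv, map_one]
        have h6 : aeval g⁻¹ (minpoly R g⁻¹).divX = - algebraMap R K⟮α⟯ (c0 : R) * g := by
          have := congrArg (· * g) hq0
          simp only [add_mul, zero_mul, mul_assoc, inv_mul_cancel₀ hg0, mul_one] at this
          linear_combination this
        rw [h6]
        linear_combination (-g) * hc0L
      rw [hg_eq]
      refine IsIntegral.mul (IsIntegral.neg ?_) isIntegral_algebraMap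
      have hle : Algebra.adjoin R {g⁻¹} ≤ integralClosure R K⟮α⟯ :=
        Algebra.adjoin_le (Set.singleton_subset_iff.mpr hβ)
      exact hle (aeval_mem_adjoin_singleton R g⁻¹)

end Groth.Agent.H80.ValNorm
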