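import Mathlib.Algebra.MvPolynomial.PDeriv
import Mathlib.RingTheory.MvPolynomial.Homogeneous
import Mathlib.RingTheory.MvPolynomial.EulerIdentity
import Mathlib.RingTheory.MvPolynomial.Basic
import Mathlib.Data.Finsupp.Weight
import Mathlib.Tactic

/-!
# Surjectivity of the weighted Gaussian map on projective space (helper80)
-/

set_option autoImplicit false
universe u v

namespace Groth.Agent.H80.WGauss

open MvPolynomial

variable {k : Type u} [Field k] {ι : Type v} [Fintype ι] [DecidableEq ι]

/-- the weighted Wronskian tuple `(b τ ∂ᵢσ - a σ ∂ᵢτ)ᵢ` -/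
noncomputable def W (a b : ℕ) (σ τ : MvPolynomial ι k) : ι → MvPolynomial ι k :=
  fun i => (b : k) • (τ * pderiv i σ) - (a : k) • (σ * pderiv i τ)

/-- the target set of generators -/
def S (a b e : ℕ) : Set (ι → MvPolynomial ι k) :=
  {g | ∃ σ τ : MvPolynomial ι k, σ.IsHomogeneous (a * e) ∧ τ.IsHomogeneous (b * e) ∧
    g = fun i => (b : k) • (τ * pderiv i σ) - (a : k) • (σ * pderiv i τ)}

/-- Koszul element `h (Xⱼ eᵢ - Xᵢ eⱼ)` -/
noncomputable def Kz (h : MvPolynomial ι k) (i j : ι) : ι → MvPolynomial ι k :=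
  Pi.single i (h * X j) - Pi.single j (h * X i)

theorem W_sub_W (a b : ℕ) (P Q : MvPolynomial ι k) (i j : ι) (hij : i ≠ j) :
    W a b (P * X i) (Q * X j) - W a b (P * X j) (Q * X i) =
      ((a : k) + b) • Kz (P * Q) i j := by
  funext l
  simp only [W, Kz, Pi.sub_apply, Pi.smul_apply, pderiv_mul, pderiv_X, Pi.single_apply,
    Algebra.smul_def, map_add, map_natCast]
  by_cases hli : l = i
  · subst hli
    have hlj : ¬ l = j := hij
    have hjl : ¬ j = l := fun h => hij h.symm
    simp only [hlj, hjl, if_true, if_false]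
    ring
  · by_cases hlj : l = j
    · subst hlj
      have hil : ¬ i = l := hij
      simp only [hli, hil, if_true, if_false]
      ring
    · have hil : ¬ i = l := fun h => hli h.symm
      have hjl : ¬ j = l := fun h => hlj h.symm
      simp only [hli, hlj, hil, hjl, if_false]
      ring

theorem W_mem (a b e : ℕ) {σ τ : MvPolynomial ι k} (hσ : σ.IsHomogeneous (a * e))
    (hτ : τ.IsHomogeneous (b * e)) : W a b σ τ ∈ S (k := k) (ι := ι) a b e :=
  ⟨σ, τ, hσ, hτ, rfl⟩

theorem Kz_monomial_mem [CharZero k] (a b e : ℕ) (he : 0 < e) (ha : 0 < a) (hb : 0 < b)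
    (m : ι →₀ ℕ) (hm : m.degree = (a + b) * e - 2) (i j : ι) :
    Kz (monomial m (1 : k)) i j ∈ Submodule.span k (S (k := k) (ι := ι) a b e) := by
  by_cases hij : i = j
  · subst hij
    simp [Kz]
  have hae : 1 ≤ a * e := Nat.mul_pos ha he
  have hbe : 1 ≤ b * e := Nat.mul_pos hb he
  have hle : a * e - 1 ≤ m.degree := by
    rw [hm, add_mul]; omega
  obtain ⟨μ, hμm, hμ⟩ := Finsupp.exists_le_degree_eq m (a * e - 1) hle
  obtain ⟨ν, rfl⟩ := le_iff_exists_add.mp hμm
  have hν : ν.degree = b * e - 1 := by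
    rw [map_add, hμ, add_mul] at hm
    omega
  have hP : (monomial μ (1 : k)).IsHomogeneous (a * e - 1) := isHomogeneous_monomial 1 hμ
  have hQ : (monomial ν (1 : k)).IsHomogeneous (b * e - 1) := isHomogeneous_monomial 1 hν
  have hPX : ∀ l : ι, (monomial μ (1 : k) * X l).IsHomogeneous (a * e) := by
    intro l
    have := hP.mul (isHomogeneous_X k l)
    rwa [Nat.sub_add_cancel hae] at this
  have hQX : ∀ l : ι, (monomial ν (1 : k) * X l).IsHomogeneous (b * e) := by
    intro l
    have := hQ.mul (isHomogeneous_X k l)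
    rwa [Nat.sub_add_cancel hbe] at this
  have hab0 : ((a : k) + b) ≠ 0 := by
    have : ((a + b : ℕ) : k) ≠ 0 := Nat.cast_ne_zero.mpr (by omega)
    simpa using this
  have key := W_sub_W (k := k) a b (monomial μ 1) (monomial ν 1) i j hij
  have hmul : monomial μ (1 : k) * monomial ν 1 = monomial (μ + ν) 1 := by
    rw [monomial_mul, one_mul]
  rw [hmul] at key
  have : Kz (monomial (μ + ν) (1 : k)) i j = ((a : k) + b)⁻¹ •
      (W a b (monomial μ 1 * X i) (monomial ν 1 * X j) -
        W a b (monomial μ 1 * X j) (monomial ν 1 * X i)) := by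
    rw [key, smul_smul, inv_mul_cancel₀ hab0, one_smul]
  rw [this]
  apply Submodule.smul_mem
  apply Submodule.sub_mem
  · exact Submodule.subset_span (W_mem a b e (hPX i) (hQX j))
  · exact Submodule.subset_span (W_mem a b e (hPX j) (hQX i))

theorem Kz_add (h h' : MvPolynomial ι k) (i j : ι) : Kz (h + h') i j = Kz h i j + Kz h' i j := by
  funext l
  simp only [Kz, Pi.sub_apply, Pi.add_apply, Pi.single_apply, add_mul]
  split_ifs <;> ring

theorem Kz_smul (c : k) (h : MvPolynomial ι k) (i j : ι) : Kz (c • h) i j = c • Kz h i j := by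
  funext l
  simp only [Kz, Pi.sub_apply, Pi.smul_apply, Pi.single_apply, smul_mul_assoc]
  split_ifs <;> simp [smul_sub]

theorem Kz_zero (i j : ι) : Kz (0 : MvPolynomial ι k) i j = 0 := by
  funext l
  simp [Kz]

theorem Kz_sum {α : Type*} (s : Finset α) (h : α → MvPolynomial ι k) (i j : ι) :
    Kz (∑ x ∈ s, h x) i j = ∑ x ∈ s, Kz (h x) i j := by
  classical
  induction s using Finset.induction_on with
  | empty => simp [Kz_zero]
  | insert x s hx ih => rw [Finset.sum_insert hx, Finset.sum_insert hx, Kz_add, ih]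

theorem Kz_mem [CharZero k] (a b e : ℕ) (he : 0 < e) (ha : 0 < a) (hb : 0 < b)
    (h : MvPolynomial ι k) (hh : h.IsHomogeneous ((a + b) * e - 2)) (i j : ι) :
    Kz h i j ∈ Submodule.span k (S (k := k) (ι := ι) a b e) := by
  have hsum : Kz h i j = ∑ m ∈ h.support, Kz (monomial m (coeff m h)) i j := by
    rw [← Kz_sum, ← h.as_sum]
  rw [hsum]
  apply Submodule.sum_mem
  intro m hm
  have : monomial m (coeff m h) = coeff m h • monomial m (1 : k) := by
    rw [smul_monomial, smul_eq_mul, mul_one]
  rw [this, Kz_smul]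
  apply Submodule.smul_mem
  apply Kz_monomial_mem a b e he ha hb
  have hc : coeff m h ≠ 0 := mem_support_iff.mp hm
  have := hh hc
  rw [Finsupp.degree_eq_weight_one]
  exact this

/-- the Koszul-type identity: for a homogeneous tuple killed by the Euler map,
`(d + 1) fᵢ = Σⱼ Xⱼ (∂ⱼ fᵢ - ∂ᵢ fⱼ)` -/
theorem euler_koszul (d : ℕ) (f : ι → MvPolynomial ι k) (hf : ∀ i, (f i).IsHomogeneous d)
    (hE : ∑ i, X i * f i = 0) (i : ι) :
    ((d + 1 : ℕ) : k) • f i = ∑ j, (pderiv j (f i) - pderiv i (f j)) * X j := by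
  have h1 := (hf i).sum_X_mul_pderiv
  have h2 := congrArg (pderiv i) hE
  rw [map_sum, map_zero] at h2
  simp only [pderiv_mul, pderiv_X, Finset.sum_add_distrib] at h2
  have h3 : ∑ l, (Pi.single (M := fun _ => MvPolynomial ι k) i 1 l) * f l = f i := by
    rw [Finset.sum_eq_single i]
    · simp
    · intro l _ hl
      rw [Pi.single_apply, if_neg hl, zero_mul]
    · intro h
      exact absurd (Finset.mem_univ i) h
  rw [h3] at h2
  have h4 : ∑ l, pderiv i (f l) * X l = - f i := by
    rw [← eq_neg_of_add_eq_zero_right h2]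
    exact Finset.sum_congr rfl (fun l _ => mul_comm _ _)
  have h5 : ((d + 1 : ℕ) : k) • f i = d • f i + f i := by
    rw [Nat.cast_add, Nat.cast_one, add_smul, one_smul, Nat.cast_smul_eq_nsmul]
  have h6 : ∑ j, pderiv j (f i) * X j = d • f i := by
    rw [← h1]
    exact Finset.sum_congr rfl (fun l _ => mul_comm _ _)
  rw [h5]
  simp only [sub_mul, Finset.sum_sub_distrib]
  rw [h4, h6, sub_neg_eq_add]

theorem main [CharZero k] (a b e : ℕ) (he : 0 < e) (ha : 0 < a) (hb : 0 < b)
    (f : ι → MvPolynomial ι k) (hf : ∀ i, (f i).IsHomogeneous ((a + b) * e - 1))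
    (hE : ∑ i, X i * f i = 0) :
    f ∈ Submodule.span k (S (k := k) (ι := ι) a b e) := by
  set d := (a + b) * e - 1 with hd
  have hd1 : 1 ≤ d := by
    have : 2 ≤ (a + b) * e := by nlinarith
    omega
  let h : ι → ι → MvPolynomial ι k := fun i j => pderiv j (f i) - pderiv i (f j)
  have hh : ∀ i j, (h i j).IsHomogeneous ((a + b) * e - 2) := by
    intro i j
    have e1 : (a + b) * e - 2 = d - 1 := by omega
    rw [e1]
    exact ((hf i).pderiv).sub ((hf j).pderiv)
  have hanti : ∀ i j, h j i = - h i j := by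
    intro i j
    simp only [h]
    ring
  have key : ((2 * (d + 1) : ℕ) : k) • f = ∑ i, ∑ j, Kz (h i j) i j := by
    funext l
    simp only [Pi.smul_apply, Finset.sum_apply, Kz, Pi.sub_apply, Pi.single_apply,
      Finset.sum_sub_distrib]
    have s1 : ∑ i, ∑ j, (if l = i then h i j * X j else 0) = ∑ j, h l j * X j := by
      rw [Finset.sum_eq_single l]
      · simp
      · intro i _ hi
        have : ¬ l = i := fun h' => hi h'.symm
        simp [this]
      · intro h'
        exact absurd (Finset.mem_univ l) h'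
    have s2 : ∑ i, ∑ j, (if l = j then h i j * X i else 0) = ∑ i, h i l * X i := by
      apply Finset.sum_congr rfl
      intro i _
      rw [Finset.sum_eq_single l]
      · simp
      · intro j _ hj
        have : ¬ l = j := fun h' => hj h'.symm
        simp [this]
      · intro h'
        exact absurd (Finset.mem_univ l) h'
    rw [s1, s2]
    have s3 : ∑ i, h i l * X i = - ∑ j, h l j * X j := by
      rw [← Finset.sum_neg_distrib]
      apply Finset.sum_congr rfl
      intro i _
      rw [hanti l i]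
      ring
    rw [s3, sub_neg_eq_add]
    have := euler_koszul d f hf hE l
    rw [← this]
    rw [Nat.cast_mul, mul_smul, Nat.cast_two, two_smul]
  have hne : ((2 * (d + 1) : ℕ) : k) ≠ 0 := Nat.cast_ne_zero.mpr (by omega)
  have hfeq : f = ((2 * (d + 1) : ℕ) : k)⁻¹ • ∑ i, ∑ j, Kz (h i j) i j := by
    rw [← key, smul_smul, inv_mul_cancel₀ hne, one_smul]
  rw [hfeq]
  apply Submodule.smul_mem
  apply Submodule.sum_mem
  intro i _
  apply Submodule.sum_mem
  intro j _
  exact Kz_mem a b e he ha hb (h i j) (hh i j) i j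

end Groth.Agent.H80.WGauss
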